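import Mathlib
import Cfsg.Prelude.Def_Solvable
import Cfsg.Agent.H4.MinNormal

set_option autoImplicit false
set_option linter.style.haveILetI false
set_option linter.unusedSectionVars false

open MulAction

namespace CfsgH4

variable {G : Type*} [Group G]

theorem exists_linearEquiv_pi_zmod (p : ℕ) [Fact p.Prime] (A : Type*) [AddCommGroup A]
    [Module (ZMod p) A] [Finite A] : ∃ d : ℕ, Nonempty (A ≃ₗ[ZMod p] (Fin d → ZMod p)) := by
  haveI : Module.Finite (ZMod p) A := Module.Finite.of_finite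
  exact ⟨_, ⟨(Module.finBasis (ZMod p) A).equivFun⟩⟩

theorem exists_addEquiv_pi_zmod (p : ℕ) [Fact p.Prime] (A : Type*) [Group A] [Finite A]
    (hc : ∀ x y : A, x * y = y * x) (hp : ∀ x : A, x ^ p = 1) :
    ∃ d : ℕ, Nonempty (Additive A ≃+ (Fin d → ZMod p)) := by
  letI : CommGroup A := { (inferInstance : Group A) with mul_comm := hc }
  letI : Module (ZMod p) (Additive A) := AddCommGroup.zmodModule (by
    intro x
    apply Additive.toMul.injective
    rw [toMul_nsmul, toMul_zero]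
    exact hp _)
  obtain ⟨d, ⟨b⟩⟩ := exists_linearEquiv_pi_zmod p (Additive A)
  exact ⟨d, ⟨b.toAddEquiv⟩⟩

/-- Linearization of a normal elementary abelian `p`-subgroup: it is a vector space
`F_p^d` on which `G` acts linearly by conjugation. -/
theorem exists_linearization [Finite G] (V : Subgroup G) [hV : V.Normal]
    (hc : ∀ x ∈ V, ∀ y ∈ V, x * y = y * x) (p : ℕ) [hp : Fact p.Prime]
    (hpV : ∀ x ∈ V, x ^ p = 1) :
    ∃ (d : ℕ) (e : V ≃ (Fin d → ZMod p))
      (ρ : G →* ((Fin d → ZMod p) ≃ₗ[ZMod p] (Fin d → ZMod p))),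
      Nat.card V = p ^ d ∧ (∀ x y : V, e (x * y) = e x + e y) ∧
      ∀ (g : G) (x : V), e ⟨g * x * g⁻¹, hV.conj_mem x x.2 g⟩ = ρ g (e x) := by
  obtain ⟨d, ⟨b⟩⟩ := exists_addEquiv_pi_zmod p V (fun x y => Subtype.ext (hc x x.2 y y.2))
    (fun x => Subtype.ext (hpV x x.2))
  let σ : G → ((Fin d → ZMod p) ≃+ (Fin d → ZMod p)) := fun g =>
    (b.symm.trans (MulEquiv.toAdditive (MulAut.conjNormal g : V ≃* V))).trans b
  let ρ : G →* ((Fin d → ZMod p) ≃ₗ[ZMod p] (Fin d → ZMod p)) :=
    MonoidHom.mk' (fun g => (σ g).toLinearEquiv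
      (fun c x => ZMod.map_smul (σ g).toAddMonoidHom c x)) (by
      intro g h
      ext1 x
      show σ (g * h) x = σ g (σ h x)
      simp [σ])
  refine ⟨_, Additive.ofMul.trans b.toEquiv, ρ, ?_, fun x y => ?_, fun g x => ?_⟩
  · rw [Nat.card_congr (Additive.ofMul.trans b.toEquiv)]
    simp
  · simp
  · show b (Additive.ofMul _) =
      b (MulEquiv.toAdditive (MulAut.conjNormal g : V ≃* V) (b.symm (b (Additive.ofMul x))))
    rw [AddEquiv.symm_apply_apply]
    rfl

/-- A normal elementary abelian subgroup of order `p ^ e` gives a homomorphism to `GL_e(p)` whose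
kernel is its centralizer. -/
theorem exists_hom_GL_ker_eq_centralizer [Finite G] (V : Subgroup G) [hV : V.Normal]
    (hc : ∀ x ∈ V, ∀ y ∈ V, x * y = y * x) (p : ℕ) [hp : Fact p.Prime]
    (hpV : ∀ x ∈ V, x ^ p = 1) :
    ∃ (e : ℕ) (φ : G →* GL (Fin e) (ZMod p)), Nat.card V = p ^ e ∧
      φ.ker = Subgroup.centralizer (V : Set G) := by
  obtain ⟨d, e, ρ, hcard, -, hρ⟩ := exists_linearization V hc p hpV
  let ψ : ((Fin d → ZMod p) ≃ₗ[ZMod p] (Fin d → ZMod p)) ≃* GL (Fin d) (ZMod p) :=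
    (LinearMap.GeneralLinearGroup.generalLinearEquiv (ZMod p) (Fin d → ZMod p)).symm.trans
      Matrix.GeneralLinearGroup.toLin.symm
  refine ⟨d, ψ.toMonoidHom.comp ρ, hcard, ?_⟩
  ext g
  rw [MonoidHom.mem_ker, MonoidHom.comp_apply, MulEquiv.coe_toMonoidHom, map_eq_one_iff _ ψ.injective,
    Subgroup.mem_centralizer_iff]
  constructor
  · intro h x hx
    have := hρ g ⟨x, hx⟩
    rw [h] at this
    have h2 := congrArg Subtype.val (e.injective this)
    simp only at h2
    rw [mul_inv_eq_iff_eq_mul] at h2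
    exact h2.symm
  · intro h
    ext1 v
    obtain ⟨x, rfl⟩ := e.surjective v
    rw [← hρ]
    show _ = e x
    congr 1
    apply Subtype.ext
    show g * x * g⁻¹ = x
    rw [← h x x.2, mul_inv_cancel_right]

section Primitive

variable {Ω : Type*} [MulAction G Ω]

/-- A nontrivial nilpotent normal subgroup of a primitive group is abelian. -/
theorem comm_of_nilpotent_normal [FaithfulSMul G Ω] [Nonempty Ω] (hprim : IsPreprimitive G Ω)
    (N : Subgroup G) [hN : N.Normal] (hne : N ≠ ⊥) (hnil : Group.IsNilpotent N) :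
    ∀ x ∈ N, ∀ y ∈ N, x * y = y * x := by
  haveI : Nontrivial N := (Subgroup.nontrivial_iff_ne_bot N).2 hne
  let Z : Subgroup G := (Subgroup.center N).map N.subtype
  haveI : Z.Normal := ConjAct.normal_of_characteristic_of_normal
  have hZ : Z ≠ ⊥ := by
    intro h
    rw [Subgroup.map_eq_bot_iff_of_injective _ N.subtype_injective] at h
    exact Group.IsNilpotent.center_ne_bot N h
  have hZN : ∀ z ∈ Z, ∀ x ∈ N, z * x = x * z := by
    rintro _ ⟨z, hz, rfl⟩ x hx
    exact congrArg Subtype.val (Subgroup.mem_center_iff.1 hz ⟨x, hx⟩).symm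
  haveI := normal_isPretransitive hprim Z hZ
  intro x hx y hy
  have := centralizer_le_of_comm_transitive (Ω := Ω) Z
    (fun a ha b hb => hZN a ha b (Subgroup.map_subtype_le _ hb)) (c := x)
    (fun n hn => hZN n hn x hx)
  exact hZN x this y hy

/-- Two nontrivial abelian normal subgroups of a primitive group coincide. -/
theorem eq_of_comm_normal [FaithfulSMul G Ω] [Nonempty Ω] (hprim : IsPreprimitive G Ω)
    (M N : Subgroup G) [hM : M.Normal] [hN : N.Normal] (hM0 : M ≠ ⊥) (hN0 : N ≠ ⊥)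
    (hMc : ∀ x ∈ M, ∀ y ∈ M, x * y = y * x) (hNc : ∀ x ∈ N, ∀ y ∈ N, x * y = y * x) :
    M = N := by
  have key : ∀ (M N : Subgroup G) [M.Normal] [N.Normal], M ≠ ⊥ → N ≠ ⊥ →
      (∀ x ∈ M, ∀ y ∈ M, x * y = y * x) → (∀ x ∈ N, ∀ y ∈ N, x * y = y * x) → M ≤ N := by
    intro M N hM hN hM0 hN0 hMc hNc x hx
    by_cases h : M ⊓ N = ⊥
    · haveI := normal_isPretransitive hprim N hN0
      exact centralizer_le_of_comm_transitive (Ω := Ω) N hNc (fun n hn =>
        (Subgroup.commute_of_normal_of_disjoint M N hM hN (disjoint_iff.2 h) x n hx hn).symm)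
    · haveI := normal_isPretransitive hprim (M ⊓ N) h
      exact (centralizer_le_of_comm_transitive (Ω := Ω) (M ⊓ N)
        (fun a ha b hb => hMc a ha.1 b hb.1) (fun n hn => hMc n hn.1 x hx)).2
  exact le_antisymm (key M N hM0 hN0 hMc hNc) (key N M hN0 hM0 hNc hMc)

/-- A nontrivial abelian normal subgroup of a finite primitive group is elementary abelian. -/
theorem exists_prime_pow_eq_one_of_comm_normal [Finite G] [FaithfulSMul G Ω] [Nonempty Ω]
    (hprim : IsPreprimitive G Ω) (N : Subgroup G) [hN : N.Normal] (hN0 : N ≠ ⊥)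
    (hNc : ∀ x ∈ N, ∀ y ∈ N, x * y = y * x) : ∃ p : ℕ, p.Prime ∧ ∀ x ∈ N, x ^ p = 1 := by
  obtain ⟨p, hp, hd⟩ := exists_prime_dvd_card_of_ne_bot hN0
  haveI := torsionIn_normal N hNc p
  refine ⟨p, hp, fun x hx => ?_⟩
  have := eq_of_comm_normal hprim N (torsionIn N hNc p) hN0 (torsionIn_ne_bot N hNc hp hd) hNc
    (fun a ha b hb => hNc a ha.1 b hb.1)
  rw [this] at hx
  exact hx.2

theorem fittingSubgroup_normal : (Cfsg.fittingSubgroup G).Normal := by
  unfold Cfsg.fittingSubgroup
  rw [sSup_eq_iSup']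
  haveI : ∀ i : {N : Subgroup G | N.Normal ∧ Group.IsNilpotent N}, (i : Subgroup G).Normal :=
    fun i => i.2.1
  exact Subgroup.iSup_normal _

/-- The Fitting subgroup of a primitive group is abelian. -/
theorem fittingSubgroup_comm [FaithfulSMul G Ω] [Nonempty Ω] (hprim : IsPreprimitive G Ω) :
    ∀ x ∈ Cfsg.fittingSubgroup G, ∀ y ∈ Cfsg.fittingSubgroup G, x * y = y * x := by
  by_cases h : ∃ N : Subgroup G, N.Normal ∧ Group.IsNilpotent N ∧ N ≠ ⊥
  · obtain ⟨N, hN, hnil, hne⟩ := h
    have hc := comm_of_nilpotent_normal hprim N hne hnil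
    have : Cfsg.fittingSubgroup G ≤ N := by
      apply sSup_le
      rintro M ⟨hM, hMnil⟩
      by_cases hM0 : M = ⊥
      · rw [hM0]; exact bot_le
      · exact (eq_of_comm_normal hprim M N hM0 hne
          (comm_of_nilpotent_normal hprim M hM0 hMnil) hc).le
    exact fun x hx y hy => hc x (this hx) y (this hy)
  · push Not at h
    have : Cfsg.fittingSubgroup G ≤ ⊥ := by
      apply sSup_le
      rintro M ⟨hM, hMnil⟩
      exact (h M hM hMnil).le
    intro x hx y hy
    rw [Subgroup.mem_bot.1 (this hx), one_mul, mul_one]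

/-- A primitive group with nontrivial centre has prime order. -/
theorem prime_card_of_center_ne_bot [Finite G] [FaithfulSMul G Ω] [Nontrivial Ω]
    (hprim : IsPreprimitive G Ω) (h : Subgroup.center G ≠ ⊥) : (Nat.card G).Prime := by
  haveI := normal_isPretransitive hprim _ h
  obtain ⟨a⟩ : Nonempty Ω := inferInstance
  have hco : IsCoatom (stabilizer G a) := IsPreprimitive.isCoatom_stabilizer_of_isPreprimitive G a
  have : stabilizer G a = ⊥ := by
    rw [eq_bot_iff]
    intro g hg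
    exact eq_one_of_centralizes_transitive (Ω := Ω) (Subgroup.center G)
      (fun n hn => (Subgroup.mem_center_iff.1 hn g).symm) hg
  rw [this] at hco
  exact prime_card_of_isCoatom_bot hco

/-- In an extremely primitive group, the stabilizer is faithful on its non-trivial orbits. -/
theorem faithfulSMul_orbit [Finite G] [Finite Ω] [FaithfulSMul G Ω] (hprim : IsPreprimitive G Ω)
    (hep : ∀ x y : Ω, IsPreprimitive (stabilizer G x) (orbit (stabilizer G x) y))
    {α ω : Ω} (hω : ω ≠ α) : FaithfulSMul (stabilizer G α) (orbit (stabilizer G α) ω) := by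
  constructor
  intro a b hab
  have : (b : G)⁻¹ * a = 1 := by
    apply manning hprim hep hω (show ((b⁻¹ * a : stabilizer G α) : G) • α = α from (b⁻¹ * a).2)
    intro g hg
    have := congrArg Subtype.val (hab ⟨g • ω, ⟨g, hg⟩, rfl⟩)
    rw [Subgroup.coe_mul, mul_smul, Subgroup.coe_inv, inv_smul_eq_iff]
    exact this
  exact Subtype.ext (inv_mul_eq_one.1 this).symm

theorem nontrivial_orbit [Finite G] [FaithfulSMul G Ω] (hprim : IsPreprimitive G Ω)
    {α ω : Ω} (hω : ω ≠ α) (hα : stabilizer G α ≠ ⊥) : Nontrivial (orbit (stabilizer G α) ω) := by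
  by_contra h
  rw [not_nontrivial_iff_subsingleton] at h
  apply hα
  apply stabilizer_eq_bot_of_fix hprim hω.symm
  intro g hg
  exact congrArg Subtype.val (h.elim ⟨g • ω, ⟨g, hg⟩, rfl⟩ ⟨ω, mem_orbit_self ω⟩)

theorem exists_ne_of_ne_bot [FaithfulSMul G Ω] {H : Subgroup G} (hH : H ≠ ⊥) (α : Ω) :
    ∃ ω : Ω, ω ≠ α := by
  by_contra h
  push Not at h
  exact hH (eq_bot_of_forall_smul_eq (Ω := Ω) H (fun k _ x => by rw [h x, h (k • α)]))

/-- If all orbits of `H ≤ G_α` other than `{α}` have length `q`, then `q ∣ n - 1`. -/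
theorem dvd_card_sub_one_of_orbits [Fintype Ω] {H : Type*} [Group H] [MulAction H Ω] {α : Ω}
    (hα : ∀ h : H, h • α = α) {q : ℕ} (hq : ∀ ω, ω ≠ α → Nat.card (orbit H ω) = q) :
    q ∣ Fintype.card Ω - 1 := by
  classical
  have h1 : Fintype.card Ω - 1 = (Finset.univ.erase α).card := by
    rw [Finset.card_erase_of_mem (Finset.mem_univ α), Finset.card_univ]
  rw [h1, Finset.card_eq_sum_card_fiberwise (f := fun ω => (Quotient.mk'' ω : orbitRel.Quotient H Ω))
    (t := (Finset.univ.erase α).image (fun ω => (Quotient.mk'' ω : orbitRel.Quotient H Ω)))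
    (fun x hx => Finset.mem_coe.2 (Finset.mem_image_of_mem _ hx))]
  apply Finset.dvd_sum
  intro c hc
  obtain ⟨ω, hω, rfl⟩ := Finset.mem_image.1 hc
  have hωα := (Finset.mem_erase.1 hω).1
  rw [← hq ω hωα, Nat.card_coe_set_eq, ← Set.ncard_coe_finset]
  apply dvd_of_eq
  congr 1
  ext x
  simp only [Finset.coe_filter, Finset.mem_erase, Finset.mem_univ, and_true, Set.mem_ofPred_eq,
    Quotient.eq'', orbitRel_apply, iff_and_self]
  rintro ⟨h, rfl⟩ hx
  apply hωα
  apply MulAction.injective h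
  simp only at hx ⊢
  rw [hx, hα]

end Primitive

end CfsgH4
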