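import Cfsg.Agent.H4.U3Dc
import Cfsg.Agent.H3.U3D344
import Cfsg.Agent.H3.U3Dk

/-! S3645, piece (D): the principal block of a simple group of order dividing `|PSU₃(q)|`. -/

set_option autoImplicit false

namespace CfsgB0

open Cfsg CfsgL CfsgH5 CfsgH6 CfsgFT CfsgSZ CfsgH8 CfsgU3 Subgroup

universe u

theorem c8 : triL A8 (ord 8 19) 19 (fun m e k => k % 2 == 0 || 19 * e * k * m == 344736 ||
    k == 1 && m == 1008 && [2, 3, 6, 9].contains e || chkU A8 8 19 m e k) = true := by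
  decide +kernel

theorem du8 (n : ℕ) : ∀ (G : Type u) [Group G] [Finite G] [IsSimpleGroup G], commutator G = ⊤ →
    Nat.card G = n → Nat.card G ∣ ord 8 19 → 19 ∣ Nat.card G → ∃ a s h, DU G 8 2 3 19 a s h := by
  induction n using Nat.strong_induction_on with
  | _ n ih =>
  intro G _ _ _ hc e h1 h2
  have n2 : ¬ 19 * 19 ∣ Nat.card G := fun f => absurd (f.trans h1) (by decide)
  have H : ∀ (x : G) (X : Subgroup G), orderOf x = 19 → x ∈ X → X ≠ ⊤ → X ≤ N (zpowers x) :=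
    fun x X o hx hX => P1.star ⟨o, n2⟩ ((act_ofD (b := 2349) (by decide +kernel)).of_dvd h1)
      (fun T _ _ _ a b c => (Nat.le_of_dvd Nat.card_pos b).eq_or_lt.resolve_right fun f => by
        obtain ⟨_, _, _, D⟩ := ih _ (e ▸ f) T a rfl (b.trans h1) c
        exact f.not_ge ((Nat.le_of_dvd (by decide) h1).trans D.card.ge)) hx hX
  obtain ⟨x, h⟩ := exists_P1 19 h2 n2
  have b := h.tri hc mem_A8 h1 c8
  simp only [← P1.card_eq hc h, Bool.or_eq_true, Bool.and_eq_true, beq_iff_eq,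
    List.contains_iff_mem] at b
  obtain ((b | b) | ⟨⟨b1, b2⟩, b3⟩) | b := b
  · exact (not_even_k hc h1 h H (Nat.dvd_of_mod_eq_zero b)).elim
  · exact (not_344736 hc b H).elim
  · exact (h.not_1008 hc b1 b2 b3).elim
  · exact du_tri hc (by simp [Par]) mem_A8 h1 h2 h b

end CfsgB0

namespace CfsgU3

universe u

theorem exists_DU {q r d p : ℕ} (hP : Par q r d p) {G : Type u} [Group G] [Finite G]
    [IsSimpleGroup G] (hc : commutator G = ⊤) (h1 : Nat.card G ∣ ord q p) (h2 : p ∣ Nat.card G) :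
    ∃ a s h, DU G q r d p a s h := by
  simp only [Par, List.mem_cons, Prod.mk.injEq, List.not_mem_nil, or_false] at hP
  rcases hP with ⟨rfl, rfl, rfl, rfl⟩ | ⟨rfl, rfl, rfl, rfl⟩ | ⟨rfl, rfl, rfl, rfl⟩
  exacts [CfsgB0.du7 hc h1 h2, CfsgB0.du8 _ G hc rfl h1 h2, CfsgB0.du9 hc h1 h2]

end CfsgU3
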