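import Cfsg.Agent.H4.B1b
import Cfsg.Agent.H8.Count3

/-! The principal `11`-block data of a simple group of order `95040`. -/

set_option autoImplicit false

namespace CfsgB0

open Cfsg CfsgL CfsgH5 CfsgH6 CfsgFT CfsgH8 Subgroup

universe u

/-- the characters of degrees `16, 45, 54, 120, 144` and what is known about them -/
structure D12 (G : Type u) [Group G] [Finite G] (a b c d f : IrrCharacter G) : Prop where
  card : Nat.card G = 95040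
  perf : commutator G = ⊤
  deg : dg a = 16 ∧ dg b = 45 ∧ dg c = 54 ∧ dg d = 120 ∧ dg f = 144
  int : ∀ χ ∈ [a, b, c, d, f], ∀ g, ¬ 11 ∣ orderOf g → χ.1 g = iv g χ
  rel : ∀ g, ¬ 11 ∣ orderOf g → 1 + iv g b + iv g f = iv g a + iv g c + iv g d
  sq : ∀ g, ¬ 11 ∣ orderOf g → 1 + 2 * iv g a ^ 2 + iv g b ^ 2 + iv g c ^ 2 + iv g d ^ 2 +
    iv g f ^ 2 ≤ Nat.card (C1 g)
  x11 : ∀ g, 11 ∣ orderOf g → orderOf g = 11 ∧ b.1 g = 1 ∧ c.1 g = -1 ∧ d.1 g = -1 ∧ f.1 g = 1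
  c11 : ∀ g : G, g ≠ 1 → ¬ 11 ∣ orderOf g → ¬ 11 ∣ Nat.card (C1 g)
  n11 : nord G 11 = 17280
  inv : ∀ t, orderOf t = 2 → (Nat.card (C1 t), iv t a, iv t b, iv t c, iv t d, iv t f) ∈
    [(120, 4, 5, 6, 0, 4), (120, -4, 5, 6, 0, -4), (192, 0, -3, 6, -8, 0), (240, 4, 5, 6, 0, 4),
      (240, -4, 5, 6, 0, -4), (1440, -8, -15, 18, 0, 24)]
  conj : ∀ s t : G, orderOf s = 2 → orderOf t = 2 → Nat.card (C1 s) = 192 →
    Nat.card (C1 t) = 192 → IsConj s t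
  five : ∀ y : G, orderOf y = 5 → (∀ i : ℕ, ¬ 5 ∣ i → IsConj y (y ^ i)) ∧
    (Nat.card (C1 y) = 10 ∨ Nat.card (C1 y) = 60)

end CfsgB0
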