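import Cfsg.Agent.H4.B1c

/-! Simple groups of order `95040`: the principal `11`-block. -/

set_option autoImplicit false
set_option linter.unusedSectionVars false

namespace CfsgB0

open Finset Cfsg CfsgL CfsgH5 CfsgH6 CfsgFT CfsgSZ CfsgH8 Subgroup
open scoped ComplexConjugate

universe u

variable {G : Type u} [Group G] [Finite G] {K : List (WC G)} {S : Finset (IrrCharacter G)}

theorem P1.conj_pw {p : ℕ} [hp : Fact p.Prime] {x : G} (h : P1 p x) {g : G} (hg : orderOf g = p) :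
    ∃ i : ZMod p, i ≠ 0 ∧ IsConj (x ^ i.val) g := by
  obtain ⟨k, -, hk⟩ := (h.syl (mem_top x)).conj ((P1.mk hg h.nsq).syl (mem_top g))
  obtain ⟨i, hi⟩ := h.mem_zp.mp (mem_cj.mp (hk.ge (mem_zpowers g)))
  refine ⟨i, fun e => hp.out.ne_one ?_, isConj_iff.mpr ⟨k, by rw [hi]; group⟩⟩
  rw [e, ZMod.val_zero, pow_zero, eq_comm, mul_assoc, inv_mul_eq_one, eq_comm, mul_eq_right] at hi
  rw [← hg, hi, orderOf_one]

theorem P1.nord_eq {p : ℕ} [hp : Fact p.Prime] {x : G} (h : P1 p x) :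
    nord G p = (N (zpowers x)).index * (p - 1) := by
  obtain ⟨P, hP⟩ := (h.syl (mem_top x)).exists_sylow
  rw [nord_eq_sylow (h.ord ▸ orderOf_dvd_natCard x) (sq p ▸ h.nsq), P.card_eq_index_normalizer,
    ← hP]
  rfl

variable [IsSimpleGroup G] (hc : commutator G = ⊤)
include hc

theorem P1.not_nine {y : G} (h : P1 5 y) (W : WB 5 y K S) (V : Vx 5 y K) {z : WC G} (hz : z ∈ K)
    (e : key z = (1, 1, 11)) (hu : ∀ w ∈ K, dg w.1 = 11 → w.1 = z.1)
    (hk : Nat.Coprime 29 (Nat.card G)) (h9 : 9 ≤ Nat.card (Opc 5 (C1 y)))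
    (h27 : Nat.card (Opc 5 (C1 y)) ∣ 27) : False := by
  classical
  simp only [Prod.mk.injEq] at e
  obtain ⟨e1, e2, e3⟩ := e
  have hC := irr_isChar z.1.2
  have ne : ∀ {u : G}, u ≠ 1 → z.1.1 u ≠ 11 := fun u1 f =>
    (abs_lt_dg hc (W.ne z hz) u1 (a := 11) (by simpa using f)).1 (by simp [e3])
  by_cases h3 : ∀ u ∈ Opc 5 (C1 y), u ^ 3 = 1
  · have := Fintype.ofFinite (Opc 5 (C1 y))
    obtain ⟨m, hm⟩ := sum_sub_nat hC (Opc 5 (C1 y))
    have v : ∀ u : Opc 5 (C1 y), u ≠ 1 → z.1.1 u = -4 := fun u u1 => by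
      have u3 := h3 u u.2
      obtain ⟨a1, a2⟩ := isMu_Mu hC u3
      have a3 := dg_eq (sum_mu hC u3)
      have a4 := a1 1
      have a5 := a2 hc
      have a6 := sum_ψ (1 : ZMod 3)
      obtain ⟨i, hi⟩ := h.dvd_Mu_B0 u.2 u3 (W.memB z hz) (b := 1) (by decide)
      obtain ⟨j, hj⟩ := h.dvd_Mu_B0 u.2 u3 (W.memB z hz) (b := 2) (by decide)
      have s : ∀ {R : Type} [AddCommMonoid R] (F : ZMod 3 → R), ∑ j, F j = F 0 + F 1 + F 2 :=
        fun F => Fin.sum_univ_three F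
      rw [if_neg (by decide)] at a6
      simp only [s, hi, hj, pw_one u3, mul_zero, mul_one, one_mul, AddChar.map_zero_eq_one,
        e3] at a3 a4 a5 a6
      have a7 : i = 1 ∧ j = 1 ∨ i = 0 ∧ j = 0 := by
        have : i ≤ 2 ∧ j ≤ 2 ∧ i + j ≤ 2 := by omega
        obtain ⟨_, _, _⟩ := this
        interval_cases i <;> interval_cases j <;> first | omega | exact absurd a5 (by decide)
      rcases a7 with ⟨rfl, rfl⟩ | ⟨rfl, rfl⟩
      · rw [a4, show Mu 3 z.1.1 u 0 = 1 by omega]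
        push_cast
        linear_combination 5 * a6
      · refine absurd ?_ (ne fun f => u1 (Subtype.ext f))
        rw [a4, show Mu 3 z.1.1 u 0 = 11 by omega]
        simp
    rw [← add_sum_erase _ _ (mem_univ 1), sum_congr rfl fun u hu => v u (ne_of_mem_erase hu),
      sum_const, card_erase_of_mem (mem_univ _), card_univ, ← Nat.card_eq_fintype_card,
      OneMemClass.coe_one, dg_cast, e3, nsmul_eq_mul, Nat.cast_sub (by omega)] at hm
    have : (11 : ℤ) + (Nat.card (Opc 5 (C1 y)) - 1) * -4 = Nat.card (Opc 5 (C1 y)) * m := by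
      exact_mod_cast hm
    nlinarith [Int.natCast_nonneg m]
  obtain ⟨g, hg, g3, g9⟩ : ∃ g ∈ Opc 5 (C1 y), g ^ 3 ≠ 1 ∧ g ^ 9 = 1 := by
    push Not at h3
    obtain ⟨u, hu, u3⟩ := h3
    by_cases f : u ^ 9 = 1
    · exact ⟨u, hu, u3, f⟩
    · exact ⟨u ^ 3, pow_mem hu 3, by rwa [← pow_mul], by
        rw [← pow_mul, ← orderOf_dvd_iff_pow_eq_one]
        exact (Subgroup.orderOf_dvd_natCard _ hu).trans h27⟩
  have b1 : gal hk z.1 ∈ S := by
    by_contra f
    have := W.out _ (gal_mem_B0 hk (W.memB z hz)) f 1 one_ne_zero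
    rw [pw_one h.pow_p, gal] at this
    simp only at this
    rw [← pw_nat h.pow_p, V z hz e2 _ (by decide), e1] at this
    simp at this
  have b2 : ∀ l, Mu 9 z.1.1 g (2 * l) = Mu 9 z.1.1 g l := fun l => by
    have c := mu_cast hC g9 l
    rw [← Fintype.sum_bijective (fun i : ZMod 9 => i * 2) (by decide) _ _ fun _ => rfl] at c
    refine Nat.cast_injective (R := ℂ) (mul_left_cancel₀ (a := ((9 : ℕ) : ℂ)) (by norm_num) ?_)
    rw [← c, ← mu_cast hC g9]
    refine sum_congr rfl fun i _ => ?_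
    have r : ¬ 5 ∣ orderOf (g ^ i.val) := ((h.mem_O _).mp (pow_mem hg _)).2
    have r' : (g ^ i.val) ^ 29 = (g ^ i.val) ^ 2 := by
      rw [show 29 = 9 * 3 + 2 from rfl, pow_add, pow_mul, pow_right_comm g _ 9, g9, one_pow,
        one_pow, one_mul]
    rw [← W.agree (by omega) (fun w hw f => hu w hw (f.trans e3)) b1 (dg_gal hk _) r, mul_assoc,
      pw_mul g9, show (2 : ZMod 9).val = 2 from rfl, ← r']
    rfl
  refine ne g3 ?_
  rw [show (11 : ℂ) = (11 : ℕ) by simp, ← e3, ← dg_cast, sum_mu hC g9,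
    show g ^ 3 = g ^ (3 : ZMod 9).val from rfl, (isMu_Mu hC g9).1, Nat.cast_sum]
  refine sum_congr rfl fun j _ => ?_
  by_cases f : 3 * j = 0
  · simp [f]
  obtain ⟨f0, f1, f2, f3⟩ := (by decide : ∀ j : ZMod 9, 3 * j ≠ 0 →
    j ≠ 0 ∧ j ≠ 2 * j ∧ j ≠ 2 * (2 * j) ∧ 2 * j ≠ 2 * (2 * j)) j f
  have c1 := h.dvd_Mu_B0 hg g9 (W.memB z hz) f0
  have c2 := sum_le_sum_of_subset (f := Mu 9 z.1.1 g) (subset_univ {j, 2 * j, 2 * (2 * j)})
  rw [← dg_eq (sum_mu hC g9), e3, sum_insert (by simp [f1, f2]), sum_pair f3] at c2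
  simp only [b2] at c2
  simp [show Mu 9 z.1.1 g j = 0 by omega]

end CfsgB0
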