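import Cfsg.Agent.H4.B1a

/-! Results of the numerical search for divisors of `95040`. -/

set_option autoImplicit false

namespace CfsgB0

/-- all local data `(e, k, block)`, without conditions on involutions -/
def locB (n b p : ℕ) : List (ℕ × ℕ × List Key) :=
  (List.range p).flatMap fun e => if 2 ≤ e ∧ (p - 1) % e = 0 then
    (adv n b).flatMap fun k => if n % (p * e * k) = 0 ∧ n / (p * e * k) % p = 1 ∧ n ≠ p * e * k then
      (blkD n b p e k).map fun ks => (e, k, ks)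
    else []
  else []

theorem mem_locB {n b p : ℕ} {z : ℕ × ℕ × List Key} (h : z ∈ locD n b p) : z ∈ locB n b p := by
  simp only [locD, locB, List.mem_flatMap] at h ⊢
  obtain ⟨e, h1, h2⟩ := h
  refine ⟨e, h1, ?_⟩
  split_ifs at h2 ⊢
  · simp only [List.mem_flatMap] at h2 ⊢
    obtain ⟨k, h3, h4⟩ := h2
    refine ⟨k, h3, ?_⟩
    split_ifs at h4 ⊢
    · obtain ⟨ks, h5, rfl⟩ := List.mem_map.mp h4
      exact List.mem_map_of_mem (List.mem_filter.mp h5).1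
    · exact h4
  · exact h2

/-- no involution has a centraliser of order divisible by `5` -/
def no10 (n b p e : ℕ) (ks : List Key) : Bool :=
  ((adv n b).filter fun c => c % 10 == 0 && c % p != 0).all
    fun c : ℕ => ((einv n c ks 1 (c - 1) n).filter fun z : List ℤ × ℤ =>
      z.2 % ((c * c : ℕ) : ℤ) == 0 && 0 ≤ z.2 && z.2 ≤ ((p * (c * c) : ℕ) : ℤ)).all
        fun z => !(e % 2 == 0 || z.2 == 0)

theorem not_five {n b p e : ℕ} {ks : List Key} (h : no10 n b p e ks = true) {w : ℕ × List ℤ × ℤ}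
    (hw : w ∈ invsD n b p e ks) : ¬ 5 ∣ w.1 := fun f => by
  simp only [no10, List.all_eq_true] at h
  simp only [invsD, List.mem_flatMap, List.mem_map, List.mem_filter (as := List.flatMap _ _),
    List.mem_filter (as := adv _ _), Bool.and_eq_true, beq_iff_eq] at h hw
  obtain ⟨⟨c, ⟨h1, h2, h3⟩, z, h4, rfl⟩, h5⟩ := hw
  have := h c ⟨h1, by simp only at f; omega, h3⟩ z h4
  rw [h5] at this
  exact absurd this (by decide)

/-- the principal `11`-block of `M12` -/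
def E11 : List Key := [(-1, 2, 16), (1, 1, 45), (-1, 1, 54), (-1, 1, 120), (1, 1, 144)]

theorem loc11 : ∀ z ∈ locB 95040 310 11, (z.1 = 10 ∧ z.2.1 = 6) ∨ z.1 = 5 ∧ z.2.1 = 1 ∧
    (z.2.2 = E11 ∨ no10 95040 310 11 5 z.2.2 = true ∨
      ∀ w ∈ invsD 95040 310 11 5 z.2.2, 95040 / w.1 % 2 = 0) := by decide +kernel

theorem inv11 : invsD 95040 310 11 5 E11 = [(120, [4, 5, 6, 0, 4], 0), (120, [-4, 5, 6, 0, -4], 0),
    (192, [0, -3, 6, -8, 0], 0), (240, [4, 5, 6, 0, 4], 0), (240, [-4, 5, 6, 0, -4], 0),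
    (1440, [-8, -15, 18, 0, 24], 0)] := by decide +kernel

theorem loc5 : ∀ z ∈ locD 95040 310 5, (2 ∣ z.2.1 ∨ 9 ≤ z.2.1 ∧ z.2.1 ∣ 27 ∧
    z.2.2.filter (·.2.2 = 11) = [(1, 1, 11)]) ∧
    ((∀ k ∈ z.2.2, k.2.2 ∈ [1, 16, 45, 54, 120, 144] ∨ 11 ∣ k.2.2) → z.1 = 4 ∧
      (z.2.1 = 27 ∨ z.2.1 = 12 ∨ z.2.1 = 2 ∧ ((∃ k ∈ z.2.2, 33 ∣ k.2.2) ∨
        z.2.2 = [(1, 1, 11), (-1, 1, 44), (-1, 1, 144), (1, 1, 176)] ∨
        z.2.2 = [(1, 1, 11), (1, 1, 16), (1, 1, 16), (-1, 1, 44)]))) := by decide +kernel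

theorem loc11' : ∀ z ∈ locD 7920 310 11, z.1 = 5 ∧ z.2.1 = 1 ∧
    (∀ w ∈ invsD 7920 310 11 5 z.2.2, ¬ 5 ∣ w.1) ∧
    (z.2.2 = [(-1, 2, 5), (-1, 1, 10), (-1, 1, 10), (1, 1, 12), (1, 1, 12)] ∨
      z.2.2 = [(-1, 2, 16), (-1, 1, 10), (-1, 1, 10), (-1, 1, 10), (1, 1, 45)]) := by
  decide +kernel

theorem loc5' : ∀ z ∈ locD 7920 310 5, 2 ∣ z.2.1 ∨ z.1 = 4 ∧ z.2.1 = 1 ∧
    (∀ w ∈ invsD 7920 310 5 4 z.2.2, w.1 = 48 ∧ w.2.2 ≠ 0) ∧
    (z.2.2 = [(1, 1, 11), (1, 1, 16), (1, 1, 16), (-1, 1, 44)] ∨ (-1, 1, 4) ∈ z.2.2) := by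
  decide +kernel

theorem loc_nil : ∀ n ∈ [6336, 9504, 10560, 11880, 19008, 23760], locD n 310 11 = [] := by
  decide +kernel

theorem loc47520 : ∀ z ∈ locD 47520 310 11, z.1 = 10 ∧ z.2.1 = 3 := by decide +kernel

theorem loc15840 : ∀ z ∈ locB 15840 310 11, z.2.1 = 1 ∧ no10 15840 310 11 z.1 z.2.2 = true := by
  decide +kernel

theorem loc15840' : ∀ z ∈ locD 15840 310 5, 2 ∣ z.2.1 ∨ 9 ≤ z.2.1 ∧ z.2.1 ∣ 27 ∧
    z.2.2.filter (·.2.2 = 11) = [(1, 1, 11)] := by decide +kernel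

end CfsgB0
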