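import Cfsg.Agent.H4.B1d
import Cfsg.Agent.H4.B1n

/-! Simple groups of order `95040`: the data `D12`. -/

set_option autoImplicit false
set_option linter.unusedSectionVars false

namespace CfsgB0

open Finset Cfsg CfsgL CfsgH5 CfsgH6 CfsgFT CfsgSZ CfsgH8 Subgroup
open scoped ComplexConjugate

universe u

variable {G : Type u} [Group G] [Finite G] {K : List (WC G)} {S : Finset (IrrCharacter G)}

theorem uniq_key {k : Key} (h : (K.map key).filter (·.2.2 = k.2.2) = [k]) :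
    ∃ z ∈ K, key z = k ∧ ∀ w ∈ K, dg w.1 = k.2.2 → w = z := by
  rw [List.filter_map, List.map_eq_singleton_iff] at h
  obtain ⟨z, h1, h2⟩ := h
  have : ∀ w, w ∈ K ∧ dg w.1 = k.2.2 ↔ w = z := fun w => by
    rw [← List.mem_singleton (a := w), ← h1, List.mem_filter]; simp
  exact ⟨z, ((this z).mpr rfl).1, h2, fun w a b => (this w).mp ⟨a, b⟩⟩

theorem P1.invol {p : ℕ} [Fact p.Prime] {y : G} (h : P1 p y) (hk : 2 ∣ Nat.card (Opc p (C1 y))) :
    ∃ u ∈ Opc p (C1 y), orderOf u = 2 ∧ p ∣ Nat.card (C1 u) := by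
  obtain ⟨⟨u, hu⟩, ho⟩ := exists_prime_orderOf_dvd_card' 2 hk
  exact ⟨u, hu, (Subgroup.orderOf_coe _).trans ho, h.ord ▸ Subgroup.orderOf_dvd_natCard _
    (mem_C1.mpr ((h.mem_O u).mp hu).1)⟩

theorem P1.rational {p : ℕ} [hp : Fact p.Prime] {y : G} (h : P1 p y) (e : Nat.card h.U + 1 = p)
    {i : ℕ} (hi : ¬ p ∣ i) : IsConj y (y ^ i) := by
  have e1 := h.card_mul_index
  have e2 : h.U = ⊤ := index_eq_one.mp (Nat.eq_of_mul_eq_mul_left (Nat.card_pos (α := h.U)) (by omega))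
  have e3 : (i : ZMod p) ≠ 0 := mt (ZMod.natCast_eq_zero_iff _ _).mp hi
  have := (h.isConj_pw one_ne_zero (i : ZMod p)).mpr ⟨⟨Units.mk0 _ e3, e2 ▸ mem_top _⟩, by simp⟩
  rw [pw_one h.pow_p, pw_nat h.pow_p] at this
  exact this.symm

variable [IsSimpleGroup G] (hc : commutator G = ⊤) (e : Nat.card G = 95040)
include hc e

theorem five_loc {y : G} (h : P1 5 y) : ∃ K S, WB 5 y K S ∧ Vx 5 y K ∧
    2 ∣ Nat.card (Opc 5 (C1 y)) ∧
      (Nat.card h.U, Nat.card (Opc 5 (C1 y)), K.map key) ∈ locD 95040 310 5 := by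
  obtain ⟨K, S, W, V, hK⟩ := h.localD hc (b := 310) (by norm_num) e (by norm_num) (by norm_num)
  refine ⟨K, S, W, V, (loc5 _ hK).1.elim id fun ⟨a1, a2, a3⟩ => ?_, hK⟩
  obtain ⟨z, b1, b2, b3⟩ := uniq_key (k := (1, 1, 11)) a3
  exact (h.not_nine hc W V b1 b2 (fun w f g => b3 w f g ▸ rfl) (by rw [e]; norm_num) a1 a2).elim

theorem eleven_loc : ∃ x : G, ∃ h : P1 11 x, ∃ K S, WB 11 x K S ∧ Vx 11 x K ∧
    Nat.card h.U = 5 ∧ Nat.card (Opc 11 (C1 x)) = 1 ∧ K.map key = E11 := by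
  obtain ⟨x, h⟩ := exists_P1 (G := G) 11 (by omega) (by omega)
  obtain ⟨y, h'⟩ := exists_P1 (G := G) 5 (by omega) (by omega)
  obtain ⟨K, S, W, V, hK⟩ := h.localD hc (b := 310) (by norm_num) e (by norm_num) (by norm_num)
  obtain ⟨a1, a2, a3⟩ := (loc11 _ (mem_locB hK)).resolve_left fun f =>
    h.not_three hc f.1 f.2 (Or.inr rfl) (by omega)
  obtain ⟨_, _, -, -, b, -⟩ := five_loc hc e h'
  obtain ⟨u, -, b1, b2⟩ := h'.invol b
  refine ⟨x, h, K, S, W, V, a1, a2, a3.resolve_right fun f => ?_⟩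
  have m : ∀ t : G, orderOf t = 2 → _ := fun t =>
    h.mem_invsD hc a2 (by norm_num) (b := 310) (by omega) W
  rw [e, show Nat.card h.U = 5 from a1] at m
  obtain ⟨t, c1, c2⟩ := exists_central_invol (two_dvd hc)
  exact f.elim (fun f => not_five f (m u b1) b2) fun f => by have := f _ (m t c1); grind

theorem exists_D12 : ∃ a b c d f, D12 G a b c d f ∧ ∃ S : Finset (IrrCharacter G),
    (∀ χ, χ ∉ S → 11 ∣ dg χ) ∧ (∀ χ ∈ S, dg χ ∈ [1, 16, 45, 54, 120, 144]) ∧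
    ∀ F : IrrCharacter G → ℤ, Reg 11 F →
      ∑ χ ∈ S, F χ = F (triv G) + 2 * F a + F b + F c + F d + F f := by
  obtain ⟨x, h, K, S, W, V, a1, a2, a3⟩ := eleven_loc hc e
  have hd : ∀ χ, χ ∉ S → 11 ∣ dg χ := fun χ => h.dvd_dg a2 W
  have hd' : ∀ χ ∈ S, dg χ ∈ [1, 16, 45, 54, 120, 144] := fun χ hχ => by
    rcases W.dg_cases hχ with f | ⟨k, f1, f2⟩
    · simp [f]
    · rw [a3] at f1
      rw [← f2]
      exact (by decide : ∀ k ∈ E11, k.2.2 ∈ [1, 16, 45, 54, 120, 144]) k f1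
  have hi : ∀ z ∈ K, ∀ g, ¬ 11 ∣ orderOf g → z.1.1 g = iv g z.1 := fun z hz g hg => by
    have m : key z ∈ E11 := a3 ▸ List.mem_map_of_mem hz
    obtain ⟨m1, m2, m3⟩ := (by decide : ∀ k ∈ E11, k.2.2 ≠ 1 ∧ ¬ 11 ∣ k.2.2 ∧
      E11.filter (·.2.2 = k.2.2) = [k]) _ m
    obtain ⟨w, -, -, hw⟩ := uniq_key (a3 ▸ m3)
    refine int_of_gal fun k hk => W.agree (φ := gal hk z.1) m1
      (fun v hv f => by rw [hw v hv f, hw z hz rfl]) ?_ (dg_gal hk _) hg
    by_contra f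
    exact m2 ((hd _ f).trans (dg_gal hk z.1).dvd)
  have hv : ∀ t : G, orderOf t = 2 → _ := fun t ht =>
    h.mem_invsD hc a2 (by norm_num) (b := 310) (by omega) W ht
  rw [e, a1, a3, inv11] at hv
  have hcs : ∀ s t : G, orderOf s = 2 → orderOf t = 2 → ¬ IsConj t s → _ := fun s t =>
    W.cs hc (by norm_num)
  simp only [dot_eq, a3] at hcs
  have hsq : ∀ g, ¬ 11 ∣ orderOf g → _ := fun g hg =>
    (W.sumS (fun χ => ‖χ.1 g‖ ^ 2) fun χ φ f => by simp only [f g hg]).symm.trans_le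
      ((sum_le_sum_of_subset_of_nonneg (subset_univ S) fun χ _ _ =>
        sq_nonneg ‖χ.1 g‖).trans (second_orth_normSq g).le)
  obtain ⟨⟨a, _, _⟩, ⟨b, _, _⟩, ⟨c, _, _⟩, ⟨d, _, _⟩, ⟨f, _, _⟩, rfl, k1, k2, k3, k4, k5⟩ :
      ∃ a b c d f, K = [a, b, c, d, f] ∧ key a = (-1, 2, 16) ∧ key b = (1, 1, 45) ∧
        key c = (-1, 1, 54) ∧ key d = (-1, 1, 120) ∧ key f = (1, 1, 144) := by
    rcases K with _ | ⟨a, _ | ⟨b, _ | ⟨c, _ | ⟨d, _ | ⟨f, _ | ⟨g, K⟩⟩⟩⟩⟩⟩ <;> simp [E11] at a3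
    exact ⟨a, b, c, d, f, rfl, by simp [key, a3]⟩
  simp only [Prod.mk.injEq] at k1 k2 k3 k4 k5
  obtain ⟨⟨rfl, rfl, d1⟩, ⟨rfl, rfl, d2⟩, ⟨rfl, rfl, d3⟩, ⟨rfl, rfl, d4⟩, rfl, rfl, d5⟩ :=
    And.intro k1 (And.intro k2 (And.intro k3 (And.intro k4 k5)))
  simp only [List.forall_mem_cons, List.not_mem_nil, IsEmpty.forall_iff, implies_true, and_true,
    Vx] at hi V
  obtain ⟨i1, i2, i3, i4, i5⟩ := hi
  refine ⟨a, b, c, d, f, ⟨e, hc, ⟨d1, d2, d3, d4, d5⟩, by simp_all, fun g hg => ?_, fun g hg => ?_,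
    fun g hg => ?_, fun g g1 hg => h.not_dvd_C1 a2 g1 hg, ?_, fun t ht => ?_,
    fun s t hs ht s1 t1 => ?_, fun y hy => ?_⟩, S, hd, hd', fun F hF => ?_⟩
  · have := W.rel h hg
    simp only [List.map_cons, List.map_nil, List.sum_cons, List.sum_nil, i1 g hg, i2 g hg, i3 g hg,
      i4 g hg, i5 g hg] at this
    have : 1 + (-1 * iv g a + (1 * iv g b + (-1 * iv g c + (-1 * iv g d + (1 * iv g f + 0))))) = 0 := by
      exact_mod_cast this
    omega
  · have := hsq g hg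
    simp only [List.map_cons, List.map_nil, List.sum_cons, List.sum_nil, i1 g hg, i2 g hg, i3 g hg,
      i4 g hg, i5 g hg, triv_apply, Complex.norm_intCast, sq_abs, norm_one] at this
    rw [← Int.cast_le (R := ℝ)]
    push_cast at this ⊢
    linarith
  · have o := h.order_dvd a2 hg
    obtain ⟨i, i0, hi⟩ := h.conj_pw o
    simp only [← class_isConj (Irr_class _) hi]
    simpa [o] using And.intro (V.2.1 trivial i i0) (And.intro (V.2.2.1 trivial i i0)
      (And.intro (V.2.2.2.1 trivial i i0) (V.2.2.2.2 trivial i i0)))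
  · have n1 := (h.sylow hc).2.2.2
    have n2 := (N (zpowers x)).card_mul_index
    rw [h.nord_eq]
    rw [n1, a1, a2, e] at n2
    omega
  · have := hv t ht
    simp only [List.mem_cons, Prod.mk.injEq, List.not_mem_nil, or_false, List.map_cons,
      List.map_nil, List.cons.injEq, and_true] at this
    rcases this with g | g | g | g | g | g <;> simp [g.1, g.2.1]
  · by_contra g
    have c1 := hcs t s ht hs g
    have c2 := hv s hs
    have c3 := hv t ht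
    simp only [s1, t1, List.mem_cons, Prod.mk.injEq, List.not_mem_nil, or_false, OfNat.ofNat_eq_ofNat,
      Nat.reduceEqDiff, false_and, true_and, false_or] at c1 c2 c3
    rw [c2.1, c3.1] at c1
    exact absurd c1 (by decide)
  · have h' : P1 5 y := ⟨hy, by omega⟩
    obtain ⟨K', S', W', -, b1, b2⟩ := five_loc hc e h'
    obtain ⟨b3, b4⟩ := (loc5 _ b2).2 fun k hk => by
      obtain ⟨z, -, rfl⟩ := List.mem_map.mp hk
      exact (em (z.1 ∈ S)).imp (hd' _) (hd _)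
    have := h'.card_C1
    exact ⟨fun i => h'.rational (by simp only at b3; omega), by simp only at b4; omega⟩
  · rw [W.sumS F hF]
    simp only [List.map_cons, List.map_nil, List.sum_cons, List.sum_nil]
    push_cast
    ring

end CfsgB0
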