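import Cfsg.Agent.H4.B1e
import Cfsg.Agent.H4.B0h
import Cfsg.Agent.L.OrdM11

/-! Simple groups of order `7920`. -/

set_option autoImplicit false
set_option linter.unusedSectionVars false

namespace CfsgB0

open Finset Cfsg CfsgL CfsgH5 CfsgH6 CfsgFT CfsgSZ CfsgH8 Subgroup
open scoped ComplexConjugate

universe u

variable {G : Type u} [Group G] [Finite G] {K : List (WC G)} {S : Finset (IrrCharacter G)}

theorem dvd_Mu3 {χ : IrrCharacter G} {m : ℕ} (hm : Nat.card G = dg χ * m) (h2 : ¬ 2 ∣ m) {y : G}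
    (y3 : y ^ 3 = 1) {n : ℕ} (h8 : 2 ^ n ∣ Nat.card (C1 y)) (b : ZMod 3) : 2 ^ n ∣ Mu 3 χ.1 y b := by
  obtain ⟨T, hT⟩ := Sylow.exists_subgroup_card_pow_prime (G := C1 y) 2 h8
  have := dvd_Mu (irr_isChar χ.2) y3 (map_subtype_le T) (fun s hs s1 j => by
    refine CfsgH2.defect_zero_vanish χ.2 Nat.prime_two (dg_cast χ) hm h2 ?_
    have h1 : s ^ 2 ^ n = 1 := by
      rw [← show Nat.card (T.map (C1 y).subtype) = 2 ^ n by rw [Subgroup.card_subtype, hT]]
      exact orderOf_dvd_iff_pow_eq_one.mp (Subgroup.orderOf_dvd_natCard _ hs)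
    by_contra f
    have h2 := (Commute.symm (mem_C1.mp (map_subtype_le T hs))).pow_left j
    have h3 : s ^ (orderOf (y ^ j * s) * 3) = 1 := by
      have := h2.mul_pow (orderOf (y ^ j * s) * 3)
      rwa [pow_mul, pow_orderOf_eq_one, one_pow, ← pow_mul, ← mul_assoc, mul_comm _ 3, pow_mul,
        y3, one_pow, one_mul, eq_comm] at this
    have h4 := pow_gcd_eq_one.mpr ⟨h1, h3⟩
    rw [show Nat.gcd (2 ^ n) _ = 1 from Nat.Coprime.pow_left n ((Nat.Prime.coprime_iff_not_dvd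
      Nat.prime_two).mpr (by omega)), pow_one] at h4
    exact s1 h4) b
  rwa [Subgroup.card_subtype, hT] at this

theorem exists_ord4 {y : G} (h : P1 5 y) (hk : Nat.card (Opc 5 (C1 y)) = 1)
    (he : Nat.card h.U = 4) : ∃ g : G, orderOf g = 4 := by
  obtain ⟨g, hg⟩ := isConj_iff.mp (h.rational (by omega) (i := 2) (by decide))
  have a : ∀ n : ℕ, g ^ n * y * (g ^ n)⁻¹ = y ^ 2 ^ n := fun n => by
    induction n with
    | zero => simp
    | succ n ih => rw [pow_succ', mul_inv_rev, pow_succ' 2, pow_mul, ← hg, conj_pow, ← ih]; group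
  have b : g ^ 4 ∈ zpowers y := by
    rw [← h.C1_eq hk, mem_C1_iff_conj, a, show 2 ^ 4 = 5 * 3 + 1 from rfl, pow_succ, pow_mul,
      h.pow_p, one_pow, one_mul]
  have c := orderOf_dvd_iff_pow_eq_one.mp (h.ord ▸ orderOf_dvd_of_mem_zpowers b)
  refine ⟨g ^ 5, orderOf_eq_prime_pow (p := 2) (n := 1) (fun f => h.ne_one ?_)
    (by rw [← c, ← pow_mul, ← pow_mul]; rfl)⟩
  have d := a 10
  rw [show g ^ 10 = 1 by rw [← f, ← pow_mul]; rfl, show 2 ^ 10 = 5 * 204 + 4 from rfl, pow_add, pow_mul,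
    h.pow_p, one_pow, one_mul, one_mul, inv_one, mul_one, pow_succ, eq_comm, mul_eq_right] at d
  simpa using pow_gcd_eq_one.mpr ⟨d, h.pow_p⟩

variable [IsSimpleGroup G] (hc : commutator G = ⊤)
include hc

theorem val16 {χ : IrrCharacter G} (d1 : dg χ = 16) {y : G} (y1 : y ≠ 1) (y3 : y ^ 3 = 1)
    (c2 : ∀ b, 8 ∣ Mu 3 χ.1 y b) : χ.1 y = (-8 : ℤ) ∧ Mu 3 χ.1 y 1 = 8 := by
  obtain ⟨e2, e3⟩ := isMu_Mu (irr_isChar χ.2) y3
  have e4 := dg_eq (sum_mu (irr_isChar χ.2) y3)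
  have e5 := e3 hc
  have e6 := e2 1
  have e7 := sum_ψ (1 : ZMod 3)
  have s3 : ∀ {R : Type} [AddCommMonoid R] (F : ZMod 3 → R), ∑ j, F j = F 0 + F 1 + F 2 :=
    fun F => Fin.sum_univ_three F
  rw [s3] at e4 e5 e6 e7
  obtain ⟨⟨m0, f0⟩, ⟨m1, f1⟩, m2, f2⟩ := And.intro (c2 0) (And.intro (c2 1) (c2 2))
  rw [f0, f1, f2] at e4 e5 e6
  have e8 : 3 ∣ 8 * m1 + 16 * m2 := (ZMod.natCast_eq_zero_iff _ 3).mp (by
    rw [← e5]; push_cast; ring)
  have e9 := (abs_lt_dg hc (χ := χ) (fun f => by simp [f, dg_triv] at d1) y1 (a := 16) · |>.1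
    (by simp [d1]))
  simp only [pw_one y3, mul_zero, mul_one, one_mul, AddChar.map_zero_eq_one, one_ne_zero,
    if_false] at e6 e7
  obtain ⟨rfl, rfl, rfl⟩ | ⟨rfl, rfl, rfl⟩ : m0 = 2 ∧ m1 = 0 ∧ m2 = 0 ∨ m0 = 0 ∧ m1 = 1 ∧ m2 = 1 := by
    omega
  · exact absurd (by rw [e6]; norm_num) e9
  · exact ⟨by rw [e6]; push_cast; linear_combination 8 * e7, f1⟩

theorem m11_7920 (e : Nat.card G = 7920) : Nonempty (G ≃* Spor.M11) ∧ ¬ Rho G 33 := by
  obtain ⟨x, h⟩ := exists_P1 (G := G) 11 (by omega) (by omega)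
  obtain ⟨y, h'⟩ := exists_P1 (G := G) 5 (by omega) (by omega)
  obtain ⟨K, S, W, -, hK⟩ := h.localD hc (b := 310) (by norm_num) e (by norm_num) (by norm_num)
  obtain ⟨K', S', W', -, hK'⟩ := h'.localD hc (b := 310) (by norm_num) e (by norm_num) (by norm_num)
  obtain ⟨a1, a2, a3, a4⟩ := loc11' _ hK
  simp only at a1 a2 a3 a4
  obtain ⟨b1, b2, b3, b4⟩ := (loc5' _ hK').resolve_left fun f => by
    obtain ⟨u, -, c1, c2⟩ := h'.invol f
    have := h.mem_invsD hc a2 (by norm_num) (b := 310) (by omega) W c1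
    rw [e, a1] at this
    exact a3 _ this c2
  simp only at b1 b2 b3 b4
  have c : ∀ χ : IrrCharacter G, 11 ∣ dg χ ∨ dg χ = 1 ∨ ∃ k ∈ K.map key, k.2.2 = dg χ := fun χ =>
    (em' (χ ∈ S)).imp (h.dvd_dg a2 W) W.dg_cases
  replace b4 := b4.resolve_right fun f => by
    obtain ⟨z, -, hz⟩ := List.mem_map.mp f
    have := c z.1
    rw [show dg z.1 = 4 from congrArg (·.2.2) hz] at this
    rcases a4 with g | g <;> exact absurd (g ▸ this) (by decide)
  replace a4 := a4.resolve_left fun g => by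
    obtain ⟨z, -, hz⟩ := List.mem_map.mp (b4 ▸ (by decide) : (1, 1, 16) ∈ K'.map key)
    have := c z.1
    rw [show dg z.1 = 16 from congrArg (·.2.2) hz] at this
    exact absurd (g ▸ this) (by decide)
  have d : ∀ t : G, orderOf t = 2 → Nat.card (C1 t) = 48 ∧ Np t y ≠ 0 := fun t ht => by
    have := h'.mem_invsD hc b2 (by norm_num) (b := 310) (by omega) W' ht
    rw [e, b1] at this
    exact (b3 _ this).imp id fun f g => f (by simp [g])
  refine ⟨m11_of_card e (fun s t hs ht => h'.isConj_of_Np b2 (by norm_num) hs ht (d s hs).2 (d t ht).2)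
    (fun t ht => (d t ht).1) (fun w hw h8 => ?_) (exists_ord4 h' b2 b1)
    (fun w hw => (h'.card_C1_eq hw).trans (h'.card_C1_p b2))
    fun w hw => (h.card_C1_eq hw).trans (h.card_C1_p a2), fun ⟨_, ⟨χ, rfl⟩, f⟩ => ?_⟩
  · obtain ⟨z, z1, z2⟩ := List.mem_map.mp (a4 ▸ (by decide) : (-1, 2, 16) ∈ K.map key)
    simp only [Prod.mk.injEq] at z2
    have w1 : w ≠ 1 := fun f => by simp [f] at hw
    have w3 : w ^ 3 = 1 := hw ▸ pow_orderOf_eq_one w
    have r : ¬ 11 ∣ orderOf w := by rw [hw]; decide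
    have m : ∀ {n}, 2 ^ n ∣ Nat.card (C1 w) → _ := fun f =>
      dvd_Mu3 (χ := z.1) (m := 495) (by omega) (by decide) w3 f
    obtain ⟨v1, v2⟩ := val16 hc z2.2.2 w1 w3 (m (n := 3) h8)
    have c5 := W.sumS (fun χ => ‖χ.1 w‖ ^ 2) fun χ φ e => by simp only [e w r]
    have c6 := (sum_le_sum_of_subset_of_nonneg (subset_univ S) fun χ _ _ =>
      sq_nonneg ‖χ.1 w‖).trans (second_orth_normSq w).le
    have c7 := List.single_le_sum (l := K.map fun z => (z.2.2 : ℝ) * ‖z.1.1 w‖ ^ 2)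
      (List.forall_mem_map.mpr fun _ _ => by positivity) _ (List.mem_map_of_mem z1)
    rw [v1, z2.2.1] at c7
    rw [c5, triv_apply] at c6
    norm_num at c6 c7
    have c8 : 129 ≤ Nat.card (C1 w) := by
      exact_mod_cast (by linarith : (129 : ℝ) ≤ Nat.card (centralizer {w}))
    have c9 := h.not_dvd_C1 a2 w1 r
    have c10 := h'.not_dvd_C1 b2 w1 (by rw [hw]; decide)
    have c11 := m (n := 4) ((by decide +kernel : ∀ c ∈ Nat.divisors 7920, 129 ≤ c → ¬ 11 ∣ c →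
      ¬ 5 ∣ c → 2 ^ 4 ∣ c) _ (Nat.mem_divisors.mpr ⟨e ▸ card_subgroup_dvd_card _, by norm_num⟩)
      c8 c9 c10) 1
    omega
  · by_cases g : χ ∈ S'
    · rcases W'.dg_cases g with g | ⟨k, g1, g2⟩
      · exact absurd (g ▸ f : 33 ∣ 1) (by decide)
      · exact (by decide : ∀ k ∈ [((1 : ℤ), 1, 11), (1, 1, 16), (1, 1, 16), (-1, 1, 44)],
          ¬ 33 ∣ k.2.2) k (b4 ▸ g1) (g2 ▸ f)
    · have := Nat.le_of_dvd (dg_pos χ) ((by norm_num : Nat.Coprime 33 5).mul_dvd_of_dvd_of_dvd f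
        (h'.dvd_dg b2 W' g))
      have := dg_sq_le χ
      nlinarith

end CfsgB0
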