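import Cfsg.Agent.H4.B1f
import Cfsg.Agent.H4.B0i
import Cfsg.Agent.H8.M12OrdA

/-! Character degrees of simple groups of order `95040`; the other divisors of `95040`. -/

set_option autoImplicit false
set_option linter.unusedSectionVars false

namespace CfsgB0

open Finset Cfsg CfsgL CfsgH5 CfsgH6 CfsgFT CfsgSZ CfsgH8 Subgroup
open scoped ComplexConjugate

universe u

variable {G : Type u} [Group G] [Finite G]

/-- candidates for the characters of `11`-defect zero and positive `5`-defect -/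
def c55 : List Key := [(1, 1, 11), (1, 1, 66), (1, 1, 176), (-1, 1, 44), (-1, 1, 99), (2, 1, 22),
  (2, 1, 132), (-2, 1, 33), (-2, 1, 88), (-2, 1, 198)]

set_option synthInstance.maxSize 1000 in
theorem mem_c55 : ∀ d : ℕ, d < 234 → d ∣ 95040 → 11 ∣ d → ¬ 5 ∣ d → ∀ v ∈ sg 5,
    (5 : ℤ) ∣ v - d → (v, 1, d) ∈ c55 ∧ v ≠ 0 := by decide +kernel

set_option synthInstance.maxSize 1000 in
theorem div95040 : ∀ k < 16, k ∣ 95040 → 11 ∣ 95040 / k →
    95040 / k ∈ [6336, 9504, 10560, 11880, 19008, 23760] ∨ 95040 / k = 15840 ∨ 95040 / k = 31680 ∨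
      95040 / k = 47520 ∨ 95040 / k = 7920 ∨ 95040 / k = 95040 := by decide +kernel

variable [IsSimpleGroup G] (hc : commutator G = ⊤)
include hc

theorem rho55 (e : Nat.card G = 95040) : Rho G 55 := by
  classical
  obtain ⟨a, b, c, d, f, h, S, h1, -, h3⟩ := exists_D12 hc e
  obtain ⟨y, hy⟩ := exists_prime_orderOf_dvd_card' (G := G) 5 (by omega)
  obtain ⟨c10, va, vb, vc, vd, vf⟩ := h.five' y hy
  obtain ⟨da, db, dc, dd, df⟩ := h.deg
  have r : ¬ 11 ∣ orderOf y := by rw [hy]; decide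
  have hv : ∀ χ : IrrCharacter G, χ.1 y = iv y χ := fun χ => int_of_gal fun k hk =>
    (class_isConj (Irr_class _) ((h.five y hy).1 k fun g => absurd
      (Nat.Coprime.coprime_dvd_left g (hk.coprime_dvd_right (n := 5) (by omega))) (by decide))).symm
  have o : ∀ g : G, (∀ χ : IrrCharacter G, χ.1 g = iv g χ) → ∑ χ, iv y χ * iv g χ =
      if IsConj g y then (Nat.card (C1 g) : ℤ) else 0 := fun g hg => by
    have := second_orth y g
    simp only [hv, hg, map_intCast] at this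
    rw [← Int.cast_inj (α := ℂ)]
    push_cast
    exact this
  have s1 := o y hv
  have s2 := o 1 fun χ => by rw [iv_one, dg_cast, Int.cast_natCast]
  have s3 := sum_dg_sq (G := G)
  rw [if_pos (.refl _), c10, ← sum_compl_add_sum S, h3 _ (reg_iv r r (· * ·))] at s1
  rw [if_neg (fun g => by simp [isConj_one_right.mp g] at hy), ← sum_compl_add_sum S,
    h3 _ (reg_iv r reg_one (· * ·))] at s2
  rw [e, ← sum_compl_add_sum S, h3 _ (reg_dg fun d => ((d * d : ℕ) : ℤ))] at s3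
  simp only [iv_one, iv_triv, dg_triv, va, vb, vc, vd, vf, da, db, dc, dd, df,
    ← sum_map_toList] at s1 s2 s3
  by_contra g
  have m : ∀ χ ∈ Sᶜ.toList, (iv y χ, 1, dg χ) ∈ c55 ∧ iv y χ ≠ 0 := fun χ hχ => by
    have a1 := h1 χ (mem_compl.mp (mem_toList.mp hχ))
    have a2 : ¬ 5 ∣ dg χ := fun f =>
      g ⟨_, dg_mem χ, (by norm_num : Nat.Coprime 5 11).mul_dvd_of_dvd_of_dvd f a1⟩
    have a3 := int_congr (p := 5) (k := 1) (χ := χ) (u := y) (y := 1) (b := dg χ)
      (by rw [pow_one, ← hy, pow_orderOf_eq_one]) (.one_right _) (by rw [mul_one, hv])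
      (by rw [dg_cast, Int.cast_natCast])
    have a4 := List.single_le_sum (l := Sᶜ.toList.map fun χ => iv y χ * iv y χ)
      (List.forall_mem_map.mpr fun _ _ => mul_self_nonneg _) _ (List.mem_map_of_mem hχ)
    have a5 := List.single_le_sum (l := Sᶜ.toList.map fun χ => ((dg χ * dg χ : ℕ) : ℤ))
      (List.forall_mem_map.mpr fun _ _ => Int.natCast_nonneg _) _ (List.mem_map_of_mem hχ)
    have a6 := e ▸ irr_deg_dvd_card χ.2 (dg_cast χ)
    have a7 : dg χ * dg χ ≤ 54450 := by omega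
    exact mem_c55 _ (by nlinarith) a6 a1 a2 _
      (mem_sg (by omega) (by norm_num)) a3
  have l := List.card_nsmul_le_sum (Sᶜ.toList.map fun χ => iv y χ * iv y χ) 1
    (List.forall_mem_map.mpr fun χ hχ => mul_self_pos.mpr (m χ hχ).2)
  simp only [List.length_map, nsmul_eq_mul, mul_one] at l
  obtain ⟨L, p1, p2⟩ := enum_sound (fun χ => (iv y χ, 1, dg χ)) 16 c55 Sᶜ.toList 54450 m
    (by simp only [c55, List.length_cons, List.length_nil]; omega) (by simp only; omega)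
  rw [show (Sᶜ.toList.map fun χ => iv y χ * iv y χ).sum = 5 by omega,
    show (Sᶜ.toList.map fun χ => iv y χ * dg χ).sum = 165 by omega] at p2
  refine (by decide +kernel : ∀ ks ∈ enum 16 c55 5 165 54450,
    (ks.map fun k : Key => ((k.2.2 * k.2.2 : ℕ) : ℤ)).sum ≠ 54450) _ p2 ?_
  rw [List.map_map, (p1.map _).sum_eq]
  simp only [Function.comp_def]
  omega

theorem rho33 (e : Nat.card G = 95040) : Rho G 33 := by
  obtain ⟨a, b, c, d, f, h, S, h1, h2, -⟩ := exists_D12 hc e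
  obtain ⟨y, h'⟩ := exists_P1 (G := G) 5 (by omega) (by omega)
  obtain ⟨K, S', W, V, b1, b2⟩ := five_loc hc e h'
  obtain ⟨-, b3⟩ := (loc5 _ b2).2 fun k hk => by
    obtain ⟨z, -, rfl⟩ := List.mem_map.mp hk
    exact (em (z.1 ∈ S)).imp (h2 _) (h1 _)
  have b4 := h'.card_C1
  rw [(h.five' y h'.ord).1] at b4
  obtain ⟨-, ⟨k, b5, b6⟩ | b5⟩ := (b3.resolve_left (by simp only; omega)).resolve_left
    (by simp only; omega)
  · exact ⟨_, WB.mem_cd b5, b6⟩
  obtain ⟨u, c1, c2, c3⟩ := h'.invol b1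
  obtain ⟨c4, r⟩ := (h'.mem_O u).mp c1
  have c5 := W.le_sum (reg_iv r r (· * ·)) fun _ => mul_self_nonneg _
  have c6 := W.rel_int h' r fun χ => (iv_spec hc c2 χ).1
  rw [sum_iv hc c2 c2, if_pos (.refl _), iv_triv, h.c240 u c2 c3] at c5
  have c7 := einv_sound key (fun z => iv u z.1) 0 1 K 1 239 0 (fun z hz => by
    obtain ⟨a1, a2, a3, a4⟩ := iv_spec hc c2 z.1
    obtain ⟨a5, a6⟩ := abs_lt_dg hc (W.ne z hz) (fun g => by simp [g] at c2) a1
    exact mem_av a2 (lt_of_le_of_ne a3 a6.symm) (lt_of_le_of_ne a4 a5) (by simp)) c6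
    (by simp only; omega)
  have c8 : ∀ z ∈ K, z.2.2 = 1 → (5 : ℤ) ∣ z.2.1 - iv u z.1 := fun z hz g =>
    int_congr (p := 5) (k := 1) (by rw [pow_one, h'.pow_p]) c4
      ((B0_mul_eq (k := 1) (by rw [pow_one, h'.pow_p]) c1 (W.memB z hz)).trans
        (pw_one h'.pow_p ▸ V z hz g 1 one_ne_zero)) (iv_spec hc c2 z.1).1
  have c9 : ∀ w ∈ (K.map key).zip (K.map fun z => iv u z.1), w.1.2.1 = 1 → (5 : ℤ) ∣ w.1.1 - w.2 := by
    rw [List.zip_map']
    exact List.forall_mem_map.mpr c8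
  simp only at b5
  exact absurd c9 ((by decide +kernel : ∀ ks ∈ [[((1 : ℤ), 1, 11), (-1, 1, 44), (-1, 1, 144),
    (1, 1, 176)], [(1, 1, 11), (1, 1, 16), (1, 1, 16), (-1, 1, 44)]], ∀ v ∈ einv 0 1 ks 1 239 0,
      ¬ ∀ w ∈ ks.zip v.1, w.1.2.1 = 1 → (5 : ℤ) ∣ w.1.1 - w.2) _ (by simpa using b5) _ c7)

theorem not_15840 (e : Nat.card G = 15840) : False := by
  obtain ⟨x, h⟩ := exists_P1 (G := G) 11 (by omega) (by omega)
  obtain ⟨y, h'⟩ := exists_P1 (G := G) 5 (by omega) (by omega)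
  obtain ⟨K, S, W, V, hK⟩ := h.localD hc (b := 310) (by norm_num) e (by norm_num) (by norm_num)
  obtain ⟨K', S', W', V', hK'⟩ := h'.localD hc (b := 310) (by norm_num) e (by norm_num) (by norm_num)
  obtain ⟨a1, a2⟩ := loc15840 _ (mem_locB hK)
  rcases loc15840' _ hK' with f | ⟨b1, b2, b3⟩
  · obtain ⟨u, -, c1, c2⟩ := h'.invol f
    exact not_five a2 (e ▸ h.mem_invsD hc a1 (by norm_num) (by omega) W c1) c2
  · obtain ⟨z, c1, c2, c3⟩ := uniq_key (k := (1, 1, 11)) b3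
    exact h'.not_nine hc W' V' c1 c2 (fun w f g => c3 w f g ▸ rfl) (by rw [e]; norm_num) b1 b2

theorem card_dvd_95040 (h1 : Nat.card G ∣ 95040) (h2 : 11 ∣ Nat.card G) :
    Nat.card G = 660 ∨ Nat.card G = 7920 ∨ Nat.card G = 95040 := by
  by_cases hn : Nat.card G < 6000
  · exact Or.inl ((by decide : ∀ t ∈ [60, 168, 360, 504, 660, 1092, 2448, 2520, 3420, 4080, 5616],
      11 ∣ t → t = 660) _ (card_mem hc hn) h2)
  obtain ⟨x, h⟩ := exists_P1 (G := G) 11 h2 fun f => absurd (f.trans h1) (by decide)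
  obtain ⟨K, S, -, -, hK⟩ := h.localD hc (b := 310) (by norm_num) rfl
    ((Nat.le_of_dvd (by norm_num) h1).trans_lt (by norm_num)) (by norm_num)
  obtain ⟨k, hk⟩ := h1
  have hk' : k < 16 := by nlinarith
  have e : 95040 / k = Nat.card G := by
    rw [hk, Nat.mul_div_cancel _ (Nat.pos_of_ne_zero (by rintro rfl; omega))]
  have := div95040 k hk' (Dvd.intro_left _ hk.symm) (e ▸ h2)
  rw [e] at this
  rcases this with f | f | f | f | f
  · simp [loc_nil _ f] at hK
  · exact (not_15840 hc f).elim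
  · exact (not_31680 hc f).elim
  · obtain ⟨a1, a2⟩ := loc47520 _ (f ▸ hK)
    exact (h.not_three hc a1 a2 (Or.inl rfl) f).elim
  · exact Or.inr f

end CfsgB0
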