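import Cfsg.Agent.H4.B1g
import Cfsg.Agent.H8.M12OrdC
import Cfsg.Agent.H8.M12Nse
import Cfsg.Agent.H8.ProdSec

/-! Groups with the order and the character degree graph of `M12`. -/

set_option autoImplicit false
set_option linter.unusedSectionVars false

namespace CfsgB0

open Finset Cfsg CfsgL CfsgH5 CfsgH6 CfsgFT CfsgSZ CfsgH8 Subgroup

universe u

variable {G : Type u} [Group G] [Finite G]

theorem m12_95040 [IsSimpleGroup G] (hc : commutator G = ⊤) (e : Nat.card G = 95040) :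
    Nonempty (G ≃* Spor.M12) :=
  let ⟨_, _, _, _, _, h, _⟩ := exists_D12 hc e
  h.nse.iso

/-- constituents of characters of defect zero -/
theorem P1.dvd_under {p : ℕ} [hp : Fact p.Prime] {x : G} (h : P1 p x) {K : Subgroup G}
    (hK : Nrm ⊤ K) (hd : p ∣ Nat.card K) {χ θ : G → ℂ} (hχ : IsIrr ⊤ χ) (hθ : IsIrr K θ)
    (h0 : ip K χ θ ≠ 0) (h1 : p ∣ deg χ) : p ∣ deg θ := by
  have hx : zpowers x ≤ K := (zpowers_le.mpr h.mem_KK).trans (h.KK_le hK le_top hd)
  have c := (IsChar.sum (cfclass ⊤ θ) fun ξ hξ => (hθ.of_cfclass hK hξ).char).res hx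
  obtain ⟨m, hm⟩ := hχ.deg_dvd_card
  have d := CfsgH2.card_dvd_deg (n := (inertia ⊤ K θ).relIndex ⊤ * deg θ) c.rs (by
    simp only [rs, OneMemClass.coe_one, res_apply_one, sum_cfclass_apply_one hK, Nat.cast_mul,
      hθ.deg_cast]) ⊤ fun g _ g1 => by
    have a := congrFun (hχ.clifford le_top hK hθ h0) g
    have b := CfsgH2.defect_zero_vanish hχ.rs hp.out hχ.deg_cast.symm hm (fun f => h.nsq (by
      rw [← card_top, hm]; exact mul_dvd_mul h1 f)) (g := ⟨g, mem_top _⟩) (by
      obtain ⟨i, hi⟩ := h.mem_zp.mp g.2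
      rw [← Subgroup.orderOf_coe, ← hi, (h.pw fun f => g1 (Subtype.ext (by simp [← hi, f]))).ord])
    rw [res_apply_mem _ (hx g.2), show χ g = 0 from b, Pi.smul_apply, smul_eq_mul, eq_comm,
      mul_eq_zero, or_iff_right h0] at a
    simpa only [rs, res_apply_coe] using a
  rw [card_top, h.card_zp, hp.out.dvd_mul] at d
  refine d.resolve_left fun f => h.nsq ?_
  rw [← card_top, ← card_mul_relIndex (le_top (a := inertia ⊤ K θ))]
  exact mul_dvd_mul (hd.trans (card_dvd_of_le (le_inertia le_top hθ.cf))) f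

theorem simple_of_nord (e : Nat.card G = 95040) (h11 : nord G 11 = 17280) (h5 : nord G 5 ≠ 4) :
    IsSimpleGroup G ∧ commutator G = ⊤ := by
  obtain ⟨x, h⟩ := exists_P1 (G := G) 11 (by omega) (by omega)
  have H : Act (Nat.card G) 11 11 := e ▸ act_of (by decide +kernel)
  have n1 := (N (zpowers x)).card_mul_index
  rw [h.nord_eq] at h11
  rw [show (N (zpowers x)).index = 1728 by omega, e] at n1
  have n2 : ∀ {M : Subgroup G}, M ≤ C (zpowers x) → Nat.card M ∣ 55 := fun f =>
    (show Nat.card (N (zpowers x)) = 55 by omega) ▸ card_dvd_of_le (f.trans (C_le_N _))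
  have a : ∀ M : Subgroup G, Nrm ⊤ M → ¬ x ∈ M → M = ⊥ := fun M hM hx => by
    have b : ¬ 11 ∣ Nat.card M := fun f => hx (h.KK_le hM le_top f h.mem_KK)
    rcases h.act Fact.out H b (hM.mono le_top) with f | ⟨W, a1, a2, -⟩
    · refine Subgroup.card_eq_one.mp (((Nat.dvd_prime Nat.prime_five).mp
        ((Nat.Coprime.symm ((Nat.Prime.coprime_iff_not_dvd Fact.out).mpr b)).dvd_of_dvd_mul_right
          (n2 (le_C_comm.mp f)))).resolve_right fun g => h5 ?_)
      obtain ⟨⟨y, hy⟩, o⟩ := exists_prime_orderOf_dvd_card' (G := M) 5 g.symm.dvd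
      have h' : P1 5 y := ⟨(Subgroup.orderOf_coe _).trans o, by omega⟩
      rw [h'.nord_eq, eq_of_le_of_card_eq (zpowers_le.mpr hy) (h'.card_zp.trans g.symm),
        show N M = ⊤ from top_le_iff.mp (nrm_iff.mp hM), index_top]
    · exact absurd (((a2.card_eq (h.syl (mem_top x))).trans h.card_zp).symm.dvd.trans
        (card_dvd_of_le a1)) b
  have b : ∀ M : Subgroup G, Nrm ⊤ M → x ∈ M → D M ≠ ⊥ ∧ M = ⊤ := fun M hM hx => by
    have c1 := card_sup_mul (X := M) (Y := N (zpowers x)) (Or.inr (hM.mono le_top))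
    have c2 := frattini_arg Fact.out (h.syl hx) ⟨le_top, hM⟩
    rw [top_inf_eq] at c2
    rw [c2, card_top, e] at c1
    have c3 := zpowers_le.mpr hx
    have c4 : D M ≠ ⊥ := fun f => by
      have := Nat.le_of_dvd (by norm_num) (n2 ((D_eq_bot.mp f).trans (C_anti c3)))
      have := Nat.card_pos (α := ↥(M ⊓ N (zpowers x)))
      rw [show Nat.card (N (zpowers x)) = 55 by omega] at c1
      omega
    refine ⟨c4, eq_top_of_card_eq _ ?_⟩
    have c5 := card_dvd_of_le (inf_le_right : M ⊓ N (zpowers x) ≤ _)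
    have c6 := le_inf c3 (le_normalizer (H := zpowers x))
    have c7 := h.card_zp ▸ card_dvd_of_le c6
    by_contra f
    refine c4 (a _ hM.D fun g => h.ne_one ((((h.syl hx).inf_D_eq_bot_of_le_C Fact.out ?_).le
      ⟨mem_zpowers x, g⟩)))
    rw [← eq_of_le_of_card_ge c6 (by
      have := Nat.le_of_dvd Nat.card_pos c5
      change 11 ∣ Nat.card ↥(M ⊓ N (zpowers x)) at c7
      change Nat.card ↥(M ⊓ N (zpowers x)) ≤ _
      rw [show Nat.card (N (zpowers x)) = 55 by omega] at c5 c1 this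
      rw [h.card_zp]
      obtain ⟨k, hk⟩ := c7
      rw [hk] at c5 c1 this ⊢
      have : k ≤ 5 := by omega
      interval_cases k <;> omega)]
    exact ab_iff_isMulCommutative.mpr inferInstance
  have : Nontrivial G := ⟨x, 1, h.ne_one⟩
  have c : ∀ M : Subgroup G, M.Normal → M = ⊥ ∨ M = ⊤ := fun M hM =>
    (em' (x ∈ M)).imp (a M (nrm_top_iff.mpr hM)) fun f => (b M (nrm_top_iff.mpr hM) f).2
  exact ⟨⟨c⟩, (c _ inferInstance).resolve_left (b ⊤ (Nrm.self _) (mem_top x)).1⟩

theorem main12 (e : Nat.card G = Nat.card Spor.M12) (h2 : degreeGraph G = degreeGraph Spor.M12) :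
    Nonempty (G ≃* Spor.M12) ∨ Nonempty (G ≃* alternatingGroup (Fin 4) × Spor.M11) := by
  obtain ⟨s1, s2⟩ := simple_of_nord M12.card_M12 M12.nord_11 (by rw [M12.nord_5]; decide)
  have r2 : ∀ p q : ℕ, p.Prime → q.Prime → p ≠ q → Rho Spor.M12 (p * q) → Rho G (p * q) :=
    fun p q hp hq hne => by
      have : (degreeGraph Spor.M12).Adj p q ↔ (degreeGraph G).Adj p q := by rw [h2]
      simpa [degreeGraph, hp, hq, hne, Rho] using this.mp
  have h33 := r2 3 11 (by norm_num) (by norm_num) (by decide) (rho33 s2 M12.card_M12)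
  have h55 := r2 5 11 (by norm_num) (by norm_num) (by decide) (rho55 s2 M12.card_M12)
  rw [M12.card_M12] at e
  obtain ⟨x, h⟩ := exists_P1 (G := G) 11 (by omega) (by omega)
  obtain ⟨y, h'⟩ := exists_P1 (G := G) 5 (by omega) (by omega)
  have H : Act (Nat.card G) 11 11 := e ▸ act_of (by decide +kernel)
  have h11 : Rho G 11 := h33.imp fun d a => ⟨a.1, Dvd.dvd.trans (by decide) a.2⟩
  have := h.simple_quo
  have hn := h.nab_quo Fact.out H h11 h11
  have hc := perfect_of_nab hn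
  have hL := h.Opc_le_C H
  have hK : Nrm ⊤ (KK G 11) := (normalIn_Ores _ _).nrm
  have hd := card_quo_dvd (Opc 11 (KK G 11)) (KK G 11)
  rcases card_dvd_95040 hc (e ▸ hd.trans (card_subgroup_dvd_card _)) h.dvd_quo with f | f | f
  · obtain ⟨_, b0, b2⟩ := h55
    obtain ⟨χ, b1, rfl⟩ := mem_cd_top.mp b0
    obtain ⟨θ, b3, b4⟩ := b1.exists_under (le_top (a := KK G 11))
    rw [f] at hd
    have b5 := Nat.le_of_dvd b3.deg_pos' ((by norm_num : Nat.Coprime 5 11).mul_dvd_of_dvd_of_dvd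
      (h'.dvd_under hK (by omega) b1 b3 b4 (by omega)) (h.dvd_under hK (by omega) b1 b3 b4 (by omega)))
    have b6 := b3.deg_sq_le (b3.le_cfcenter (Opc_le 11 _) (by
      rw [comm_eq_bot_iff.mpr hL]; exact bot_le))
    rw [← card_quo (nrm_Opc _ _), f] at b6
    nlinarith
  · obtain ⟨⟨g⟩, g'⟩ := m11_7920 hc f
    have := hK.normal_of_top
    have : ((Opc 11 (KK G 11)).subgroupOf (KK G 11)).Normal :=
      (normal_subgroupOf_iff_le_normalizer (Opc_le _ _)).mpr (nrm_iff.mp (nrm_Opc _ _))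
    rw [ab_quo_iff (nrm_Opc _ _)] at hn
    refine Or.inr (prod_of_section e (Opc_le 11 _) (fun n hn k hk => (hL hn k hk).symm) ?_
      ((quoEquivQuotient (nrm_Opc _ _)).symm.trans g) h33 fun r => g' (r.of_surj g g.surjective))
    refine map_injective (KK G 11).subtype_injective ?_
    rw [← D_eq_map_commutator, (h.cases (normalIn_D _)).resolve_left hn, ← MonoidHom.range_eq_map,
      range_subtype]
  · obtain ⟨g⟩ := equiv_of_card_quo (normalIn_Opc 11 (KK G 11)) (f.trans e.symm)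
    exact Or.inl ⟨g.symm.trans (m12_95040 hc f).some⟩

end CfsgB0
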