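import Cfsg.Agent.H4.B1g
import Cfsg.Agent.SZ.ZT_fin
import Cfsg.Agent.SZ.SP3_a
import Cfsg.Agent.H9.ClassTab

/-! Recognition by order and degree primes: the general frame, `L2(23)`, `L2(47)`, `Sz(8)`,
`Sz(32)`. -/

set_option autoImplicit false
set_option linter.unusedSectionVars false

namespace CfsgB0

open Finset Cfsg CfsgL CfsgH5 CfsgH6 CfsgFT CfsgSZ CfsgH8 Subgroup
open scoped MatrixGroups

universe u v

/-- no prime power dividing `n` is `1` modulo `p` -/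
def actD (n b p : ℕ) : Bool := 0 < n && n < 2 ^ 26 && n < b * b && (adv n b).all fun d =>
  d % p != 1 || d == 1 || [2, 3, 5, 7].any fun a => d % a == 0 && a ^ 26 % d != 0

theorem act_ofD {n b p : ℕ} (h : actD n b p = true) : Act n p p := fun r m hr e1 e2 => by
  simp only [actD, Bool.and_eq_true, decide_eq_true_eq, beq_iff_eq, List.all_eq_true,
    Bool.or_eq_true, List.any_eq_true, bne_iff_ne] at h
  obtain ⟨⟨⟨h0, h1⟩, h2⟩, h⟩ := h
  have e4 := (Nat.pow_lt_pow_iff_right one_lt_two).mp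
      ((Nat.pow_le_pow_left hr.two_le _).trans_lt ((Nat.le_of_dvd h0 e1).trans_lt h1))
  rcases h _ (mem_adv h2 h0 e1) with (f | f) | ⟨a, f1, f2, f3⟩
  · exact absurd e2 f
  · exact absurd (Nat.pow_eq_one.mp f) (by simp [hr.ne_one])
  · have a1 := (by decide : ∀ a ∈ [2, 3, 5, 7], a.Prime) a f1
    rw [← (Nat.prime_dvd_prime_iff_eq a1 hr).mp (a1.dvd_of_dvd_pow (Nat.dvd_of_mod_eq_zero f2))] at f3
    exact absurd (Nat.mod_eq_zero_of_dvd (pow_dvd_pow a e4.le)) f3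

variable {G : Type u} [Group G] [Finite G]

/-- the general frame -/
theorem rec_gen {M : Type} [Group M] [Finite M] (p : ℕ) [hp : Fact p.Prime] {n : ℕ} (b : ℕ)
    (eM : Nat.card M = n) (H : p ∣ n ∧ ¬ p * p ∣ n ∧ actD n b p = true) (rho : Rho M p)
    (sec : ∀ (T : Type u) [Group T] [Finite T] [IsSimpleGroup T], commutator T = ⊤ →
      Nat.card T ∣ n → p ∣ Nat.card T → Nonempty (T ≃* M))
    {S : Type v} [Group S] [Finite S] (f : S ≃* M) (e : Nat.card G = Nat.card S)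
    (h : degreePrimes G = degreePrimes S) : Nonempty (G ≃* S) := by
  have h1 : Rho G p := (h.ge (show _ ∈ degreePrimes S from
    ⟨hp.out, rho.of_surj f.toMonoidHom f.surjective⟩)).2
  rw [Nat.card_congr f.toEquiv, eM] at e
  obtain ⟨x, hx⟩ := exists_P1 (G := G) p (e ▸ H.1) (e ▸ H.2.1)
  have := hx.simple_quo
  obtain ⟨g⟩ := sec _ (perfect_of_nab (hx.nab_quo hp.out (e ▸ act_ofD H.2.2) h1 h1))
    (e ▸ (card_quo_dvd _ _).trans (card_subgroup_dvd_card _)) hx.dvd_quo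
  obtain ⟨k⟩ := equiv_of_card_quo (normalIn_Opc p (KK G p))
    ((Nat.card_congr g.toEquiv).trans (eM.trans e.symm))
  exact ⟨k.symm.trans (g.trans f.symm)⟩

section simple

variable [IsSimpleGroup G] (hc : commutator G = ⊤)
include hc

theorem exists_locB (p : ℕ) [Fact p.Prime] {n : ℕ} (b : ℕ) (e : Nat.card G = n)
    (H : 2 < p ∧ p < 6000 ∧ p ∣ n ∧ ¬ p * p ∣ n ∧ n < b * b) : ∃ (x : G) (h : P1 p x), ∃ K S,
      WB p x K S ∧ Vx p x K ∧ (Nat.card h.U, Nat.card (Opc p (C1 x)), K.map key) ∈ locB n b p := by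
  obtain ⟨x, h⟩ := exists_P1 (G := G) p (e ▸ H.2.2.1) (e ▸ H.2.2.2.1)
  obtain ⟨K, S, W, V, hK⟩ := h.localD hc H.1 e H.2.2.2.2 H.2.1
  exact ⟨x, h, K, S, W, V, mem_locB hK⟩

theorem rho_ofB (p : ℕ) [Fact p.Prime] {n : ℕ} (b : ℕ) (e : Nat.card G = n)
    (H : (2 < p ∧ p < 6000 ∧ p ∣ n ∧ ¬ p * p ∣ n ∧ n < b * b) ∧
      ∀ z ∈ locB n b p, z.2.1 = 1 ∧ sqs z.2.2 ≠ n) : Rho G p := by
  obtain ⟨x, h, K, S, W, -, hK⟩ := exists_locB hc p b e H.1
  exact W.rho h (H.2 _ hK).1 (e ▸ (H.2 _ hK).2)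

theorem P1.psl {p : ℕ} [hp : Fact p.Prime] {x : G} (h : P1 p x) (h4 : 4 ≤ p)
    (hk : Nat.card (Opc p (C1 x)) = 1) (he : 2 * Nat.card h.U + 1 = p)
    (e : Nat.card G = p * Nat.card h.U * (p + 1)) : Nonempty (G ≃* PSL(2, ZMod p)) := by
  have n2 := (h.sylow hc).2.2.2
  have n3 := (N (zpowers x)).card_mul_index
  rw [hk, mul_one] at n2
  rw [n2, e] at n3
  have hz : ∀ k ∈ zpowers x, k ≠ 1 → ∃ i : ZMod p, i ≠ 0 ∧ x ^ i.val = k := fun k hk h1 => by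
    obtain ⟨i, rfl⟩ := h.mem_zp.mp hk
    exact ⟨i, fun e => h1 (by simp [e]), rfl⟩
  obtain ⟨-, F, _, _, hF, ⟨f⟩⟩ := psl2_of_cc (P := zpowers x) (fun k hk h1 g hg => by
      obtain ⟨i, hi, rfl⟩ := hz k hk h1
      obtain ⟨l, hl, e⟩ := hz _ hg (by simpa using h1)
      rw [CfsgFT.mem_N, ← h.zp_pw hi, cj_zpowers, ← e, h.zp_pw hl, h.zp_pw hi])
    (fun k hk' h1 g hg => by
      obtain ⟨i, hi, rfl⟩ := hz k hk' h1
      rw [← h.C1_eq hk, ← h.C1_pw hi]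
      exact mem_C1.mpr hg)
    (by rwa [h.card_zp]) (by
      rw [h.card_zp]
      exact Nat.eq_of_mul_eq_mul_left (Nat.mul_pos hp.out.pos Nat.card_pos) n3)
    (by rw [h.card_zp, n2, show p - 1 = 2 * Nat.card h.U by omega]; nlinarith)
    fun M hM e => hM.eq_bot_or_eq_top.resolve_left fun f => by simp [f, h.card_zp] at e; omega
  rw [h.card_zp] at hF
  exact ⟨f.trans (nonempty_psl_congr (n := 2) (hF.trans (ZMod.card p).symm)).some⟩

theorem ge_6000 {p : ℕ} (h : p ∣ Nat.card G) (H : ∀ t ∈ [60, 168, 360, 504, 660, 1092, 2448, 2520,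
    3420, 4080, 5616], ¬ p ∣ t) : 6000 ≤ Nat.card G :=
  not_lt.mp fun f => H _ (card_mem hc f) h

theorem psl_sec (p : ℕ) [hp : Fact p.Prime] {n : ℕ} (b : ℕ) (h1 : Nat.card G ∣ n)
    (h2 : p ∣ Nat.card G) (H : 4 ≤ p ∧ p < 6000 ∧ 0 < n ∧ ¬ p * p ∣ n ∧ n < b * b ∧
      (∀ t ∈ [60, 168, 360, 504, 660, 1092, 2448, 2520, 3420, 4080, 5616], ¬ p ∣ t) ∧
      ∀ t ∈ adv n b, 6000 ≤ t → p ∣ t → ∀ z ∈ locB t b p,
        z.2.1 = 1 ∧ 2 * z.1 + 1 = p ∧ t = p * z.1 * (p + 1)) : Nonempty (G ≃* PSL(2, ZMod p)) := by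
  obtain ⟨a1, a2, a3, a4, a5, a6, a7⟩ := H
  obtain ⟨x, h, K, S, -, -, hK⟩ := exists_locB hc p b rfl ⟨by omega, a2, h2,
    fun f => a4 (f.trans h1), (Nat.le_of_dvd a3 h1).trans_lt a5⟩
  obtain ⟨b1, b2, b3⟩ := a7 _ (mem_adv a5 a3 h1) (ge_6000 hc h2 a6) h2 _ hK
  exact h.psl hc a1 b1 b2 b3

theorem sz_sec {F : Type} [Field F] [Fintype F] {m p : ℕ} (hF : Fintype.card F = 2 ^ (2 * m + 1))
    (h1 : Nat.card G ∣ szo (2 * m + 1)) (h2 : p ∣ Nat.card G) (H : ¬ 3 ∣ szo (2 * m + 1) ∧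
      ∀ k < m, ¬ p ∣ szo (2 * k + 1)) : Nonempty (G ≃* Lie.Sz F (2 ^ (m + 1))) := by
  have h := Thm3.iso G (fun e => not_solvable hc (Group.isSolvable_of_comm e.1.1)) fun f => H.1 (f.trans h1)
  obtain ⟨F', _, _, k, hk, hF', ⟨f⟩⟩ := h
  have := CfsgH2.szField_of_card hk hF'
  have e : Nat.card G = szo (2 * k + 1) := by
    have := (szM_id hk (Nat.card_eq_fintype_card.trans hF')).szF.card_L
    rw [card_top] at this
    exact (Nat.card_congr (f.trans (CfsgH2.szEquivLie F' k).symm).toEquiv).trans this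
  obtain rfl : k = m := by
    rcases lt_trichotomy k m with g | g | g
    · exact absurd (e ▸ h2) (H.2 k g)
    · exact g
    · exact absurd (Nat.le_of_dvd (szo_pos (by omega)) (e ▸ h1)) (not_le.mpr (szo_lt (by omega)))
  exact ⟨f.trans (nonempty_lieSz (hF'.trans hF.symm) _).some⟩

end simple

theorem psl_simple {F : Type} [Field F] [Fintype F] (h : 4 ≤ Fintype.card F) :
    IsSimpleGroup PSL(2, F) ∧ commutator PSL(2, F) = ⊤ := by
  have := Matrix.ProjectiveSpecialLinearGroup.rank_two_simple (F := F) (by simpa using h)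
  classical
  obtain ⟨a, -, ha⟩ := exists_mem_notMem_of_card_lt_card (s := ({0, 1, -1} : Finset F)) (t := univ)
    (card_le_three.trans_lt h)
  exact ⟨this, SL2Simple.PSL_commutator_eq_top ⟨a, by simpa [not_or] using ha⟩⟩

theorem rec_psl (p : ℕ) [hp : Fact p.Prime] {n : ℕ} (b : ℕ) (hn : 2 * n = p * (p ^ 2 - 1))
    (H1 : p ∣ n ∧ ¬ p * p ∣ n ∧ actD n b p = true)
    (H2 : (2 < p ∧ p < 6000 ∧ p ∣ n ∧ ¬ p * p ∣ n ∧ n < b * b) ∧
      ∀ z ∈ locB n b p, z.2.1 = 1 ∧ sqs z.2.2 ≠ n)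
    (H3 : 4 ≤ p ∧ p < 6000 ∧ 0 < n ∧ ¬ p * p ∣ n ∧ n < b * b ∧
      (∀ t ∈ [60, 168, 360, 504, 660, 1092, 2448, 2520, 3420, 4080, 5616], ¬ p ∣ t) ∧
      ∀ t ∈ adv n b, 6000 ≤ t → p ∣ t → ∀ z ∈ locB t b p,
        z.2.1 = 1 ∧ 2 * z.1 + 1 = p ∧ t = p * z.1 * (p + 1))
    {F : Type} [Field F] [Fintype F] (hF : Fintype.card F = p) {S : Type v} [Group S] [Finite S]
    (f : S ≃* PSL(2, F)) (e : Nat.card G = Nat.card S) (h : degreePrimes G = degreePrimes S) :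
    Nonempty (G ≃* S) := by
  obtain ⟨_, hc⟩ := psl_simple (F := F) (by omega)
  have eM : Nat.card PSL(2, F) = n := by
    have := two_mul_card_psl2_odd F (hF ▸ hp.out.odd_of_ne_two (by omega))
    rw [hF] at this
    omega
  exact rec_gen p b eM H1 (rho_ofB hc p b eM H2) (fun T _ _ _ a1 a2 a3 =>
    ⟨(psl_sec a1 p b a2 a3 H3).some.trans
      (nonempty_psl_congr (n := 2) ((ZMod.card p).trans hF.symm)).some⟩) f e h

theorem rec_sz (p : ℕ) [hp : Fact p.Prime] {m : ℕ} (b : ℕ) (hm : 1 ≤ m)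
    (H1 : p ∣ szo (2 * m + 1) ∧ ¬ p * p ∣ szo (2 * m + 1) ∧ actD (szo (2 * m + 1)) b p = true)
    (H2 : (2 < p ∧ p < 6000 ∧ p ∣ szo (2 * m + 1) ∧ ¬ p * p ∣ szo (2 * m + 1) ∧
      szo (2 * m + 1) < b * b) ∧
      ∀ z ∈ locB (szo (2 * m + 1)) b p, z.2.1 = 1 ∧ sqs z.2.2 ≠ szo (2 * m + 1))
    (H3 : ¬ 3 ∣ szo (2 * m + 1) ∧ ∀ k < m, ¬ p ∣ szo (2 * k + 1))
    {F : Type} [Field F] [Fintype F] (hF : Fintype.card F = 2 ^ (2 * m + 1)) {S : Type v} [Group S]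
    [Finite S] (f : S ≃* Lie.Sz F (2 ^ (m + 1))) (e : Nat.card G = Nat.card S)
    (h : degreePrimes G = degreePrimes S) : Nonempty (G ≃* S) := by
  obtain ⟨Q, k, s⟩ := (isSz_top (G := Lie.Sz F (2 ^ (m + 1))) ⟨F, _, _, m, hm, hF, ⟨.refl _⟩⟩).exists_szF
  have := CfsgH2.szField_of_card hm hF
  have eM : Nat.card (Lie.Sz F (2 ^ (m + 1))) = szo (2 * m + 1) := by
    have := (szM_id hm (Nat.card_eq_fintype_card.trans hF)).szF.card_L
    rw [card_top] at this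
    exact (Nat.card_congr (CfsgH2.szEquivLie F m).symm.toEquiv).trans this
  have : IsSimpleGroup (Lie.Sz F (2 ^ (m + 1))) :=
    have := CfsgH2.sz_isSimpleGroup (F := F) (m := m)
    (CfsgH2.szEquivLie F m).symm.isSimpleGroup
  exact rec_gen p b eM H1 (rho_ofB (D_top.symm.trans s.perfect) p b eM H2)
    (fun T _ _ _ a1 a2 a3 => sz_sec a1 hF a2 a3 H3) f e h

end CfsgB0
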