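import Cfsg.Agent.H4.C1

/-! `L2(23)`, `L2(47)`, `Sz(8)`, `Sz(32)` by order and degree primes. -/

set_option autoImplicit false
set_option synthInstance.maxSize 2000

namespace CfsgB0

open Cfsg
open scoped MatrixGroups

universe u v

variable {G : Type u} [Group G] [Finite G] {F : Type} [Field F] [Fintype F] {S : Type v} [Group S]
  [Finite S]

theorem rec_l23 (hF : Fintype.card F = 23) (f : S ≃* PSL(2, F)) (e : Nat.card G = Nat.card S)
    (h : degreePrimes G = degreePrimes S) : Nonempty (G ≃* S) :=
  have : Fact (Nat.Prime 23) := ⟨by norm_num⟩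
  rec_psl 23 (n := 6072) 78 (by norm_num) (by decide +kernel) (by decide +kernel)
    (by decide +kernel) hF f e h

theorem rec_l47 (hF : Fintype.card F = 47) (f : S ≃* PSL(2, F)) (e : Nat.card G = Nat.card S)
    (h : degreePrimes G = degreePrimes S) : Nonempty (G ≃* S) :=
  have : Fact (Nat.Prime 47) := ⟨by norm_num⟩
  rec_psl 47 (n := 51888) 228 (by norm_num) (by decide +kernel) (by decide +kernel)
    (by decide +kernel) hF f e h

theorem rec_sz8 (hF : Fintype.card F = 2 ^ (2 * 1 + 1)) (f : S ≃* Lie.Sz F (2 ^ (1 + 1)))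
    (e : Nat.card G = Nat.card S) (h : degreePrimes G = degreePrimes S) : Nonempty (G ≃* S) :=
  have : Fact (Nat.Prime 13) := ⟨by norm_num⟩
  rec_sz 13 171 le_rfl (by decide +kernel) (by decide +kernel) (by decide +kernel) hF f e h

theorem rec_sz32 (hF : Fintype.card F = 2 ^ (2 * 2 + 1)) (f : S ≃* Lie.Sz F (2 ^ (2 + 1)))
    (e : Nat.card G = Nat.card S) (h : degreePrimes G = degreePrimes S) : Nonempty (G ≃* S) :=
  have : Fact (Nat.Prime 41) := ⟨by norm_num⟩
  rec_sz 41 5705 (by norm_num) (by decide +kernel) (by decide +kernel) (by decide +kernel) hF f e h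

end CfsgB0
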