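import Cfsg.Agent.H4.C1
import Cfsg.Agent.H8.M12OrdB

/-! Simple groups of orders `|L2(25)|` and `|L2(81)|`. -/

set_option autoImplicit false
set_option linter.unusedSectionVars false
set_option synthInstance.maxSize 2000

namespace CfsgB0

open Finset Cfsg CfsgL CfsgH5 CfsgH6 CfsgFT CfsgSZ CfsgH8 Subgroup
open scoped MatrixGroups

universe u v

variable {G : Type u} [Group G] [Finite G] {r : ℕ} [hr : Fact r.Prime]

/-- Sylow subgroups are TI if the normalisers of the smaller `r`-subgroups are `r`-closed -/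
theorem syl_uniq (H : ∀ D : Subgroup G, IsPGroup r D → D ≠ ⊥ → ¬ SylIn r D ⊤ →
    ∃ R : Subgroup G, IsPGroup r R ∧ ∀ X ≤ N D, IsPGroup r X → X ≤ R) (D : Subgroup G) :
    D ≠ ⊥ → ∀ P Q, SylIn r P ⊤ → SylIn r Q ⊤ → D ≤ P → D ≤ Q → P = Q := by
  induction D using WellFoundedGT.induction with
  | ind D ih =>
  intro h0 P Q hP hQ h1 h2
  by_cases e : SylIn r D ⊤
  · rw [e.eq_of_le le_top hP.isPGroup h1, e.eq_of_le le_top hQ.isPGroup h2]
  obtain ⟨R, r1, r2⟩ := H D (hP.isPGroup.to_le h1) h0 e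
  obtain ⟨T, t1, t2⟩ := exists_sylIn_ge le_top r1
  have k : ∀ P, SylIn r P ⊤ → D ≤ P → P = T := fun P hP h1 =>
    have := lt_inf_normalizer hP.isPGroup (h1.lt_of_ne fun f => e (f ▸ hP))
    ih _ this (ne_bot_of_gt this) P T hP t2 inf_le_left
      ((r2 _ inf_le_right hP.isPGroup.to_inf_left).trans t1)
  rw [k P hP h1, k Q hQ h2]

theorem index_modEq_of_ti {P : Subgroup G} (hP : SylIn r P ⊤)
    (h : ∀ k ∈ P, k ≠ 1 → ∀ g : G, g * k * g⁻¹ ∈ P → g ∈ N P) : Nat.card P ∣ (N P).index - 1 := by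
  let b : G ⧸ N P := ((1 : G) : G ⧸ N P)
  have hb : ∀ k : P, (k : G) • b = b := fun k => by
    change (((k : G) * 1 : G) : G ⧸ N P) = ((1 : G) : G ⧸ N P)
    rw [eq_comm, QuotientGroup.eq]
    simpa using le_normalizer k.2
  letI : MulAction P ({b}ᶜ : Set (G ⧸ N P)) :=
    { smul := fun e a => ⟨(e : G) • (a : G ⧸ N P), fun f => a.2 ((smul_left_cancel_iff _).mp
        (Eq.trans f (hb e).symm))⟩
      one_smul := fun a => Subtype.ext (one_smul G (a : G ⧸ N P))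
      mul_smul := fun e f a => Subtype.ext (mul_smul (e : G) (f : G) (a : G ⧸ N P)) }
  have := Nat.card_congr (MulAction.selfEquivOrbitsQuotientProd (G := P)
    (X := ({b}ᶜ : Set (G ⧸ N P))) fun ⟨a, ha⟩ => by
    refine eq_bot_iff.mpr fun e he => mem_bot.mpr (by_contra fun f => ha ?_)
    obtain ⟨a, rfl⟩ := QuotientGroup.mk_surjective a
    have e1 : (((e : G) * a : G) : G ⧸ N P) = a := congrArg Subtype.val he
    rw [eq_comm, QuotientGroup.eq, ← mul_assoc] at e1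
    have e2 := hP.eq_of_le le_top (Nrm.isPGroup_sup (nrm_iff.mpr (zpowers_le.mpr e1))
      ((isPGroup_cj hP.isPGroup a⁻¹).to_le (zpowers_le.mpr (by simp [mem_cj, mul_assoc])))
      hP.isPGroup) le_sup_right
    exact QuotientGroup.eq.mpr (by
      simpa using h e e.2 (fun g => f (Subtype.ext g)) a⁻¹ (by
        simpa using e2.le (mem_sup_left (mem_zpowers _)))))
  rw [Nat.card_prod, Nat.card_coe_set_eq, Set.ncard_compl, Set.ncard_singleton] at this
  exact this ▸ dvd_mul_left _ _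

variable (hA : ∀ (g : G) (s : ℕ), s.Prime → r ∣ orderOf g → s ∣ orderOf g → s = r)
include hA

theorem cent_pg {D : Subgroup G} (hD : IsPGroup r D) {y : G} (hy : y ∈ D) (y1 : y ≠ 1) :
    IsPGroup r (C1 y) := isPGroup_of_coprime_eq_one hr.out fun x hx c => by
  obtain ⟨k, hk⟩ := (IsPGroup.iff_orderOf.mp hD) ⟨y, hy⟩
  rw [← Subgroup.orderOf_coe] at hk
  have e := (show Commute x y from mem_C1.mp hx).orderOf_mul_eq_mul_orderOf_of_coprime
    (hk ▸ c.pow_right k)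
  by_contra f
  obtain ⟨s, hs, hd⟩ := Nat.exists_prime_and_dvd (mt orderOf_eq_one_iff.mp f)
  have := hA (x * y) s hs (by
    rw [e, hk]
    exact (dvd_pow_self r fun g => y1 (by simpa [g] using hk)).mul_left _) (e ▸ hd.mul_right _)
  exact hs.ne_one (Nat.Coprime.eq_one_of_dvd (c.coprime_dvd_left hd) this.dvd)

theorem closed_N (h2 : r ≠ 2) {D : Subgroup G} (hD : IsPGroup r D) (h0 : D ≠ ⊥)
    (hs : ∀ s, s.Prime → s ∣ Nat.card G → s ∣ Nat.card D - 1 → s = 2) :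
    ∃ R : Subgroup G, IsPGroup r R ∧ ∀ X ≤ N D, IsPGroup r X → X ≤ R := by
  have fp : ∀ {e : G}, (orderOf e).Coprime r → e ≠ 1 → ∀ d ∈ D, e * d = d * e → d = 1 :=
    fun c e1 d hd f => by_contra fun d1 =>
      e1 (eq_one_of_coprime_of_mem (cent_pg hA hD hd d1) (mem_C1.mpr f) c)
  obtain ⟨y, hy, y1⟩ := exists_ne_one_of_lt (one_lt_card.2 h0)
  have c2 : Nat.Coprime 2 r := (Nat.coprime_primes Nat.prime_two hr.out).mpr h2.symm
  by_cases e : ∃ t ∈ N D, orderOf t = 2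
  · obtain ⟨t, ht, o⟩ := e
    have t2 : t * t = 1 := by rw [← sq, ← o, pow_orderOf_eq_one]
    have i := inverts_of_fpf t2 (fun d hd => (nrm_N D) t ht d hd)
      (fp (o ▸ c2) fun f => by simp [f] at o)
    refine ⟨C D, (cent_pg hA hD hy y1).to_le fun g hg => mem_C1.mpr (hg y hy).symm,
      fun X h1 h3 g hg => ?_⟩
    set ι := D.normalizerMonoidHom ⟨t, ht⟩
    set γ := D.normalizerMonoidHom ⟨g, h1 hg⟩
    have a1 : ∀ d, ι d = d⁻¹ := fun d => Subtype.ext (i d d.2)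
    have a2 : Commute ι γ := MulEquiv.ext fun d => by simp [a1]
    have a3 : ι ^ 2 = 1 := MulEquiv.ext fun d => by simp [a1, sq]
    obtain ⟨k, hk⟩ := h3 ⟨g, hg⟩
    have a4 : γ ^ r ^ k = 1 := by
      rw [← map_pow, ← map_one D.normalizerMonoidHom]
      exact congrArg _ (Subtype.ext (congrArg Subtype.val hk :))
    have a5 : ι ^ orderOf (t * g) * γ ^ orderOf (t * g) = 1 := by
      rw [← a2.mul_pow, ← map_mul, ← map_pow, ← map_one D.normalizerMonoidHom]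
      exact congrArg _ (Subtype.ext (pow_orderOf_eq_one (t * g)))
    have a6 : γ = 1 := by
      by_cases f : r ∣ orderOf (t * g)
      · have b1 : ι ^ (orderOf (t * g) * r ^ k) = 1 := by
          rw [pow_mul, eq_inv_of_mul_eq_one_left a5, inv_pow, pow_right_comm, a4, one_pow, inv_one]
        have b2 := pow_gcd_eq_one.mpr ⟨a3, b1⟩
        rw [show Nat.gcd 2 _ = 1 from Nat.Coprime.mul_right ((Nat.prime_two.coprime_iff_not_dvd).mpr
          fun c => h2 (hA _ 2 Nat.prime_two f c).symm) (c2.pow_right k), pow_one] at b2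
        have b3 : y * y = 1 := by
          simpa [b2, eq_inv_iff_mul_eq_one, Subtype.ext_iff] using a1 ⟨y, hy⟩
        exact absurd (eq_one_of_coprime_of_mem hD hy
          (c2.coprime_dvd_left (orderOf_dvd_of_pow_eq_one (sq y ▸ b3)))) y1
      · have b1 : γ ^ (orderOf (t * g) * 2) = 1 := by
          rw [pow_mul, eq_inv_of_mul_eq_one_right a5, inv_pow, pow_right_comm, a3, one_pow, inv_one]
        have b2 := pow_gcd_eq_one.mpr ⟨b1, a4⟩
        rwa [show Nat.gcd _ _ = 1 from (Nat.Coprime.mul_left ((hr.out.coprime_iff_not_dvd).mpr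
          f).symm c2).pow_right k, pow_one] at b2
    intro d hd
    have : g * d * g⁻¹ = d := (congrArg Subtype.val (DFunLike.congr_fun a6 ⟨d, hd⟩) :)
    rw [← this, inv_mul_cancel_right, this]
  refine ⟨N D, isPGroup_of_coprime_eq_one hr.out fun x hx c => by_contra fun x1 => e ?_,
    fun X h _ => h⟩
  obtain ⟨s, a1, a2⟩ := Nat.exists_prime_and_dvd (mt orderOf_eq_one_iff.mp x1)
  obtain ⟨k, hk⟩ := exists_pow_ord a2
  have a3 := Mat.card_modEq_C1 a1 (hk ▸ pow_orderOf_eq_one _) (pow_mem hx k)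
  rw [show D ⊓ C1 (x ^ k) = ⊥ from eq_bot_iff.mpr fun d hd => fp (coprime_pow c k) (fun f => a1.ne_one (by simp [← hk, f])) d hd.1
    (mem_C1.mp hd.2).symm, card_bot] at a3
  exact ⟨_, pow_mem hx k, hk.trans (hs s a1 (a2.trans (orderOf_dvd_natCard x))
    ((Nat.modEq_iff_dvd' Nat.card_pos).mp a3.symm))⟩

theorem psl_of_cent (h2 : r ≠ 2) [IsSimpleGroup G] (hc : commutator G = ⊤) {a m : ℕ}
    (e : Nat.card G = r ^ a * m) (hm : ¬ r ∣ m) (h4 : 4 ≤ r ^ a)
    (hs : ∀ j < a, j ≠ 0 → ∀ s, s.Prime → s ∣ Nat.card G → s ∣ r ^ j - 1 → s = 2)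
    (hi : ∀ d, d ∣ m → r ^ a ∣ d - 1 → d = 1 ∨ d = r ^ a + 1)
    (hN : (r ^ a - 1) * (r ^ a + 1) ≤ 2 * m) :
    ∃ (F : Type) (_ : Field F) (_ : Fintype F), Fintype.card F = r ^ a ∧ Nonempty (G ≃* PSL(2, F)) := by
  have c : ∀ {D : Subgroup G} {j}, Nat.card D = r ^ j → j ≤ a ∧ (SylIn r D ⊤ ↔ j = a) := fun {D j} f => by
    have c1 := D.card_mul_index
    have c2 : j ≤ a := (Nat.pow_dvd_pow_iff_le_right hr.out.one_lt).mp
      ((((hr.out.coprime_iff_not_dvd).mpr hm).pow_left j).dvd_of_dvd_mul_right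
        (e ▸ f ▸ card_subgroup_dvd_card D))
    obtain ⟨i, rfl⟩ := Nat.exists_eq_add_of_le c2
    rw [f, e, pow_add, mul_assoc, Nat.mul_right_inj (pow_pos hr.out.pos j).ne'] at c1
    refine ⟨c2, fun g => by_contra fun g' => g.not_dvd_relIndex ?_, fun g =>
      sylIn_of_not_dvd le_top (.of_card f) ?_⟩
    · rw [relIndex_top_right, c1]
      exact (dvd_pow_self r (by omega)).mul_right _
    · rwa [relIndex_top_right, c1, show i = 0 by omega, pow_zero, one_mul]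
  have u := syl_uniq (G := G) fun D h1 h0 h3 => closed_N hA h2 h1 h0 (by
    obtain ⟨j, hj⟩ := h1.exists_card_eq
    exact hj ▸ hs j ((c hj).1.lt_of_ne (mt (c hj).2.mpr h3)) fun f =>
      h0 (by rwa [f, pow_zero, Subgroup.card_eq_one] at hj))
  obtain ⟨P, hP⟩ := exists_sylIn r (⊤ : Subgroup G)
  obtain ⟨j, hj⟩ := hP.isPGroup.exists_card_eq
  obtain rfl := (c hj).2.mp hP
  have ti : ∀ k ∈ P, k ≠ 1 → ∀ g : G, g * k * g⁻¹ ∈ P → g ∈ N P := fun k hk k1 g hg =>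
    mem_normalizer_iff_cj.mpr (u (zpowers (g * k * g⁻¹)) (mt zpowers_eq_bot.mp (by simpa using k1))
      _ _ (hP.cj_mem (mem_top g)) hP (zpowers_le.mpr (conj_mem_cj.mpr hk)) (zpowers_le.mpr hg))
  have n1 := relIndex_mul_index (le_normalizer : P ≤ N P)
  have n2 := P.card_mul_index
  have n3 := card_mul_relIndex (le_normalizer : P ≤ N P)
  rw [hj, e, Nat.mul_right_inj (by omega)] at n2
  have n4 := (hi _ (n2 ▸ Dvd.intro_left _ n1) (hj ▸ index_modEq_of_ti hP ti)).resolve_left fun f => by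
    rcases (normalizer_eq_top_iff.mp (index_eq_one.mp f)).eq_bot_or_eq_top with g | g
    · rw [g, card_bot] at hj; omega
    · have := (hP.isPGroup.of_equiv ((MulEquiv.subgroupCongr g).trans topEquiv)).isNilpotent
      exact not_solvable hc inferInstance
  refine hj ▸ (psl2_of_cc (P := P) ti (fun k hk k1 x hx => ?_) (by omega) (hj ▸ n4) ?_ fun M hM f =>
    hM.eq_bot_or_eq_top.resolve_left fun g => by simp [g] at f; omega).2
  · obtain ⟨T, t1, t2⟩ := exists_sylIn_ge le_top (cent_pg hA hP.isPGroup hk k1)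
    exact u (zpowers k) (mt zpowers_eq_bot.mp k1) T P t2 hP (zpowers_le.mpr (t1 (self_mem_C1 k)))
      (zpowers_le.mpr hk) ▸ t1 (mem_C1.mpr hx)
  · change _ ≤ 2 * Nat.card (N P)
    rw [← n3, hj, mul_left_comm]
    rw [n4, n2] at n1
    exact Nat.mul_le_mul_left _ (Nat.le_of_mul_le_mul_right (by rw [mul_assoc, n1]; exact hN)
      (Nat.succ_pos _))

omit hA

theorem psl_sq [IsSimpleGroup G] (hc : commutator G = ⊤) (p : ℕ) [hp : Fact p.Prime] {a d m n : ℕ}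
    (b : ℕ) (h1 : Nat.card G ∣ n) (h2 : p ∣ Nat.card G) (H : (2 < p ∧ p < 6000 ∧ 0 < n ∧
      ¬ p * p ∣ n ∧ n < b * b ∧ n = r ^ a * (d * p) ∧ r ≠ p ∧ r ≠ 2 ∧ 4 ≤ r ^ a ∧ r ^ a = d + 1 ∧
      (r ^ a - 1) * (r ^ a + 1) ≤ 2 * (d * p) ∧ Nat.Coprime d (r ^ a * p) ∧ ¬ r ∣ d * p) ∧
      (∀ t ∈ [60, 168, 360, 504, 660, 1092, 2448, 2520, 3420, 4080, 5616], t ∣ n → ¬ p ∣ t) ∧
      (∀ t ∈ adv n b, 6000 ≤ t → p ∣ t → ∀ z ∈ locB t b p,
        t = n ∧ z.2 = (1, [(1, m, d), (-1, 1, d + 1)])) ∧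
      (∀ s ∈ adv n b, ∀ j < a, j ≠ 0 → s ∣ r ^ j - 1 → s ∣ 2 ^ 5) ∧
      ∀ s ∈ adv n b, s ∣ d * p → r ^ a ∣ s - 1 → s = 1 ∨ s = r ^ a + 1) :
    ∃ (F : Type) (_ : Field F) (_ : Fintype F), Fintype.card F = r ^ a ∧ Nonempty (G ≃* PSL(2, F)) := by
  obtain ⟨⟨a1, a2, a3, a4, a5, a6, a7, a8, a9, a10, a11, a12, a13⟩, b1, b2, b3, b4⟩ := H
  obtain ⟨x, h, K, S, W, -, hK⟩ := exists_locB hc p b rfl ⟨a1, a2, h2,
    fun f => a4 (f.trans h1), (Nat.le_of_dvd a3 h1).trans_lt a5⟩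
  obtain ⟨e, c⟩ := b2 _ (mem_adv a5 a3 h1) (not_lt.mp fun f => b1 _ (card_mem hc f) h1 h2) h2 _ hK
  obtain ⟨c1, c2⟩ := Prod.mk.inj c
  obtain ⟨⟨χ, _, _⟩, ⟨θ, _, _⟩, rfl, k1, k2⟩ : ∃ u v, K = [u, v] ∧ key u = (1, m, d) ∧
      key v = (-1, 1, d + 1) := by
    rcases K with _ | ⟨u, _ | ⟨v, _ | ⟨w, K⟩⟩⟩ <;> simp at c2
    exact ⟨u, v, rfl, by simp [key, c2]⟩
  simp only [Prod.mk.injEq] at k1 k2
  obtain ⟨⟨rfl, rfl, d1⟩, rfl, rfl, d2⟩ := And.intro k1 k2
  refine psl_of_cent (fun g s hs f1 f2 => by_contra fun f3 => ?_) a8 hc (e.trans a6) a13 a9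
    (fun j j1 j2 s hs f1 f2 => (Nat.prime_dvd_prime_iff_eq hs Nat.prime_two).mp
      (hs.dvd_of_dvd_pow (b3 s (mem_adv a5 a3 (e ▸ f1)) j j1 j2 f2)))
    (fun s f1 => b4 s (mem_adv a5 a3 (a6 ▸ f1.mul_left _)) f1) a11
  have q : ¬ p ∣ orderOf g := fun f => a7 ((Nat.prime_dvd_prime_iff_eq hr.out hp.out).mp
    (h.order_dvd c1 f ▸ f1))
  have f4 : s ∣ d := by
    have := f2.trans (orderOf_dvd_natCard g)
    rw [e, a6, hs.dvd_mul, hs.dvd_mul] at this
    exact (this.resolve_left fun f => f3 ((Nat.prime_dvd_prime_iff_eq hs hr.out).mp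
      (hs.dvd_of_dvd_pow f))).resolve_right fun f =>
        q ((Nat.prime_dvd_prime_iff_eq hs hp.out).mp f ▸ f2)
  have v1 := CfsgH2.defect_zero_vanish χ.2 (m := r ^ a * p) hs (dg_cast χ) (by rw [e, a6, d1]; ring)
    (fun f => hs.ne_one (Nat.eq_one_of_dvd_coprimes a12 f4 f)) f2
  have v2 := CfsgH2.defect_zero_vanish θ.2 hr.out (dg_cast θ) (by rw [e, a6, d2, a10]) a13 f1
  simpa [v1, v2] using W.rel h q

variable {F : Type} [Field F] [Fintype F] {S : Type v} [Group S] [Finite S]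

theorem rec_l25 (hF : Fintype.card F = 25) (f : S ≃* PSL(2, F)) (e : Nat.card G = Nat.card S)
    (h : degreePrimes G = degreePrimes S) : Nonempty (G ≃* S) := by
  have : Fact (Nat.Prime 13) := ⟨by norm_num⟩
  obtain ⟨_, hc⟩ := psl_simple (F := F) (by omega)
  have eM : Nat.card PSL(2, F) = 7800 := by
    have := two_mul_card_psl2_odd F (by rw [hF]; decide)
    rw [hF] at this
    omega
  refine rec_gen 13 89 eM (by decide +kernel) (rho_ofB hc 13 89 eM (by decide +kernel))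
    (fun T _ _ _ a1 a2 a3 => ?_) f e h
  obtain ⟨_, _, _, b1, ⟨g⟩⟩ := psl_sq (r := 5) (a := 2) (d := 24) (m := 6) a1 13 89 a2 a3
    (by decide +kernel)
  exact ⟨g.trans (nonempty_psl_congr (n := 2) (b1.trans hF.symm)).some⟩

theorem rec_l81 (hF : Fintype.card F = 81) (f : S ≃* PSL(2, F)) (e : Nat.card G = Nat.card S)
    (h : degreePrimes G = degreePrimes S) : Nonempty (G ≃* S) := by
  have : Fact (Nat.Prime 41) := ⟨by norm_num⟩
  obtain ⟨_, hc⟩ := psl_simple (F := F) (by omega)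
  have eM : Nat.card PSL(2, F) = 265680 := by
    have := two_mul_card_psl2_odd F (by rw [hF]; decide)
    rw [hF] at this
    omega
  refine rec_gen 41 516 eM (by decide +kernel) (rho_ofB hc 41 516 eM (by decide +kernel))
    (fun T _ _ _ a1 a2 a3 => ?_) f e h
  obtain ⟨_, _, _, b1, ⟨g⟩⟩ := psl_sq (r := 3) (a := 4) (d := 80) (m := 20) a1 41 516 a2 a3
    (by decide +kernel)
  exact ⟨g.trans (nonempty_psl_congr (n := 2) (b1.trans hF.symm)).some⟩

end CfsgB0
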