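import Cfsg.Agent.H4.WittA
import Cfsg.Agent.H9.Pres4
import Cfsg.Prelude.Def_Spor_Conway

set_option autoImplicit false
set_option linter.unusedSectionVars false
set_option maxRecDepth 100000

/-! The Leech lattice: congruence description, generators, and the matrices of `Co₀`. -/

namespace CfsgLch

open Cfsg CfsgH9 CfsgH9.Golay CfsgWitt Finset

abbrev Vc : Type := GolayPt → ℤ

/-- a coordinate of a word as an integer -/
def bit (c : Wd) (i : GolayPt) : ℤ := (c i).val

variable {c d : Wd} {x y : Vc}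

theorem bit_cases (c : Wd) (i : GolayPt) : c i = 0 ∧ bit c i = 0 ∨ c i = 1 ∧ bit c i = 1 :=
  (by decide : ∀ a : ZMod 2, a = 0 ∧ (a.val : ℤ) = 0 ∨ a = 1 ∧ (a.val : ℤ) = 1) _

theorem bit_add (c d : Wd) (i : GolayPt) : (bit (c + d) i - bit c i - bit d i) % 2 = 0 :=
  (by decide : ∀ a b : ZMod 2, (((a + b).val : ℤ) - a.val - b.val) % 2 = 0) _ _

theorem bit_compl (c : Wd) (i : GolayPt) : bit (1 + c) i = 1 - bit c i :=
  (by decide : ∀ a : ZMod 2, (((1 + a).val : ℤ) = 1 - a.val)) _

theorem one_mem_code : (1 : Wd) ∈ golayCode := Submodule.subset_span (Or.inr rfl)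

/-- the congruence conditions -/
def InL (x : Vc) : Prop := ∃ m : ℤ, ∃ c ∈ golayCode,
  (∀ i, (x i - m - 2 * bit c i) % 4 = 0) ∧ (∑ i, x i - 4 * m) % 8 = 0

theorem mem_iff : x ∈ leechLattice ↔ InL x := by
  constructor
  · intro h
    induction h using AddSubgroup.closure_induction with
    | mem x hx =>
      obtain ⟨m, h1, h2, h3⟩ := hx
      obtain ⟨c, hc, h4⟩ := h3 (m + 2)
      refine ⟨m, c, hc, fun i => ?_, by unfold Int.ModEq at h2; omega⟩
      have h5 := Finset.ext_iff.1 h4 i
      have h6 : x i % 2 = m % 2 := h1 i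
      rw [mem_support, mem_filter] at h5
      simp only [mem_univ, true_and, Int.ModEq] at h5
      rcases bit_cases c i with ⟨h7, h8⟩ | ⟨h7, h8⟩
      · have h9 : ¬ x i % 4 = (m + 2) % 4 := fun h => h5.2 h h7
        omega
      · have h9 : x i % 4 = (m + 2) % 4 := h5.1 (by rw [h7]; decide)
        omega
    | zero => exact ⟨0, 0, zero_mem _, by simp [bit], by simp⟩
    | add x y _ _ hx hy =>
      obtain ⟨m, c, hc, h1, h2⟩ := hx
      obtain ⟨m', d, hd, h3, h4⟩ := hy
      refine ⟨m + m', c + d, add_mem hc hd, fun i => ?_, ?_⟩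
      · have := bit_add c d i
        have := h1 i
        have := h3 i
        rw [Pi.add_apply]; omega
      · simp only [Pi.add_apply, sum_add_distrib]; omega
    | neg x _ hx =>
      obtain ⟨m, c, hc, h1, h2⟩ := hx
      refine ⟨-m, c, hc, fun i => ?_, ?_⟩
      · have := h1 i
        rw [Pi.neg_apply]; omega
      · simp only [Pi.neg_apply, sum_neg_distrib]; omega
  · rintro ⟨m, c, hc, h1, h2⟩
    refine AddSubgroup.subset_closure ⟨m, fun i => ?_, by unfold Int.ModEq; omega, fun k => ?_⟩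
    · have := h1 i
      unfold Int.ModEq; omega
    have key : ∀ d ∈ golayCode, (∀ i, bit d i = 1 ↔ x i % 4 = k % 4) →
        (univ.filter fun i => x i ≡ k [ZMOD 4]) ∈ supports (golayCode : Set Wd) := fun d hd h =>
      ⟨d, hd, Finset.ext fun i => by
        simp only [mem_support, mem_filter, mem_univ, true_and, Int.ModEq, ← h]
        rcases bit_cases d i with ⟨h7, h8⟩ | ⟨h7, h8⟩ <;> simp [h7, h8]⟩
    have h3 : (k - m) % 4 = 0 ∨ (k - m) % 4 = 2 ∨ (k - m) % 2 = 1 := by omega
    rcases h3 with h3 | h3 | h3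
    · refine key (1 + c) (add_mem one_mem_code hc) fun i => ?_
      have := h1 i
      have := bit_cases c i
      rw [bit_compl]; omega
    · refine key c hc fun i => ?_
      have := h1 i
      have := bit_cases c i
      omega
    · refine key 0 (zero_mem _) fun i => ?_
      have := h1 i
      have : bit 0 i = 0 := rfl
      omega

theorem cases_of_mem (h : x ∈ leechLattice) : ∃ c ∈ golayCode,
    (∀ i, (x i - 2 * bit c i) % 4 = 0) ∧ (∑ i, x i) % 8 = 0 ∨
      (∀ i, (x i - 1 - 2 * bit c i) % 4 = 0) ∧ (∑ i, x i) % 8 = 4 := by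
  obtain ⟨m, c, hc, h1, h2⟩ := mem_iff.1 h
  have h3 : m % 4 = 0 ∨ m % 4 = 1 ∨ m % 4 = 2 ∨ m % 4 = 3 := by omega
  rcases h3 with h3 | h3 | h3 | h3
  · exact ⟨c, hc, Or.inl ⟨fun i => by have := h1 i; omega, by omega⟩⟩
  · exact ⟨c, hc, Or.inr ⟨fun i => by have := h1 i; omega, by omega⟩⟩
  · exact ⟨1 + c, add_mem one_mem_code hc,
      Or.inl ⟨fun i => by have := h1 i; rw [bit_compl]; omega, by omega⟩⟩
  · exact ⟨1 + c, add_mem one_mem_code hc,
      Or.inr ⟨fun i => by have := h1 i; rw [bit_compl]; omega, by omega⟩⟩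

theorem comb_congr (B : ℕ → ℕ) {h h' : ℕ} (k : ℕ) (e : ∀ i, i < k → h.testBit i = h'.testBit i) :
    comb B h k = comb B h' k := by
  induction k with
  | zero => rfl
  | succ k ih => rw [comb, comb, ih fun i hi => e i (by omega), e k (by omega)]

theorem exists_mask (hc : c ∈ golayCode) : ∃ h, h < 4096 ∧ c = ofMask (comb Bm h 12) := by
  have key : ∀ k, ∀ c ∈ Ck k, ∃ h, h < 2 ^ k ∧ c = ofMask (comb Bm h k) := by
    intro k
    induction k with
    | zero => exact fun c hc => ⟨0, one_pos, by simpa [Ck, comb, ofMask_zero] using hc⟩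
    | succ k ih =>
      intro c hc
      rcases (mem_Ck_succ k c).1 hc with h | h
      · obtain ⟨n, h1, h2⟩ := ih c h
        exact ⟨n, by omega, by rw [comb, Nat.testBit_lt_two_pow h1]; exact h2⟩
      · obtain ⟨n, h1, h2⟩ := ih _ h
        refine ⟨2 ^ k + n, by omega, ?_⟩
        rw [comb, Nat.testBit_two_pow_add_eq, Nat.testBit_lt_two_pow h1, if_pos (by simp),
          ofMask_xor, comb_congr Bm k fun i hi => Nat.testBit_two_pow_add_gt hi n, ← h2, add_assoc,
          add_self_word, add_zero]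
  exact key 12 c (Ck_twelve.ge hc)

/-- sums of integers -/
noncomputable def sumZ (n : ℕ) (F : ℕ → ℤ) : ℤ :=
  Nat.rec (motive := fun _ => ℤ) 0 (fun i ih => Int.add ih (F i)) n

theorem sumZ_eq (n : ℕ) (F : ℕ → ℤ) : sumZ n F = ∑ i : Fin n, F i := by
  induction n with
  | zero => rfl
  | succ n ih => rw [Fin.sum_univ_castSucc, ← show sumZ n F = ∑ i : Fin n, F i.castSucc from ih]; rfl

theorem sum_pt {M : Type*} [AddCommMonoid M] (f : GolayPt → M) : ∑ p, f p = ∑ i, f (pt i) :=
  (ptE.symm.sum_comp f).symm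

theorem ix_pt (i : Fin 24) : ix (pt i) = i := ptE.right_inv i

theorem pt_ix (p : GolayPt) : pt (ix p) = p := ptE.left_inv p

/-- a bit of a mask -/
noncomputable def mb (m i : ℕ) : ℤ := Int.ofNat (Nat.land (Nat.shiftRight m i) 1)

theorem bit_ofMask (m : ℕ) (p : GolayPt) : bit (ofMask m) p = mb m (ix p) := by
  change _ = (((m >>> (ix p).val) &&& 1 : ℕ) : ℤ)
  rw [Nat.and_one_is_mod, bit, ofMask, Nat.testBit, Nat.one_and_eq_mod_two]
  rcases Nat.mod_two_eq_zero_or_one (m >>> (ix p).val) with h | h <;> rw [h] <;> rfl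

theorem wt_ofMask (m : ℕ) : ∑ p, bit (ofMask m) p = sumZ 24 (mb m) := by
  simp only [sum_pt, bit_ofMask, ix_pt, sumZ_eq]

theorem min_wt (hc : c ∈ golayCode) (h : ∑ p, bit c p < 8) (p : GolayPt) : bit c p = 0 := by
  obtain ⟨n, h1, rfl⟩ := exists_mask hc
  have h2 : allLt 4096 (fun n => bor (Nat.beq n 0) (decide (8 ≤ sumZ 24 (mb (comb Bm n 12))))) =
      true := by decide +kernel
  rcases bor_iff.1 (allLt_iff.1 h2 n h1) with h3 | h3
  · rw [Nat.eq_of_beq_eq_true h3, show comb Bm 0 12 = 0 by decide, ofMask_zero]; rfl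
  · rw [wt_ofMask] at h
    exact absurd (of_decide_eq_true h3) (by omega)

/-- generators of the lattice -/
noncomputable def gv (k i : ℕ) : ℤ :=
  if k < 12 then 2 * mb (Bm k) i else if k < 35 then (if i + 12 = k then 4 else if i = 23 then -4 else 0)
  else if k = 35 then (if i = 23 then 8 else 0) else if i = 23 then -3 else 1

theorem le_of_gens {K : AddSubgroup Vc} (h : ∀ k, k < 37 → (fun p => gv k (ix p)) ∈ K) :
    leechLattice ≤ K := by
  have h1 : ∀ z : Vc, (∀ i, z i % 4 = 0) → (∑ i, z i) % 8 = 0 → z ∈ K := by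
    intro z h2 h3
    have h4 : ∀ p, (Pi.single p 4 - Pi.single none 4 : Vc) ∈ K := fun p => by
      by_cases hp : p = none
      · rw [hp, sub_self]; exact zero_mem _
      · convert h (ix p + 12) (by omega) using 1
        revert p; decide +kernel
    have h5 : (Pi.single none 8 : Vc) ∈ K := by
      convert h 35 (by norm_num) using 1
      decide +kernel
    convert add_mem (sum_mem fun p (_ : p ∈ univ) => K.zsmul_mem (h4 p) (z p / 4))
      (K.zsmul_mem h5 ((∑ i, z i) / 8)) using 1
    funext q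
    have h6 : ∑ p, z p / 4 * 4 = ∑ p, z p := sum_congr rfl fun p _ => by have := h2 p; omega
    have := h2 q
    simp only [Pi.add_apply, Finset.sum_apply, Pi.smul_apply, Pi.sub_apply, Pi.single_apply,
      smul_eq_mul, mul_sub, mul_ite, mul_zero, sum_sub_distrib, sum_ite_eq, mem_univ, if_true]
    split_ifs
    · rw [h6]; omega
    · simp; omega
  have h2 : ∀ c ∈ Ck 12, ∃ k ∈ K, (∀ i, (k i - 2 * bit c i) % 4 = 0) ∧ (∑ i, k i) % 8 = 0 := by
    intro c hc
    induction hc using Submodule.span_induction with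
    | mem c hc =>
      obtain ⟨i, hi, rfl⟩ := hc
      have hi' : i < 12 := hi
      refine ⟨_, h i (by omega), fun p => by simp [gv, hi', bit_ofMask], ?_⟩
      clear hi
      revert i; decide +kernel
    | zero => exact ⟨0, zero_mem _, by simp [bit], by simp⟩
    | add c d _ _ hc hd =>
      obtain ⟨k, a1, a2, a3⟩ := hc
      obtain ⟨l, b1, b2, b3⟩ := hd
      refine ⟨k + l, add_mem a1 b1, fun i => ?_, by simp only [Pi.add_apply, sum_add_distrib]; omega⟩
      have := bit_add c d i
      have := a2 i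
      have := b2 i
      rw [Pi.add_apply]; omega
    | smul a c _ hc =>
      rcases (by decide : ∀ a : ZMod 2, a = 0 ∨ a = 1) a with rfl | rfl
      · exact ⟨0, zero_mem _, by simp [bit], by simp⟩
      · rwa [one_smul]
  intro x hx
  obtain ⟨m, c, hc, h3, h4⟩ := mem_iff.1 hx
  obtain ⟨k, a1, a2, a3⟩ := h2 c (Ck_twelve.ge hc)
  have h5 : ∀ p, (gv 36 (ix p)) = 1 ∨ gv 36 (ix p) = -3 := by decide +kernel
  have h6 : ∑ p, gv 36 (ix p) = 20 := by decide +kernel
  have := h1 (x - m • (fun p => gv 36 (ix p)) - k) (fun i => by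
    have := h3 i
    have := a2 i
    simp only [Pi.sub_apply, Pi.smul_apply, smul_eq_mul]
    rcases h5 i with e | e <;> rw [e] <;> omega) (by
    simp only [Pi.sub_apply, Pi.smul_apply, smul_eq_mul, sum_sub_distrib, ← mul_sum, h6]
    omega)
  simpa using add_mem (add_mem this a1) (K.zsmul_mem (h 36 (by norm_num)) m)

/-! ### The elements of `Co₀` as matrices -/

/-- eight times a unit vector -/
def e8 (p : GolayPt) : leechLattice := ⟨Pi.single p 8, mem_iff.2 ⟨0, 0, zero_mem _,
  fun i => by simp [bit, Pi.single_apply]; split_ifs <;> simp, by simp⟩⟩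

/-- the action as an additive map -/
def lin (g : Co0) : leechLattice →+ leechLattice := AddMonoidHom.mk' g.1 g.2.1

theorem lin_apply (g : Co0) (v : leechLattice) : lin g v = g.1 v := rfl

theorem dot_map (g : Co0) (v w : leechLattice) : dotInt (g.1 v).1 (g.1 w).1 = dotInt v.1 w.1 := by
  have h : ∀ a b : Vc, sqNorm (a + b) = sqNorm a + 2 * dotInt a b + sqNorm b := fun a b => by
    simp only [sqNorm, dotInt, Pi.add_apply, mul_sum, ← sum_add_distrib]
    exact sum_congr rfl fun _ _ => by ring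
  have h1 := g.2.2 (v + w)
  rw [g.2.1, AddSubgroup.coe_add, AddSubgroup.coe_add, h, h, g.2.2, g.2.2] at h1
  omega

/-- the entries of eight times the matrix -/
def cf (g : Co0) (p q : GolayPt) : ℤ := (g.1 (e8 q)).1 p

theorem eight_mul (g : Co0) (v : leechLattice) (p : GolayPt) :
    8 * (g.1 v).1 p = ∑ q, cf g p q * v.1 q := by
  have h : (8 : ℤ) • v = ∑ q, v.1 q • e8 q := by
    ext p
    simp [-Fintype.sum_option, e8, Pi.single_apply, mul_comm]
  have h1 := congrArg (fun w : leechLattice => w.1 p) (congrArg (lin g) h)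
  simp only [map_sum, map_zsmul, lin_apply] at h1
  simpa [-Fintype.sum_option, cf, mul_comm] using h1

theorem dot_e8 (x : Vc) (p : GolayPt) : dotInt x (e8 p).1 = 8 * x p := by
  simp [dotInt, e8, Pi.single_apply, mul_comm]

theorem dot_comm (x y : Vc) : dotInt x y = dotInt y x := by simp [dotInt, mul_comm]

theorem cf_inv (g : Co0) (p q : GolayPt) : cf g⁻¹ p q = cf g q p := by
  have h := dot_map g (g⁻¹.1 (e8 q)) (e8 p)
  rw [show g.1 (g⁻¹.1 (e8 q)) = e8 q from g.1.apply_symm_apply _, dot_comm, dot_e8, dot_e8] at h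
  unfold cf
  omega

theorem sq_le (x : Vc) (p : GolayPt) : x p ^ 2 ≤ sqNorm x :=
  single_le_sum (f := fun i => x i ^ 2) (fun _ _ => sq_nonneg _) (mem_univ p)

theorem abs_cf (g : Co0) (p q : GolayPt) : -8 ≤ cf g p q ∧ cf g p q ≤ 8 := by
  have h := sq_le (g.1 (e8 q)).1 p
  rw [g.2.2, show sqNorm (e8 q).1 = 8 ^ 2 by simp [sqNorm, e8, Pi.single_apply]] at h
  exact abs_le_of_sq_le_sq' h (by norm_num)

theorem ext_cf {g h : Co0} (e : ∀ p q, cf g p q = cf h p q) : g = h := by
  ext v p
  have h1 := eight_mul g v p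
  have h2 := eight_mul h v p
  simp only [e] at h1
  omega

/-- The matrix modulo 17. -/
def mat : Co0 →* Matrix (Fin 24) (Fin 24) (ZMod 17) where
  toFun g := Matrix.of fun i j => 15 * (cf g (pt i) (pt j) : ZMod 17)
  map_one' := by
    ext i j
    rw [Matrix.one_apply]
    change 15 * ((Pi.single (pt j) 8 : Vc) (pt i) : ZMod 17) = _
    revert i j
    decide +kernel
  map_mul' g h := by
    ext i j
    have h1 := congrArg (Int.cast (R := ZMod 17)) (eight_mul g (h.1 (e8 (pt j))) (pt i))
    rw [sum_pt] at h1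
    push_cast at h1
    simp only [Matrix.mul_apply, Matrix.of_apply]
    calc _ = 15 * 15 * (8 * ((g.1 (h.1 (e8 (pt j)))).1 (pt i) : ZMod 17)) := by
          rw [← mul_assoc, show (15 * 15 * 8 : ZMod 17) = 15 by decide]; rfl
      _ = _ := by
          rw [h1, mul_sum]
          exact sum_congr rfl fun k _ => by unfold cf; ring

theorem mat_apply (g : Co0) (i j : Fin 24) : mat g i j = 15 * (cf g (pt i) (pt j) : ZMod 17) := rfl

theorem eq_of_cast {a b : ℤ} (ha : -8 ≤ a ∧ a ≤ 8) (hb : -8 ≤ b ∧ b ≤ 8)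
    (h : 15 * (a : ZMod 17) = 15 * b) : a = b := by
  have h1 : ((15 * a : ℤ) : ZMod 17) = (15 * b : ℤ) := by push_cast; exact h
  have := (ZMod.intCast_eq_intCast_iff' _ _ 17).1 h1
  omega

theorem mat_inj : Function.Injective mat := fun g h e => ext_cf fun p q => by
  have := congrFun (congrFun e (ix p)) (ix q)
  rw [mat_apply, mat_apply, pt_ix, pt_ix] at this
  exact eq_of_cast (abs_cf _ _ _) (abs_cf _ _ _) this

instance : Finite Co0 := Finite.of_injective _ mat_inj

theorem finite_norm (n : ℤ) : {v : leechLattice | sqNorm v.1 = n}.Finite := by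
  refine ((Set.Finite.pi' fun _ => Set.finite_Icc (-n) n).preimage
    Subtype.val_injective.injOn).subset fun v hv p => ?_
  have h := sq_le v.1 p
  rw [hv] at h
  constructor <;> nlinarith

/-- An integral matrix preserving the lattice. -/
theorem exists_co0 (A : GolayPt → GolayPt → ℤ)
    (h1 : ∀ q r, ∑ p, A p q * A p r = if q = r then 64 else 0)
    (h2 : ∀ k, k < 37 → ∃ z ∈ leechLattice, ∀ p, ∑ q, A p q * gv k (ix q) = 8 * z p) :
    ∃ g : Co0, ∀ p q, cf g p q = A p q := by
  let K : AddSubgroup Vc :=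
    { carrier := {x | ∃ z ∈ leechLattice, ∀ p, ∑ q, A p q * x q = 8 * z p}
      zero_mem' := ⟨0, zero_mem _, by simp⟩
      add_mem' := by
        rintro x y ⟨z, a1, a2⟩ ⟨w, b1, b2⟩
        exact ⟨z + w, add_mem a1 b1, fun p => by simp [mul_add, sum_add_distrib, a2, b2]⟩
      neg_mem' := by
        rintro x ⟨z, a1, a2⟩
        exact ⟨-z, neg_mem a1, fun p => by simp [a2]⟩ }
  have h3 : ∀ v : leechLattice, ∃ z : leechLattice, ∀ p, ∑ q, A p q * v.1 q = 8 * z.1 p :=
    fun v => let ⟨z, a1, a2⟩ := le_of_gens (K := K) h2 v.2; ⟨⟨z, a1⟩, a2⟩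
  choose f hf using h3
  have h4 : ∀ v w, f (v + w) = f v + f w := fun v w => by
    ext p
    have := hf (v + w) p
    simp only [AddSubgroup.coe_add, Pi.add_apply, mul_add, sum_add_distrib, hf] at this ⊢
    omega
  have h5 : ∀ v, sqNorm (f v).1 = sqNorm v.1 := fun v => by
    have : 64 * sqNorm (f v).1 = 64 * sqNorm v.1 :=
      calc _ = ∑ p, (8 * (f v).1 p) * (8 * (f v).1 p) := by
            rw [sqNorm, mul_sum]; exact sum_congr rfl fun _ _ => by ring
        _ = ∑ q, ∑ r, (∑ p, A p q * A p r) * (v.1 q * v.1 r) := by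
            simp only [← hf]
            simp only [sum_mul_sum]
            simp only [sum_mul]
            rw [sum_comm]
            refine sum_congr rfl fun q _ => sum_comm.trans (sum_congr rfl fun r _ =>
              sum_congr rfl fun p _ => by ring)
        _ = _ := by simp [-Fintype.sum_option, h1, sqNorm, mul_sum, pow_two]
    omega
  have h6 : Function.Injective f := (injective_iff_map_eq_zero (AddMonoidHom.mk' f h4)).2
    fun v hv => by
      have h7 := h5 v
      rw [show f v = 0 from hv] at h7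
      ext p
      have := sq_le v.1 p
      rw [← h7] at this
      simpa [sqNorm] using this
  have h7 : Function.Surjective f := fun v =>
    let ⟨w, _, e⟩ := (((finite_norm (sqNorm v.1)).injOn_iff_bijOn_of_mapsTo
      fun w hw => (h5 w).trans hw).1 h6.injOn).2.2 rfl
    ⟨w, e⟩
  refine ⟨⟨Equiv.ofBijective f ⟨h6, h7⟩, h4, h5⟩, fun p q => ?_⟩
  have := hf (e8 q) p
  simp only [e8, Pi.single_apply, mul_ite, mul_zero, sum_ite_eq', mem_univ, if_true] at this
  change (f (e8 q)).1 p = _
  unfold e8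
  omega

end CfsgLch
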