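import Cfsg.Agent.H4.Lch1
import Cfsg.Prelude.Def_Spor_Mathieu

set_option autoImplicit false
set_option linter.unusedSectionVars false
set_option maxRecDepth 100000

/-! The stabilizer in `Co₀` of the three standard vectors embeds in `M₂₂`; the orbit of
`(4, -4, 0²²)` under the McLaughlin group has at most 2025 points. -/

namespace CfsgLch

open Cfsg CfsgH9 CfsgH9.Golay CfsgWitt Finset Spor

variable {c d : Wd} {x y : Vc}

theorem all_zero {n : Vc} (h0 : ∀ i, 0 ≤ n i) (h1 : ∑ i, n i ≤ 0) (i : GolayPt) : n i = 0 :=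
  (sum_eq_zero_iff_of_nonneg fun i _ => h0 i).1 (le_antisymm h1 (sum_nonneg fun i _ => h0 i)) i
    (mem_univ _)

theorem exists_single {n : Vc} (h0 : ∀ i, 0 ≤ n i) (h1 : ∑ i, n i = 1) :
    ∃ j, ∀ i, n i = if i = j then 1 else 0 := by
  obtain ⟨j, -, hj⟩ := exists_ne_zero_of_sum_ne_zero (s := univ) (f := n) (by rw [h1]; norm_num)
  have h2 := add_sum_erase univ n (mem_univ j)
  have h3 : 0 ≤ ∑ i ∈ univ.erase j, n i := sum_nonneg fun i _ => h0 i
  have h4 := h0 j
  have h5 : ∑ i ∈ univ.erase j, n i = 0 := by omega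
  refine ⟨j, fun i => ?_⟩
  split_ifs with h
  · rw [h]; omega
  · exact (sum_eq_zero_iff_of_nonneg fun i _ => h0 i).1 h5 i (mem_erase.2 ⟨h, mem_univ _⟩)

theorem sum_delta (p : GolayPt) (a : ℤ) : ∑ i, (if i = p then a else 0) = a := by
  rw [sum_ite_eq' univ p fun _ => a, if_pos (mem_univ _)]

theorem wt_mod (hc : c ∈ golayCode) : (∑ p, bit c p) % 4 = 0 := by
  have h : ((∑ p, bit c p : ℤ) : ZMod 4) = ((0 : ℤ) : ZMod 4) := by
    rw [Int.cast_zero, ← Q_eq_zero hc, Q, Int.cast_sum]
    exact sum_congr rfl fun p _ => by simp [bit]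
  exact (ZMod.intCast_eq_intCast_iff' _ _ 4).1 h

theorem sq_even {z b : ℤ} (hb : b = 0 ∨ b = 1) (h : (z - 2 * b) % 4 = 0) : 4 * b ≤ z ^ 2 := by
  rcases hb with rfl | rfl
  · simpa using sq_nonneg z
  · have : 2 ≤ z ∨ z ≤ -2 := by omega
    rcases this with h | h <;> nlinarith

theorem bit01 (c : Wd) (i : GolayPt) : bit c i = 0 ∨ bit c i = 1 :=
  (bit_cases c i).imp And.right And.right

theorem e8_none : e8 none = leechU + leechU' := Subtype.ext (by
  change Pi.single none 8 = vecU + vecU'
  decide +kernel)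

theorem e8_zero : leechU = e8 (some 0) + leechU' := Subtype.ext (by
  change vecU = Pi.single (some 0) 8 + vecU'
  decide +kernel)

theorem e8_apply (p q : GolayPt) : (e8 p).1 q = if q = p then 8 else 0 := Pi.single_apply _ _ _

theorem e8_inj {p q : GolayPt} (h : e8 p = e8 q) : p = q := by
  have := congrArg (fun v : leechLattice => v.1 p) h
  simp only [e8_apply, if_true] at this
  by_contra hn
  rw [if_neg hn] at this
  omega

theorem exists_col {g : Co0} (h1 : g.1 (e8 none) = e8 none) (h2 : g.1 leechV = leechV)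
    (q : GolayPt) : ∃ p, ∀ r, cf g r q = if r = p then 8 else 0 := by
  by_cases hq : q = none
  · exact ⟨none, fun r => by rw [hq, cf, h1, e8_apply]⟩
  let a : leechLattice := ⟨fun i => (if i = none then 4 else 0) - if i = q then 4 else 0,
    mem_iff.2 ⟨0, 0, zero_mem _, fun i => by
      rw [show bit 0 i = 0 from rfl]; beta_reduce; split_ifs <;> rfl, by
      rw [sum_sub_distrib, sum_delta, sum_delta]; rfl⟩⟩
  have a1 : a + a + e8 q = e8 none := Subtype.ext (funext fun i => by
    simp only [a, AddSubgroup.coe_add, Pi.add_apply, e8_apply]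
    split_ifs <;> rfl)
  have a2 : ∀ i, 2 * (g.1 a).1 i + cf g i q = if i = none then 8 else 0 := fun i => by
    have := congrArg (fun v : leechLattice => (g.1 v).1 i) a1
    simp only [g.2.1, AddSubgroup.coe_add, Pi.add_apply, h1, e8_apply] at this
    rw [← this, cf, two_mul]
  have a3 : cf g none q = 0 := by
    have := dot_map g (e8 q) (e8 none)
    rw [h1, dot_e8, dot_e8, e8_apply, if_neg (Ne.symm hq)] at this
    unfold cf; omega
  have a4 : (g.1 a).1 none = 4 := by have := a2 none; simp only [if_true] at this; omega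
  have a5 : ∑ i, (g.1 a).1 i ^ 2 = 32 := by
    refine (g.2.2 a).trans ?_
    calc _ = ∑ i, ((if i = none then 16 else 0) + if i = q then 16 else 0 : ℤ) :=
          sum_congr rfl fun i _ => by
            simp only [a]; split_ifs with e e' <;> first | rfl | exact absurd (e'.symm.trans e) hq
      _ = _ := by rw [sum_add_distrib, sum_delta, sum_delta]; rfl
  obtain ⟨c, hc, ⟨h3, -⟩ | ⟨h3, -⟩⟩ := cases_of_mem (g.1 a).2
  swap
  · have := h3 none; omega
  have h4 : ∑ i, (4 * bit c i + if i = none then 16 else 0) ≤ ∑ i, (g.1 a).1 i ^ 2 :=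
    sum_le_sum fun i _ => by
      split_ifs with e
      · have := h3 i; have := bit01 c i; rw [e] at *; rw [a4] at *; omega
      · simpa using sq_even (bit01 c i) (h3 i)
  rw [sum_add_distrib, sum_delta, ← mul_sum, a5] at h4
  have h5 : ∀ i, cf g i q = 8 * (cf g i q / 8) := fun i => by
    have := h3 i; have := a2 i; have := min_wt hc (by omega) i
    split_ifs at * <;> omega
  obtain ⟨j, hj⟩ := exists_single (n := fun i => (cf g i q / 8) ^ 2) (fun i => sq_nonneg _) (by
    have h6 : ∑ i, cf g i q ^ 2 = 64 :=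
      (g.2.2 (e8 q)).trans (by simp [-Fintype.sum_option, sqNorm, e8, Pi.single_apply])
    have h7 : ∑ i, cf g i q ^ 2 = 64 * ∑ i, (cf g i q / 8) ^ 2 := by
      rw [mul_sum]; exact sum_congr rfl fun i _ => by conv_lhs => rw [h5 i]
                                                      ring
    omega)
  have h6 : ∀ i, i ≠ j → cf g i q = 0 := fun i hi => by
    have := hj i
    rw [if_neg hi, pow_eq_zero_iff two_ne_zero] at this
    rw [h5, this, mul_zero]
  have h7 := dot_map g (e8 q) leechV
  rw [h2, dot_comm (e8 q).1, dot_e8, dotInt, sum_eq_single j (fun i _ hi => by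
    rw [show (g.1 (e8 q)).1 i = 0 from h6 i hi, zero_mul]) (by simp)] at h7
  change cf g j q * vecV j = 8 * vecV q at h7
  refine ⟨j, fun r => ?_⟩
  split_ifs with e
  · have h8 := hj j
    rw [if_pos rfl, sq_eq_one_iff] at h8
    have h9 := h5 j
    rw [e]
    unfold vecV at h7
    rw [if_neg hq] at h7
    split_ifs at h7 <;> omega
  · exact h6 r e

/-- `g` permutes the coordinates by `π`. -/
def PermOf (g : Co0) (π : Equiv.Perm GolayPt) : Prop :=
  ∀ (x : leechLattice) q, (g.1 x).1 (π q) = x.1 q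

theorem PermOf.unique {g : Co0} {π ρ : Equiv.Perm GolayPt} (h : PermOf g π) (h' : PermOf g ρ) :
    π = ρ := by
  ext1 q
  have h1 := h' (e8 q) (ρ⁻¹ (π q))
  rw [show ρ (ρ⁻¹ (π q)) = π q by simp, h, e8_apply, e8_apply, if_pos rfl] at h1
  by_contra hn
  rw [if_neg fun e => hn (Equiv.Perm.inv_eq_iff_eq.1 e)] at h1
  omega

theorem PermOf.fix {g : Co0} {π : Equiv.Perm GolayPt} (h : PermOf g π) {p : GolayPt}
    (e : g.1 (e8 p) = e8 p) : π p = p := by
  have h1 := h (e8 p) p
  rw [e, e8_apply, e8_apply, if_pos rfl] at h1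
  by_contra hn
  rw [if_neg hn] at h1
  omega

theorem PermOf.mem {g : Co0} {π : Equiv.Perm GolayPt} (h : PermOf g π) : π ∈ M24 := by
  refine mem_M24_of_le fun c hc => ?_
  let a : leechLattice := ⟨fun i => 2 * bit c i, mem_iff.2 ⟨0, c, hc, fun i => by simp, by
    have := wt_mod hc
    rw [← mul_sum]; omega⟩⟩
  have a1 : ∀ i, (g.1 a).1 i = 2 * bit (act π c) i := fun i => by
    have := h a (π⁻¹ i)
    rwa [show π (π⁻¹ i) = i by simp] at this
  obtain ⟨d, hd, ⟨h3, -⟩ | ⟨h3, -⟩⟩ := cases_of_mem (g.1 a).2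
  · convert hd using 1
    funext i
    have := h3 i
    rw [a1] at this
    rcases bit_cases d i with ⟨e1, e2⟩ | ⟨e1, e2⟩ <;>
      rcases bit_cases (act π c) i with ⟨e3, e4⟩ | ⟨e3, e4⟩ <;> first | omega | rw [e1, e3]
  · have := h3 none
    rw [a1] at this
    omega

theorem exists_perm {g : Co0} (h1 : g.1 leechU = leechU) (h2 : g.1 leechU' = leechU')
    (h3 : g.1 leechV = leechV) : ∃ π ∈ Spor.M22, PermOf g π := by
  have h4 : g.1 (e8 none) = e8 none := by rw [e8_none, g.2.1, h1, h2]
  have h5 : g.1 (e8 (some 0)) = e8 (some 0) := by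
    rw [e8_zero, g.2.1, h2] at h1
    exact add_right_cancel h1
  choose f hf using exists_col h4 h3
  have h6 : Function.Injective f := fun q q' e => e8_inj (g.1.injective (Subtype.ext (funext
    fun r => (hf q r).trans (e ▸ (hf q' r).symm))))
  have h7 : PermOf g (Equiv.ofBijective f (Finite.injective_iff_bijective.1 h6)) := fun x q => by
    have := eight_mul g x (f q)
    simp only [hf, h6.eq_iff, ite_mul, zero_mul, sum_ite_eq, mem_univ, if_true] at this
    change (g.1 x).1 (f q) = _
    omega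
  exact ⟨_, ⟨⟨h7.mem, h7.fix h4⟩, h7.fix h5⟩, h7⟩

theorem exists_m22 {H : Type*} [Group H] (ι : H →* Co0) (hι : Function.Injective ι)
    (h : ∀ g, (ι g).1 leechU = leechU ∧ (ι g).1 leechU' = leechU' ∧ (ι g).1 leechV = leechV) :
    ∃ f : H →* Spor.M22, Function.Injective f := by
  choose f h1 h2 using fun g => exists_perm (h g).1 (h g).2.1 (h g).2.2
  refine ⟨MonoidHom.mk' (fun g => ⟨f g, h1 g⟩) fun a b => Subtype.ext ((h2 _).unique fun x q => ?_),
    (injective_iff_map_eq_one _).2 fun a ha => hι ?_⟩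
  · rw [map_mul]
    exact (h2 a _ _).trans (h2 b x q)
  · rw [map_one]
    ext x q
    have := h2 a x q
    rwa [show f a = 1 from congrArg Subtype.val ha] at this

/-- a coordinate permutation preserving the code, acting on the lattice -/
def pcF (σ : M24) (x : leechLattice) : leechLattice := ⟨fun p => x.1 (σ.1⁻¹ p), by
  obtain ⟨m, c, hc, h1, h2⟩ := mem_iff.1 x.2
  exact mem_iff.2 ⟨m, act σ.1 c, act_mem σ.2 hc, fun i => h1 _, by
    rwa [Equiv.sum_comp (σ.1⁻¹) x.1]⟩⟩

/-- a coordinate permutation preserving the code, as an element of `Co₀` -/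
def pc (σ : M24) : Co0 := ⟨⟨pcF σ, pcF σ⁻¹, fun x => by ext p; simp [pcF],
  fun x => by ext p; simp [pcF]⟩, fun _ _ => rfl,
  fun x => Equiv.sum_comp (σ.1⁻¹) fun p => x.1 p ^ 2⟩

theorem pc_apply (σ : M24) (x : leechLattice) (p : GolayPt) : ((pc σ).1 x).1 p = x.1 (σ.1⁻¹ p) := rfl

/-! ### The orbit of `(4, -4, 0²²)` -/

/-- admissible positions for a code word -/
noncomputable def JL (m : ℕ) : List ℕ :=
  if sumZ 24 (mb m) = 0 then [0] else if sumZ 24 (mb m) = 8 then
    (if mb m 11 = 1 then (List.range 23).filter fun j => mb m j = 1 ∧ j ≠ 11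
      else if mb m 23 = 0 then [0] else []) else []

/-- the vector attached to a code word and a position -/
noncomputable def cand (m j : ℕ) : Vc := fun p =>
  if mb m 11 = 1 then
    (if mb m 23 = 1 then
      2 * mb m (ix p) - (if p = some 0 then 4 else 0) - if (ix p).val = j then 4 else 0
    else 1 - 2 * mb m (ix p) + if (ix p).val = j then 4 else 0)
  else if sumZ 24 (mb m) = 0 then vecU' p else 2 * mb m (ix p)

/-- the list of all candidates -/
noncomputable def candL : List Vc :=
  (List.range 4096).flatMap fun h => (JL (comb Bm h 12)).map (cand (comb Bm h 12))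

theorem candL_len : candL.length = 2025 := by decide +kernel

theorem ix_eq {p q : GolayPt} : (ix p).val = (ix q).val ↔ p = q :=
  Fin.val_inj.trans ptE.injective.eq_iff

theorem mem_JL {m : ℕ} (h1 : sumZ 24 (mb m) = 8) (h2 : mb m 11 = 1) {j : GolayPt}
    (h3 : mb m (ix j) = 1) (h4 : j ≠ none) (h5 : j ≠ some 0) : (ix j).val ∈ JL m := by
  rw [JL, if_neg (by omega), if_pos h1, if_pos h2, List.mem_filter, List.mem_range,
    decide_eq_true_iff]
  have h6 : (ix j).val ≠ 23 := fun e => h4 (ix_eq.1 e)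
  exact ⟨by omega, h3, fun e => h5 (ix_eq.1 e)⟩

theorem normU' : ∑ i, vecU' i ^ 2 = 32 := by decide +kernel

theorem q1 {z : ℤ} (h : z ≤ 0 ∨ 4 ≤ z) : 0 ≤ z ^ 2 - 4 * z := by
  rcases h with h | h <;> nlinarith

theorem q2 {z : ℤ} (h : 4 ≤ z ∨ z ≤ -4) : 0 ≤ z ^ 2 - 16 := by
  rcases h with h | h <;> nlinarith

theorem q3 {z a : ℤ} (h : z ^ 2 - a ^ 2 = 0) : z = a ∨ z = -a :=
  sq_eq_sq_iff_eq_or_eq_neg.1 (sub_eq_zero.1 h)

theorem q4 {z : ℤ} (h : 1 ≤ z ∨ z ≤ -1) : 0 ≤ z ^ 2 - 1 := by
  rcases h with h | h <;> nlinarith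

theorem shape {w : leechLattice} (h1 : sqNorm w.1 = 32) (h2 : w.1 none + w.1 (some 0) = 0)
    (h3 : ∑ i, w.1 i + 4 * w.1 none = 16) : w.1 ∈ candL := by
  obtain ⟨c, hc, h4⟩ := cases_of_mem w.2
  obtain ⟨h, hh, e⟩ := exists_mask hc
  refine List.mem_flatMap.2 ⟨h, List.mem_range.2 hh, List.mem_map.2 ?_⟩
  generalize comb Bm h 12 = m at e
  have b1 : ∀ p, mb m (ix p) = bit c p := fun p => by rw [e, bit_ofMask]
  have b2 : sumZ 24 (mb m) = ∑ p, bit c p := by rw [e, wt_ofMask]
  have b3 : mb m 11 = bit c (some 0) := b1 (some 0)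
  have b4 : mb m 23 = bit c none := b1 none
  have b5 := @min_wt c hc
  have b6 := bit01 c
  unfold sqNorm at h1
  generalize w.1 = w at *
  rcases h4 with ⟨h4, -⟩ | ⟨h4, -⟩
  · have h5 : ∀ i, 0 ≤ w i ^ 2 - 4 * bit c i := fun i => sub_nonneg.2 (sq_even (b6 i) (h4 i))
    have h6 : ∑ i, (w i ^ 2 - 4 * bit c i) = 32 - 4 * ∑ i, bit c i := by
      rw [sum_sub_distrib, ← mul_sum, h1]
    by_cases h7 : ∑ i, bit c i < 8
    · have h8 := b5 h7
      have h9 : ∑ i, bit c i = 0 := sum_eq_zero fun i _ => h8 i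
      refine ⟨0, by rw [JL, if_pos (b2.trans h9)]; simp, funext fun p => ?_⟩
      rw [cand, if_neg (by rw [b3, h8]; decide), if_pos (b2.trans h9)]
      have k1 : 0 ≤ ∑ i, (w i ^ 2 - 4 * w i) := sum_nonneg fun i _ =>
        q1 (by have := h4 i; have := h8 i; omega)
      rw [sum_sub_distrib, ← mul_sum, h1] at k1
      have k2 : 4 ≤ w none := by have := h4 none; have := h8 none; omega
      have k3 := all_zero (n := fun i => w i ^ 2 - vecU' i ^ 2) (fun i => by
        unfold vecU'
        split_ifs with e1 e2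
        · rw [e1]; exact q2 (Or.inl k2)
        · rw [e2]; exact q2 (by omega)
        · simpa using sq_nonneg (w i)) (by
          rw [sum_sub_distrib, h1, normU']; omega) p
      have k4 := q3 k3
      unfold vecU' at k4 ⊢
      split_ifs at k4 ⊢ with e1 e2
      · rw [e1] at k4 ⊢; omega
      · rw [e2] at k4 ⊢; omega
      · omega
    have h8 : ∑ i, bit c i = 8 := by have := sum_nonneg fun i (_ : i ∈ univ) => h5 i; omega
    have h9 : ∀ i, w i = 2 * bit c i ∨ w i = 2 * bit c i - 4 ∧ bit c i = 1 := fun i => by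
      have k1 := all_zero h5 (by omega) i
      rcases b6 i with k | k <;> rw [k] at k1 ⊢
      · have := q3 (a := 0) k1; omega
      · have := q3 (a := 2) k1; omega
    have k1 : 4 * ∑ i, (2 * bit c i - w i) / 4 = ∑ i, (2 * bit c i - w i) := by
      rw [mul_sum]; exact sum_congr rfl fun i _ => by have := h9 i; omega
    rw [sum_sub_distrib, ← mul_sum, h8] at k1
    have k2 : ∀ i, 0 ≤ (2 * bit c i - w i) / 4 := fun i => by have := h9 i; omega
    have k3 := sum_nonneg fun i (_ : i ∈ univ) => k2 i
    have k4 := h9 none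
    have k5 := h9 (some 0)
    have k6 := b6 none
    have k7 := b6 (some 0)
    by_cases k8 : w none = 0
    · refine ⟨0, ?_, funext fun p => ?_⟩
      · rw [JL, if_neg (by omega), if_pos (by omega), if_neg (by omega), if_pos (by omega)]; simp
      · rw [cand, if_neg (by omega), if_neg (by omega), b1]
        have := all_zero k2 (by omega) p
        have := h9 p
        omega
    obtain ⟨j, hj⟩ := exists_single (n := fun i => (2 * bit c i - w i) / 4 -
      if i = some 0 then 1 else 0) (fun i => by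
        have := k2 i
        split_ifs with e1
        · rw [e1]; omega
        · omega) (by rw [sum_sub_distrib, sum_delta]; omega)
    have k9 := hj j
    have k10 := h9 j
    rw [if_pos rfl] at k9
    refine ⟨ix j, mem_JL (by omega) (by omega) (by rw [b1]; split_ifs at k9 <;> omega)
      (by rintro rfl; simp only [reduceCtorEq, if_false] at k9; omega)
      (by rintro rfl; rw [if_pos rfl] at k9; omega), funext fun p => ?_⟩
    rw [cand, if_pos (by omega), if_pos (by omega), b1]
    simp only [ix_eq]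
    have := hj p
    have := h9 p
    split_ifs at * <;> omega
  · have h5 : ∀ i, 0 ≤ w i ^ 2 - 1 := fun i => q4 (by have := h4 i; omega)
    have h6 : ∑ i, (w i ^ 2 - 1) = 8 := by rw [sum_sub_distrib, h1]; simp
    have h7 : ∀ i, w i ^ 2 - 1 = 0 ∧ w i = 1 - 2 * bit c i ∨
        w i ^ 2 - 1 = 8 ∧ w i = 6 * bit c i - 3 := fun i => by
      have k1 := single_le_sum (fun i _ => h5 i) (mem_univ i)
      have k2 := abs_le_of_sq_le_sq' (a := w i) (b := 3) (by omega) (by norm_num)
      have k3 : w i = 1 ∨ w i = -1 ∨ w i = 3 ∨ w i = -3 := by have := h4 i; omega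
      have k4 := h4 i
      have k5 := b6 i
      rcases k3 with k | k | k | k <;> rw [k] at k4 ⊢ <;> omega
    obtain ⟨j, hj⟩ := exists_single (n := fun i => (w i ^ 2 - 1) / 8)
      (fun i => by have := h7 i; omega) (by
        have : 8 * ∑ i, (w i ^ 2 - 1) / 8 = ∑ i, (w i ^ 2 - 1) := by
          rw [mul_sum]; exact sum_congr rfl fun i _ => by have := h7 i; omega
        omega)
    have h8 : ∀ i, w i = 1 - 2 * bit c i + if i = j then 8 * bit c j - 4 else 0 := fun i => by
      have k1 := hj i
      have k2 := h7 i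
      split_ifs at k1 ⊢ with e1
      · subst e1; omega
      · omega
    have h9 : ∑ i, w i = 24 - 2 * ∑ i, bit c i + (8 * bit c j - 4) := by
      rw [sum_congr rfl fun i _ => h8 i, sum_add_distrib, sum_delta, sum_sub_distrib, ← mul_sum]
      simp
    have k4 := h8 none
    have k5 := h8 (some 0)
    have k6 := b6 none
    have k7 := b6 (some 0)
    have k8 := b6 j
    have k1 : j ≠ none := by
      rintro rfl
      simp only [reduceCtorEq, if_false, if_true] at k4 k5; omega
    have k2 : j ≠ some 0 := by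
      rintro rfl
      simp only [reduceCtorEq, if_false, if_true] at k4 k5; omega
    rw [if_neg k1.symm] at k4
    rw [if_neg k2.symm] at k5
    have k3 : 8 ≤ ∑ i, bit c i := not_lt.1 fun h7 => by
      have := b5 h7 none; have := b5 h7 (some 0); omega
    refine ⟨ix j, mem_JL (by omega) (by omega) (by rw [b1]; omega) k1 k2, funext fun p => ?_⟩
    rw [cand, if_pos (by omega), if_neg (by omega), b1, h8 p]
    simp only [ix_eq]
    split_ifs <;> omega

/-- the inclusion of the McLaughlin group -/
def toCo : McL →* Co0 := Subgroup.inclusion fun _ h => h.1.1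

theorem toCo_inj : Function.Injective toCo := Subgroup.inclusion_injective _

instance : Finite McL := Finite.of_injective _ toCo_inj

theorem orbit_cond (g : McL) : sqNorm (g.1 leechU').1 = 32 ∧
    (g.1 leechU').1 none + (g.1 leechU').1 (some 0) = 0 ∧
      ∑ i, (g.1 leechU').1 i + 4 * (g.1 leechU').1 none = 16 := by
  have h1 := dot_map (toCo g) leechU' leechU
  have h2 := dot_map (toCo g) leechU' leechV
  rw [show (toCo g).1 leechU = leechU from g.2.2,
    show dotInt leechU'.1 leechU.1 = 0 by decide +kernel] at h1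
  rw [show (toCo g).1 leechV = leechV from g.2.1.2,
    show dotInt leechU'.1 leechV.1 = -16 by decide +kernel] at h2
  change dotInt (g.1 leechU').1 vecU = 0 at h1
  change dotInt (g.1 leechU').1 vecV = -16 at h2
  refine ⟨(g.2.1.1.2 _).trans (by decide +kernel), ?_⟩
  generalize (g.1 leechU').1 = w at *
  have h3 : dotInt w vecU = ∑ i : GolayPt, ((if i = none then 4 * w none else 0) +
      if i = some 0 then 4 * w (some 0) else 0) := sum_congr rfl fun i _ => by
    unfold vecU
    split_ifs with e1 e2 e3 <;> simp_all [mul_comm]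
  have h4 : dotInt w vecV = ∑ i, ((if i = none then -4 * w none else 0) - w i) :=
    sum_congr rfl fun i _ => by
      unfold vecV
      split_ifs with e1
      · rw [e1]; ring
      · ring
  rw [sum_add_distrib, sum_delta, sum_delta] at h3
  rw [sum_sub_distrib, sum_delta] at h4
  constructor <;> linarith

theorem exists_stab : ∃ f : MulAction.stabilizer McL leechU' →* Spor.M22, Function.Injective f :=
  exists_m22 (toCo.comp (Subgroup.subtype _)) (toCo_inj.comp Subtype.val_injective)
    fun g => ⟨g.1.2.2, g.2, g.1.2.1.2⟩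

theorem card_McL_le : Nat.card McL ≤ 898128000 := by
  obtain ⟨f, hf⟩ := exists_stab
  have h1 := (Nat.card_le_card_of_injective f hf).trans card_M22_le
  have h2 : Nat.card (MulAction.orbit McL leechU') ≤ 2025 := by
    rw [← candL_len]
    classical
    refine le_trans ?_ (List.toFinset_card_le candL)
    rw [← Nat.card_eq_finsetCard]
    refine Nat.card_le_card_of_injective (fun w => ⟨w.1.1, ?_⟩) fun a b e =>
      Subtype.ext (Subtype.ext (Subtype.mk.inj e))
    obtain ⟨w, g, rfl⟩ := w
    obtain ⟨a, b, c⟩ := orbit_cond g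
    exact List.mem_toFinset.2 (shape a b c)
  rw [← (MulAction.stabilizer McL leechU').index_mul_card, MulAction.index_stabilizer,
    ← Nat.card_coe_set_eq]
  exact Nat.mul_le_mul h2 h1

end CfsgLch
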