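import Cfsg.Agent.H6.VC1
import Cfsg.Agent.H4.LinMid

set_option autoImplicit false

/-! The middle step of LIN in the form used by `H6/VC2`. -/

namespace CfsgSE

open Subgroup CfsgH5 CfsgH6 CfsgFT

universe u

variable {L W : Type u} [Group L] [Finite L] [CommGroup W] [Finite W] [MulDistribMulAction L W]

theorem lin_sub4 (sq : ∀ v : W, v * v = 1) {S S1 Z : Subgroup L}
    (reg : ∀ s ∈ S, ∀ v : W, v ≠ 1 → s • v = v → s = 1) (odd : Odd (Nat.card S)) (ab : Ab S)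
    (tr : ∀ v w : W, v ≠ 1 → w ≠ 1 → ∃ s ∈ S, s • v = w) (h1 : S1 ≤ S) (ne : S1 ≠ ⊥)
    (hZ : ∀ z ∈ Z, ∀ v : W, ∃ s ∈ S1, z • v = s • v) {v0 : W} (hv : v0 ≠ 1)
    (two : ∀ a ∈ S1, ∀ b ∈ S1, ∀ c ∈ S1, ∀ d ∈ S1, a ≠ b → c ≠ d →
      ∃ z ∈ Z, z • a • v0 = c • v0 ∧ z • b • v0 = d • v0) :
    ∀ w : W, w ≠ 1 → ∃ s ∈ S1, s • v0 = w := by
  let Z' : Subgroup L :=
    { carrier := {z | ∀ v : W, ∃ s ∈ S1, z • v = s • v}
      one_mem' := fun v => ⟨1, one_mem _, rfl⟩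
      mul_mem' := fun {a b} ha hb v => by
        obtain ⟨t, ht, e⟩ := hb v
        obtain ⟨s, hs, f⟩ := ha (t • v)
        exact ⟨s * t, mul_mem hs ht, by rw [mul_smul, mul_smul, e, f]⟩
      inv_mem' := fun {a} ha v => by
        obtain ⟨s, hs, f⟩ := ha (a⁻¹ • v)
        exact ⟨s⁻¹, inv_mem hs, by rw [eq_inv_smul_iff, ← f, smul_inv_smul]⟩ }
  exact fun w hw => lin_mid sq (Z := Z') (fun s hs v => ⟨s, hs, rfl⟩) ne
    (odd.of_dvd_nat (card_dvd_of_le h1)) (fun s hs => reg s (h1 hs)) (fun z hz => hz)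
    (fun v w a b => let ⟨s, c, d⟩ := tr v w a b; ⟨s, d, fun t ht => ab.comm c (h1 ht)⟩) hv
    (fun a ha b hb c hc d hd x y => let ⟨z, e, f⟩ := two a ha b hb c hc d hd x y; ⟨z, hZ z e, f⟩)
    v0 w hv hw

end CfsgSE
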