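import Cfsg.Agent.H4.MX1
import Cfsg.Agent.L.OrdL33a
import Cfsg.Agent.H8.M11Rec
import Cfsg.Agent.H9.SE1
import Cfsg.Agent.H4.B0i

set_option autoImplicit false
set_option linter.unusedSectionVars false

/-! S3717: the exit `X1`. -/

namespace CfsgM11

open Subgroup CfsgH5 CfsgH6 CfsgFT CfsgSZ CfsgSZ.PS CfsgSE CfsgH8 CfsgH8.M11

open scoped commutatorElement

universe u

variable {G : Type u} [Group G] [Finite G]

theorem cube_of_six {X : Subgroup G} (hX : IsPGroup 3 X) {x : G} (hx : x ∈ X) (h6 : x ^ 6 = 1) :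
    x ^ 3 = 1 := by
  obtain ⟨k, hk⟩ := hX ⟨x, hx⟩
  have a : x ^ 3 ^ k = 1 := congrArg Subtype.val hk
  have b := (Nat.dvd_gcd (orderOf_dvd_of_pow_eq_one a) (orderOf_dvd_of_pow_eq_one h6))
  have c : Nat.gcd (3 ^ k) 6 ∣ 3 := (Nat.Coprime.dvd_mul_right (k := Nat.gcd (3 ^ k) 6) (n := 2) (m := 3)
    ((Nat.Coprime.pow_left k (by norm_num)).coprime_dvd_left (Nat.gcd_dvd_left _ _))).1
    (Nat.gcd_dvd_right _ _)
  exact orderOf_dvd_iff_pow_eq_one.1 (b.trans c)

namespace Cf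

variable {M : Subgroup G} {g h a t s z w : G} (H : Cf M g h a t s z w)
include H

theorem tMt : ∀ x ∈ M, t * x * t ∈ M := fun x hx => by
  have := H.nt x hx
  rwa [H.ti] at this

theorem Cg_le : C1 g ≤ Ext M t H.tt H.tMt := fun x hx => by
  obtain ⟨i, j, e | e⟩ := H.Cg x (mem_C1.1 hx)
  · exact Or.inl (e ▸ mul_mem (pow_mem H.gM i) (pow_mem H.hM j))
  · right
    rw [e, mul_assoc, H.tt, mul_one]
    exact mul_mem (pow_mem H.gM i) (pow_mem H.hM j)

theorem tnM : t ∉ M := fun e => H.t1 (H.one_of_M e H.tt)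

theorem card_C3 {y : G} (y3 : y ^ 3 = 1) (y1 : y ≠ 1) : Nat.card (C1 y) ∣ 18 := by
  obtain ⟨x, hx⟩ := H.conj3 y y3 y1
  rw [← card_C1_conj (isConj_iff.2 ⟨x, hx⟩)]
  have := card_dvd_of_le H.Cg_le
  rwa [Ext_card H.tnM, H.card] at this

theorem c3g {x : G} (x3 : x ^ 3 = 1) (c : x * g = g * x) : x ∈ M := by
  obtain ⟨m, hm, rfl | rfl⟩ := Ext_cases (H.Cg_le (mem_C1.2 c))
  · exact hm
  · have h1 : m * t * (m * t) ∈ M := by
      have := mul_mem hm (H.tMt m hm)
      rwa [show m * (t * m * t) = m * t * (m * t) by group] at this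
    have h2 := mul_mem h1 h1
    rwa [show m * t * (m * t) * (m * t * (m * t)) = (m * t) ^ 3 * (m * t) by
      rw [pow_three']; group, x3, one_mul] at h2

theorem c3 {x y : G} (hy : y ∈ M) (y1 : y ≠ 1) (x3 : x ^ 3 = 1) (c : x * y = y * x) : x ∈ M := by
  obtain ⟨d, rfl⟩ := H.conj3 y (H.m3 y hy) y1
  have k : ∀ x : G, x ^ 3 = 1 → x * (d * g * d⁻¹) = d * g * d⁻¹ * x → d⁻¹ * x * d ∈ M :=
    fun x x3 c => H.c3g (by
      have := conj_pow (a := d⁻¹) (b := x) (i := 3)
      rwa [inv_inv, x3, mul_one, inv_mul_cancel] at this) (Cf.conj_comm c)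
  have h1 : d⁻¹ ∈ N M := mem_N_of_conj fun m hm => by
    rw [inv_inv]; exact k m (H.m3 m hm) (H.ab m hm _ hy)
  have := (mem_normalizer_iff.1 h1 x).2 (by rw [inv_inv]; exact k x x3 c)
  exact this

theorem pgM : IsPGroup 3 M := IsPGroup.of_card (n := 2) H.card

theorem sylM : SylIn 3 M ⊤ := by
  haveI := Fact.mk Nat.prime_three
  refine ⟨le_top, H.pgM, fun P _ hP hle => le_antisymm (fun x hx => ?_) hle⟩
  have : Nontrivial P := ⟨⟨⟨g, hle H.gM⟩, 1, fun e => H.g1 (congrArg Subtype.val e)⟩⟩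
  have := hP.center_nontrivial
  obtain ⟨⟨y, hy⟩, y1⟩ := exists_ne (1 : center P)
  have yc : ∀ x ∈ P, x * y = y * x := fun x hx =>
    congrArg Subtype.val (mem_center_iff.1 hy ⟨x, hx⟩)
  have y1' : (y : G) ≠ 1 := fun e => y1 (Subtype.ext (Subtype.ext e))
  have y3 := cube_of_six hP y.2 (H.six_g (yc g (hle H.gM)).symm)
  exact H.c3 (H.c3g y3 (yc g (hle H.gM)).symm) y1'
    (cube_of_six hP hx (H.six y3 y1' (yc x hx))) (yc x hx)

theorem anM (k : ℕ) : ∀ m ∈ M, a ^ k * m * (a ^ k)⁻¹ ∈ M := by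
  have : a ∈ N M := mem_N_of_conj H.na
  exact fun m hm => (mem_normalizer_iff.1 (pow_mem this k) m).1 hm

theorem a_trans {y : G} (hy : y ∈ M) (y1 : y ≠ 1) : ∃ k : ℕ, a ^ k * g * (a ^ k)⁻¹ = y := by
  classical
  have D := H.sd
  have nz : ∀ k : ℕ, k % 8 ≠ 0 → a ^ k * g ≠ g * a ^ k := fun k hk e => by
    have c : Commute (a ^ k) g := e
    obtain ⟨m, hm⟩ : ∃ m, (k * m) % 8 = 4 % 8 := by
      rcases (by omega : k % 2 = 1 ∨ k % 4 = 2 ∨ k % 8 = 4) with e | e | e
      exacts [⟨4, by omega⟩, ⟨2, by omega⟩, ⟨1, by omega⟩]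
    have c2 := c.pow_left m
    rw [← pow_mul, D.inj.2 hm, ← H.ez] at c2
    have := H.zM g H.gM
    rw [c2.eq, mul_assoc, H.zz, mul_one] at this
    exact H.g1 (H.one_of_M H.gM (mul_eq_one_iff_eq_inv.2 this))
  let F : Fin 8 → {m : M // m ≠ 1} := fun k => ⟨⟨a ^ k.1 * g * (a ^ k.1)⁻¹, H.anM _ g H.gM⟩,
    fun e => H.g1 (cj1 (c := (a ^ k.1)⁻¹) (by simpa using congrArg Subtype.val e))⟩
  have hF : Function.Injective F := by
    intro i j e
    have e1 : a ^ i.1 * g * (a ^ i.1)⁻¹ = a ^ j.1 * g * (a ^ j.1)⁻¹ :=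
      congrArg (fun x => (x.1 : G)) e
    by_contra hij
    refine nz (7 * j.1 + i.1) (by omega) ?_
    have e2 : a ^ (7 * j.1) = (a ^ j.1)⁻¹ := by
      rw [eq_inv_iff_mul_eq_one, ← pow_add, ← pow_zero a, D.inj]; omega
    rw [pow_add, e2]
    calc (a ^ j.1)⁻¹ * a ^ i.1 * g = (a ^ j.1)⁻¹ * (a ^ i.1 * g * (a ^ i.1)⁻¹) * a ^ i.1 := by group
      _ = _ := by rw [e1]; group
  have := Fintype.ofFinite M
  have hc : Nat.card {m : M // m ≠ 1} ≤ Nat.card (Fin 8) := by
    have h9 := H.card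
    rw [Nat.card_eq_fintype_card] at h9
    rw [Nat.card_eq_fintype_card, Fintype.card_subtype_compl, h9]
    simp
  obtain ⟨k, hk⟩ := (hF.bijective_of_nat_card_le hc).2 ⟨⟨y, hy⟩, fun e => y1 (congrArg Subtype.val e)⟩
  exact ⟨k, congrArg (fun x => (x.1 : G)) hk⟩

theorem NM_le {K : Subgroup G} (h1 : M ≤ K) (h2 : a ∈ K) (h3 : t ∈ K) : N M ≤ K := by
  intro n hn
  obtain ⟨k, hk⟩ := H.a_trans ((mem_normalizer_iff.1 hn g).1 H.gM)
    (fun e => H.g1 (cj1 (c := n⁻¹) (by simpa using e)))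
  have : (a ^ k)⁻¹ * n ∈ K := Ext_le h1 h3 (H.Cg_le (mem_C1.2 (by
    calc (a ^ k)⁻¹ * n * g = (a ^ k)⁻¹ * (n * g * n⁻¹) * n := by group
      _ = _ := by rw [← hk]; group)))
  simpa using K.mul_mem (pow_mem h2 k) this

theorem sylD (h48 : Nat.card (C1 z) = 48) : SylIn 2 H.sd.S ⊤ := by
  have D := H.sd
  refine sylIn_of_norm D.pg fun P hP hle n hn hN => ?_
  have hz : z ∈ D.S := H.ez ▸ pow_mem D.aS 4
  have c : n * z * n⁻¹ * a = a * (n * z * n⁻¹) := by
    have := mem_C1.1 (D.leC ((mem_normalizer_iff''.1 hN a).1 D.aS))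
    rw [← H.ez] at this
    calc n * z * n⁻¹ * a = n * (z * (n⁻¹ * a * n)) * n⁻¹ := by group
      _ = _ := by rw [← this]; group
  have e : n * z * n⁻¹ = z := by
    rcases D.inv ((mem_normalizer_iff.1 hN z).1 hz) (sq_conj H.zz n) with e | e | ⟨c', hc', e⟩
    · exact absurd (cj1 (c := n⁻¹) (by simpa using e)) H.z1
    · exact e.trans H.ez.symm
    · exfalso
      obtain ⟨i, rfl⟩ := D.nat hc'
      rw [e] at c
      have c2 : t * a = a * t := by
        calc t * a = (a ^ i)⁻¹ * (a ^ i * t * (a ^ i)⁻¹ * a) * a ^ i := by group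
          _ = _ := by rw [c]; group
      have t1 := D.tan' 1
      have h2 := D.inj (i := 1) (j := 3 * 1)
      rw [pow_one] at t1 h2
      rw [c2, mul_left_inj] at t1
      have := h2.1 t1
      omega
  have h2 : P ⊓ C1 z ≤ D.S := eq_of_two (k := 4) (hP.to_le inf_le_left)
    (le_inf hle (H.ez ▸ D.leC)) inf_le_right D.card (by rw [h48]; norm_num)
  exact h2 ⟨hn, mem_C1.2 (mul_inv_eq_iff_eq_mul.1 e)⟩

theorem X1 [IsSimpleGroup G] (h48 : Nat.card (C1 t) = 48) (hzt : IsConj z t) :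
    Cfsg.Spor.IsoM11 G := by
  haveI := Fact.mk Nat.prime_two
  haveI := Fact.mk Nat.prime_three
  have D := H.sd
  have hz48 : Nat.card (C1 z) = 48 := by rw [card_C1_conj hzt, h48]
  have hS := H.sylD hz48
  have h9 : 9 ∣ Nat.card G := H.card ▸ card_subgroup_dvd_card M
  have h16 : 16 ∣ Nat.card G := D.card ▸ card_subgroup_dvd_card D.S
  have one : ∀ x : G, orderOf x = 2 → IsConj x z := fun x hx => by
    have ix := iv_of_orderOf hx
    obtain ⟨c, hc⟩ := thompson_transfer' hS le_Ext D.idx H.simp ix.sq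
    obtain ⟨i, hi⟩ := D.nat hc
    rcases D.inv_a (hi ▸ sq_conj ix.sq c) with e | e
    · exact absurd (hi.trans e) (ix.conj c).ne
    · exact isConj_iff.2 ⟨c, (hi.trans e).trans H.ez.symm⟩
  obtain ⟨z', a', s', φ, hl⟩ := CfsgL.exists_loc48 (G := G) (by omega) (by omega)
    (Or.inr ⟨a ^ 2, by rw [orderOf_pow, D.ord]; rfl⟩)
    (fun x y hx hy => (one x hx).trans (one y hy).symm)
    (fun x hx => by rw [card_C1_conj (one x hx), hz48])
    (fun y _ hy _ _ h8 => by
      have := h8.trans (H.card_C3 (y := y) (by rw [← hy, pow_orderOf_eq_one])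
        (fun e => by rw [e, orderOf_one] at hy; omega))
      omega)
  obtain ⟨c, hc⟩ := isConj_iff.1 (one z' (Iv.orderOf ⟨hl.z2, hl.z1⟩)).symm
  let ψ : C1 z →* C1 z' :=
    { toFun := fun k => ⟨c * k * c⁻¹, mem_C1.2 (hc ▸ comm_conj' (mem_C1.1 k.2) c)⟩
      map_one' := Subtype.ext (by simp)
      map_mul' := fun x y => Subtype.ext (by simp [mul_assoc]) }
  have hl' : Loc z a t (φ.comp ψ) :=
    { a4 := H.ez.symm
      z2 := H.zz
      z1 := H.z1
      s2 := H.tt
      sa := H.ta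
      surj := hl.surj.comp fun k => ⟨⟨c⁻¹ * k * c, mem_C1.2 (by
        have := comm_conj' (mem_C1.1 k.2) c⁻¹
        have e : c⁻¹ * z' * c⁻¹⁻¹ = z := by rw [← hc]; group
        rwa [e, inv_inv] at this)⟩, Subtype.ext (by simp [ψ, mul_assoc])⟩
      ker := fun k => by
        rw [MonoidHom.comp_apply, hl.ker]
        change c * k * c⁻¹ = 1 ∨ c * k * c⁻¹ = z' ↔ _
        rw [← hc]
        simp }
  obtain ⟨val, p1, p2, p3, p4, p5, p6, v, hv, hvz⟩ := hl'.concl H.card H.m3 H.ab H.na H.nt hzt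
  have h46 : Gen 4 val ≤ Gen 6 val := Gen_le fun i h1 h2 => mem_Gen val h1 (by omega)
  set K := Gen 6 val with hK
  have hMK : M ≤ K := p4.trans h46
  have hDK : D.S ≤ K := D.le (h46 p2) (h46 p3)
  have hNK : N M ≤ K := H.NM_le hMK (h46 p2) (h46 p3)
  have zK : z ∈ K := p6 (mem_C1.2 rfl)
  have iz : CfsgSE.Iv z := ⟨H.zz, H.z1⟩
  have oneK : ∀ x ∈ K, CfsgSE.Iv x → ∃ k ∈ K, x = k * z * k⁻¹ := by
    intro x hx ix
    obtain ⟨k, hk, hle⟩ := (hS.of_le hDK le_top).exists_le_cj (zpowers_le.2 hx)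
      (IsPGroup.of_card (n := 1) (by rw [Nat.card_zpowers, ix.orderOf]; rfl))
    have h1 := mem_cj.1 (hle (mem_zpowers x))
    have ix' := ix.conj k⁻¹
    rw [inv_inv] at ix'
    rcases D.inv h1 ix'.sq with e | e | ⟨d, hd, e⟩
    · exact absurd e ix'.ne
    · exact ⟨k, hk, by rw [H.ez, ← e]; group⟩
    · refine ⟨k * d * v, mul_mem (mul_mem hk (hDK (le_Ext hd))) hv, ?_⟩
      calc x = k * (k⁻¹ * x * k) * k⁻¹ := by group
        _ = _ := by rw [e, ← hvz]; group
  have hKtop : K = ⊤ := by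
    by_contra hne
    have S : SE G (G ⧸ K) := se_quot (fun o => iz.not_mem o zK) fun x hx ix y hy => by
      obtain ⟨k, hk, rfl⟩ := oneK x hx ix
      obtain ⟨k', hk', e⟩ := oneK _ hy (ix.conj y)
      have : k'⁻¹ * y * k ∈ K := p6 (mem_C1.2 (by
        calc k'⁻¹ * y * k * z = k'⁻¹ * (y * (k * z * k⁻¹) * y⁻¹) * y * k := by group
          _ = _ := by rw [e]; group))
      have := K.mul_mem (K.mul_mem hk' this) (K.inv_mem hk)
      simpa [mul_assoc] using this
    have eS : St G ((1 : G) : G ⧸ K) = K := MulAction.stabilizer_quotient K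
    obtain ⟨y, hy⟩ : ∃ y, y ∉ K := by
      by_contra hc
      push Not at hc
      exact hne (eq_top_iff.2 fun y _ => hc y)
    have hab : ((1 : G) : G ⧸ K) ≠ y • ((1 : G) : G ⧸ K) := fun e => hy (by
      rw [← eS, mem_St]; exact e.symm)
    set β := y • ((1 : G) : G ⧸ K)
    have hi := S.idx_D' hab iz (by rw [← mem_St, eS]; exact zK)
    obtain ⟨R, hR⟩ := exists_sylIn 3 (St G ((1 : G) : G ⧸ K) ⊓ St G β)
    obtain ⟨j, -, hj, hjR⟩ := S.syl_J Nat.prime_three hab hR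
    rw [eS] at hi hR
    have h3 : 3 ∣ Nat.card (K ⊓ St G β : Subgroup G) := by
      refine Dvd.dvd.trans ?_ (relIndex_dvd_card (C1 z) _)
      rw [hi]
      have h1 := index_mul_card ((C1 z).subgroupOf K)
      rw [Nat.card_congr (subgroupOfEquivOfLe p6).toEquiv, hz48] at h1
      have h2 := card_dvd_of_le hMK
      rw [H.card, ← h1] at h2
      change 9 ∣ (C1 z).relIndex K * 48 at h2
      omega
    obtain ⟨r, hr, r1⟩ : ∃ r ∈ R, r ≠ 1 := by
      refine (bot_or_exists_ne_one R).resolve_left fun e => hR.not_dvd_relIndex ?_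
      rw [e, relIndex_bot_left]; exact h3
    obtain ⟨k, hk, hle⟩ := (H.sylM.of_le hMK le_top).exists_le_cj (hR.le.trans inf_le_left)
      hR.isPGroup
    have h1 := mem_cj.1 (hle hr)
    have h2 := mem_cj.1 (hle ((mem_normalizer_iff.1 hjR r).1 hr))
    have h4 : k⁻¹ * j * k ∈ N M := mem_N_of_conj fun m hm => by
      refine H.c3 h2 (fun e => r1 (cj1 (c := j⁻¹) (by simpa using cj1 e))) ?_ ?_
      · rw [conj_pow, H.m3 m hm]; group
      · have := comm_conj' (H.ab m hm _ h1) (k⁻¹ * j * k)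
        rwa [show k⁻¹ * j * k * (k⁻¹ * r * k) * (k⁻¹ * j * k)⁻¹ = k⁻¹ * (j * r * j⁻¹) * k by group]
          at this
    have h5 : j ∈ K := by
      have := K.mul_mem (K.mul_mem hk (hNK h4)) (K.inv_mem hk)
      simpa [mul_assoc] using this
    rw [← eS, mem_St] at h5
    exact hab (h5.symm.trans hj)
  have hMn : ¬ M.Normal := fun hn => by
    rcases hn.eq_bot_or_eq_top with e | e
    · have := H.gM
      rw [e, mem_bot] at this
      exact H.g1 this
    · exact H.tnM (e ▸ mem_top t)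
  have big : ¬ Nat.card G < 6000 := fun hlt => by
    have hc : commutator G = ⊤ := by
      refine (inferInstance : (commutator G).Normal).eq_bot_or_eq_top.resolve_left fun e => ?_
      have h2 : ⁅z, g⁆ ∈ commutator G := commutator_mem_commutator (mem_top _) (mem_top _)
      rw [e, mem_bot, commutatorElement_eq_one_iff_mul_comm] at h2
      have h3 := H.zM g H.gM
      rw [h2, mul_assoc, H.zz, mul_one] at h3
      exact H.g1 (H.one_of_M H.gM (mul_eq_one_iff_eq_inv.2 h3))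
    have h1 := CfsgB0.card_mem hc hlt
    have h2 := H.sylM.not_dvd_relIndex
    rw [relIndex_top_right] at h2
    have h3 := M.card_mul_index
    rw [H.card] at h3
    have h4 : Nat.card G = 2448 := by
      simp only [List.mem_cons, List.not_mem_nil, or_false] at h1
      omega
    obtain ⟨P, hP⟩ := H.sylM.exists_sylow
    have h5 := card_sylow_modEq_one 3 G
    rw [P.card_eq_index_normalizer] at h5
    have h6 : (N M).index ≡ 1 [MOD 3] := by rw [← hP]; exact h5
    have h7 := (N M).card_mul_index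
    have h8 : 9 ∣ Nat.card (N M) := H.card ▸ card_dvd_of_le le_normalizer
    have h10 : 16 ∣ Nat.card (N M) :=
      D.card ▸ card_dvd_of_le (D.le (mem_N_of_conj H.na) (mem_N_of_conj H.nt))
    obtain ⟨q, hq⟩ := Nat.Coprime.mul_dvd_of_dvd_of_dvd (by norm_num) h8 h10
    rw [hq, h4] at h7
    have h11 : (N M).index ∣ 17 := ⟨q, by nlinarith⟩
    rcases (Nat.dvd_prime (by norm_num)).1 h11 with e | e
    · exact hMn (normalizer_eq_top_iff.1 (index_eq_one.1 e))
    · rw [e] at h6; revert h6; decide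
  rcases p1 with p1 | p1
  · obtain ⟨f, hf⟩ := hom_of_sat p1
    refine iso_of_sat p1 hKtop ?_
    have h1 := card_range_dvd f
    rw [hf, ← hK, hKtop, card_top] at h1
    rw [card_M11] at h1
    obtain ⟨q, hq⟩ := h1
    rcases q with _ | _ | q
    · omega
    · omega
    · exfalso
      apply big
      nlinarith
  · exfalso
    have h1 := boundL p1
    rw [← hK, hKtop, card_top] at h1
    have h2 : Gen 4 val ≤ D.S ⊔ M :=
      p5.trans (H.NM_le le_sup_right (mem_sup_left D.aS) (mem_sup_left D.tS))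
    have h3 := (card_dvd_of_le h2).trans (card_sup_dvd (X := D.S) (Y := M) (Or.inl fun x hx m hm =>
      (mem_normalizer_iff.1 (D.le (mem_N_of_conj H.na) (mem_N_of_conj H.nt) hx) m).1 hm))
    rw [D.card, H.card] at h3
    have := Nat.le_of_dvd (by norm_num) h3
    omega

end Cf

end CfsgM11
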