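import Cfsg.Agent.H4.DC
import Cfsg.Agent.H9.Pres5
import Cfsg.Agent.H9.SpModel

set_option autoImplicit false
set_option maxRecDepth 100000

/-! A presentation and a matrix model of the double cover of `Alt(8)`. -/

namespace CfsgMcL

open CfsgH3.TC CfsgH9 Subgroup

def R2 : List (List ℕ) := [[2, 2], [4, 4, 4], [2, 4, 3, 5]]

def C2 : CfsgH3.TC.Cert where
  par j := ([(0, 0), (0, 4), (0, 5)] : List (ℕ × ℕ)).getD j (0, 0)
  fact t := ([(0, 1, 0), (0, 2, 1), (1, 1, 1), (2, 2, 0), (1, 2, 2), (2, 1, 2)] : List (ℕ × ℕ × ℕ)).getD t (0, 0, 0)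
  just t := ([(2, 0, 0, 0, [], []),
    (0, 0, 0, 0, [], []),
    (1, 0, 2, 1, [0, 2], [3]),
    (0, 0, 0, 1, [], []),
    (1, 0, 1, 0, [2], [6]),
    (1, 2, 2, 0, [], [6, 1, 7])] : List (ℕ × ℕ × ℕ × ℕ × List ℕ × List ℕ)).getD t (0, 0, 0, 0, [], [])
  nfacts := 6
  liv k := ([0, 1, 2] : List ℕ).getD k 0
  nliv := 3
  fin k c := (([[(0, 0), (1, 0), (2, 1), (7, 2)],
    [(4, 1), (5, 1), (8, 2), (3, 0)],
    [(10, 2), (11, 2), (6, 0), (9, 1)]] : List (List (ℕ × ℕ))).getD k []).getD (c - 2) (0, 0)

theorem C2_chk : check (R2 ++ trivRels 2) (subLetters 1) 2 C2 = true := by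
  decide +kernel

def R3 : List (List ℕ) := [[2, 2], [4, 4, 4], [2, 4, 3, 5], [6, 6, 6], [2, 6, 3, 7], [4, 6, 4, 6, 3]]

def C3 : CfsgH3.TC.Cert where
  par j := ([(0, 0), (0, 6), (0, 7), (1, 5)] : List (ℕ × ℕ)).getD j (0, 0)
  fact t := ([(0, 1, 0), (0, 2, 0), (0, 3, 1), (1, 1, 1), (2, 3, 0), (1, 3, 2), (2, 1, 2), (1, 2, 2), (3, 2, 1), (2, 2, 3), (3, 1, 3), (3, 3, 3)] : List (ℕ × ℕ × ℕ)).getD t (0, 0, 0)
  just t := ([(2, 0, 0, 0, [], []),
    (2, 0, 1, 0, [], []),
    (0, 0, 0, 0, [], []),
    (1, 0, 4, 1, [0, 4], [5]),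
    (0, 0, 0, 1, [], []),
    (1, 0, 3, 0, [4], [8]),
    (1, 2, 4, 0, [], [8, 1, 9]),
    (1, 0, 5, 0, [2, 4], [8, 1]),
    (0, 0, 0, 1, [], []),
    (1, 1, 1, 0, [14], [16]),
    (1, 3, 2, 0, [], [16, 7, 17]),
    (1, 2, 5, 0, [18], [16, 10, 13])] : List (ℕ × ℕ × ℕ × ℕ × List ℕ × List ℕ)).getD t (0, 0, 0, 0, [], [])
  nfacts := 12
  liv k := ([0, 1, 2, 3] : List ℕ).getD k 0
  nliv := 4
  fin k c := (([[(0, 0), (1, 0), (2, 0), (3, 0), (4, 1), (9, 2)],
    [(6, 1), (7, 1), (14, 2), (17, 3), (10, 2), (5, 0)],
    [(12, 2), (13, 2), (18, 3), (15, 1), (8, 0), (11, 1)],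
    [(20, 3), (21, 3), (16, 1), (19, 2), (22, 3), (23, 3)]] : List (List (ℕ × ℕ))).getD k []).getD (c - 2) (0, 0)

theorem C3_chk : check (R3 ++ trivRels 3) (subLetters 2) 3 C3 = true := by
  decide +kernel

def R4 : List (List ℕ) := [[2, 2], [4, 4, 4], [2, 4, 3, 5], [6, 6, 6], [2, 6, 3, 7], [4, 6, 4, 6, 3], [8, 8, 8], [2, 8, 3, 9], [4, 8, 4, 8, 3], [6, 8, 6, 8, 3]]

def C4 : CfsgH3.TC.Cert where
  par j := ([(0, 0), (0, 8), (0, 9), (1, 5), (1, 7)] : List (ℕ × ℕ)).getD j (0, 0)
  fact t := ([(0, 1, 0), (0, 2, 0), (0, 3, 0), (0, 4, 1), (1, 1, 1), (2, 4, 0), (1, 4, 2), (2, 1, 2), (1, 2, 2), (1, 3, 2), (3, 2, 1), (2, 2, 3), (3, 1, 3), (3, 3, 3), (3, 4, 3), (4, 3, 1), (2, 3, 4), (4, 1, 4), (4, 2, 4), (4, 4, 4)] : List (ℕ × ℕ × ℕ)).getD t (0, 0, 0)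
  just t := ([(2, 0, 0, 0, [], []),
    (2, 0, 1, 0, [], []),
    (2, 0, 2, 0, [], []),
    (0, 0, 0, 0, [], []),
    (1, 0, 7, 1, [0, 6], [7]),
    (0, 0, 0, 1, [], []),
    (1, 0, 6, 0, [6], [10]),
    (1, 2, 7, 0, [], [10, 1, 11]),
    (1, 0, 8, 0, [2, 6], [10, 1]),
    (1, 0, 9, 0, [4, 6], [10, 1]),
    (0, 0, 0, 1, [], []),
    (1, 1, 1, 0, [16], [20]),
    (1, 3, 2, 0, [], [20, 9, 21]),
    (1, 2, 5, 0, [22], [20, 18, 15]),
    (1, 2, 8, 0, [22], [20, 12, 15]),
    (0, 0, 0, 1, [], []),
    (1, 1, 3, 0, [18], [30]),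
    (1, 4, 4, 0, [], [30, 9, 31]),
    (1, 1, 5, 0, [16, 32], [30, 9]),
    (1, 2, 9, 0, [32], [30, 12, 15])] : List (ℕ × ℕ × ℕ × ℕ × List ℕ × List ℕ)).getD t (0, 0, 0, 0, [], [])
  nfacts := 20
  liv k := ([0, 1, 2, 3, 4] : List ℕ).getD k 0
  nliv := 5
  fin k c := (([[(0, 0), (1, 0), (2, 0), (3, 0), (4, 0), (5, 0), (6, 1), (11, 2)],
    [(8, 1), (9, 1), (16, 2), (21, 3), (18, 2), (31, 4), (12, 2), (7, 0)],
    [(14, 2), (15, 2), (22, 3), (17, 1), (32, 4), (19, 1), (10, 0), (13, 1)],
    [(24, 3), (25, 3), (20, 1), (23, 2), (26, 3), (27, 3), (28, 3), (29, 3)],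
    [(34, 4), (35, 4), (36, 4), (37, 4), (30, 1), (33, 2), (38, 4), (39, 4)]] : List (List (ℕ × ℕ))).getD k []).getD (c - 2) (0, 0)

theorem C4_chk : check (R4 ++ trivRels 4) (subLetters 3) 4 C4 = true := by
  decide +kernel

def R5 : List (List ℕ) := [[2, 2], [4, 4, 4], [2, 4, 3, 5], [6, 6, 6], [2, 6, 3, 7], [4, 6, 4, 6, 3], [8, 8, 8], [2, 8, 3, 9], [4, 8, 4, 8, 3], [6, 8, 6, 8, 3], [10, 10, 10], [2, 10, 3, 11], [4, 10, 4, 10, 3], [6, 10, 6, 10, 3], [8, 10, 8, 10, 3]]

def C5 : CfsgH3.TC.Cert where
  par j := ([(0, 0), (0, 10), (0, 11), (1, 5), (1, 7), (1, 9)] : List (ℕ × ℕ)).getD j (0, 0)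
  fact t := ([(0, 1, 0), (0, 2, 0), (0, 3, 0), (0, 4, 0), (0, 5, 1), (1, 1, 1), (2, 5, 0), (1, 5, 2), (2, 1, 2), (1, 2, 2), (1, 3, 2), (1, 4, 2), (3, 2, 1), (2, 2, 3), (3, 1, 3), (3, 3, 3), (3, 4, 3), (3, 5, 3), (4, 3, 1), (2, 3, 4), (4, 1, 4), (4, 2, 4), (4, 4, 4), (4, 5, 4), (5, 4, 1), (2, 4, 5), (5, 1, 5), (5, 2, 5), (5, 3, 5), (5, 5, 5)] : List (ℕ × ℕ × ℕ)).getD t (0, 0, 0)
  just t := ([(2, 0, 0, 0, [], []),
    (2, 0, 1, 0, [], []),
    (2, 0, 2, 0, [], []),
    (2, 0, 3, 0, [], []),
    (0, 0, 0, 0, [], []),
    (1, 0, 11, 1, [0, 8], [9]),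
    (0, 0, 0, 1, [], []),
    (1, 0, 10, 0, [8], [12]),
    (1, 2, 11, 0, [], [12, 1, 13]),
    (1, 0, 12, 0, [2, 8], [12, 1]),
    (1, 0, 13, 0, [4, 8], [12, 1]),
    (1, 0, 14, 0, [6, 8], [12, 1]),
    (0, 0, 0, 1, [], []),
    (1, 1, 1, 0, [18], [24]),
    (1, 3, 2, 0, [], [24, 11, 25]),
    (1, 2, 5, 0, [26], [24, 20, 17]),
    (1, 2, 8, 0, [26], [24, 22, 17]),
    (1, 2, 12, 0, [26], [24, 14, 17]),
    (0, 0, 0, 1, [], []),
    (1, 1, 3, 0, [20], [36]),
    (1, 4, 4, 0, [], [36, 11, 37]),
    (1, 1, 5, 0, [18, 38], [36, 11]),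
    (1, 2, 9, 0, [38], [36, 22, 17]),
    (1, 2, 13, 0, [38], [36, 14, 17]),
    (0, 0, 0, 1, [], []),
    (1, 1, 6, 0, [22], [48]),
    (1, 5, 7, 0, [], [48, 11, 49]),
    (1, 1, 8, 0, [18, 50], [48, 11]),
    (1, 1, 9, 0, [20, 50], [48, 11]),
    (1, 2, 14, 0, [50], [48, 14, 17])] : List (ℕ × ℕ × ℕ × ℕ × List ℕ × List ℕ)).getD t (0, 0, 0, 0, [], [])
  nfacts := 30
  liv k := ([0, 1, 2, 3, 4, 5] : List ℕ).getD k 0
  nliv := 6
  fin k c := (([[(0, 0), (1, 0), (2, 0), (3, 0), (4, 0), (5, 0), (6, 0), (7, 0), (8, 1), (13, 2)],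
    [(10, 1), (11, 1), (18, 2), (25, 3), (20, 2), (37, 4), (22, 2), (49, 5), (14, 2), (9, 0)],
    [(16, 2), (17, 2), (26, 3), (19, 1), (38, 4), (21, 1), (50, 5), (23, 1), (12, 0), (15, 1)],
    [(28, 3), (29, 3), (24, 1), (27, 2), (30, 3), (31, 3), (32, 3), (33, 3), (34, 3), (35, 3)],
    [(40, 4), (41, 4), (42, 4), (43, 4), (36, 1), (39, 2), (44, 4), (45, 4), (46, 4), (47, 4)],
    [(52, 5), (53, 5), (54, 5), (55, 5), (56, 5), (57, 5), (48, 1), (51, 2), (58, 5), (59, 5)]] : List (List (ℕ × ℕ))).getD k []).getD (c - 2) (0, 0)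

theorem C5_chk : check (R5 ++ trivRels 5) (subLetters 4) 5 C5 = true := by
  decide +kernel

def R6 : List (List ℕ) := [[2, 2], [4, 4, 4], [2, 4, 3, 5], [6, 6, 6], [2, 6, 3, 7], [4, 6, 4, 6, 3], [8, 8, 8], [2, 8, 3, 9], [4, 8, 4, 8, 3], [6, 8, 6, 8, 3], [10, 10, 10], [2, 10, 3, 11], [4, 10, 4, 10, 3], [6, 10, 6, 10, 3], [8, 10, 8, 10, 3], [12, 12, 12], [2, 12, 3, 13], [4, 12, 4, 12, 3], [6, 12, 6, 12, 3], [8, 12, 8, 12, 3], [10, 12, 10, 12, 3]]

def C6 : CfsgH3.TC.Cert where
  par j := ([(0, 0), (0, 12), (0, 13), (1, 5), (1, 7), (1, 9), (1, 11)] : List (ℕ × ℕ)).getD j (0, 0)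
  fact t := ([(0, 1, 0), (0, 2, 0), (0, 3, 0), (0, 4, 0), (0, 5, 0), (0, 6, 1), (1, 1, 1), (2, 6, 0), (1, 6, 2), (2, 1, 2), (1, 2, 2), (1, 3, 2), (1, 4, 2), (1, 5, 2), (3, 2, 1), (2, 2, 3), (3, 1, 3), (3, 3, 3), (3, 4, 3), (3, 5, 3), (3, 6, 3), (4, 3, 1), (2, 3, 4), (4, 1, 4), (4, 2, 4), (4, 4, 4), (4, 5, 4), (4, 6, 4), (5, 4, 1), (2, 4, 5), (5, 1, 5), (5, 2, 5), (5, 3, 5), (5, 5, 5), (5, 6, 5), (6, 5, 1), (2, 5, 6), (6, 1, 6), (6, 2, 6), (6, 3, 6), (6, 4, 6), (6, 6, 6)] : List (ℕ × ℕ × ℕ)).getD t (0, 0, 0)
  just t := ([(2, 0, 0, 0, [], []),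
    (2, 0, 1, 0, [], []),
    (2, 0, 2, 0, [], []),
    (2, 0, 3, 0, [], []),
    (2, 0, 4, 0, [], []),
    (0, 0, 0, 0, [], []),
    (1, 0, 16, 1, [0, 10], [11]),
    (0, 0, 0, 1, [], []),
    (1, 0, 15, 0, [10], [14]),
    (1, 2, 16, 0, [], [14, 1, 15]),
    (1, 0, 17, 0, [2, 10], [14, 1]),
    (1, 0, 18, 0, [4, 10], [14, 1]),
    (1, 0, 19, 0, [6, 10], [14, 1]),
    (1, 0, 20, 0, [8, 10], [14, 1]),
    (0, 0, 0, 1, [], []),
    (1, 1, 1, 0, [20], [28]),
    (1, 3, 2, 0, [], [28, 13, 29]),
    (1, 2, 5, 0, [30], [28, 22, 19]),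
    (1, 2, 8, 0, [30], [28, 24, 19]),
    (1, 2, 12, 0, [30], [28, 26, 19]),
    (1, 2, 17, 0, [30], [28, 16, 19]),
    (0, 0, 0, 1, [], []),
    (1, 1, 3, 0, [22], [42]),
    (1, 4, 4, 0, [], [42, 13, 43]),
    (1, 1, 5, 0, [20, 44], [42, 13]),
    (1, 2, 9, 0, [44], [42, 24, 19]),
    (1, 2, 13, 0, [44], [42, 26, 19]),
    (1, 2, 18, 0, [44], [42, 16, 19]),
    (0, 0, 0, 1, [], []),
    (1, 1, 6, 0, [24], [56]),
    (1, 5, 7, 0, [], [56, 13, 57]),
    (1, 1, 8, 0, [20, 58], [56, 13]),
    (1, 1, 9, 0, [22, 58], [56, 13]),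
    (1, 2, 14, 0, [58], [56, 26, 19]),
    (1, 2, 19, 0, [58], [56, 16, 19]),
    (0, 0, 0, 1, [], []),
    (1, 1, 10, 0, [26], [70]),
    (1, 6, 11, 0, [], [70, 13, 71]),
    (1, 1, 12, 0, [20, 72], [70, 13]),
    (1, 1, 13, 0, [22, 72], [70, 13]),
    (1, 1, 14, 0, [24, 72], [70, 13]),
    (1, 2, 20, 0, [72], [70, 16, 19])] : List (ℕ × ℕ × ℕ × ℕ × List ℕ × List ℕ)).getD t (0, 0, 0, 0, [], [])
  nfacts := 42
  liv k := ([0, 1, 2, 3, 4, 5, 6] : List ℕ).getD k 0
  nliv := 7
  fin k c := (([[(0, 0), (1, 0), (2, 0), (3, 0), (4, 0), (5, 0), (6, 0), (7, 0), (8, 0), (9, 0), (10, 1), (15, 2)],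
    [(12, 1), (13, 1), (20, 2), (29, 3), (22, 2), (43, 4), (24, 2), (57, 5), (26, 2), (71, 6), (16, 2), (11, 0)],
    [(18, 2), (19, 2), (30, 3), (21, 1), (44, 4), (23, 1), (58, 5), (25, 1), (72, 6), (27, 1), (14, 0), (17, 1)],
    [(32, 3), (33, 3), (28, 1), (31, 2), (34, 3), (35, 3), (36, 3), (37, 3), (38, 3), (39, 3), (40, 3), (41, 3)],
    [(46, 4), (47, 4), (48, 4), (49, 4), (42, 1), (45, 2), (50, 4), (51, 4), (52, 4), (53, 4), (54, 4), (55, 4)],
    [(60, 5), (61, 5), (62, 5), (63, 5), (64, 5), (65, 5), (56, 1), (59, 2), (66, 5), (67, 5), (68, 5), (69, 5)],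
    [(74, 6), (75, 6), (76, 6), (77, 6), (78, 6), (79, 6), (80, 6), (81, 6), (70, 1), (73, 2), (82, 6), (83, 6)]] : List (List (ℕ × ℕ))).getD k []).getD (c - 2) (0, 0)

theorem C6_chk : check (R6 ++ trivRels 6) (subLetters 5) 6 C6 = true := by
  decide +kernel

def R7 : List (List ℕ) := [[2, 2], [4, 4, 4], [2, 4, 3, 5], [6, 6, 6], [2, 6, 3, 7], [4, 6, 4, 6, 3], [8, 8, 8], [2, 8, 3, 9], [4, 8, 4, 8, 3], [6, 8, 6, 8, 3], [10, 10, 10], [2, 10, 3, 11], [4, 10, 4, 10, 3], [6, 10, 6, 10, 3], [8, 10, 8, 10, 3], [12, 12, 12], [2, 12, 3, 13], [4, 12, 4, 12, 3], [6, 12, 6, 12, 3], [8, 12, 8, 12, 3], [10, 12, 10, 12, 3], [14, 14, 14], [2, 14, 3, 15], [4, 14, 4, 14, 3], [6, 14, 6, 14, 3], [8, 14, 8, 14, 3], [10, 14, 10, 14, 3], [12, 14, 12, 14, 3]]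

def C7 : CfsgH3.TC.Cert where
  par j := ([(0, 0), (0, 14), (0, 15), (1, 5), (1, 7), (1, 9), (1, 11), (1, 13)] : List (ℕ × ℕ)).getD j (0, 0)
  fact t := ([(0, 1, 0), (0, 2, 0), (0, 3, 0), (0, 4, 0), (0, 5, 0), (0, 6, 0), (0, 7, 1), (1, 1, 1), (2, 7, 0), (1, 7, 2), (2, 1, 2), (1, 2, 2), (1, 3, 2), (1, 4, 2), (1, 5, 2), (1, 6, 2), (3, 2, 1), (2, 2, 3), (3, 1, 3), (3, 3, 3), (3, 4, 3), (3, 5, 3), (3, 6, 3), (3, 7, 3), (4, 3, 1), (2, 3, 4), (4, 1, 4), (4, 2, 4), (4, 4, 4), (4, 5, 4), (4, 6, 4), (4, 7, 4), (5, 4, 1), (2, 4, 5), (5, 1, 5), (5, 2, 5), (5, 3, 5), (5, 5, 5), (5, 6, 5), (5, 7, 5), (6, 5, 1), (2, 5, 6), (6, 1, 6), (6, 2, 6), (6, 3, 6), (6, 4, 6), (6, 6, 6), (6, 7, 6), (7, 6, 1), (2, 6, 7), (7, 1, 7), (7, 2, 7), (7, 3, 7), (7, 4, 7), (7, 5, 7), (7, 7, 7)] : List (ℕ × ℕ × ℕ)).getD t (0, 0, 0)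
  just t := ([(2, 0, 0, 0, [], []),
    (2, 0, 1, 0, [], []),
    (2, 0, 2, 0, [], []),
    (2, 0, 3, 0, [], []),
    (2, 0, 4, 0, [], []),
    (2, 0, 5, 0, [], []),
    (0, 0, 0, 0, [], []),
    (1, 0, 22, 1, [0, 12], [13]),
    (0, 0, 0, 1, [], []),
    (1, 0, 21, 0, [12], [16]),
    (1, 2, 22, 0, [], [16, 1, 17]),
    (1, 0, 23, 0, [2, 12], [16, 1]),
    (1, 0, 24, 0, [4, 12], [16, 1]),
    (1, 0, 25, 0, [6, 12], [16, 1]),
    (1, 0, 26, 0, [8, 12], [16, 1]),
    (1, 0, 27, 0, [10, 12], [16, 1]),
    (0, 0, 0, 1, [], []),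
    (1, 1, 1, 0, [22], [32]),
    (1, 3, 2, 0, [], [32, 15, 33]),
    (1, 2, 5, 0, [34], [32, 24, 21]),
    (1, 2, 8, 0, [34], [32, 26, 21]),
    (1, 2, 12, 0, [34], [32, 28, 21]),
    (1, 2, 17, 0, [34], [32, 30, 21]),
    (1, 2, 23, 0, [34], [32, 18, 21]),
    (0, 0, 0, 1, [], []),
    (1, 1, 3, 0, [24], [48]),
    (1, 4, 4, 0, [], [48, 15, 49]),
    (1, 1, 5, 0, [22, 50], [48, 15]),
    (1, 2, 9, 0, [50], [48, 26, 21]),
    (1, 2, 13, 0, [50], [48, 28, 21]),
    (1, 2, 18, 0, [50], [48, 30, 21]),
    (1, 2, 24, 0, [50], [48, 18, 21]),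
    (0, 0, 0, 1, [], []),
    (1, 1, 6, 0, [26], [64]),
    (1, 5, 7, 0, [], [64, 15, 65]),
    (1, 1, 8, 0, [22, 66], [64, 15]),
    (1, 1, 9, 0, [24, 66], [64, 15]),
    (1, 2, 14, 0, [66], [64, 28, 21]),
    (1, 2, 19, 0, [66], [64, 30, 21]),
    (1, 2, 25, 0, [66], [64, 18, 21]),
    (0, 0, 0, 1, [], []),
    (1, 1, 10, 0, [28], [80]),
    (1, 6, 11, 0, [], [80, 15, 81]),
    (1, 1, 12, 0, [22, 82], [80, 15]),
    (1, 1, 13, 0, [24, 82], [80, 15]),
    (1, 1, 14, 0, [26, 82], [80, 15]),
    (1, 2, 20, 0, [82], [80, 30, 21]),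
    (1, 2, 26, 0, [82], [80, 18, 21]),
    (0, 0, 0, 1, [], []),
    (1, 1, 15, 0, [30], [96]),
    (1, 7, 16, 0, [], [96, 15, 97]),
    (1, 1, 17, 0, [22, 98], [96, 15]),
    (1, 1, 18, 0, [24, 98], [96, 15]),
    (1, 1, 19, 0, [26, 98], [96, 15]),
    (1, 1, 20, 0, [28, 98], [96, 15]),
    (1, 2, 27, 0, [98], [96, 18, 21])] : List (ℕ × ℕ × ℕ × ℕ × List ℕ × List ℕ)).getD t (0, 0, 0, 0, [], [])
  nfacts := 56
  liv k := ([0, 1, 2, 3, 4, 5, 6, 7] : List ℕ).getD k 0
  nliv := 8
  fin k c := (([[(0, 0), (1, 0), (2, 0), (3, 0), (4, 0), (5, 0), (6, 0), (7, 0), (8, 0), (9, 0), (10, 0), (11, 0), (12, 1), (17, 2)],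
    [(14, 1), (15, 1), (22, 2), (33, 3), (24, 2), (49, 4), (26, 2), (65, 5), (28, 2), (81, 6), (30, 2), (97, 7), (18, 2), (13, 0)],
    [(20, 2), (21, 2), (34, 3), (23, 1), (50, 4), (25, 1), (66, 5), (27, 1), (82, 6), (29, 1), (98, 7), (31, 1), (16, 0), (19, 1)],
    [(36, 3), (37, 3), (32, 1), (35, 2), (38, 3), (39, 3), (40, 3), (41, 3), (42, 3), (43, 3), (44, 3), (45, 3), (46, 3), (47, 3)],
    [(52, 4), (53, 4), (54, 4), (55, 4), (48, 1), (51, 2), (56, 4), (57, 4), (58, 4), (59, 4), (60, 4), (61, 4), (62, 4), (63, 4)],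
    [(68, 5), (69, 5), (70, 5), (71, 5), (72, 5), (73, 5), (64, 1), (67, 2), (74, 5), (75, 5), (76, 5), (77, 5), (78, 5), (79, 5)],
    [(84, 6), (85, 6), (86, 6), (87, 6), (88, 6), (89, 6), (90, 6), (91, 6), (80, 1), (83, 2), (92, 6), (93, 6), (94, 6), (95, 6)],
    [(100, 7), (101, 7), (102, 7), (103, 7), (104, 7), (105, 7), (106, 7), (107, 7), (108, 7), (109, 7), (96, 1), (99, 2), (110, 7), (111, 7)]] : List (List (ℕ × ℕ))).getD k []).getD (c - 2) (0, 0)

theorem C7_chk : check (R7 ++ trivRels 7) (subLetters 6) 7 C7 = true := by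
  decide +kernel

theorem bd7 {G : Type*} [Group G] {val : ℕ → G} (h0 : val 0 = 1) (hR : RelsHold val R7) {N : ℕ}
    (h : Bd (gcl val 1) N) : Bd (gcl val 7) (20160 * N) :=
  have h2 := h.step h0 (hR.mono (by decide)) C2_chk rfl
  have h3 := h2.step h0 (hR.mono (by decide)) C3_chk rfl
  have h4 := h3.step h0 (hR.mono (by decide)) C4_chk rfl
  have h5 := h4.step h0 (hR.mono (by decide)) C5_chk rfl
  have h6 := h5.step h0 (hR.mono (by decide)) C6_chk rfl
  h6.step h0 hR C7_chk (by
    change 8 * (7 * (6 * (5 * (4 * (3 * N))))) = _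
    omega)

theorem gcl_one {G : Type*} [Group G] (val : ℕ → G) : gcl val 1 = zpowers (val 1) := by
  rw [gcl, zpowers_eq_closure]
  congr 1
  ext x
  exact ⟨fun ⟨a, h1, h2, h3⟩ => by rw [← h3, show a = 1 by omega]; rfl,
    fun h => ⟨1, le_rfl, le_rfl, h.symm⟩⟩

theorem bd7' {G : Type*} [Group G] {val : ℕ → G} (h0 : val 0 = 1) (hR : RelsHold val R7) :
    Bd (gcl val 7) 40320 :=
  bd7 h0 hR (N := 2) (gcl_one val ▸ CfsgH8.finite_zpowers_le two_pos (by
    simpa [sval, pow_two] using hR [2, 2] (by decide)))

theorem gl_ok : MatOK 8 3 11 88 43 7 556666609303512192521004575910893303150344516418161711140083127073011526142734740840717771339582059799160271862813040453819458206495796557017624159295394910782942733182027582394412390418431 309485009821345068724781055 616723310391602169876813664822291587558417954410142514059397858689055064499902001615671699417010858961639429665599791036211364797285839241402381800174133563258062374729275380344894627206759869147586898102876175 41094811730846668025320233460065841380375795224532802150200596241665536182258169911503477984309200375884856833246007351820887458069874518348852992884861716313714131958457878300312502484191453190404826762051585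 :=
  ⟨by norm_num, by norm_num, by norm_num, by norm_num, by norm_num, by decide +kernel, by decide +kernel, by decide +kernel,
    by decide +kernel, by norm_num, by decide +kernel⟩

/-- the ambient group -/
abbrev K8 : Type := GL (Fin 8) (ZMod 3)

noncomputable def MM : Model K8 := glModel gl_ok

noncomputable def lT : NT := (.node (.node (.node (.node (.leaf (nat_lit 0x200000000000000000000000040000000000000000000000008000000000000000000000001000000000000000000000000200000000000000000000000040000000000000000000000008000000000000000000000001)) (.leaf (nat_lit 0x200000000002000008010000040100200000400000000004008010000040000000000401001000008000000040000000000200000802000008010010000040000000400000000004000008010040000000000200001001))) (.node (.leaf (nat_lit 0x200000000004000008010000040100100000400000000004008010000080000000000801001000008000000020000000000200000802000008008010000040000000400000000004000008020040000000000200000801)) (.leaf (nat_lit 0x200000801000000000010000040000000200400800004000008010000000000200400001001000000000010000080000000200800800000008000000020040100000000800000004004008000040000080200000000001))))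 (.node (.node (.leaf (nat_lit 0x400000000000000000000000080000000000000000000000010000000000000000000000002000000000000000000000000400000000000000000000000080000000000000000000000010000000000000000000000002)) (.leaf (nat_lit 0x200001001000000000010000040000000200401000002000008010000000000200400001001000000000020000080000000200400800000008000000040040100000000400000004004008000040000080100000000001))) (.node (.leaf (nat_lit 0x200800000000004000010020040000000000400002000000008010040000080000000001001002000008000000000080200200000800004008000000000040000200000001002004000008000040040000000000400001)) (.leaf (nat_lit 0x200400000000004000010040040000000000400002000000008010040000100000000001001004000008000000000080100200000800004008000000000040000100000000802004000008000040040000000000800001))))) (.node (.node (.node (.leaf (nat_lit 0x200000000000000000000000040000000000000000000000008000000000000000000000001000000000000000000000000200000000000000000000000040000000000000000000000008000000000000000000000001)) (.leaf (nat_lit 0x200000000004000010020000040080100000800000000008008020000080000000000800801000004000000020000000000200001001000004008020000040000000200000000002000008020020000000000400000801)))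 (.node (.leaf (nat_lit 0x200000000002000010020000040080200000800000000008008020000040000000000400801000004000000040000000000200001001000004010020000040000000200000000002000008010020000000000400001001)) (.leaf (nat_lit 0x200001002000000000020000040000000400801000002000008020000000000100200000801000000000020000040000000200401000000004000000040040080000000400000002008008000020000100100000000001)))) (.node (.node (.leaf (nat_lit 0x400000000000000000000000080000000000000000000000010000000000000000000000002000000000000000000000000400000000000000000000000080000000000000000000000010000000000000000000000002)) (.leaf (nat_lit 0x200000802000000000020000040000000400800800004000008020000000000100200000801000000000010000040000000200801000000004000000020040080000000800000002008008000020000100200000000001))) (.node (.leaf (nat_lit 0x200400000000008000020040040000000000800001000000008020020000100000000000801004000010000000000100100200001000002004000000000040000100000000801002000008000020080000000000800001)) (.leaf (nat_lit 0x200800000000008000020020040000000000800001000000008020020000080000000000801002000010000000000100200200001000002004000000000040000200000001001002000008000020080000000000400001))))))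

noncomputable def lval : ℕ → K8 := fun a => MM.dec (lT.get (2 * a))

theorem ltab : MM.Tab lT lval (2 * 8) := gl_tab gl_ok (mask := 2047) (by decide +kernel)

theorem lval0 : lval 0 = 1 := MM.dec_one (by decide +kernel)

theorem lrels : RelsHold lval R7 := ltab.relsHold (by decide) (by decide +kernel)

/-- the model of the double cover -/
noncomputable abbrev P8 : Subgroup K8 := gcl lval 7

def wU : List ℕ := [14, 12, 6, 4, 10, 8, 6, 4]

def wA : List ℕ := [8, 8, 14, 12, 4, 4]

def wW : List ℕ := [10, 8, 6, 4, 14, 12, 6, 4]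

def wX : List ℕ := [14, 8, 10, 4, 14, 12, 6, 4]

def wS : List ℕ := [14, 8, 6, 12, 10, 8, 6, 4]

def wM1 : List ℕ := [14, 4, 6, 8]

def wM2 : List ℕ := [6, 4, 12, 10, 6]

noncomputable def s7 : NT := (.node (.node (.node (.leaf (nat_lit 0x400000000000000000000000080000000000000000000000010000000000000000000000002000000000000000000000000400000000000000000000000080000000000000000000000010000000000000000000000002)) (.leaf (nat_lit 0x200001001000000000010000040000000200401000002000008010000000000200400001001000000000020000080000000200400800000008000000040040100000000400000004004008000040000080100000000001))) (.node (.leaf (nat_lit 0x200800000000004000010020040000000000400002000000008010040000080000000001001002000008000000000080200200000800004008000000000040000200000001002004000008000040040000000000400001)) (.leaf (nat_lit 0x200400000000004000010040040000000000400002000000008010040000100000000001001004000008000000000080100200000800004008000000000040000100000000802004000008000040040000000000800001)))) (.node (.node (.leaf (nat_lit 0x200000000004000008010000040100100000400000000004008010000080000000000801001000008000000020000000000200000802000008008010000040000000400000000004000008020040000000000200000801))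 (.leaf (nat_lit 0x200000801000000000010000040000000200400800004000008010000000000200400001001000000000010000080000000200800800000008000000020040100000000800000004004008000040000080200000000001))) (.leaf (nat_lit 0x200000000002000008010000040100200000400000000004008010000040000000000401001000008000000040000000000200000802000008010010000040000000400000000004000008010040000000000200001001))))

noncomputable def s7i : NT := (.node (.node (.node (.leaf (nat_lit 0x400000000000000000000000080000000000000000000000010000000000000000000000002000000000000000000000000400000000000000000000000080000000000000000000000010000000000000000000000002)) (.leaf (nat_lit 0x200000802000000000020000040000000400800800004000008020000000000100200000801000000000010000040000000200801000000004000000020040080000000800000002008008000020000100200000000001))) (.node (.leaf (nat_lit 0x200400000000008000020040040000000000800001000000008020020000100000000000801004000010000000000100100200001000002004000000000040000100000000801002000008000020080000000000800001)) (.leaf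 (nat_lit 0x200800000000008000020020040000000000800001000000008020020000080000000000801002000010000000000100200200001000002004000000000040000200000001001002000008000020080000000000400001)))) (.node (.node (.leaf (nat_lit 0x200000000002000010020000040080200000800000000008008020000040000000000400801000004000000040000000000200001001000004010020000040000000200000000002000008010020000000000400001001)) (.leaf (nat_lit 0x200001002000000000020000040000000400801000002000008020000000000100200000801000000000020000040000000200401000000004000000040040080000000400000002008008000020000100100000000001))) (.leaf (nat_lit 0x200000000004000010020000040080100000800000000008008020000080000000000800801000004000000020000000000200001001000004008020000040000000200000000002000008020020000000000400000801))))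

noncomputable def s4 : NT := (.node (.node (.leaf (nat_lit 0x10000000040000000000000000000000008000000000000000000000000004000000000000000000000000000001004000000000000000000000000000000000004000000000000000200000000000)) (.leaf (nat_lit 0x1000000000000000000040000000000000000004000000000000000000000000000002000000000000000000000000200000000000000000000000000080000000000000000004000000000000000000000000002))) (.node (.leaf (nat_lit 0x1000004008010000000000200000401001000000000020000040080200200801000002000000000000000000100000401002002004008000020000000000200800800004000000000020040100000400000000)) (.leaf (nat_lit 0x400001002000000020020000100000000801000000008000010040000000200200000800000004010000020000100000000400800000008000010020000000100000800002002000000020040000100000000401000))))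

noncomputable def tB : NT := (.node (.node (.node (.node (.node (.node (.node (.node (.leaf (nat_lit 0x200000000000000000000000040000000000000000000000008000000000000000000000001000000000000000000000000200000000000000000000000040000000000000000000000008000000000000000000000001)) (.leaf (nat_lit 0x400000000002000008020020000000000200000801000008008010000080000000000800802000004000000000080100200000800000004000000000040000080100000400802000008000000040000000000200001001))) (.leaf (nat_lit 0x400400001000000010000000000080000400800001000000010000020080000100200400002000000010000020080000100000001000002004000010000000080000000000800002004000010000000080000200800002))) (.node (.node (.leaf (nat_lit 0x801004000008000000000080100200001000000000008020020000080000200800000000008000020000000080200400001000004004000000000080000200400800000000008000010020040000000000800001)) (.leaf (nat_lit 0x400800000000008000010000000100200400000800000000008010040000080000400800000000004000020040040000000000400001002008000000000040000100000001001004000010000000000100100200000800)))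 (.leaf (nat_lit 0x2000004008020000000000100000800802004008010000040000000000400800800002000000000020080100000200000000000000000010000040080100400401000002000000000000000000100000401002)))) (.node (.node (.node (.leaf (nat_lit 0x1000000000000000000040000000000000000000000000000000040000000000000000000000000010000000000200000000000004000000000000000000000000000000000000008000000000000000400000000)) (.leaf (nat_lit 0x200001002000000000010040000100100000000001000004000000040080080000000400000002008010000000040000000200400800002000010010000000000200000800000002008008000020000080100000000001))) (.leaf (nat_lit 0x400000802000000000010040000100100000000001000004000000040080080000400001002000000000020000080000000400400800000008000000020080080000400000801000000000020000040000000200400800))) (.node (.node (.leaf (nat_lit 0x800000000000000000080000000000000000000000000000000000100000000000000004000000000000000000000000000002000000000000000080000000200000000000000000000000000000200000000000)) (.leaf (nat_lit 0x801001000004000000020000000000200000801000008008010000080000000000400801000004000000040000000000200001001002000000000040000100100400000000004000008010000040100100000800000)))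 (.leaf (nat_lit 0x200000001002008000000020000000100400400000000008010000000000080200200000002002004000000000040100000000001002000004010000000000080100200000002004008000000000080100000000001001))))) (.node (.node (.node (.node (.leaf (nat_lit 0x400001004000000010020000100000000801000000008000010040000000200400000800000008010000040000100000000401000000008000020040000000100000800001002000000010040000100000000800800)) (.leaf (nat_lit 0x200400001000000008000000000100000200400002000000008000040040000200000000800002008000020020040000200000001000000000010000040080000200400400001000000010000040040000200000000800))) (.leaf (nat_lit 0x200400000000004000020000000080100200001000000000008020020000080000000001001002000008000020040000000000800001000000010020020000100000400400000000008000020040040000000000400001))) (.node (.node (.leaf (nat_lit 0x400400001000000010000000000080000400800001002004000010000000080000200800001000000010000000000100000400400001000000008000020040000100000001000002008000010040080000100000000800)) (.leaf (nat_lit 0x200800002000000008000000000100000200400002000000010000040080000200000000800002008000020040080000100000000800000000008000040040000200400800002000000010000020080000100000001000)))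 (.leaf (nat_lit 0x800001004000000020040000080000000400800000004000010040000000100400000800000008010000020000080000000800800000004000020040000000200000400001002000000020040000100000000800800)))) (.node (.node (.node (.leaf (nat_lit 0x400801000004000000000000000000200000401001000000000020000040080200400800800002000000000040040080000400000000002008008000040000000000000000002000008010020000000000100000401002)) (.leaf (nat_lit 0x200400000000004000020000000080100200001000000000010020020000100000200400000000008000010020080000000000800002004004000000000080000200000000802002000008000000000080200400001000))) (.leaf (nat_lit 0x400000801000000000020020000080200000000002004000008020000000000100000800000004008010000020000080100000000001000004000000040040100000000800000002004010000000040000000200801000))) (.node (.node (.leaf (nat_lit 0x1000008010010000000000200000401001002004008000020000000000200401000004000000000040040080000400000000000000000020000080100200200800800004000000000000000000200000800801)) (.leaf (nat_lit 0x800002002000000020040000080000000400800000004000010020000000200200000800000008008000040000100000000800800000004000020040000000200000400002002000000010040000080000000801000)))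 (.leaf (nat_lit 0x400800002000000010000000000080000400800001000000008000020040000100400800001000000008000040040000200000000800002008000020000000080000000001000002008000010000000080000200800002)))))) (.node (.node (.node (.node (.node (.leaf (nat_lit 0x400001002000000020020000100000000801000000008000010040000000200200000800000004010000020000100000000400800000008000010020000000100000800002002000000020040000100000000401000)) (.leaf (nat_lit 0x1002002000010000000000100200400000800000000010010040000100000400400000000004000010000000100100200000800002008000000000040000100200400000000004000020040080000000000400002))) (.leaf (nat_lit 0x400000000000000000000000080000000000000000000000010000000000000000000000002000000000000000000000000400000000000000000000000080000000000000000000000010000000000000000000000002))) (.node (.node (.leaf (nat_lit 0x2000008010020000000000100000800802000000000010000080100100400400800004000000000000000000200000800801004008010000040000000000400401000002000000000040080080000200000000)) (.leaf (nat_lit 0x200800002000000008000000000100000200400002004008000020000000100000400400002000000008000000000080000200800002000000010000040080000200000000800004004000020020040000200000001000)))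 (.leaf (nat_lit 0x400000002004004000000040000000200200800000000004008000000000100100400000001004008000000000080080000000000801000008008000000000100200400000001002004000000000040080000000000802)))) (.node (.node (.node (.leaf (nat_lit 0x200400000000004000020000000080100200001000004004000000000080000200200800000000008000020000000100100200000800000000008020020000080000000001002002000010000040080000000000400002)) (.leaf (nat_lit 0x200001002000000000010040000100100000000001000008000000020080080000400001002000000000020000040000000200801000000004000000040080080000200001001000000000020000080000000400801000))) (.leaf (nat_lit 0x800004004000020000000080000400800001002004000010000000080000000000800002008000020040080000100000000800002008000020000000080000000000800002004000010040040000200000000800))) (.node (.node (.leaf (nat_lit 0x400001002000000020020000100000000801000000008000020020000000200200000800000008008000020000080000000401000000008000010040000000200000800001002000000010040000080000000801000)) (.leaf (nat_lit 0x1002002000010000000000100200400000800002008000000000040000100000001001002000008000020040000000000800001002004000000000040000200000001001004000010000020080000000000800002)))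 (.leaf (nat_lit 0x400401000002000000000000000000200000401001002004008000020000000000200801000002000000000000000000200000800801000000000020000040080200000000002000008010020040080080000200000000))))) (.node (.node (.node (.node (.leaf (nat_lit 0x8000000000040000000000000000004000000000000000000000000000000004000000000000000000000000000002000000008000000000000000000000000000000008000000000000100000000000)) (.leaf (nat_lit 0x801000000000008020040000000200200800000000008008000000000100200000400800000000008020020000000200200400000002000000010020080000000400000001002004000000000040100000000001002))) (.leaf (nat_lit 0x400001002000000020020000100000000801000000008000010020000000100200001000000004008000020000080000000800800000008000020020000000200000800001004000000020040000100000000800800))) (.node (.node (.leaf (nat_lit 0x801000000000008020040000000200200800000004000000010020040000000000800800000000008010000040080000000000802000008008000000000100200200000001002008000000040000000100400800000)) (.leaf (nat_lit 0x800002002000000020040000080000000400800000004000020020000000100200001000000004008000020000080000000800800000004000010020000000200000400002004000000020020000080000000401000)))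 (.leaf (nat_lit 0x1000004008000020000000080000400800001000000010000020080000100400400002000000008000000000080000200800002002008000020000000080000200400001000000008000040080000100000000800)))) (.node (.node (.node (.leaf (nat_lit 0x400801000004000000000000000000200000401001000000000020000080100200000000002000008008010040080080000200000000000000000020000040080200200800800004000000000020080100000200000000)) (.leaf (nat_lit 0x4000000000080000000000000000000000010000000000000000000000000000000000010000000000100000000000000000000000000000100000200000000000000000000000000000000400000000))) (.leaf (nat_lit 0x200400001000000008000000000100000200400002004004000010000000100000200800001000000010000000000080000200800002000000008000040040000200000001000004008000020040080000100000000800))) (.node (.node (.leaf (nat_lit 0x1000004008010000000000200000401001002008008000040000000000400800800002000000000020080100000200000000000000000020000040080200200400800002000000000000000000200000800801)) (.leaf (nat_lit 0x400000802000000000010040000100100000000001000008000000020080080000000800000004004008000000080000000400801000004000008010000000000200000400000004008008000020000080100000000001)))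 (.leaf (nat_lit 0x200400001000000008000000000100000200400002000000010000040080000200200400002000000010000020080000100000001000004004000010000000100000000000800004004000020000000100000400400001))))))) (.node (.node (.node (.node (.node (.node (.leaf (nat_lit 0x1000004008010000000000200000401001000000000020000040080200200801000002000000000000000000100000401002002004008000020000000000200800800004000000000020040100000400000000)) (.leaf (nat_lit 0x400000004008008000020000080200000000002004000008020000000000100400001002000000000020000040000000200801000002000010020000000000100000400000004004010000000040000000200400800))) (.leaf (nat_lit 0x200001001000000000020020000080200000000002000008000000020040100000200000801000000000010000040000000200801000000004000000040040100000200001002000000000010000080000000400801000))) (.node (.node (.leaf (nat_lit 0x400002004000000020020000100000000801000000008000020040000000100400000800000008010000020000080000000800800000008000010040000000200000800002002000000020020000080000000401000)) (.leaf (nat_lit 0x800002004000010000000100000200400002004004000010000000100000000001000004004000010040080000100000000800004008000020000000100000000000800004004000020040040000200000000800)))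 (.leaf (nat_lit 0x401000000000008010040000000200200800000002000000010020080000000000401000000000010020000080100000000001001000004008000000000100100400000001002004000000040000000100400800000)))) (.node (.node (.node (.leaf (nat_lit 0x401000000000008010040000000200200800000004000000010020040000000200000002002004000000000040100000000001002002000000010020080000000000400800000000010010000040080000000000802)) (.leaf (nat_lit 0x800000002004010000040000100100000000001002000010010000000000200200000801000000000010000080000000400400800004000008010000000000200000800000002008008000000080000000400801000))) (.leaf (nat_lit 0x800000002004010000040000100100000000001000008000000020080080000000400000002004008000020000080100000000001002000010010000000000200400000801000000000020000040000000200801000))) (.node (.node (.leaf (nat_lit 0x8000000000040000000000000000000000000000000000080000000000002000000000000000000000000400000000004000000000000000000000000000800000000000000000000000000000000001)) (.leaf (nat_lit 0x1002002000010000000000100200400000800002004000000000040000200200400000000008000010040040000000000400001000000010010040000100000200800000000004000010000000080200400001000)))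 (.leaf (nat_lit 0x800800000000010020020000000100400400000002000000020040080000000400000001004008000000000080080000000000801004000000020040040000000000801000000000008020000080100000000001001))))) (.node (.node (.node (.node (.leaf (nat_lit 0x1000008010010000000000200000401001000000000020000080100200400400800004000000000000000000100000401002002008008000040000000000200400800002000000000040080080000200000000)) (.leaf (nat_lit 0x400802000008000000040000000000400001002000004010020000040000000000801002000008000000020000000000400000802004000000000020000080200200000000002000010020000080080200000400000))) (.leaf (nat_lit 0x401000000000008010040000000200200800000000004008000000000100100000801000000000010010020000000200200400000004000000010020040000000200000001002008000000000080080000000000801))) (.node (.node (.leaf (nat_lit 0x400000000004000008010040000000000400001002004000000000020000080200000801002000008000000040000000000200001001000004010020000040000000000801001000004000000000040100100000800000)) (.leaf (nat_lit 0x4000000000080000000000000000000000000000000000100000000000001000000000000000000000000200000000002000000000000000000000000001000000000000000000000000000000000002)))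 (.leaf (nat_lit 0x400002004000000020020000100000000801000000008000020020000000200400001000000008008000040000080000000801000000008000020040000000100000800001004000000020040000100000000401000)))) (.node (.node (.node (.leaf (nat_lit 0x1000008010010000000000200000401001002008008000040000000000000000001000004010020020040100000400000000002004008000020000000000000000002000008010020020080100000200000000)) (.leaf (nat_lit 0x1000004008000020000000080000400800001002008000020000000080000000000800002008000020020040000200000001000002004000010000000080000000001000002008000010020080000100000001000))) (.leaf (nat_lit 0x400802000008000000040000000000400001002004000000000020000080200200000000004000008020000040100100000800000002000000000020000100200000401002000004000000000040080100000400000))) (.node (.node (.leaf (nat_lit 0x200000000002000010020020000000000200000801000004008020000080000000000401001000008000000000040080100000400000002000000000040000100100000800801000008000000040000000000200001001)) (.leaf (nat_lit 0x800002004000000010040000080000000400800000004000020040000000200400000800000008010000040000100000000401000000004000010040000000100000400002002000000010020000080000000401000)))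 (.leaf (nat_lit 0x800801000008000000040000000000400001002000008010010000040000000000400801000004000000020000000000400000802002000000000020000100200400000000002000008020000040100100000800000)))))) (.node (.node (.node (.node (.node (.leaf (nat_lit 0x400000002004004000000040000000200200800000004000000010020040000000000801000000000010010040000000100400800000000004008000000000100100000800800000000010020000040100000000001002)) (.leaf (nat_lit 0x800001002000000010040000080000000400800000004000010020000000200200001000000004008000040000100000000401000000004000020020000000100000400001004000000010040000100000000800800))) (.leaf (nat_lit 0x800002004000010000000100000200400002000000008000040040000200200800001000000010000000000100000400400001004004000010000000100000400800002000000010000020040000200000001000))) (.node (.node (.leaf (nat_lit 0x401002000004000000020000000000200000801004000000000040000080100400000000002000010010000040100100000800000002000000000040000100100000400802000008000000000040080100000400000)) (.leaf (nat_lit 0x200800800004000000000000000000100000800802004008010000040000000000400400800004000000000000000000100000401002000000000010000080100100000000001000004008010020040100000400000000)))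 (.leaf (nat_lit 0x400000000000000000000000080000000000000000000000000000000000100000000000000000000000010000000000200000000000000000010000000000000000000000000000008000000000000000000200000000)))) (.node (.node (.node (.leaf (nat_lit 0x400000001002004000000020000000100400400000004000000020040040000000000801000000000010010020000000200200400000000004010000000000080100000801000000000008020000040100000000001002)) (.leaf (nat_lit 0x400800002000000010000000000080000400800001000000010000020080000100000001000004004000010040080000100000000800000000008000020040000100200800002000000008000020080000100000001000))) (.leaf (nat_lit 0x800000000000000000080000000000000000000000000000000080000000000000000000000000020000000000100000000000002000000000000000000000000000000000000010000000000000000200000000))) (.node (.node (.leaf (nat_lit 0x200000001002008000000020000000100400400000002000000020040080000000000400800000000008020020000000200200400000000008010000000000080200000401000000000008010000080080000000000801)) (.leaf (nat_lit 0x800002004000010000000100000200400002004008000020000000100000400800001000000008000020080000100000001000000000008000040040000200400400001000000010000000000080000200800002)))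 (.leaf (nat_lit 0x800000002008008000020000080200000000002004000008020000000000100000800000004004008000000040000000200400800000008000000020040100000200001002000000000010020000080100000000001))))) (.node (.node (.node (.node (.leaf (nat_lit 0x400002002000000010020000100000000801000000008000020040000000100400001000000008008000020000100000000400800000008000020020000000200000800001002000000010020000080000000800800)) (.leaf (nat_lit 0x400800000000010010020000000100400400000000004010000000000080100000801000000000010010040000000100400800000004000000020040040000000200000002004008000000000080080000000000801))) (.leaf (nat_lit 0x200800002000000008000000000100000200400002000000008000040040000200400800001000000008000040040000200000000800004008000020000000100000000001000004008000020000000100000400400001))) (.node (.node (.leaf (nat_lit 0x801004000008000000000080100200001000004004000000000080000200000000802004000010000040080000000000400002004008000000000080000100000000802002000008000040040000000000400001)) (.leaf (nat_lit 0x200001002000000000010040000100100000000001002000010010000000000200000400000002004008000040000100200000000002000008000000020080080000000400000004008008000000080000000400400800)))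 (.leaf (nat_lit 0x800800000000010020020000000100400400000004000000020040040000000000800800000000008010000040080000000000802000008010000000000080200200000002004008000000020000000200200400000)))) (.node (.node (.node (.leaf (nat_lit 0x800000002008008000020000080200000000002000008000000020040100000000400000002004008000040000100200000000002002000010020000000000100400000802000000000010000040000000200801000)) (.leaf (nat_lit 0x200001001000000000020020000080200000000002002000010020000000000100000400000002004008000020000080100000000001000008000000020040100000000400000004004010000000080000000400400800))) (.leaf (nat_lit 0x1001004000010000000000080100200001000004004000000000080000200200400000000008000010040040000000000400001000000010020020000100000400800000000008000010000000100100200000800))) (.node (.node (.leaf (nat_lit 0x800000002008008000020000080200000000002002000010020000000000100400001002000000000020000080000000400400800004000008020000000000100000800000002004010000000080000000400801000)) (.leaf (nat_lit 0x800001002000000010040000080000000400800000004000020020000000100400001000000004010000020000080000000401000000004000010040000000100000400001002000000020040000080000000801000)))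 (.leaf (nat_lit 0x400000801000000000020020000080200000000002000008000000020040100000000800000004004008000000080000000400801000004000008020000000000100000400000004004010000040000100200000000002)))))))) (.node (.node (.node (.node (.node (.node (.node (.leaf (nat_lit 0x10000000040000000000000000000000008000000000000000000000000004000000000000000000000000000001004000000000000000000000000000000000004000000000000000200000000000)) (.leaf (nat_lit 0x1000002008000010000000100000200400002004004000010000000100000200400002000000010000040040000200000000800000000010000040080000200400800002000000010000000000080000200800002))) (.leaf (nat_lit 0x1000004008010000000000200000401001002004008000020000000000000000001000004010020040080080000200000000002008008000040000000000000000002000004008020040040080000400000000))) (.node (.node (.leaf (nat_lit 0x200000000000000000000000040000000000000000000000000000000040000000000000000002000000000000000000000000000002000000000000000000080000000000800000000000000000000000200000000000)) (.leaf (nat_lit 0x200000000004000010010040000000000400001002000008010010000040000000400000000002000010010000040100100000800000000004010020000040000000200000000002000010020000080100200000800000)))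 (.leaf (nat_lit 0x200800000000004000010000000080100200001000000000010020020000100000000001001002000008000040080000000000400002000000008020020000080000400800000000008000010020080000000000800002)))) (.node (.node (.node (.leaf (nat_lit 0x400002004000000020020000100000000801000000008000010040000000200200000800000008008000040000100000000800800000008000020020000000200000800002004000000010020000100000000400800)) (.leaf (nat_lit 0x200000000004000010010040000000000400001002000004010020000040000000000401001000008000000000040080100000400000002000000000020000100200000801001000004000000020000000000400000802))) (.leaf (nat_lit 0x200800800004000000000000000000100000800802000000000010000080100100000000001000004010020040080080000200000000000000000010000040080100400801000004000000000020080100000200000000))) (.node (.node (.leaf (nat_lit 0x200800000000004000010000000080100200001000004008000000000080000100400400000000004000010000000100100200000800000000010020020000100000000000802002000008000020040000000000800001)) (.leaf (nat_lit 0x200000001002008000000020000000100400400000000004010000000000080100000401000000000010020000040080000000000802002000000020040080000000000801000000000008020040000000100400800000)))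 (.leaf (nat_lit 0x802002000008000000000100200400000800002004000000000040000200000001001002000008000040080000000000400002002008000000000040000100000000801004000008000040040000000000400001))))) (.node (.node (.node (.node (.leaf (nat_lit 0x400401000002000000000000000000200000401001000000000020000040080200000000002000008008010020040100000400000000000000000020000080100200200400800002000000000040040080000400000000)) (.leaf (nat_lit 0x1000002008000010000000100000200400002000000010000040080000200400400002000000008000000000100000400400001004008000020000000100000400400001000000010000040080000100000000800))) (.leaf (nat_lit 0x1001004000010000000000080100200001000000000010020020000100000400400000000004000010000000080200400001000004008000000000080000100400400000000008000020040080000000000400002))) (.node (.node (.leaf (nat_lit 0x10000000040000000000000000000000000000000040000000000000001000000000000000000000000400000000000000008000000000000000400000000000000000000000000000000000000002)) (.leaf (nat_lit 0x801004000008000000000080100200001000004008000000000080000100400800000000004000020020080000000000800002000000008020020000080000400400000000008000020000000100100200000800)))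 (.leaf (nat_lit 0x400000802000000000010040000100100000000001004000008010000000000200000800000004008010000040000100200000000002000004000000040080080000000800000002008008000000040000000200801000)))) (.node (.node (.node (.leaf (nat_lit 0x801001000004000000020000000000200000801004000000000040000080100000800802000004000000000040080100000400000000008008010000080000000200000000004000010010020000000000400000802)) (.leaf (nat_lit 0x400000000002000008020020000000000200000801000004008020000080000000200000000004000008020000080080200000400000000008008010000080000000400000000004000008010000040080100000400000))) (.leaf (nat_lit 0x400001004000000010020000100000000801000000008000010020000000100200000800000004010000040000080000000801000000008000010040000000200000800002004000000010020000080000000800800))) (.node (.node (.leaf (nat_lit 0x200001001000000000020020000080200000000002000004000000040040100000000400000002008010000000040000000200400800002000010020000000000100000800000002004010000040000100200000000002)) (.leaf (nat_lit 0x800800000000010020020000000100400400000000008010000000000080200000400800000000008020040000000100400800000002000000020040080000000400000002004004000000000040100000000001002)))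 (.leaf (nat_lit 0x400801000004000000000000000000200000401001002008008000040000000000400400800004000000000000000000200000800801000000000020000080100200000000002000004008020020040100000400000000)))))) (.node (.node (.node (.node (.node (.leaf (nat_lit 0x8000000000040000000000000000000000008000000000000000000000000000000000020000000000200000000000000000000000000000080000400000000000000000000000000000000200000000)) (.leaf (nat_lit 0x400000000000000000000000080000000000000000000000000000000080000000000000000004000000000000000000000000000001000000000000000000100000000001000000000000000000000000100000000000))) (.leaf (nat_lit 0x800001004000000020040000080000000400800000004000010020000000200200000800000004010000040000080000000801000000004000010040000000100000400002004000000020040000100000000401000))) (.node (.node (.leaf (nat_lit 0x400000004004010000040000100100000000001000004000000040080080000000800000004008010000020000080100000000001004000008010000000000200200001001000000000020000080000000400400800)) (.leaf (nat_lit 0x400000000004000008010040000000000400001002000004010020000040000000400000000002000010010000080080200000400000000008010010000040000000400000000002000008020000040080100000400000)))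 (.leaf (nat_lit 0x1001004000010000000000080100200001000004008000000000080000100000000802004000010000020040000000000800001004004000000000080000200000001002002000010000020080000000000800002)))) (.node (.node (.node (.leaf (nat_lit 0x200000000000000000000000040000000000000000000000000000000000080000000000000000000000020000000000100000000000000000008000000000000000000000000000004000000000000000000400000000)) (.leaf (nat_lit 0x400000001002004000000020000000100400400000000008010000000000080200000800800000000008010000080100000000001001004000000020040040000000000401000000000008010040000000100400800000))) (.leaf (nat_lit 0x801001000004000000020000000000200000801002000000000040000100100400000000002000010010000080080200000400000004000000000040000080100000800801000008000000000080100200000800000))) (.node (.node (.leaf (nat_lit 0x400800000000010010020000000100400400000004000000020040040000000400000001004008000000000040100000000001002002000000020040080000000000401000000000008010000040080000000000802)) (.leaf (nat_lit 0x800001002000000010040000080000000400800000004000010040000000100200000800000004010000020000100000000400800000004000010020000000200000400002002000000010020000080000000800800)))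 (.leaf (nat_lit 0x400000001002004000000020000000100400400000000004010000000000080100200000002002004000000000080080000000000801000008010000000000080200400000002004004000000000040080000000000802))))) (.node (.node (.node (.node (.leaf (nat_lit 0x2000004008020000000000100000800802000000000010000040080100200801000002000000000000000000200000800801004004010000020000000000400801000004000000000020040100000400000000)) (.leaf (nat_lit 0x400400000000008000020000000100200400000800000000008010040000080000000000802004000010000020040000000000800001000000010010040000100000200400000000004000020040040000000000400001))) (.leaf (nat_lit 0x200800800004000000000000000000100000800802000000000010000040080100400800800002000000000040040080000400000000004008010000040000000000000000001000008010010000000000200000800801))) (.node (.node (.leaf (nat_lit 0x200000002004008000000040000000200200800000000008008000000000100200400000001004008000000000040100000000001002000004008000000000100100200000001002008000000000080100000000001001)) (.leaf (nat_lit 0x400000004004010000040000100100000000001004000008010000000000200200000801000000000010000040000000200801000002000010010000000000200000400000004008008000000040000000200400800)))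 (.leaf (nat_lit 0x401002000004000000020000000000200000801000004008020000080000000000801002000008000000040000000000200001001004000000000040000080100200000000004000010010000080080200000400000)))) (.node (.node (.node (.leaf (nat_lit 0x800000000000000000080000000000000000002000000000000000000000000000001000000000000000000000000400000000000000000000000000100000000000000000008000000000000000000000000001)) (.leaf (nat_lit 0x800001004000000020040000080000000400800000004000020040000000200200000800000008008000020000080000000401000000004000010020000000200000400001004000000010020000100000000400800))) (.leaf (nat_lit 0x200000002004008000000040000000200200800000000004008000000000100100000401000000000010020000040080000000000802002000000010020080000000000800800000000010020020000000200200400000))) (.node (.node (.leaf (nat_lit 0x400000000004000008010040000000000400001002000008010010000040000000000800802000004000000000080100200000800000004000000000020000080200000401002000004000000020000000000400000802)) (.leaf (nat_lit 0x800002002000000020040000080000000400800000004000020040000000200400001000000008008000020000100000000400800000004000020020000000100000400001002000000020040000100000000401000)))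 (.leaf (nat_lit 0x400800000000008000010000000100200400000800000000010010040000100000000000802004000010000040080000000000400002000000008010040000080000200800000000004000010020080000000000800002))))))) (.node (.node (.node (.node (.node (.node (.leaf (nat_lit 0x1000000000000000000040000000000000000004000000000000000000000000000002000000000000000000000000200000000000000000000000000080000000000000000004000000000000000000000000002)) (.leaf (nat_lit 0x8000000080000000000000000002000000000000000000000000000000000000000020000000000200000000000000000000000000080000000000001000000000000000000000000000400000000))) (.leaf (nat_lit 0x4000000000080000000000000000002000000000000000000000000000000002000000000000000000000000000001000000010000000000000000000000000000000010000000000000200000000000))) (.node (.node (.leaf (nat_lit 0x200400800002000000000000000000100000800802000000000010000040080100000000001000004010020020040100000400000000000000000010000080100100400401000002000000000040040080000400000000)) (.leaf (nat_lit 0x800801000008000000040000000000400001002002000000000020000100200200000000004000008020000080080200000400000004000000000020000080200000801001000004000000000080100200000800000)))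 (.leaf (nat_lit 0x400000004008008000020000080200000000002002000010020000000000100000400000002008010000000080000000400801000000004000000040040100000400000802000000000010020000080100000000001)))) (.node (.node (.node (.leaf (nat_lit 0x200000002004008000000040000000200200800000002000000010020080000000000400800000000008020040000000100400800000000008008000000000100200000400800000000010010000080080000000000801)) (.leaf (nat_lit 0x200400800002000000000000000000100000800802000000000010000080100100200401000004000000000020080100000200000000004004010000020000000000000000001000004008010000000000200000800801))) (.leaf (nat_lit 0x200000000002000010020020000000000200000801000008008010000080000000200000000004000008020000040100100000800000000004008020000080000000200000000004000010010000080100200000800000))) (.node (.node (.leaf (nat_lit 0x800004004000020000000080000400800001000000008000020040000100200800001000000010000000000080000200800002002004000010000000080000200800002000000008000020040000200000001000)) (.leaf (nat_lit 0x400800000000010010020000000100400400000002000000020040080000000000401000000000010020000080100000000001001000004010000000000080100400000002004004000000020000000200200400000)))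 (.leaf (nat_lit 0x400800000000008000010000000100200400000800002008000000000040000100400400000000004000010000000080200400001000000000010010040000100000000000801004000008000020040000000000800001))))) (.node (.node (.node (.node (.leaf (nat_lit 0x400000004008008000020000080200000000002000004000000040040100000000800000004008010000040000100200000000002004000008020000000000100200001002000000000010000080000000400400800)) (.leaf (nat_lit 0x200800000000004000010000000080100200001000000000008020020000080000400800000000004000020040040000000000400001004008000000000080000100000001002002000010000000000080200400001000))) (.leaf (nat_lit 0x802002000008000000000100200400000800000000008010040000080000200800000000008000020000000100100200000800002004000000000040000200200800000000004000010020040000000000800001))) (.node (.node (.leaf (nat_lit 0x400002002000000010020000100000000801000000008000010020000000100400001000000004010000040000100000000800800000008000020040000000100000800002002000000020040000080000000801000)) (.leaf (nat_lit 0x800002004000000010040000080000000400800000004000010040000000100400001000000004010000040000100000000800800000004000020020000000100000400002004000000020020000100000000400800)))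 (.leaf (nat_lit 0x400400001000000010000000000080000400800001000000008000020040000100000001000004004000010020040000200000001000000000010000020080000100200400001000000008000040040000200000000800)))) (.node (.node (.node (.leaf (nat_lit 0x400000801000000000020020000080200000000002000004000000040040100000200000801000000000010000080000000400400800000008000000020040100000400000802000000000010000040000000200400800)) (.leaf (nat_lit 0x8000000080000000000000000000000000000000080000000000000002000000000000000000000000200000000000000010000000000000000200000000000000000000000000000000000000001))) (.leaf (nat_lit 0x200000000004000010010040000000000400001002002000000000020000100200000400801000004000000040000000000200001001000008010010000040000000000401002000004000000000080080200000400000))) (.node (.node (.leaf (nat_lit 0x1000004008000020000000080000400800001002004000010000000080000200400002000000010000040040000200000000800000000010000020080000100200800002000000008000000000100000400400001)) (.leaf (nat_lit 0x1000002008000010000000100000200400002004008000020000000100000000001000004004000010020040000200000001000004004000010000000100000000001000004008000020020080000100000001000)))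 (.leaf (nat_lit 0x400802000008000000040000000000400001002002000000000020000100200000401001000008000000000080100200000800000000004010020000040000000400000000002000008020040000000000200001001)))))) (.node (.node (.node (.node (.node (.leaf (nat_lit 0x1000000000000000000040000000000000000000000000000000000080000000000000002000000000000000000000000000001000000000000000040000000400000000000000000000000000000100000000000)) (.leaf (nat_lit 0x800002004000000010040000080000000400800000004000020020000000100400001000000008008000040000080000000801000000004000020040000000200000400001004000000010020000080000000800800))) (.leaf (nat_lit 0x400001004000000010020000100000000801000000008000020040000000100400001000000004010000020000080000000401000000008000010020000000100000800001004000000020020000100000000400800))) (.node (.node (.leaf (nat_lit 0x200000000002000010020020000000000200000801002000000000040000100100000400801000004000000020000000000400000802000008008010000080000000000400802000008000000000080080200000400000)) (.leaf (nat_lit 0x400000004004010000040000100100000000001002000010010000000000200000400000002008010000000080000000400801000000004000000040080080000400000801000000000020040000100200000000002)))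 (.leaf (nat_lit 0x8000000080000000000000000000000010000000000000000000000000002000000000000000000000000000002002000000000000000000000000000000000008000000000000000100000000000)))) (.node (.node (.node (.leaf (nat_lit 0x400002002000000010020000100000000801000000008000020020000000200200001000000004008000040000100000000401000000008000010020000000100000800002004000000010020000080000000401000)) (.leaf (nat_lit 0x401002000004000000020000000000200000801002000000000040000100100000401001000008000000000080100200000800000000004008020000080000000400000000004000008010020000000000400000802))) (.leaf (nat_lit 0x400800002000000010000000000080000400800001002008000020000000080000400400002000000008000000000100000400400001000000010000020080000100000000800002004000010020040000200000001000))) (.node (.node (.leaf (nat_lit 0x400400000000008000020000000100200400000800002004000000000040000200200800000000008000020000000080200400001000000000008010040000080000000001001004000010000040080000000000400002)) (.leaf (nat_lit 0x400400000000008000020000000100200400000800000000010010040000100000200400000000008000010020080000000000800002002004000000000040000200000000801004000008000000000100100200000800)))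 (.leaf (nat_lit 0x2000004008020000000000100000800802004004010000020000000000000000002000008008010040080080000200000000004008010000040000000000000000001000004008010040040080000400000000))))) (.node (.node (.node (.node (.leaf (nat_lit 0x400000000002000008020020000000000200000801004000000000040000080100000801002000008000000020000000000400000802000004008020000080000000000800801000008000000000040100100000800000)) (.leaf (nat_lit 0x2000008010020000000000100000800802004004010000020000000000200401000004000000000040040080000400000000000000000010000080100100400801000004000000000000000000100000401002))) (.leaf (nat_lit 0x2000008010020000000000100000800802004008010000040000000000000000002000008008010020040100000400000000004004010000020000000000000000001000008010010020080100000200000000))) (.node (.node (.leaf (nat_lit 0x801000000000008020040000000200200800000002000000010020080000000200000002002004000000000080080000000000801004000000010020040000000000800800000000010020000080100000000001001)) (.leaf (nat_lit 0x200400800002000000000000000000100000800802004004010000020000000000200801000002000000000000000000100000401002000000000010000040080100000000001000008010010040080080000200000000)))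 (.leaf (nat_lit 0x800000002004010000040000100100000000001004000008010000000000200000800000004004008000000040000000200400800000008000000020080080000200001001000000000020040000100200000000002)))) (.node (.node (.node (.leaf (nat_lit 0x10000000040000000000000000004000000000000000000000000000000000000000010000000000100000000000000000000000000040000000000000800000000000000000000000000200000000)) (.leaf (nat_lit 0x800801000008000000040000000000400001002004000000000020000080200000800802000004000000000040080100000400000000008010010000040000000200000000002000010020040000000000200001001))) (.leaf (nat_lit 0x400000002004004000000040000000200200800000000008008000000000100200000800800000000008010000080100000000001001004000000010020040000000000400800000000010010020000000200200400000))) (.node (.node (.leaf (nat_lit 0x400401000002000000000000000000200000401001000000000020000080100200200401000004000000000020080100000200000000002004008000020000000000000000002000004008020000000000100000401002)) (.leaf (nat_lit 0x802002000008000000000100200400000800002008000000000040000100400800000000004000020020080000000000800002000000008010040000080000200400000000004000020000000080200400001000)))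 (.leaf (nat_lit 0x800004004000020000000080000400800001002008000020000000080000400800001000000008000020080000100000001000000000008000020040000100200400001000000008000000000100000400400001)))))))))

noncomputable def pB : NT := (.node (.node (.node (.node (.node (.node (.node (.node (.leaf (nat_lit 0)) (.leaf (nat_lit 259))) (.leaf (nat_lit 113))) (.node (.node (.leaf (nat_lit 49)) (.leaf (nat_lit 361))) (.leaf (nat_lit 181)))) (.node (.node (.node (.leaf (nat_lit 22)) (.leaf (nat_lit 311))) (.leaf (nat_lit 143))) (.node (.node (.leaf (nat_lit 77)) (.leaf (nat_lit 435))) (.leaf (nat_lit 214))))) (.node (.node (.node (.node (.leaf (nat_lit 7)) (.leaf (nat_lit 280))) (.leaf (nat_lit 128))) (.node (.node (.leaf (nat_lit 63)) (.leaf (nat_lit 393))) (.leaf (nat_lit 195)))) (.node (.node (.node (.leaf (nat_lit 36)) (.leaf (nat_lit 341))) (.leaf (nat_lit 165))) (.node (.node (.leaf (nat_lit 98)) (.leaf (nat_lit 527))) (.leaf (nat_lit 235)))))) (.node (.node (.node (.node (.node (.leaf (nat_lit 3)) (.leaf (nat_lit 269))) (.leaf (nat_lit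 118))) (.node (.node (.leaf (nat_lit 54)) (.leaf (nat_lit 367))) (.leaf (nat_lit 190)))) (.node (.node (.node (.leaf (nat_lit 27)) (.leaf (nat_lit 327))) (.leaf (nat_lit 155))) (.node (.node (.leaf (nat_lit 87)) (.leaf (nat_lit 459))) (.leaf (nat_lit 224))))) (.node (.node (.node (.node (.leaf (nat_lit 12)) (.leaf (nat_lit 295))) (.leaf (nat_lit 135))) (.node (.node (.leaf (nat_lit 72)) (.leaf (nat_lit 415))) (.leaf (nat_lit 206)))) (.node (.node (.node (.leaf (nat_lit 40)) (.leaf (nat_lit 346))) (.leaf (nat_lit 171))) (.node (.node (.leaf (nat_lit 104)) (.leaf (nat_lit 591))) (.leaf (nat_lit 247))))))) (.node (.node (.node (.node (.node (.node (.leaf (nat_lit 1)) (.leaf (nat_lit 263))) (.leaf (nat_lit 115))) (.node (.node (.leaf (nat_lit 51)) (.leaf (nat_lit 363))) (.leaf (nat_lit 188)))) (.node (.node (.node (.leaf (nat_lit 24)) (.leaf (nat_lit 319))) (.leaf (nat_lit 147))) (.node (.node (.leaf (nat_lit 84)) (.leaf (nat_lit 443))) (.leaf (nat_lit 216))))) (.node (.node (.node (.node (.leaf (nat_lit 10)) (.leaf (nat_lit 283)))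 (.leaf (nat_lit 131))) (.node (.node (.leaf (nat_lit 65)) (.leaf (nat_lit 408))) (.leaf (nat_lit 203)))) (.node (.node (.node (.leaf (nat_lit 38)) (.leaf (nat_lit 343))) (.leaf (nat_lit 168))) (.node (.node (.leaf (nat_lit 102)) (.leaf (nat_lit 535))) (.leaf (nat_lit 244)))))) (.node (.node (.node (.node (.node (.leaf (nat_lit 5)) (.leaf (nat_lit 271))) (.leaf (nat_lit 125))) (.node (.node (.leaf (nat_lit 60)) (.leaf (nat_lit 384))) (.leaf (nat_lit 192)))) (.node (.node (.node (.leaf (nat_lit 29)) (.leaf (nat_lit 335))) (.leaf (nat_lit 157))) (.node (.node (.leaf (nat_lit 90)) (.leaf (nat_lit 495))) (.leaf (nat_lit 227))))) (.node (.node (.node (.node (.leaf (nat_lit 15)) (.leaf (nat_lit 303))) (.leaf (nat_lit 141))) (.node (.node (.leaf (nat_lit 75)) (.leaf (nat_lit 422))) (.leaf (nat_lit 212)))) (.node (.node (.node (.leaf (nat_lit 43)) (.leaf (nat_lit 354))) (.leaf (nat_lit 179))) (.node (.node (.leaf (nat_lit 107)) (.leaf (nat_lit 627))) (.leaf (nat_lit 255)))))))) (.node (.node (.node (.node (.node (.node (.node (.leaf (nat_lit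 0)) (.leaf (nat_lit 261))) (.leaf (nat_lit 114))) (.node (.node (.leaf (nat_lit 50)) (.leaf (nat_lit 362))) (.leaf (nat_lit 183)))) (.node (.node (.node (.leaf (nat_lit 23)) (.leaf (nat_lit 315))) (.leaf (nat_lit 144))) (.node (.node (.leaf (nat_lit 79)) (.leaf (nat_lit 442))) (.leaf (nat_lit 215))))) (.node (.node (.node (.node (.leaf (nat_lit 8)) (.leaf (nat_lit 282))) (.leaf (nat_lit 130))) (.node (.node (.leaf (nat_lit 64)) (.leaf (nat_lit 395))) (.leaf (nat_lit 201)))) (.node (.node (.node (.leaf (nat_lit 37)) (.leaf (nat_lit 342))) (.leaf (nat_lit 167))) (.node (.node (.leaf (nat_lit 99)) (.leaf (nat_lit 531))) (.leaf (nat_lit 240)))))) (.node (.node (.node (.node (.node (.leaf (nat_lit 4)) (.leaf (nat_lit 270))) (.leaf (nat_lit 119))) (.node (.node (.leaf (nat_lit 55)) (.leaf (nat_lit 373))) (.leaf (nat_lit 191)))) (.node (.node (.node (.leaf (nat_lit 28)) (.leaf (nat_lit 333))) (.leaf (nat_lit 156))) (.node (.node (.leaf (nat_lit 88)) (.leaf (nat_lit 485))) (.leaf (nat_lit 225))))) (.node (.node (.node (.node (.leaf (nat_lit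 13)) (.leaf (nat_lit 300))) (.leaf (nat_lit 140))) (.node (.node (.leaf (nat_lit 74)) (.leaf (nat_lit 420))) (.leaf (nat_lit 207)))) (.node (.node (.node (.leaf (nat_lit 41)) (.leaf (nat_lit 347))) (.leaf (nat_lit 178))) (.node (.node (.leaf (nat_lit 105)) (.leaf (nat_lit 623))) (.leaf (nat_lit 253))))))) (.node (.node (.node (.node (.node (.node (.leaf (nat_lit 2)) (.leaf (nat_lit 268))) (.leaf (nat_lit 116))) (.node (.node (.leaf (nat_lit 52)) (.leaf (nat_lit 364))) (.leaf (nat_lit 189)))) (.node (.node (.node (.leaf (nat_lit 26)) (.leaf (nat_lit 324))) (.leaf (nat_lit 154))) (.node (.node (.leaf (nat_lit 85)) (.leaf (nat_lit 456))) (.leaf (nat_lit 219))))) (.node (.node (.node (.node (.leaf (nat_lit 11)) (.leaf (nat_lit 288))) (.leaf (nat_lit 133))) (.node (.node (.leaf (nat_lit 67)) (.leaf (nat_lit 411))) (.leaf (nat_lit 204)))) (.node (.node (.node (.leaf (nat_lit 39)) (.leaf (nat_lit 344))) (.leaf (nat_lit 170))) (.node (.node (.leaf (nat_lit 103)) (.leaf (nat_lit 546))) (.leaf (nat_lit 246)))))) (.node (.node (.node (.node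 (.node (.leaf (nat_lit 6)) (.leaf (nat_lit 275))) (.leaf (nat_lit 127))) (.node (.node (.leaf (nat_lit 62)) (.leaf (nat_lit 387))) (.leaf (nat_lit 194)))) (.node (.node (.node (.leaf (nat_lit 31)) (.leaf (nat_lit 340))) (.leaf (nat_lit 159))) (.node (.node (.leaf (nat_lit 91)) (.leaf (nat_lit 500))) (.leaf (nat_lit 233))))) (.node (.node (.node (.node (.leaf (nat_lit 21)) (.leaf (nat_lit 310))) (.leaf (nat_lit 142))) (.node (.node (.leaf (nat_lit 76)) (.leaf (nat_lit 423))) (.leaf (nat_lit 213)))) (.node (.node (.node (.leaf (nat_lit 48)) (.leaf (nat_lit 360))) (.leaf (nat_lit 180))) (.node (.node (.leaf (nat_lit 112)) (.leaf (nat_lit 719))) (.leaf (nat_lit 258)))))))))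

noncomputable def hB : NT := (.node (.node (.node (.node (.node (.node (.node (.node (.node (.node (.leaf (nat_lit 1)) (.leaf (nat_lit 176))) (.leaf (nat_lit 108))) (.node (.node (.leaf (nat_lit 72)) (.leaf (nat_lit 75))) (.leaf (nat_lit 166)))) (.node (.node (.node (.leaf (nat_lit 41)) (.leaf (nat_lit 37))) (.leaf (nat_lit 144))) (.node (.node (.leaf (nat_lit 102)) (.leaf (nat_lit 83))) (.leaf (nat_lit 149))))) (.node (.node (.node (.node (.leaf (nat_lit 17)) (.leaf (nat_lit 78))) (.leaf (nat_lit 139))) (.node (.node (.leaf (nat_lit 84)) (.leaf (nat_lit 124))) (.leaf (nat_lit 171)))) (.node (.node (.node (.leaf (nat_lit 2)) (.leaf (nat_lit 73))) (.leaf (nat_lit 130))) (.node (.node (.leaf (nat_lit 116)) (.leaf (nat_lit 69))) (.leaf (nat_lit 51)))))) (.node (.node (.node (.node (.node (.leaf (nat_lit 8)) (.leaf (nat_lit 125))) (.leaf (nat_lit 103))) (.node (.node (.leaf (nat_lit 81)) (.leaf (nat_lit 187))) (.leaf (nat_lit 93)))) (.node (.node (.node (.leaf (nat_lit 46)) (.leaf (nat_lit 188))) (.leaf (nat_lit 59))) (.node (.node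 (.leaf (nat_lit 106)) (.leaf (nat_lit 191))) (.leaf (nat_lit 65))))) (.node (.node (.node (.node (.leaf (nat_lit 31)) (.leaf (nat_lit 45))) (.leaf (nat_lit 43))) (.node (.node (.leaf (nat_lit 6)) (.leaf (nat_lit 190))) (.leaf (nat_lit 150)))) (.node (.node (.node (.leaf (nat_lit 63)) (.leaf (nat_lit 68))) (.leaf (nat_lit 162))) (.node (.node (.leaf (nat_lit 121)) (.leaf (nat_lit 82))) (.leaf (nat_lit 137))))))) (.node (.node (.node (.node (.node (.node (.leaf (nat_lit 9)) (.leaf (nat_lit 118))) (.leaf (nat_lit 126))) (.node (.node (.leaf (nat_lit 71)) (.leaf (nat_lit 129))) (.leaf (nat_lit 19)))) (.node (.node (.node (.leaf (nat_lit 44)) (.leaf (nat_lit 167))) (.leaf (nat_lit 148))) (.node (.node (.leaf (nat_lit 7)) (.leaf (nat_lit 55))) (.leaf (nat_lit 179))))) (.node (.node (.node (.node (.leaf (nat_lit 28)) (.leaf (nat_lit 165))) (.leaf (nat_lit 100))) (.node (.node (.leaf (nat_lit 90)) (.leaf (nat_lit 48))) (.leaf (nat_lit 23)))) (.node (.node (.node (.leaf (nat_lit 60)) (.leaf (nat_lit 127))) (.leaf (nat_lit 159))) (.node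 (.node (.leaf (nat_lit 109)) (.leaf (nat_lit 157))) (.leaf (nat_lit 161)))))) (.node (.node (.node (.node (.node (.leaf (nat_lit 18)) (.leaf (nat_lit 184))) (.leaf (nat_lit 136))) (.node (.node (.leaf (nat_lit 25)) (.leaf (nat_lit 79))) (.leaf (nat_lit 170)))) (.node (.node (.node (.leaf (nat_lit 53)) (.leaf (nat_lit 64))) (.leaf (nat_lit 155))) (.node (.node (.leaf (nat_lit 114)) (.leaf (nat_lit 164))) (.leaf (nat_lit 88))))) (.node (.node (.node (.node (.leaf (nat_lit 34)) (.leaf (nat_lit 117))) (.leaf (nat_lit 70))) (.node (.node (.leaf (nat_lit 94)) (.leaf (nat_lit 146))) (.leaf (nat_lit 22)))) (.node (.node (.node (.leaf (nat_lit 66)) (.leaf (nat_lit 62))) (.leaf (nat_lit 20))) (.node (.node (.leaf (nat_lit 99)) (.leaf (nat_lit 135))) (.leaf (nat_lit 30)))))))) (.node (.node (.node (.node (.node (.node (.node (.leaf (nat_lit 5)) (.leaf (nat_lit 92))) (.leaf (nat_lit 56))) (.node (.node (.leaf (nat_lit 16)) (.leaf (nat_lit 61))) (.leaf (nat_lit 152)))) (.node (.node (.node (.leaf (nat_lit 4)) (.leaf (nat_lit 138))) (.leaf (nat_lit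 147))) (.node (.node (.leaf (nat_lit 101)) (.leaf (nat_lit 142))) (.leaf (nat_lit 178))))) (.node (.node (.node (.node (.leaf (nat_lit 24)) (.leaf (nat_lit 168))) (.leaf (nat_lit 97))) (.node (.node (.leaf (nat_lit 33)) (.leaf (nat_lit 49))) (.leaf (nat_lit 173)))) (.node (.node (.node (.leaf (nat_lit 15)) (.leaf (nat_lit 58))) (.leaf (nat_lit 76))) (.node (.node (.leaf (nat_lit 11)) (.leaf (nat_lit 112))) (.leaf (nat_lit 26)))))) (.node (.node (.node (.node (.node (.leaf (nat_lit 0)) (.leaf (nat_lit 86))) (.leaf (nat_lit 134))) (.node (.node (.leaf (nat_lit 80)) (.leaf (nat_lit 145))) (.leaf (nat_lit 169)))) (.node (.node (.node (.leaf (nat_lit 50)) (.leaf (nat_lit 185))) (.leaf (nat_lit 151))) (.node (.node (.leaf (nat_lit 110)) (.leaf (nat_lit 104))) (.leaf (nat_lit 177))))) (.node (.node (.node (.node (.leaf (nat_lit 35)) (.leaf (nat_lit 160))) (.leaf (nat_lit 13))) (.node (.node (.leaf (nat_lit 95)) (.leaf (nat_lit 111))) (.leaf (nat_lit 153)))) (.node (.node (.node (.leaf (nat_lit 67)) (.leaf (nat_lit 189))) (.leaf (nat_lit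 74))) (.node (.node (.leaf (nat_lit 122)) (.leaf (nat_lit 186))) (.leaf (nat_lit 183))))))) (.node (.node (.node (.node (.node (.node (.leaf (nat_lit 12)) (.leaf (nat_lit 29))) (.leaf (nat_lit 131))) (.node (.node (.leaf (nat_lit 77)) (.leaf (nat_lit 123))) (.leaf (nat_lit 158)))) (.node (.node (.node (.leaf (nat_lit 47)) (.leaf (nat_lit 36))) (.leaf (nat_lit 128))) (.node (.node (.leaf (nat_lit 107)) (.leaf (nat_lit 54))) (.leaf (nat_lit 180))))) (.node (.node (.node (.node (.leaf (nat_lit 27)) (.leaf (nat_lit 32))) (.leaf (nat_lit 141))) (.node (.node (.leaf (nat_lit 89)) (.leaf (nat_lit 181))) (.leaf (nat_lit 120)))) (.node (.node (.node (.leaf (nat_lit 57)) (.leaf (nat_lit 133))) (.leaf (nat_lit 163))) (.node (.node (.leaf (nat_lit 40)) (.leaf (nat_lit 182))) (.leaf (nat_lit 91)))))) (.node (.node (.node (.node (.node (.leaf (nat_lit 21)) (.leaf (nat_lit 172))) (.leaf (nat_lit 14))) (.node (.node (.leaf (nat_lit 85)) (.leaf (nat_lit 174))) (.leaf (nat_lit 156)))) (.node (.node (.node (.leaf (nat_lit 52)) (.leaf (nat_lit 39)))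 (.leaf (nat_lit 154))) (.node (.node (.leaf (nat_lit 113)) (.leaf (nat_lit 132))) (.leaf (nat_lit 143))))) (.node (.node (.node (.node (.leaf (nat_lit 38)) (.leaf (nat_lit 175))) (.leaf (nat_lit 96))) (.node (.node (.leaf (nat_lit 98)) (.leaf (nat_lit 119))) (.leaf (nat_lit 105)))) (.node (.node (.node (.leaf (nat_lit 3)) (.leaf (nat_lit 42))) (.leaf (nat_lit 140))) (.node (.node (.leaf (nat_lit 10)) (.leaf (nat_lit 115))) (.leaf (nat_lit 87))))))))) (.node (.node (.node (.node (.node (.node (.node (.node (.leaf (nat_lit 3)) (.leaf (nat_lit 151))) (.leaf (nat_lit 127))) (.node (.node (.leaf (nat_lit 73)) (.leaf (nat_lit 178))) (.leaf (nat_lit 147)))) (.node (.node (.node (.leaf (nat_lit 5)) (.leaf (nat_lit 111))) (.leaf (nat_lit 146))) (.node (.node (.leaf (nat_lit 103)) (.leaf (nat_lit 109))) (.leaf (nat_lit 53))))) (.node (.node (.node (.node (.leaf (nat_lit 23)) (.leaf (nat_lit 187))) (.leaf (nat_lit 101))) (.node (.node (.leaf (nat_lit 87)) (.leaf (nat_lit 162))) (.leaf (nat_lit 172)))) (.node (.node (.node (.leaf (nat_lit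 56)) (.leaf (nat_lit 169))) (.leaf (nat_lit 158))) (.node (.node (.leaf (nat_lit 24)) (.leaf (nat_lit 171))) (.leaf (nat_lit 59)))))) (.node (.node (.node (.node (.node (.leaf (nat_lit 14)) (.leaf (nat_lit 75))) (.leaf (nat_lit 29))) (.node (.node (.leaf (nat_lit 13)) (.leaf (nat_lit 92))) (.leaf (nat_lit 47)))) (.node (.node (.node (.leaf (nat_lit 49)) (.leaf (nat_lit 173))) (.leaf (nat_lit 150))) (.node (.node (.leaf (nat_lit 71)) (.leaf (nat_lit 141))) (.leaf (nat_lit 121))))) (.node (.node (.node (.node (.leaf (nat_lit 33)) (.leaf (nat_lit 74))) (.leaf (nat_lit 34))) (.node (.node (.leaf (nat_lit 93)) (.leaf (nat_lit 104))) (.leaf (nat_lit 51)))) (.node (.node (.node (.leaf (nat_lit 65)) (.leaf (nat_lit 86))) (.leaf (nat_lit 164))) (.node (.node (.leaf (nat_lit 63)) (.leaf (nat_lit 167))) (.leaf (nat_lit 182))))))) (.node (.node (.node (.node (.node (.node (.leaf (nat_lit 10)) (.leaf (nat_lit 66))) (.leaf (nat_lit 130))) (.node (.node (.leaf (nat_lit 76)) (.leaf (nat_lit 168))) (.leaf (nat_lit 95)))) (.node (.node (.node (.leaf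 (nat_lit 45)) (.leaf (nat_lit 80))) (.leaf (nat_lit 37))) (.node (.node (.leaf (nat_lit 41)) (.leaf (nat_lit 160))) (.leaf (nat_lit 117))))) (.node (.node (.node (.node (.leaf (nat_lit 2)) (.leaf (nat_lit 122))) (.leaf (nat_lit 140))) (.node (.node (.leaf (nat_lit 91)) (.leaf (nat_lit 155))) (.leaf (nat_lit 89)))) (.node (.node (.node (.leaf (nat_lit 9)) (.leaf (nat_lit 107))) (.leaf (nat_lit 161))) (.node (.node (.leaf (nat_lit 25)) (.leaf (nat_lit 134))) (.leaf (nat_lit 138)))))) (.node (.node (.node (.node (.node (.leaf (nat_lit 19)) (.leaf (nat_lit 186))) (.leaf (nat_lit 137))) (.node (.node (.leaf (nat_lit 83)) (.leaf (nat_lit 175))) (.leaf (nat_lit 131)))) (.node (.node (.node (.leaf (nat_lit 54)) (.leaf (nat_lit 84))) (.leaf (nat_lit 156))) (.node (.node (.leaf (nat_lit 22)) (.leaf (nat_lit 124))) (.leaf (nat_lit 57))))) (.node (.node (.node (.node (.leaf (nat_lit 4)) (.leaf (nat_lit 185))) (.leaf (nat_lit 129))) (.node (.node (.leaf (nat_lit 97)) (.leaf (nat_lit 105))) (.leaf (nat_lit 177)))) (.node (.node (.node (.leaf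 (nat_lit 11)) (.leaf (nat_lit 88))) (.leaf (nat_lit 139))) (.node (.node (.leaf (nat_lit 27)) (.leaf (nat_lit 157))) (.leaf (nat_lit 99)))))))) (.node (.node (.node (.node (.node (.node (.node (.leaf (nat_lit 7)) (.leaf (nat_lit 78))) (.leaf (nat_lit 28))) (.node (.node (.leaf (nat_lit 12)) (.leaf (nat_lit 90))) (.leaf (nat_lit 46)))) (.node (.node (.node (.leaf (nat_lit 43)) (.leaf (nat_lit 159))) (.leaf (nat_lit 119))) (.node (.node (.leaf (nat_lit 20)) (.leaf (nat_lit 110))) (.leaf (nat_lit 125))))) (.node (.node (.node (.node (.leaf (nat_lit 26)) (.leaf (nat_lit 70))) (.leaf (nat_lit 32))) (.node (.node (.leaf (nat_lit 50)) (.leaf (nat_lit 152))) (.leaf (nat_lit 174)))) (.node (.node (.node (.leaf (nat_lit 58)) (.leaf (nat_lit 85))) (.leaf (nat_lit 106))) (.node (.node (.leaf (nat_lit 118)) (.leaf (nat_lit 142))) (.leaf (nat_lit 116)))))) (.node (.node (.node (.node (.node (.leaf (nat_lit 16)) (.leaf (nat_lit 67))) (.leaf (nat_lit 135))) (.node (.node (.leaf (nat_lit 82)) (.leaf (nat_lit 163))) (.leaf (nat_lit 72)))) (.node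 (.node (.node (.leaf (nat_lit 31)) (.leaf (nat_lit 179))) (.leaf (nat_lit 153))) (.node (.node (.leaf (nat_lit 112)) (.leaf (nat_lit 189))) (.leaf (nat_lit 114))))) (.node (.node (.node (.node (.leaf (nat_lit 36)) (.leaf (nat_lit 180))) (.leaf (nat_lit 143))) (.node (.node (.leaf (nat_lit 18)) (.leaf (nat_lit 148))) (.leaf (nat_lit 176)))) (.node (.node (.node (.leaf (nat_lit 68)) (.leaf (nat_lit 190))) (.leaf (nat_lit 44))) (.node (.node (.leaf (nat_lit 123)) (.leaf (nat_lit 181))) (.leaf (nat_lit 113))))))) (.node (.node (.node (.node (.node (.node (.leaf (nat_lit 0)) (.leaf (nat_lit 102))) (.leaf (nat_lit 133))) (.node (.node (.leaf (nat_lit 79)) (.leaf (nat_lit 165))) (.leaf (nat_lit 126)))) (.node (.node (.node (.leaf (nat_lit 6)) (.leaf (nat_lit 96))) (.leaf (nat_lit 38))) (.node (.node (.leaf (nat_lit 108)) (.leaf (nat_lit 149))) (.leaf (nat_lit 55))))) (.node (.node (.node (.node (.leaf (nat_lit 30)) (.leaf (nat_lit 94))) (.leaf (nat_lit 132))) (.node (.node (.leaf (nat_lit 17)) (.leaf (nat_lit 184))) (.leaf (nat_lit 154))))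 (.node (.node (.node (.leaf (nat_lit 62)) (.leaf (nat_lit 170))) (.leaf (nat_lit 42))) (.node (.node (.leaf (nat_lit 120)) (.leaf (nat_lit 136))) (.leaf (nat_lit 61)))))) (.node (.node (.node (.node (.node (.leaf (nat_lit 1)) (.leaf (nat_lit 69))) (.leaf (nat_lit 52))) (.node (.node (.leaf (nat_lit 15)) (.leaf (nat_lit 188))) (.leaf (nat_lit 48)))) (.node (.node (.node (.leaf (nat_lit 8)) (.leaf (nat_lit 128))) (.leaf (nat_lit 40))) (.node (.node (.leaf (nat_lit 115)) (.leaf (nat_lit 191))) (.leaf (nat_lit 81))))) (.node (.node (.node (.node (.leaf (nat_lit 39)) (.leaf (nat_lit 77))) (.leaf (nat_lit 35))) (.node (.node (.leaf (nat_lit 100)) (.leaf (nat_lit 166))) (.leaf (nat_lit 144)))) (.node (.node (.node (.leaf (nat_lit 21)) (.leaf (nat_lit 145))) (.leaf (nat_lit 98))) (.node (.node (.leaf (nat_lit 60)) (.leaf (nat_lit 183))) (.leaf (nat_lit 64)))))))))) (.node (.node (.node (.node (.node (.node (.node (.node (.node (.leaf (nat_lit 2)) (.leaf (nat_lit 66))) (.leaf (nat_lit 28))) (.node (.node (.leaf (nat_lit 12)) (.leaf (nat_lit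 90))) (.leaf (nat_lit 45)))) (.node (.node (.node (.leaf (nat_lit 42)) (.leaf (nat_lit 100))) (.leaf (nat_lit 145))) (.node (.node (.leaf (nat_lit 19)) (.leaf (nat_lit 184))) (.leaf (nat_lit 126))))) (.node (.node (.node (.node (.leaf (nat_lit 20)) (.leaf (nat_lit 139))) (.leaf (nat_lit 77))) (.node (.node (.leaf (nat_lit 17)) (.leaf (nat_lit 98))) (.leaf (nat_lit 49)))) (.node (.node (.node (.leaf (nat_lit 18)) (.leaf (nat_lit 85))) (.leaf (nat_lit 41))) (.node (.node (.leaf (nat_lit 117)) (.leaf (nat_lit 176))) (.leaf (nat_lit 173)))))) (.node (.node (.node (.node (.node (.leaf (nat_lit 11)) (.leaf (nat_lit 67))) (.leaf (nat_lit 36))) (.node (.node (.leaf (nat_lit 68)) (.leaf (nat_lit 190))) (.leaf (nat_lit 144)))) (.node (.node (.node (.leaf (nat_lit 8)) (.leaf (nat_lit 182))) (.leaf (nat_lit 94))) (.node (.node (.leaf (nat_lit 109)) (.leaf (nat_lit 188))) (.leaf (nat_lit 89))))) (.node (.node (.node (.node (.leaf (nat_lit 32)) (.leaf (nat_lit 186))) (.leaf (nat_lit 142))) (.node (.node (.leaf (nat_lit 38)) (.leaf (nat_lit 115)))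 (.leaf (nat_lit 131)))) (.node (.node (.node (.leaf (nat_lit 64)) (.leaf (nat_lit 91))) (.leaf (nat_lit 43))) (.node (.node (.leaf (nat_lit 101)) (.leaf (nat_lit 180))) (.leaf (nat_lit 62))))))) (.node (.node (.node (.node (.node (.node (.leaf (nat_lit 0)) (.leaf (nat_lit 159))) (.leaf (nat_lit 128))) (.node (.node (.leaf (nat_lit 74)) (.leaf (nat_lit 177))) (.leaf (nat_lit 168)))) (.node (.node (.node (.leaf (nat_lit 24)) (.leaf (nat_lit 151))) (.leaf (nat_lit 135))) (.node (.node (.leaf (nat_lit 105)) (.leaf (nat_lit 153))) (.leaf (nat_lit 147))))) (.node (.node (.node (.node (.leaf (nat_lit 29)) (.leaf (nat_lit 71))) (.leaf (nat_lit 34))) (.node (.node (.leaf (nat_lit 16)) (.leaf (nat_lit 158))) (.leaf (nat_lit 175)))) (.node (.node (.node (.leaf (nat_lit 61)) (.leaf (nat_lit 95))) (.leaf (nat_lit 160))) (.node (.node (.leaf (nat_lit 119)) (.leaf (nat_lit 140))) (.leaf (nat_lit 171)))))) (.node (.node (.node (.node (.node (.leaf (nat_lit 1)) (.leaf (nat_lit 185))) (.leaf (nat_lit 31))) (.node (.node (.leaf (nat_lit 44)) (.leaf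 (nat_lit 189))) (.leaf (nat_lit 137)))) (.node (.node (.node (.leaf (nat_lit 7)) (.leaf (nat_lit 183))) (.leaf (nat_lit 39))) (.node (.node (.leaf (nat_lit 103)) (.leaf (nat_lit 148))) (.leaf (nat_lit 141))))) (.node (.node (.node (.node (.leaf (nat_lit 37)) (.leaf (nat_lit 76))) (.leaf (nat_lit 35))) (.node (.node (.leaf (nat_lit 57)) (.leaf (nat_lit 155))) (.leaf (nat_lit 107)))) (.node (.node (.node (.leaf (nat_lit 69)) (.leaf (nat_lit 170))) (.leaf (nat_lit 84))) (.node (.node (.leaf (nat_lit 124)) (.leaf (nat_lit 164))) (.leaf (nat_lit 112)))))))) (.node (.node (.node (.node (.node (.node (.node (.leaf (nat_lit 6)) (.leaf (nat_lit 65))) (.leaf (nat_lit 129))) (.node (.node (.leaf (nat_lit 75)) (.leaf (nat_lit 169))) (.leaf (nat_lit 167)))) (.node (.node (.node (.leaf (nat_lit 40)) (.leaf (nat_lit 80))) (.leaf (nat_lit 123))) (.node (.node (.leaf (nat_lit 104)) (.leaf (nat_lit 162))) (.leaf (nat_lit 143))))) (.node (.node (.node (.node (.leaf (nat_lit 25)) (.leaf (nat_lit 102))) (.leaf (nat_lit 133))) (.node (.node (.leaf (nat_lit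 88)) (.leaf (nat_lit 161))) (.leaf (nat_lit 50)))) (.node (.node (.node (.leaf (nat_lit 9)) (.leaf (nat_lit 178))) (.leaf (nat_lit 116))) (.node (.node (.leaf (nat_lit 46)) (.leaf (nat_lit 134))) (.leaf (nat_lit 181)))))) (.node (.node (.node (.node (.node (.leaf (nat_lit 15)) (.leaf (nat_lit 73))) (.leaf (nat_lit 30))) (.node (.node (.leaf (nat_lit 14)) (.leaf (nat_lit 93))) (.leaf (nat_lit 60)))) (.node (.node (.node (.leaf (nat_lit 51)) (.leaf (nat_lit 83))) (.leaf (nat_lit 152))) (.node (.node (.leaf (nat_lit 111)) (.leaf (nat_lit 121))) (.leaf (nat_lit 56))))) (.node (.node (.node (.node (.leaf (nat_lit 3)) (.leaf (nat_lit 118))) (.leaf (nat_lit 72))) (.node (.node (.leaf (nat_lit 96)) (.leaf (nat_lit 120))) (.leaf (nat_lit 52)))) (.node (.node (.node (.leaf (nat_lit 10)) (.leaf (nat_lit 87))) (.leaf (nat_lit 165))) (.node (.node (.leaf (nat_lit 26)) (.leaf (nat_lit 166))) (.leaf (nat_lit 63))))))) (.node (.node (.node (.node (.node (.node (.leaf (nat_lit 13)) (.leaf (nat_lit 108))) (.leaf (nat_lit 132))) (.node (.node (.leaf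 (nat_lit 78)) (.leaf (nat_lit 179))) (.leaf (nat_lit 47)))) (.node (.node (.node (.leaf (nat_lit 48)) (.leaf (nat_lit 114))) (.leaf (nat_lit 149))) (.node (.node (.leaf (nat_lit 21)) (.leaf (nat_lit 163))) (.leaf (nat_lit 172))))) (.node (.node (.node (.node (.leaf (nat_lit 4)) (.leaf (nat_lit 136))) (.leaf (nat_lit 33))) (.node (.node (.leaf (nat_lit 92)) (.leaf (nat_lit 122))) (.leaf (nat_lit 110)))) (.node (.node (.node (.leaf (nat_lit 59)) (.leaf (nat_lit 174))) (.leaf (nat_lit 156))) (.node (.node (.leaf (nat_lit 27)) (.leaf (nat_lit 191))) (.leaf (nat_lit 81)))))) (.node (.node (.node (.node (.node (.leaf (nat_lit 22)) (.leaf (nat_lit 82))) (.leaf (nat_lit 138))) (.node (.node (.leaf (nat_lit 86)) (.leaf (nat_lit 97))) (.leaf (nat_lit 54)))) (.node (.node (.node (.leaf (nat_lit 55)) (.leaf (nat_lit 146))) (.leaf (nat_lit 157))) (.node (.node (.leaf (nat_lit 23)) (.leaf (nat_lit 150))) (.leaf (nat_lit 58))))) (.node (.node (.node (.node (.leaf (nat_lit 5)) (.leaf (nat_lit 113))) (.leaf (nat_lit 127))) (.node (.node (.leaf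 (nat_lit 99)) (.leaf (nat_lit 106))) (.leaf (nat_lit 53)))) (.node (.node (.node (.leaf (nat_lit 70)) (.leaf (nat_lit 130))) (.leaf (nat_lit 154))) (.node (.node (.leaf (nat_lit 125)) (.leaf (nat_lit 187))) (.leaf (nat_lit 79))))))))) (.node (.node (.node (.node (.node (.node (.node (.node (.leaf (nat_lit 4)) (.leaf (nat_lit 64))) (.leaf (nat_lit 128))) (.node (.node (.leaf (nat_lit 74)) (.leaf (nat_lit 177))) (.leaf (nat_lit 167)))) (.node (.node (.node (.leaf (nat_lit 43)) (.leaf (nat_lit 77))) (.leaf (nat_lit 35))) (.node (.node (.leaf (nat_lit 104)) (.leaf (nat_lit 108))) (.leaf (nat_lit 125))))) (.node (.node (.node (.node (.leaf (nat_lit 1)) (.leaf (nat_lit 165))) (.leaf (nat_lit 100))) (.node (.node (.leaf (nat_lit 15)) (.leaf (nat_lit 161))) (.leaf (nat_lit 48)))) (.node (.node (.node (.leaf (nat_lit 57)) (.leaf (nat_lit 95))) (.leaf (nat_lit 116))) (.node (.node (.leaf (nat_lit 118)) (.leaf (nat_lit 131))) (.leaf (nat_lit 58)))))) (.node (.node (.node (.node (.node (.leaf (nat_lit 0)) (.leaf (nat_lit 185))) (.leaf (nat_lit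 135))) (.node (.node (.leaf (nat_lit 82)) (.leaf (nat_lit 91))) (.leaf (nat_lit 72)))) (.node (.node (.node (.leaf (nat_lit 6)) (.leaf (nat_lit 81))) (.leaf (nat_lit 38))) (.node (.node (.leaf (nat_lit 21)) (.leaf (nat_lit 114))) (.leaf (nat_lit 88))))) (.node (.node (.node (.node (.leaf (nat_lit 34)) (.leaf (nat_lit 73))) (.leaf (nat_lit 33))) (.node (.node (.leaf (nat_lit 94)) (.leaf (nat_lit 103))) (.leaf (nat_lit 176)))) (.node (.node (.node (.leaf (nat_lit 66)) (.leaf (nat_lit 190))) (.leaf (nat_lit 42))) (.node (.node (.leaf (nat_lit 99)) (.leaf (nat_lit 147))) (.leaf (nat_lit 61))))))) (.node (.node (.node (.node (.node (.node (.leaf (nat_lit 11)) (.leaf (nat_lit 65))) (.leaf (nat_lit 28))) (.node (.node (.leaf (nat_lit 12)) (.leaf (nat_lit 90))) (.leaf (nat_lit 169)))) (.node (.node (.node (.leaf (nat_lit 46)) (.leaf (nat_lit 79))) (.leaf (nat_lit 36))) (.node (.node (.leaf (nat_lit 106)) (.leaf (nat_lit 110))) (.leaf (nat_lit 180))))) (.node (.node (.node (.node (.leaf (nat_lit 30)) (.leaf (nat_lit 70))) (.leaf (nat_lit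 32))) (.node (.node (.leaf (nat_lit 92)) (.leaf (nat_lit 181))) (.leaf (nat_lit 50)))) (.node (.node (.node (.leaf (nat_lit 62)) (.leaf (nat_lit 85))) (.leaf (nat_lit 162))) (.node (.node (.leaf (nat_lit 120)) (.leaf (nat_lit 133))) (.leaf (nat_lit 137)))))) (.node (.node (.node (.node (.node (.leaf (nat_lit 20)) (.leaf (nat_lit 67))) (.leaf (nat_lit 138))) (.node (.node (.leaf (nat_lit 84)) (.leaf (nat_lit 174))) (.leaf (nat_lit 171)))) (.node (.node (.node (.leaf (nat_lit 55)) (.leaf (nat_lit 83))) (.leaf (nat_lit 157))) (.node (.node (.leaf (nat_lit 115)) (.leaf (nat_lit 123))) (.leaf (nat_lit 56))))) (.node (.node (.node (.node (.leaf (nat_lit 3)) (.leaf (nat_lit 75))) (.leaf (nat_lit 145))) (.node (.node (.leaf (nat_lit 18)) (.leaf (nat_lit 166))) (.leaf (nat_lit 178)))) (.node (.node (.node (.leaf (nat_lit 10)) (.leaf (nat_lit 121))) (.leaf (nat_lit 44))) (.node (.node (.leaf (nat_lit 26)) (.leaf (nat_lit 156))) (.leaf (nat_lit 63)))))))) (.node (.node (.node (.node (.node (.node (.node (.leaf (nat_lit 8)) (.leaf (nat_lit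 159))) (.leaf (nat_lit 130))) (.node (.node (.leaf (nat_lit 76)) (.leaf (nat_lit 168))) (.leaf (nat_lit 45)))) (.node (.node (.node (.leaf (nat_lit 5)) (.leaf (nat_lit 78))) (.leaf (nat_lit 148))) (.node (.node (.leaf (nat_lit 19)) (.leaf (nat_lit 160))) (.leaf (nat_lit 53))))) (.node (.node (.node (.node (.leaf (nat_lit 27)) (.leaf (nat_lit 122))) (.leaf (nat_lit 140))) (.node (.node (.leaf (nat_lit 89)) (.leaf (nat_lit 98))) (.leaf (nat_lit 175)))) (.node (.node (.node (.leaf (nat_lit 59)) (.leaf (nat_lit 107))) (.leaf (nat_lit 41))) (.node (.node (.leaf (nat_lit 24)) (.leaf (nat_lit 132))) (.leaf (nat_lit 158)))))) (.node (.node (.node (.node (.node (.leaf (nat_lit 17)) (.leaf (nat_lit 186))) (.leaf (nat_lit 29))) (.node (.node (.leaf (nat_lit 13)) (.leaf (nat_lit 136))) (.leaf (nat_lit 47)))) (.node (.node (.node (.leaf (nat_lit 52)) (.leaf (nat_lit 183))) (.leaf (nat_lit 154))) (.node (.node (.leaf (nat_lit 113)) (.leaf (nat_lit 170))) (.leaf (nat_lit 141))))) (.node (.node (.node (.node (.leaf (nat_lit 37)) (.leaf (nat_lit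 117))) (.leaf (nat_lit 144))) (.node (.node (.leaf (nat_lit 97)) (.leaf (nat_lit 119))) (.leaf (nat_lit 51)))) (.node (.node (.node (.leaf (nat_lit 69)) (.leaf (nat_lit 86))) (.leaf (nat_lit 139))) (.node (.node (.leaf (nat_lit 124)) (.leaf (nat_lit 155))) (.leaf (nat_lit 112))))))) (.node (.node (.node (.node (.node (.node (.leaf (nat_lit 14)) (.leaf (nat_lit 184))) (.leaf (nat_lit 134))) (.node (.node (.leaf (nat_lit 80)) (.leaf (nat_lit 187))) (.leaf (nat_lit 60)))) (.node (.node (.node (.leaf (nat_lit 49)) (.leaf (nat_lit 188))) (.leaf (nat_lit 150))) (.node (.node (.leaf (nat_lit 109)) (.leaf (nat_lit 191))) (.leaf (nat_lit 54))))) (.node (.node (.node (.node (.leaf (nat_lit 2)) (.leaf (nat_lit 93))) (.leaf (nat_lit 142))) (.node (.node (.leaf (nat_lit 16)) (.leaf (nat_lit 102))) (.leaf (nat_lit 153)))) (.node (.node (.node (.leaf (nat_lit 9)) (.leaf (nat_lit 189))) (.leaf (nat_lit 164))) (.node (.node (.leaf (nat_lit 25)) (.leaf (nat_lit 163))) (.leaf (nat_lit 182)))))) (.node (.node (.node (.node (.node (.leaf (nat_lit 23))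 (.leaf (nat_lit 68))) (.leaf (nat_lit 31))) (.node (.node (.leaf (nat_lit 87)) (.leaf (nat_lit 96))) (.leaf (nat_lit 172)))) (.node (.node (.node (.leaf (nat_lit 7)) (.leaf (nat_lit 127))) (.leaf (nat_lit 39))) (.node (.node (.leaf (nat_lit 22)) (.leaf (nat_lit 149))) (.leaf (nat_lit 173))))) (.node (.node (.node (.node (.leaf (nat_lit 40)) (.leaf (nat_lit 111))) (.leaf (nat_lit 146))) (.node (.node (.leaf (nat_lit 101)) (.leaf (nat_lit 105))) (.leaf (nat_lit 143)))) (.node (.node (.node (.leaf (nat_lit 71)) (.leaf (nat_lit 129))) (.leaf (nat_lit 152))) (.node (.node (.leaf (nat_lit 126)) (.leaf (nat_lit 179))) (.leaf (nat_lit 151)))))))))))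

noncomputable def tT : NT := (.node (.node (.node (.node (.node (.node (.node (.node (.leaf (nat_lit 0x200000000000000000000000040000000000000000000000008000000000000000000000001000000000000000000000000200000000000000000000000040000000000000000000000008000000000000000000000001)) (.leaf (nat_lit 0x400801000004000000000040100200000400000004000000000020000080200400000000004000008010020000000000200000801000008010010000040000000200000000004000008020000080080200000400000))) (.node (.leaf (nat_lit 0x400001000000004008000000080000100200000002000004000010020000000100400001000000008010000020000100000000800800004000008000000080080000000400001004000000020000040000200200000002)) (.leaf (nat_lit 0x800002004000000020020000080000000801000000004000020040000000100200001000000004010000040000080000000401000000004000020020000000200000800002002000000010040000100000000801000)))) (.node (.node (.leaf (nat_lit 0x401000000000008020040000000200400800000002000000020020080000000000400800000000010020000040100000000001001000004008000000000080100400000001002008000000020000000100400800000))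 (.leaf (nat_lit 0x200000001004008000000040000000100400400000000004008000000000100200400000001002008000000000040100000000000802000008008000000000080200400000002004008000000000040080000000000801))) (.leaf (nat_lit 0x1000004010010040080100000200000000004004010000040000000000000000002000008010010000000000100000800801000000000010000080100200200801000004000000000040080080000400000000)))) (.node (.node (.node (.leaf (nat_lit 0x800004008000020000000100000400800001004004000020000000100000000000800004004000010020040000100000001000002004000020000000080000000000800002008000010020080000200000001000)) (.leaf (nat_lit 0x400802000008000000020000000000200000801000004008010000040000000000800801000008000000020000000000200001002002000000000040000100100200000000004000008020000080080200000400000))) (.node (.leaf (nat_lit 0x400000004004008000040000080200000000002004000010010000000000200200001002000000000020000080000000400800800004000010020000000000100000400000004008010000000040000000200800800)) (.leaf (nat_lit 0x400802000008000000040000000000400000801004000000000040000100200200000000004000008020000040080100000400000002000000000040000100100000800802000004000000000080080100000800000))))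 (.node (.node (.leaf (nat_lit 0x400800000000008000010020080000000000400001000000010010040000100000400800000000004000020000000080100400000800000000008020040000100000400400000000004000010000000080100200001000)) (.leaf (nat_lit 0x200800800004000000000040040080000400000000004008010000040000000000000000002000004008020040080080000200000000000000000020000040100100000000002000008008010000000000100000400801))) (.leaf (nat_lit 0x400000001002004000000040000000200400400000000004010000000000100200400000002002008000000000040080000000000802000008010000000000080200400000001004008000000000080080000000001002))))) (.node (.node (.node (.node (.leaf (nat_lit 0x401000000000010020040000000200200800000002000000020020040000000000400800000000010010000080100000000001001000004010000000000080100200000001002008000000020000000200400800000)) (.leaf (nat_lit 0x200800000000008000010000000100100400000800004004000000000080000100400800000000008000020000000080100200000800000000008010040000100000000000802004000008000040080000000000400001))) (.node (.leaf (nat_lit 0x400000002004008000040000100200000000002002000010010000000000200000400000002008010000000040000000400800800000008000000020080080000400001001000000000010040000080100000000002))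 (.leaf (nat_lit 0x400000002004010000040000080200000000002000008000000020040080000000400000002008008000040000100200000000001004000010010000000000200200001002000000000020000040000000400400800)))) (.node (.node (.leaf (nat_lit 0x400800001000000008000020080000100000001000000000010000020080000100400800002000000010000000000100000400800002000000008000020080000200400400001000000010000000000100000200400002)) (.leaf (nat_lit 0x200800001000000010000020040000200000001000002008000020000000080000000000800002004000010040080000200000001000000000010000020040000200000001000002008000010000000100000400400001))) (.leaf (nat_lit 0x400000004004008000000080000000400401000004000010010000000000200400001002000000000010020000100200000000002000008000000040080080000400000802000000000020000080000000200400800)))) (.node (.node (.node (.leaf (nat_lit 0x800004008000020000000080000200800001004008000020000000080000000000800002004000020020080000200000001000002004000020000000080000000001000002008000020020080000100000000800)) (.leaf (nat_lit 0x8000000000080000000000000000000000000000000000100000400000000000000000000000000000000400000000000000000020000000000000000000000000000000010000000080000000000000)))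 (.leaf (nat_lit 0x400801000002000000000000000000100000400802000000000010000080080100000000002000008008020040080080000400000000000000000010000080100200200801000004000000000040040100000400000000))) (.node (.node (.leaf (nat_lit 0x400000000002000008010000080080100000400000004000000000040000100100400000000004000008020000040080100000800000000008008020000080000000000400802000004000000040000000000200001002)) (.leaf (nat_lit 0x400002002000000010040000100000000401000002000008000000040100000000400001004000000010000040000100200000002000008000010020000000100400000800000004008000040000080000000801000))) (.leaf (nat_lit 0x400801000004000000000080080200000400000004000000000040000100200000401002000004000000020000000000400000802004000000000040000080100000400802000008000000040000000000200000802)))))) (.node (.node (.node (.node (.node (.leaf (nat_lit 0x200001001000000000010000040000000200401000002000008010000000000200400001001000000000020000080000000200400800000008000000040040100000000400000004004008000040000080100000000001)) (.leaf (nat_lit 0x400000004008008000040000100100000000001000004000000020080100000000800000004008010000020000100100000000002002000008010000000000100400000801000000000020000080000000200800800)))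 (.node (.leaf (nat_lit 0x400800000000004000020020080000000000800002000000010010020000080000000001002002000010000000000100200400000800004004000000000080000200000001001004000010000020040000000000400002)) (.leaf (nat_lit 0x1000002008000020000000080000200400002002008000010000000080000000001000004004000020040080000100000001000002008000020000000100000000001000002004000010020040000100000001000)))) (.node (.node (.leaf (nat_lit 0x800002002000000020020000100000000801000000004000020020000000100200000800000004010000040000100000000401000000004000020040000000200000400001002000000020020000100000000400800)) (.leaf (nat_lit 0x200000001002004000000000040080000000001002000008008000000000080200000401000000000008020040000000200200400000000008010000000000100200200000002004004000000040000000100400400000))) (.leaf (nat_lit 0x400000000002000010010000080100100000400000002000000000040000100100400000000004000008010000040080100000400000000008008010000080000000000800802000004000000040000000000400001002)))) (.node (.node (.node (.leaf (nat_lit 0x400002004000000020040000080000000801000000008000020020000000200200000800000004010000020000100000000801000000004000020020000000100000400001002000000020020000080000000800800))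 (.leaf (nat_lit 0x200000000004000008020000040100100000800000000004008020000080000000200000000004000010010020000000000200001002002000000000020000080100000800801000008000000000080100200000800000))) (.leaf (nat_lit 0x400800000000008000010000000100100200000800002004000000000080000100200800000000008000020000000080100400000800000000008010020000100000000001001004000010000040040000000000800002))) (.node (.node (.leaf (nat_lit 0x800002008000010020080000100000000800004008000010000000100000400800002000000008000000000080000400800002002008000020000000100000000000800004004000010000000080000200400002)) (.leaf (nat_lit 0x200801000002000000000000000000100000800802000000000010000080100100400800800002000000000020040080000200000000002008008000040000000000000000002000008008010000000000100000400801))) (.leaf (nat_lit 0x800801000008000000000080100100000400000004000000000040000100200400000000004000008010020000000000400000802000008010020000080000000200000000004000010010000080080200000400000))))) (.node (.node (.node (.node (.leaf (nat_lit 0x2000008010020000000000200000800801000000000020000040080200200400800002000000000000000000200000401001002004010000040000000000200801000002000000000020080080000400000000))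 (.leaf (nat_lit 0x200000002004008000000000080100000000001001000004008000000000100100400000001004008000000020000000100400400000004000000020040040000000000401000000000008010000080080000000000801))) (.node (.leaf (nat_lit 0x400000000004000008010000080080200000400000004000000000020000080200000401002000004000000000080100200000800000004000000000020000100100400000000004000010020000040080200000800000)) (.leaf (nat_lit 0x401001000008000000040000000000200000802002000000000020000100200400000000002000010010000080100200000800000002000000000020000080100000800801000008000000000040080200000800000)))) (.node (.node (.leaf (nat_lit 0x400800001000000008000000000080000400400002000000010000040080000200000001000002004000020040040000200000000800000000008000020080000200400800002000000010000040040000100000001000)) (.leaf (nat_lit 0x200001001000000000010000040000000400400800000004000000040080100000000800000004008008000040000080100000000001000008000000040040100000200000802000000000010040000100200000000001))) (.leaf (nat_lit 0x400000001004004000000020000000200400400000000004010000000000080200400000002002004000000000040080000000000801000008008000000000080200400000002004008000000000040080000000001002))))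 (.node (.node (.node (.leaf (nat_lit 0x200000802000000000020000040000000400800800004000008020000000000100200000801000000000010000040000000200801000000004000000020040080000000800000002008008000020000100200000000001)) (.leaf (nat_lit 0x400401000004000000000040040080000200000000002004008000040000000000000000001000008010020020040100000200000000000000000010000080080100000000002000008008020000000000200000801001))) (.leaf (nat_lit 0x401000000000010010000080100000000001002000004010000000000080200400000002004008000000000080100000000000801002000000010040080000000200000002004004000000040000000100400400000))) (.node (.node (.leaf (nat_lit 0x400401000004000000000040080100000200000000002004010000020000000000000000002000008010010020080100000400000000000000000010000080080100000000001000008010020000000000200000800802)) (.leaf (nat_lit 0x400002004000000010040000080000000401000002000008000000040080000000400001004000000020000040000200200000002000004000010020000000100400000800000008008000020000080000000801000))) (.leaf (nat_lit 0x200400000000004000010000000100200200000800000000008010020000080000400400000000008000010020080000000000800001004008000000000040000100000001001004000008000000000080200400000800)))))))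 (.node (.node (.node (.node (.node (.node (.leaf (nat_lit 0x200800000000004000010020040000000000400002000000008010040000080000000001001002000008000000000080200200000800004008000000000040000200000001002004000008000040040000000000400001)) (.leaf (nat_lit 0x200800000000004000010000000100200200001000004004000000000040000100200400000000008000010000000100100200000800000000010010040000100000000001002004000008000040080000000000800001))) (.node (.leaf (nat_lit 0x400000002004004000000000080080000000001002000008010000000000080200200000002002004000000020000000200400800000004000000020020080000000000401000000000010020000040080000000000802)) (.leaf (nat_lit 0x400000000002000010020000040080100000800000002000000000040000100200000800801000004000000000040080200000400000002000000000020000080200200000000002000010010000040100100000400000)))) (.node (.node (.leaf (nat_lit 0x10000000000000200000000000000000010000000000000000001000000000000000000080000000000000000000000000000000000100000000000000000004000000040000000000000000000)) (.leaf (nat_lit 0x800000004004008000000040000000400401000000004000000040080080000200001001000000000020000040000000200400800004000008010000000000200400001002000000000020040000100100000000001)))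 (.leaf (nat_lit 0x400000000002000010010040000000000200000802000004010010000080000000000801002000008000000000080080100000800000002000000000020000100200000801001000004000000040000000000400001002)))) (.node (.node (.node (.leaf (nat_lit 0x4000000000000000000000000002000000000010000000000000000001000000000000000000000000000000000800004000000000000000000000000000000004000000000000040000000000000000)) (.leaf (nat_lit 0x400000004004008000000040000000200401000002000008010000000000200200001001000000000010020000100200000000002000008000000020040080000400001001000000000020000040000000200800800))) (.leaf (nat_lit 0x400400000000004000020040080000000000800002000000010010020000100000000001002004000010000000000100100400000800004004000000000080000100000000801004000010000020040000000000800002))) (.node (.node (.leaf (nat_lit 0x400801000002000000000020080080000200000000002008010000040000000000000000002000004010020040080080000400000000000000000020000080100100000000001000004010010000000000100000801002)) (.leaf (nat_lit 0x200001000000008008000020000080000000400800004000008000000080080000000800001002000000020020000080000000801000000008000020040000000200000400002002000000020000080000200200000001)))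 (.leaf (nat_lit 0x400000001004004000000000080080000000001001000008010000000000100200400000002002004000000020000000200400400000004000000020040080000000000400800000000010020000080080000000000802))))) (.node (.node (.node (.node (.leaf (nat_lit 0x400800000000010020040000000200400800000004000000020020040000000000400800000000008010000040100000000001001000004010000000000080200200000002002008000000020000000200400400000)) (.leaf (nat_lit 0x400802000008000000040000000000400000801004000000000020000100100000800801000008000000000040100100000800000000004008010000040000000400000000002000008020020000000000200000801))) (.node (.leaf (nat_lit 0x400000001002004000000000080080000000001002002000000010020080000000000401000000000010020000080100000000000802004000000010040080000000200000001004004000000000040080000000000802)) (.leaf (nat_lit 0x200000800000004010000000040000200400000002000008000020020000000200000400002002000000010040000100000000401000000004000010020000000200200001000000008010000020000100000000400800)))) (.node (.node (.leaf (nat_lit 0x400000800000004008000020000080000000401000000008000010040000000200200001000000004008000000040000200400000002000008000020020000000200400001000000004010000000040000100200000002))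 (.leaf (nat_lit 0x200800001000000008000020040000100000001000000000008000040080000200000001000004004000020000000080000200400002002008000020000000100000000000800004004000010040080000100000001000))) (.leaf (nat_lit 0x400000001004004000000000080100000000001002004000000010020080000000400000002004008000000000040100000000000802000008008000000000080200000400800000000010020040000000200200400000)))) (.node (.node (.node (.leaf (nat_lit 0x400002002000000020040000080000000800800000008000020020000000100200000800000008010000040000100000000801000000004000010020000000100000800001002000000020020000100000000800800)) (.leaf (nat_lit 0x1001004000008000040040000000000400002002004000000000080000200000001001002000010000000000100200200000800000000008010020000080000400800000000008000020040040000000000800001))) (.leaf (nat_lit 0x400000001002008000000000080100000000000801000004010000000000100100400000002004008000000040000000100400400000002000000010040080000000000800800000000010010000080100000000001002))) (.node (.node (.leaf (nat_lit 0x400001001000000000010040000080100000000002000008000000040080100000400001002000000000020000040000000400800800000008000000020080080000400000802000000000010000040000000200801000))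 (.leaf (nat_lit 0x2000008008020040040100000400000000004004008000020000000000200400800004000000000000000000100000801002002004010000020000000000000000001000008008010000000000200000801001))) (.leaf (nat_lit 0x200001002000000000010040000100200000000002000004000000020040080000000400000002008010000000080000000200800800004000010010000000000100000400000004008008000040000080200000000001)))))) (.node (.node (.node (.node (.node (.leaf (nat_lit 0x200400000000004000010040040000000000400002000000008010040000100000000001001004000008000000000080100200000800004008000000000040000100000000802004000008000040040000000000800001)) (.leaf (nat_lit 0x401000000000008010040000000100200400000000004008000000000100100400000001004008000000020000000100200800000000008008000000000080100000400800000000008020040000000200200800000))) (.node (.leaf (nat_lit 0x400400002000000008000040080000200000001000000000010000020040000200200400002000000010000000000100000400800002000000010000020080000100400400001000000010000000000080000200800002)) (.leaf (nat_lit 0x1002002000008000040080000000000800002000000008020020000100000400400000000004000020040040000000000800001000000008020040000080000000000801002000008000020040000000000800002))))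 (.node (.node (.leaf (nat_lit 0x400800002000000008000020080000100000000800000000010000040080000100200800002000000010000000000080000400800002000000008000020080000100400800001000000010000000000100000200800002)) (.leaf (nat_lit 0x2000000000000000080000000000000000000000010000000000000000000000000000000010000000000000000000800000000000000000000000000100400000000000000000000000000000000200000000))) (.leaf (nat_lit 0x400400800004000000000040080100000400000000004004010000020000000000000000002000008008010020040100000400000000000000000010000080080200000000002000008010020000000000200000400802)))) (.node (.node (.node (.leaf (nat_lit 0x800004004000020000000080000400800001004008000020000000100000000000800002004000010020040000200000001000004004000020000000080000000000800002008000020020080000200000000800)) (.leaf (nat_lit 0x200000002004004000000020000000100400800000004000000020040080000000000800800000000010010020000000200200800000000004008000000000080100000800800000000008020000080100000000000801))) (.leaf (nat_lit 0x801000000000010010000080100000000000802000004010000000000080100400000002002008000000000080080000000000801004000000010040080000000200000002004008000000040000000200400400000)))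 (.node (.node (.leaf (nat_lit 0x400000000002000008010020000000000200000802000008010010000080000000000801002000004000000000080080200000800000002000000000020000100100000800801000004000000040000000000200001002)) (.leaf (nat_lit 0x200001002000000000010020000100100000000002002000008010000000000100000800000002008008000020000080200000000002000008000000040040080000000400000004008008000000040000000200400800))) (.leaf (nat_lit 0x400000801000000000020000080000000400400800004000010020000000000200400000802000000000010000040000000400800800000008000000020080080000000800000004008010000020000080200000000002))))) (.node (.node (.node (.node (.leaf (nat_lit 0x200400000000008000020040040000000000800001000000008020020000100000000000801004000010000000000100100200001000002004000000000040000100000000801002000008000020080000000000800001)) (.leaf (nat_lit 0x2000008008020000000000100000800801004004008000020000000000000000001000008010020020040100000200000000002004008000040000000000000000001000004008020020080080000200000000))) (.node (.leaf (nat_lit 0x400400001000000008000040080000200000000800000000010000020080000200400400002000000010000000000100000400800001000000008000020080000100400800001000000010000000000080000400800002))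 (.leaf (nat_lit 0x400000802000000000010000080000000400801000004000010020000000000200200000802000000000020000040000000400800800000004000000020080100000000400000004004010000040000080100000000002)))) (.node (.node (.leaf (nat_lit 0x800000002008008000000080000000400400800004000010010000000000100400001002000000000020040000080100000000002000008000000040080100000400000802000000000010000080000000200401000)) (.leaf (nat_lit 0x800004008000010000000080000200400001000000008000040040000200400800001000000008000000000080000200800002002008000010000000100000200800002000000008000040080000200000001000))) (.leaf (nat_lit 0x400800001000000008000000000100000400400001004004000010000000100000400400002000000008000000000080000400400002000000010000040080000200000000800004008000010040080000200000001000)))) (.node (.node (.node (.leaf (nat_lit 0x2000008008020000000000100000800801000000000020000040080100200800800002000000000000000000200000801001002004010000020000000000400801000002000000000020080100000400000000)) (.leaf (nat_lit 0x200800001000000010000040040000100000001000002004000020000000100000000000800002008000020020040000100000000800000000008000040040000200000001000004008000020000000080000400800001)))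 (.leaf (nat_lit 0x400001000000008010000000080000100200000002002000010000000080080000000800002004000000020000080000100400000001002000008000000080100000200001000000004010000000040000100400000002))) (.node (.node (.leaf (nat_lit 0x400001002000000000010000080000000200400800002000010010000000000100000800000002008010000000080000000400800800004000008010000000000100400001001000000000020000040000000200800800)) (.leaf (nat_lit 0x800001002000000020020000080000000400800000008000010040000000100400001000000004008000040000080000000401000000008000020040000000200000800002002000000010020000100000000401000))) (.leaf (nat_lit 0x200000001004004000000000040100000000001002000004008000000000080200000401000000000008010020000000200200400000000008010000000000080200200000002004008000000040000000200400400000)))))))) (.node (.node (.node (.node (.node (.node (.node (.leaf (nat_lit 0x200000000004000008010000040100100000400000000004008010000080000000000801001000008000000020000000000200000802000008008010000040000000400000000004000008020040000000000200000801))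 (.leaf (nat_lit 0x400000004004010000040000100200000000002004000008010000000000200000400000004008008000000040000000200400800000008000000040040080000200000802000000000020040000080200000000001))) (.node (.leaf (nat_lit 0x400001000000004010000000080000200200000002002000010000000040080000000400002002000000010000080000200400000001004000010000000080080000200001000000008010000000040000200400000002)) (.leaf (nat_lit 0x800000002008010000020000080100000000002000008000000040040100000000800000002004008000040000080200000000002002000010020000000000200200000802000000000010000040000000200401000)))) (.node (.node (.leaf (nat_lit 0x401000000000010020040000000100400800000002000000020040080000000000800800000000010020000040080000000001001000004008000000000080200200000001002008000000020000000100400400000)) (.leaf (nat_lit 0x2000000000020000000000000000000000000010000000000000000000000000000004000000000080000000000000000000000000000000000100000000000001000000000000000000000000000000002))) (.leaf (nat_lit 0x801002000010000000000100100200000800000000010010040000100000400800000000008000010000000080100400000800002008000000000080000200200800000000004000010040080000000000400002))))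 (.node (.node (.node (.leaf (nat_lit 0x2000008010020000000000100000801001000000000020000040100100200800800004000000000000000000100000401002002004010000040000000000200400800002000000000020080100000200000000)) (.leaf (nat_lit 0x400001004000000020000040000100200000001002000008000000080100000000800001004000000010020000100000000401000002000008000000040080000000800001002000000020020000100000000800800))) (.node (.leaf (nat_lit 0x401001000004000000040000000000400000802000008010010000080000000000401002000008000000020000000000400000801004000000000020000080100400000000004000010010000040080100000800000)) (.leaf (nat_lit 0x1000000000000000000000000000400000000000000000040000000000000001000000000000000040000000000000000000000000000000000000000200000800000000000000000000000000000000001000)))) (.node (.node (.leaf (nat_lit 0x400800001000000008000000000080000200400001002008000010000000100000000001000002004000020000000080000400400002004008000020000000100000400400001000000010000000000080000200800002)) (.leaf (nat_lit 0x800000004004010000020000080100000000002000008000000040080080000000800000002004008000020000080200000000001004000008020000000000200200001002000000000020000040000000400400800)))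 (.leaf (nat_lit 0x400400001000000010000040080000200000001000000000010000020040000200400400002000000008000000000100000400400001000000010000040080000200200400002000000010000000000080000400400002))))) (.node (.node (.node (.node (.leaf (nat_lit 0x8000000000000000000400000000000000010000000000000000001000000000000000000000000000000000002000008000000000000000000400000000000000000000000000000000200000000)) (.leaf (nat_lit 0x1000004008000010040040000100000000800004004000020000000100000000000800004008000020000000080000200800001000000008000040040000100200400002000000008000040080000200000000800))) (.node (.leaf (nat_lit 0x400000002002004000000000080100000000001002002000000010020040000000000401000000000010010000040100000000000802004000000010020080000000400000001004004000000000040080000000001002)) (.leaf (nat_lit 0x400800000000010020020000000200200800000000008008000000000080200200000001002004000000020000000200400400000000004010000000000080200000801000000000010020020000000100400800000)))) (.node (.node (.leaf (nat_lit 0x400800800002000000000020080080000400000000004008010000040000000000000000002000004008020040040080000400000000000000000020000080100200000000002000004010010000000000100000401002))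 (.leaf (nat_lit 0x801002000008000020040000000000400001000000008010040000100000000001001004000008000040040000000000400002002008000000000040000200400800000000004000010000000100100200001000))) (.leaf (nat_lit 0x400400001000000008000000000100000400400002000000010000020080000200400800002000000008000020040000200000000800002008000010000000080000000000800004008000020000000080000200400002)))) (.node (.node (.node (.leaf (nat_lit 0x800002002000000020020000080000000800800000008000020040000000100200000800000004010000040000080000000801000000004000020020000000100000800001002000000010020000100000000801000)) (.leaf (nat_lit 0x2000004008010020040100000200000000000000000010000080080100200801000004000000000020080080000200000000000000000010000040100100000000001000004008020040080100000200000000))) (.leaf (nat_lit 0x400001001000000000010000080000000400400800000004000000040080080000400001002000000000020040000080200000000001004000008010000000000200000800000004008010000000040000000400401000))) (.node (.node (.leaf (nat_lit 0x400001000000004008000000080000100200000002000008000010040000000100000800002004000000020040000080000000800800000008000020020000000100400000800000004010000040000100000000801000))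 (.leaf (nat_lit 0x200400000000004000010000000080200200001000002008000000000040000200000001001002000010000000000100200200000800004008000000000040000100400400000000004000020000000080100200000800))) (.leaf (nat_lit 0x400800800002000000000020080100000200000000004004010000020000000000000000002000004010010040080100000400000000000000000020000080100200000000001000004010020000000000200000400802)))))) (.node (.node (.node (.node (.node (.leaf (nat_lit 0x200000801000000000010000040000000200400800004000008010000000000200400001001000000000010000080000000200800800000008000000020040100000000800000004004008000040000080200000000001)) (.leaf (nat_lit 0x200001000000008008000040000100000000400800000004000010020000000100400001000000008010000000080000100200000002000008000010040000000100400000800000008008000000080000200200000001))) (.node (.leaf (nat_lit 0x400400000000004000010000000100200200001000002004000000000040000200200400000000008000010000000100200400000800000000010010020000080000000001001004000010000040040000000000800002)) (.leaf (nat_lit 0x1000002008000010000000080000200800002002008000010000000100000000001000002004000020040080000200000001000002004000020000000100000000000800002004000010040040000100000001000))))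 (.node (.node (.leaf (nat_lit 0x400000800000008008000000080000100400000001004000010000000080100000000800002004000000020000040000100400000002002000008000000080100000400000800000004010000000080000100200000002)) (.leaf (nat_lit 0x200000800000004010000000040000200400000002000008000010040000000200200001000000004008000040000080000000400800004000010000000040100000000800002004000000010000040000100400000001))) (.leaf (nat_lit 0x400001002000000000010040000100100000000002002000010010000000000100000800000004008008000040000080100000000001000008000000020080100000000800000004004010000000040000000400801000)))) (.node (.node (.node (.leaf (nat_lit 0x200000000004000010020000040080100000800000000008008020000080000000000800801000004000000020000000000200001001000004008020000040000000200000000002000008020020000000000400000801)) (.leaf (nat_lit 0x401000000000008020040000000100200800000000004008000000000080100200000001004008000000020000000200200800000000008010000000000080100000800800000000008020040000000200400800000))) (.leaf (nat_lit 0x400400000000008000010000000100100400000800002004000000000080000200400800000000008000020000000080200400000800000000008010020000080000000000801004000010000040040000000000400002)))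 (.node (.node (.leaf (nat_lit 0x400000800000008008000020000080000000400800000008000010020000000200400001000000004008000000080000200400000002000008000020020000000100400000800000004010000000040000200200000002)) (.leaf (nat_lit 0x200000001002004000000000040100000000000802002000000010040080000000400000001002008000000000040080000000000801000008008000000000080200000801000000000008010040000000100400400000))) (.leaf (nat_lit 0x801004000008000020080000000000400001004008000000000040000200400400000000004000010000000100200400000800004008000000000080000100000000802004000010000000000080200200000800))))) (.node (.node (.node (.node (.leaf (nat_lit 0x800002008000020000000080000400800001004008000020000000100000000000800004004000020040040000100000001000002004000020000000100000000000800002004000010020080000100000001000)) (.leaf (nat_lit 0x200000802000000000010020000100100000000001004000008010000000000100000800000004008008000020000080100000000002000008000000040040100000000400000004004008000000080000000200400800))) (.node (.leaf (nat_lit 0x400400000000004000010000000080200200000800000000010010020000080000000001002002000010000040080000000000800001000000008010020000100000400800000000004000020040040000000000800002))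 (.leaf (nat_lit 0x400000000004000010010040000000000200001002000008010020000040000000000400802000004000000000080080200000800000004000000000020000080100000401002000008000000040000000000400000802)))) (.node (.node (.leaf (nat_lit 0x800801000004000000020000000000400001002000008010010000080000000000801002000004000000040000000000400000802004000000000020000100200400000000004000010010000040100100000400000)) (.leaf (nat_lit 0x200800000000008000010000000100100200001000000000008010040000100000000001001004000008000020080000000000400002000000010020040000100000200400000000004000010040080000000000400001))) (.leaf (nat_lit 0x400000801000000000010040000100200000000001000004000000020040100000000400000002008008000000040000000400400800004000010010000000000200000400000004008010000040000080200000000002)))) (.node (.node (.node (.leaf (nat_lit 0x1000000000000000000000000000400000000000000000000000000200400000000000000000000000000000000000000800000008000000000000000000000000000004000000000000000080000000000000)) (.leaf (nat_lit 0x200000001004004000000000040100000000001002002000000020040080000000200000001002008000000000040100000000000801000004008000000000080200000801000000000008020040000000100400800000)))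 (.leaf (nat_lit 0x1000008010010020080100000200000000002004010000040000000000400801000004000000000000000000100000400801002008008000040000000000000000002000004010010000000000100000401002))) (.node (.node (.leaf (nat_lit 0x1002004000008000040080000000000400002000000010010020000080000000001002002000010000020080000000000800002004008000000000080000100400400000000008000020000000080200200000800)) (.leaf (nat_lit 0x10000000000000000200000000000000010000000000000000000800000000000000000000000000100000000000002000000000000000000000000000000000004000000000000000000000000002))) (.leaf (nat_lit 0x401002000004000000040000000000200000802000004008010000040000000000401001000008000000020000000000200000801004000000000040000080100200000000004000008020000040080200000800000))))))) (.node (.node (.node (.node (.node (.node (.leaf (nat_lit 0x200000000002000008010000040100200000400000000004008010000040000000000401001000008000000040000000000200000802000008010010000040000000400000000004000008010040000000000200001001)) (.leaf (nat_lit 0x200400800004000000000000000000200000400801000000000010000040080200000000001000008008010020080080000200000000000000000010000040100100200801000004000000000040080080000400000000)))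 (.node (.leaf (nat_lit 0x400001000000004008000000080000200400000002002000010000000080080000000400002002000000020000040000200400000001004000008000000080080000400001000000008010000000040000100400000002)) (.leaf (nat_lit 0x4000000000000000100000000000000000004000000000000000000000000000000000000010020000000000000000000000000000000000000080000000000000000008000000000000000200000000000)))) (.node (.node (.leaf (nat_lit 0x200001002000000000020000040000000400801000002000008020000000000100200000801000000000020000040000000200401000000004000000040040080000000400000002008008000020000100100000000001)) (.leaf (nat_lit 0x200801000004000000000000000000100000401001002004008000040000000000000000001000008010020000000000100000400802004008008000040000000000400401000004000000000000000000100000800801))) (.leaf (nat_lit 0x400400001000000010000040080000100000000800000000010000040080000200400800002000000010000000000080000400800001000000008000020080000200200800001000000010000000000080000400400002)))) (.node (.node (.node (.leaf (nat_lit 0x10000000100000000000000000004000000000000000000000000000000008000000000000000000000000800000000000010000000000000000000000004000000000040000000000000000000))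 (.leaf (nat_lit 0x200400800004000000000020040100000200000000002008008000020000000000000000001000008008010020080100000400000000000000000020000040080100000000001000004008020000000000200000800802))) (.leaf (nat_lit 0x400000801000000000010020000100100000000001000004000000040080100000000800000004008008000000040000000400400800002000008010000000000200000800000004004010000040000100100000000002))) (.node (.node (.leaf (nat_lit 0x801001000008000000000080080100000400000002000000000040000100200400000000002000010020040000000000400000802000008008020000080000000400000000004000010010000040080100000800000)) (.leaf (nat_lit 0x400000000000000000000000000000000200000000000004000000000000000000000000000000000010000000000100000000000000000000000000000080000000000000000000000000020000000000200000000000))) (.leaf (nat_lit 0x801004000010000040080000000000400001004004000000000040000200400400000000008000010000000100100400000800004008000000000080000200000001002004000010000000000080200400000800))))) (.node (.node (.node (.node (.leaf (nat_lit 0x2000004010020000000000200000801001000000000020000040080100200400800004000000000000000000100000401001004004010000040000000000200401000002000000000020080100000400000000))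 (.leaf (nat_lit 0x200400000000008000010000000100200400000800004004000000000040000100400800000000008000010000000100100200000800000000008010040000080000000000802002000008000020080000000000400001))) (.node (.leaf (nat_lit 0x400000001004004000000040000000200200400000000004010000000000080200000401000000000010010000080100000000000801004000000010020080000000000801000000000010020040000000200400800000)) (.leaf (nat_lit 0x400401000002000000000000000000200000400802000000000010000040080100000000002000008008010040080100000400000000000000000010000080080200200801000002000000000020040100000400000000)))) (.node (.node (.leaf (nat_lit 0x800000002004008000020000080100000000002000008000000040080080000200001002000000000020040000080200000000002000008000000020080100000000800000004004010000040000100100000000002)) (.leaf (nat_lit 0x1000008010010000000000100000400801004004008000040000000000400801000004000000000040080080000200000000000000000010000040100200200800800004000000000000000000200000401001))) (.leaf (nat_lit 0x400000000004000010010000080100200000400000000004010010000040000000400000000002000008010020000000000400000801004000000000040000080200000401002000008000000000040080200000400000))))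 (.node (.node (.node (.leaf (nat_lit 0x2000008010020000000000100000800802000000000020000080080100200800800004000000000000000000100000801001002004008000020000000000200801000002000000000020040100000400000000)) (.leaf (nat_lit 0x1001004000010000040040000000000400001002004000000000040000200000000801002000010000000000100100200000800000000008010040000080000400400000000008000020020040000000000800001))) (.leaf (nat_lit 0x400000002002008000000000080100000000000802000004010000000000080100200000002004008000000040000000100400800000002000000010020080000000000801000000000010010000040100000000001002))) (.node (.node (.leaf (nat_lit 0x400000001002004000000000080080000000001002000008010000000000100100400000002004004000000040000000100400800000004000000020020080000000000400800000000010010000040100000000001002)) (.leaf (nat_lit 0x802002000008000000000100200400000800004004000000000040000100200400000000008000010040040000000000800002000000010010020000080000400800000000008000010000000100200200001000))) (.leaf (nat_lit 0x401000000000010010040000000200200400000002000000010020040000000400000001002008000000000080100000000000801004000000010040040000000000401000000000008020000040080000000000801))))))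 (.node (.node (.node (.node (.node (.leaf (nat_lit 0x200000000002000010020000040080200000800000000008008020000040000000000400801000004000000040000000000200001001000004010020000040000000200000000002000008010020000000000400001001)) (.leaf (nat_lit 0x200000002004008000000040000000100400800000004000000020020080000000000800800000000010020020000000100200800000000004008000000000100100000400800000000008020000080080000000000801))) (.node (.leaf (nat_lit 0x400002002000000010000080000200200000002002000010000000040080000200001000000008010000040000100000000800800000008000010020000000100400001000000004010000000040000100200000002)) (.leaf (nat_lit 0x1000002004000020000000100000400800002004008000020000000100000000000800004004000020040040000200000000800002008000020000000080000000000800002008000020020040000200000001000)))) (.node (.node (.leaf (nat_lit 0x400001000000008008000000080000100400000002002000010000000080100000000800002002000000020000040000200400000002002000008000000080080000400000800000008010000000040000100200000002)) (.leaf (nat_lit 0x800000002004010000000040000000200801000000004000000040040100000200000801000000000010000040000000200400800002000010010000000000200200001002000000000010040000100100000000001)))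 (.leaf (nat_lit 0x801004000008000000000100100400001000004004000000000080000200000001002004000008000020040000000000400002002008000000000080000200000000802004000010000040080000000000400002)))) (.node (.node (.node (.leaf (nat_lit 0x800002004000000020020000080000000801000000008000020020000000100200000800000004008000020000100000000401000000004000020040000000100000400002002000000020020000100000000800800)) (.leaf (nat_lit 0x802004000008000000000100100400000800004004000000000080000100200800000000008000010020040000000000800002000000008010020000080000400800000000008000020000000100200200000800))) (.leaf (nat_lit 0x400800001000000010000020080000100000000800000000010000040080000100400800002000000008000000000080000400400001000000008000040080000200200800002000000010000000000100000400400002))) (.node (.node (.leaf (nat_lit 0x400000001002008000000000080080000000000802000008010000000000100200400000002002004000000040000000200400800000002000000020020080000000000800800000000010010000040080000000001002)) (.leaf (nat_lit 0x200000002002004000000000040100000000001002002000000010040040000000200000001002008000000000040080000000000802000008010000000000080200000401000000000008010040000000100200400000)))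 (.leaf (nat_lit 0x400800000000010010040000000200400400000000004010000000000100200000401000000000008010020000000100400400000004000000010040080000000200000002004008000000000040080000000000802))))) (.node (.node (.node (.node (.leaf (nat_lit 0x1000008010020000000000100000800801000000000020000080100100400800800004000000000000000000100000401001002004008000040000000000200800800002000000000020080100000400000000)) (.leaf (nat_lit 0x4000000000000000000000000002000008000000000000000000000000002000000000000040000000000000000000000000000000020000000000000000000000000010000000000100000000000000))) (.node (.leaf (nat_lit 0x400000004004010000040000100200000000002002000010010000000000200200001002000000000010000080000000400400800004000010010000000000100000800000004008010000000040000000400800800)) (.leaf (nat_lit 0x400801000008000000040000000000400000802004000000000020000100200400000000002000008010000040100200000800000002000000000020000080200000800802000008000000000040080200000400000)))) (.node (.node (.leaf (nat_lit 0x800000002004008000000080000000400401000002000010010000000000100400001002000000000010040000100100000000002000008000000020080100000400000801000000000010000040000000200401000))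 (.leaf (nat_lit 0x200800002000000010000000000080000400800002004008000020000000080000000000800002004000020000000080000200800001004004000020000000100000200400002000000008000000000080000400400001))) (.leaf (nat_lit 0x400000800000004008000000080000200400000001004000010000000040100000000400002002000000010000040000200400000002004000010000000080080000400000800000008010000000080000200200000002)))) (.node (.node (.node (.leaf (nat_lit 0x1000002008000020000000080000400800002002008000020000000100000000000800002004000020040040000200000001000002004000020000000080000000000800002008000010020040000100000001000)) (.leaf (nat_lit 0x200000000004000008020040000000000400001002000004008020000080000000000401001000008000000000040100200000400000004000000000020000080200000801002000008000000040000000000400000801))) (.leaf (nat_lit 0x401001000008000000000080100100000400000002000000000040000080200400000000004000010020040000000000400000801000008008010000080000000200000000004000010010000040080100000400000))) (.node (.node (.leaf (nat_lit 0x401000000000008010000080100000000000802002000000010020080000000400000002002008000000020000000200400800000000008008000000000080100400000001004008000000000040080000000000802))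 (.leaf (nat_lit 0x400000000000000000040000000000000000000000000000000020000000000000000000000008000000000000100000000000000000000000010000000000000000000000000000000020000000000000000000800))) (.leaf (nat_lit 0x200400000000004000010000000100200400001000004004000000000040000200400400000000008000010000000100200200000800000000010010040000080000000000802004000008000040080000000000400001)))))))))

noncomputable def pT : NT := (.node (.node (.node (.node (.node (.node (.node (.node (.leaf (nat_lit 0)) (.leaf (nat_lit 271))) (.node (.leaf (nat_lit 97)) (.leaf (nat_lit 866)))) (.node (.node (.leaf (nat_lit 37)) (.leaf (nat_lit 382))) (.leaf (nat_lit 162)))) (.node (.node (.node (.leaf (nat_lit 18)) (.leaf (nat_lit 320))) (.node (.leaf (nat_lit 129)) (.leaf (nat_lit 1178)))) (.node (.node (.leaf (nat_lit 72)) (.leaf (nat_lit 489))) (.leaf (nat_lit 194))))) (.node (.node (.node (.node (.leaf (nat_lit 9)) (.leaf (nat_lit 297))) (.node (.leaf (nat_lit 110)) (.leaf (nat_lit 928)))) (.node (.node (.leaf (nat_lit 55)) (.leaf (nat_lit 450))) (.leaf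 (nat_lit 178)))) (.node (.node (.node (.leaf (nat_lit 27)) (.leaf (nat_lit 359))) (.leaf (nat_lit 144))) (.node (.node (.leaf (nat_lit 86)) (.leaf (nat_lit 615))) (.leaf (nat_lit 213)))))) (.node (.node (.node (.node (.node (.leaf (nat_lit 4)) (.leaf (nat_lit 288))) (.node (.leaf (nat_lit 104)) (.leaf (nat_lit 890)))) (.node (.node (.leaf (nat_lit 47)) (.leaf (nat_lit 424))) (.leaf (nat_lit 170)))) (.node (.node (.node (.leaf (nat_lit 23)) (.leaf (nat_lit 337))) (.leaf (nat_lit 137))) (.node (.node (.leaf (nat_lit 79)) (.leaf (nat_lit 533))) (.leaf (nat_lit 205))))) (.node (.node (.node (.node (.leaf (nat_lit 13)) (.leaf (nat_lit 312))) (.node (.leaf (nat_lit 122)) (.leaf (nat_lit 989)))) (.node (.node (.leaf (nat_lit 61)) (.leaf (nat_lit 468))) (.leaf (nat_lit 187)))) (.node (.node (.node (.leaf (nat_lit 32)) (.leaf (nat_lit 370))) (.leaf (nat_lit 155))) (.node (.node (.leaf (nat_lit 92)) (.leaf (nat_lit 685))) (.leaf (nat_lit 264))))))) (.node (.node (.node (.node (.node (.node (.leaf (nat_lit 2)) (.leaf (nat_lit 276))) (.node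 (.leaf (nat_lit 101)) (.leaf (nat_lit 871)))) (.node (.node (.leaf (nat_lit 39)) (.leaf (nat_lit 387))) (.leaf (nat_lit 165)))) (.node (.node (.node (.leaf (nat_lit 20)) (.leaf (nat_lit 324))) (.leaf (nat_lit 132))) (.node (.node (.leaf (nat_lit 74)) (.leaf (nat_lit 512))) (.leaf (nat_lit 199))))) (.node (.node (.node (.node (.leaf (nat_lit 11)) (.leaf (nat_lit 302))) (.node (.leaf (nat_lit 118)) (.leaf (nat_lit 942)))) (.node (.node (.leaf (nat_lit 59)) (.leaf (nat_lit 459))) (.leaf (nat_lit 181)))) (.node (.node (.node (.leaf (nat_lit 30)) (.leaf (nat_lit 366))) (.leaf (nat_lit 149))) (.node (.node (.leaf (nat_lit 89)) (.leaf (nat_lit 654))) (.leaf (nat_lit 262)))))) (.node (.node (.node (.node (.node (.leaf (nat_lit 6)) (.leaf (nat_lit 293))) (.node (.leaf (nat_lit 108)) (.leaf (nat_lit 919)))) (.node (.node (.leaf (nat_lit 53)) (.leaf (nat_lit 431))) (.leaf (nat_lit 176)))) (.node (.node (.node (.leaf (nat_lit 25)) (.leaf (nat_lit 344))) (.leaf (nat_lit 141))) (.node (.node (.leaf (nat_lit 81)) (.leaf (nat_lit 547))) (.leaf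 (nat_lit 208))))) (.node (.node (.node (.node (.leaf (nat_lit 16)) (.leaf (nat_lit 316))) (.node (.leaf (nat_lit 124)) (.leaf (nat_lit 1018)))) (.node (.node (.leaf (nat_lit 65)) (.leaf (nat_lit 481))) (.leaf (nat_lit 191)))) (.node (.node (.node (.leaf (nat_lit 34)) (.leaf (nat_lit 375))) (.leaf (nat_lit 158))) (.node (.node (.leaf (nat_lit 95)) (.leaf (nat_lit 855))) (.leaf (nat_lit 268)))))))) (.node (.node (.node (.node (.node (.node (.node (.leaf (nat_lit 1)) (.leaf (nat_lit 272))) (.node (.leaf (nat_lit 99)) (.leaf (nat_lit 869)))) (.node (.node (.leaf (nat_lit 38)) (.leaf (nat_lit 384))) (.leaf (nat_lit 163)))) (.node (.node (.node (.leaf (nat_lit 19)) (.leaf (nat_lit 323))) (.node (.leaf (nat_lit 131)) (.leaf (nat_lit 1188)))) (.node (.node (.leaf (nat_lit 73)) (.leaf (nat_lit 492))) (.leaf (nat_lit 197))))) (.node (.node (.node (.node (.leaf (nat_lit 10)) (.leaf (nat_lit 300))) (.node (.leaf (nat_lit 111)) (.leaf (nat_lit 937)))) (.node (.node (.leaf (nat_lit 58)) (.leaf (nat_lit 458))) (.leaf (nat_lit 180)))) (.node (.node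 (.node (.leaf (nat_lit 29)) (.leaf (nat_lit 362))) (.leaf (nat_lit 145))) (.node (.node (.leaf (nat_lit 88)) (.leaf (nat_lit 634))) (.leaf (nat_lit 251)))))) (.node (.node (.node (.node (.node (.leaf (nat_lit 5)) (.leaf (nat_lit 290))) (.node (.leaf (nat_lit 106)) (.leaf (nat_lit 897)))) (.node (.node (.leaf (nat_lit 51)) (.leaf (nat_lit 426))) (.leaf (nat_lit 172)))) (.node (.node (.node (.leaf (nat_lit 24)) (.leaf (nat_lit 342))) (.leaf (nat_lit 138))) (.node (.node (.leaf (nat_lit 80)) (.leaf (nat_lit 535))) (.leaf (nat_lit 206))))) (.node (.node (.node (.node (.leaf (nat_lit 15)) (.leaf (nat_lit 313))) (.node (.leaf (nat_lit 123)) (.leaf (nat_lit 997)))) (.node (.node (.leaf (nat_lit 62)) (.leaf (nat_lit 473))) (.leaf (nat_lit 190)))) (.node (.node (.node (.leaf (nat_lit 33)) (.leaf (nat_lit 373))) (.leaf (nat_lit 156))) (.node (.node (.leaf (nat_lit 94)) (.leaf (nat_lit 688))) (.leaf (nat_lit 265))))))) (.node (.node (.node (.node (.node (.node (.leaf (nat_lit 3)) (.leaf (nat_lit 285))) (.node (.leaf (nat_lit 103)) (.leaf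 (nat_lit 883)))) (.node (.node (.leaf (nat_lit 40)) (.leaf (nat_lit 389))) (.leaf (nat_lit 166)))) (.node (.node (.node (.leaf (nat_lit 22)) (.leaf (nat_lit 327))) (.leaf (nat_lit 135))) (.node (.node (.leaf (nat_lit 75)) (.leaf (nat_lit 531))) (.leaf (nat_lit 204))))) (.node (.node (.node (.node (.leaf (nat_lit 12)) (.leaf (nat_lit 304))) (.node (.leaf (nat_lit 120)) (.leaf (nat_lit 949)))) (.node (.node (.leaf (nat_lit 60)) (.leaf (nat_lit 467))) (.leaf (nat_lit 183)))) (.node (.node (.node (.leaf (nat_lit 31)) (.leaf (nat_lit 368))) (.leaf (nat_lit 151))) (.node (.node (.leaf (nat_lit 90)) (.leaf (nat_lit 661))) (.leaf (nat_lit 263)))))) (.node (.node (.node (.node (.node (.leaf (nat_lit 8)) (.leaf (nat_lit 295))) (.node (.leaf (nat_lit 109)) (.leaf (nat_lit 921)))) (.node (.node (.leaf (nat_lit 54)) (.leaf (nat_lit 444))) (.leaf (nat_lit 177)))) (.node (.node (.node (.leaf (nat_lit 26)) (.leaf (nat_lit 351))) (.leaf (nat_lit 142))) (.node (.node (.leaf (nat_lit 82)) (.leaf (nat_lit 549))) (.leaf (nat_lit 211))))) (.node (.node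 (.node (.node (.leaf (nat_lit 17)) (.leaf (nat_lit 319))) (.node (.leaf (nat_lit 127)) (.leaf (nat_lit 1075)))) (.node (.node (.leaf (nat_lit 69)) (.leaf (nat_lit 485))) (.leaf (nat_lit 192)))) (.node (.node (.node (.leaf (nat_lit 36)) (.leaf (nat_lit 380))) (.leaf (nat_lit 159))) (.node (.node (.leaf (nat_lit 96)) (.leaf (nat_lit 862))) (.leaf (nat_lit 269)))))))))

noncomputable def hT : NT := (.node (.node (.node (.node (.node (.node (.node (.node (.node (.node (.node (.leaf (nat_lit 14280)) (.leaf (nat_lit 9))) (.leaf (nat_lit 178))) (.node (.node (.leaf (nat_lit 24651)) (.leaf (nat_lit 34224))) (.leaf (nat_lit 37050)))) (.node (.node (.node (.leaf (nat_lit 32345)) (.leaf (nat_lit 15823))) (.leaf (nat_lit 14374))) (.node (.node (.leaf (nat_lit 161)) (.leaf (nat_lit 37557))) (.leaf (nat_lit 14408))))) (.node (.node (.node (.node (.leaf (nat_lit 14301)) (.leaf (nat_lit 38948))) (.leaf (nat_lit 34194))) (.node (.node (.leaf (nat_lit 144)) (.leaf (nat_lit 14472))) (.leaf (nat_lit 9466)))) (.node (.node (.node (.leaf (nat_lit 111))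 (.leaf (nat_lit 26))) (.leaf (nat_lit 2193))) (.node (.leaf (nat_lit 14344)) (.leaf (nat_lit 7944)))))) (.node (.node (.node (.node (.node (.leaf (nat_lit 28)) (.leaf (nat_lit 1980))) (.leaf (nat_lit 2118))) (.node (.node (.leaf (nat_lit 132)) (.leaf (nat_lit 14371))) (.leaf (nat_lit 35223)))) (.node (.node (.node (.leaf (nat_lit 1973)) (.leaf (nat_lit 20))) (.leaf (nat_lit 14376))) (.node (.node (.leaf (nat_lit 30339)) (.leaf (nat_lit 5857))) (.leaf (nat_lit 200))))) (.node (.node (.node (.node (.leaf (nat_lit 63)) (.leaf (nat_lit 14440))) (.leaf (nat_lit 7712))) (.node (.node (.leaf (nat_lit 2787)) (.leaf (nat_lit 7092))) (.leaf (nat_lit 37023)))) (.node (.node (.node (.leaf (nat_lit 14312)) (.leaf (nat_lit 30178))) (.leaf (nat_lit 14398))) (.node (.leaf (nat_lit 13728)) (.leaf (nat_lit 8))))))) (.node (.node (.node (.node (.node (.node (.leaf (nat_lit 14)) (.leaf (nat_lit 20773))) (.leaf (nat_lit 15695))) (.node (.node (.leaf (nat_lit 129)) (.leaf (nat_lit 21492))) (.leaf (nat_lit 14392)))) (.node (.node (.node (.leaf (nat_lit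 88)) (.leaf (nat_lit 15298))) (.leaf (nat_lit 25943))) (.node (.node (.leaf (nat_lit 34148)) (.leaf (nat_lit 5390))) (.leaf (nat_lit 28122))))) (.node (.node (.node (.node (.leaf (nat_lit 53)) (.leaf (nat_lit 29176))) (.leaf (nat_lit 127))) (.node (.node (.leaf (nat_lit 14328)) (.leaf (nat_lit 7831))) (.leaf (nat_lit 27175)))) (.node (.node (.node (.leaf (nat_lit 118)) (.leaf (nat_lit 14456))) (.leaf (nat_lit 12995))) (.node (.leaf (nat_lit 14350)) (.leaf (nat_lit 36419)))))) (.node (.node (.node (.node (.node (.leaf (nat_lit 34025)) (.leaf (nat_lit 30934))) (.leaf (nat_lit 14360))) (.node (.node (.leaf (nat_lit 139)) (.leaf (nat_lit 7123))) (.leaf (nat_lit 20609)))) (.node (.node (.node (.leaf (nat_lit 102)) (.leaf (nat_lit 32))) (.leaf (nat_lit 189))) (.node (.node (.leaf (nat_lit 23978)) (.leaf (nat_lit 14488))) (.leaf (nat_lit 14336))))) (.node (.node (.node (.node (.leaf (nat_lit 14296)) (.leaf (nat_lit 14324))) (.leaf (nat_lit 21389))) (.node (.node (.leaf (nat_lit 155)) (.leaf (nat_lit 28885))) (.leaf (nat_lit 6701)))) (.node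 (.node (.node (.leaf (nat_lit 20596)) (.leaf (nat_lit 3895))) (.leaf (nat_lit 37027))) (.node (.leaf (nat_lit 2016)) (.leaf (nat_lit 14424)))))))) (.node (.node (.node (.node (.node (.node (.node (.leaf (nat_lit 7)) (.leaf (nat_lit 29175))) (.leaf (nat_lit 13823))) (.node (.node (.leaf (nat_lit 124)) (.leaf (nat_lit 14464))) (.leaf (nat_lit 35867)))) (.node (.node (.node (.leaf (nat_lit 14287)) (.leaf (nat_lit 13639))) (.leaf (nat_lit 35514))) (.node (.node (.leaf (nat_lit 14336)) (.leaf (nat_lit 15797))) (.leaf (nat_lit 27669))))) (.node (.node (.node (.node (.leaf (nat_lit 48)) (.leaf (nat_lit 24762))) (.leaf (nat_lit 7894))) (.node (.node (.leaf (nat_lit 19409)) (.leaf (nat_lit 32396))) (.leaf (nat_lit 14400)))) (.node (.node (.node (.leaf (nat_lit 0)) (.leaf (nat_lit 32))) (.leaf (nat_lit 25065))) (.node (.leaf (nat_lit 14288)) (.leaf (nat_lit 23297)))))) (.node (.node (.node (.node (.node (.leaf (nat_lit 35)) (.leaf (nat_lit 14432))) (.leaf (nat_lit 10736))) (.node (.node (.leaf (nat_lit 37392)) (.leaf (nat_lit 16368))) (.leaf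 (nat_lit 36489)))) (.node (.node (.node (.leaf (nat_lit 14304)) (.leaf (nat_lit 14471))) (.leaf (nat_lit 28046))) (.node (.node (.leaf (nat_lit 164)) (.leaf (nat_lit 11730))) (.leaf (nat_lit 19659))))) (.node (.node (.node (.node (.leaf (nat_lit 68)) (.leaf (nat_lit 33386))) (.leaf (nat_lit 14368))) (.node (.node (.leaf (nat_lit 4558)) (.leaf (nat_lit 151))) (.leaf (nat_lit 23137)))) (.node (.node (.node (.leaf (nat_lit 6309)) (.leaf (nat_lit 17009))) (.leaf (nat_lit 18171))) (.node (.leaf (nat_lit 24871)) (.leaf (nat_lit 65))))))) (.node (.node (.node (.node (.node (.node (.leaf (nat_lit 21)) (.leaf (nat_lit 10835))) (.leaf (nat_lit 24833))) (.node (.node (.leaf (nat_lit 14320)) (.leaf (nat_lit 114))) (.leaf (nat_lit 14290)))) (.node (.node (.node (.leaf (nat_lit 11609)) (.leaf (nat_lit 14448))) (.leaf (nat_lit 3529))) (.node (.node (.leaf (nat_lit 2240)) (.leaf (nat_lit 13197))) (.leaf (nat_lit 16836))))) (.node (.node (.node (.node (.leaf (nat_lit 57)) (.leaf (nat_lit 27442))) (.leaf (nat_lit 130))) (.node (.node (.leaf (nat_lit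 150)) (.leaf (nat_lit 17084))) (.leaf (nat_lit 19)))) (.node (.node (.node (.leaf (nat_lit 1537)) (.leaf (nat_lit 6494))) (.leaf (nat_lit 14384))) (.node (.leaf (nat_lit 7100)) (.leaf (nat_lit 24109)))))) (.node (.node (.node (.node (.node (.leaf (nat_lit 14288)) (.leaf (nat_lit 11))) (.leaf (nat_lit 37547))) (.node (.node (.leaf (nat_lit 140)) (.leaf (nat_lit 14158))) (.leaf (nat_lit 14391)))) (.node (.node (.node (.leaf (nat_lit 2130)) (.leaf (nat_lit 36825))) (.leaf (nat_lit 11597))) (.node (.node (.leaf (nat_lit 40047)) (.leaf (nat_lit 3919))) (.leaf (nat_lit 14416))))) (.node (.node (.node (.node (.leaf (nat_lit 75)) (.leaf (nat_lit 3955))) (.leaf (nat_lit 14295))) (.node (.node (.leaf (nat_lit 37392)) (.leaf (nat_lit 14480))) (.leaf (nat_lit 19190)))) (.node (.node (.node (.leaf (nat_lit 6396)) (.leaf (nat_lit 14692))) (.leaf (nat_lit 20647))) (.node (.leaf (nat_lit 14352)) (.leaf (nat_lit 34639))))))))) (.node (.node (.node (.node (.node (.node (.node (.node (.leaf (nat_lit 4)) (.leaf (nat_lit 19159))) (.leaf (nat_lit 16937)))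 (.node (.node (.leaf (nat_lit 14321)) (.leaf (nat_lit 14352))) (.leaf (nat_lit 185)))) (.node (.node (.node (.leaf (nat_lit 82)) (.leaf (nat_lit 18592))) (.leaf (nat_lit 14372))) (.node (.node (.leaf (nat_lit 19441)) (.leaf (nat_lit 11084))) (.leaf (nat_lit 31))))) (.node (.node (.node (.node (.leaf (nat_lit 27130)) (.leaf (nat_lit 14436))) (.leaf (nat_lit 2))) (.node (.node (.leaf (nat_lit 146)) (.leaf (nat_lit 7034))) (.leaf (nat_lit 37489)))) (.node (.node (.node (.leaf (nat_lit 14308)) (.leaf (nat_lit 34088))) (.leaf (nat_lit 37507))) (.node (.leaf (nat_lit 19180)) (.leaf (nat_lit 33902)))))) (.node (.node (.node (.node (.node (.leaf (nat_lit 31)) (.leaf (nat_lit 9228))) (.leaf (nat_lit 32421))) (.node (.node (.leaf (nat_lit 38340)) (.leaf (nat_lit 14468))) (.leaf (nat_lit 5221)))) (.node (.node (.node (.leaf (nat_lit 14315)) (.leaf (nat_lit 209))) (.leaf (nat_lit 30832))) (.node (.node (.leaf (nat_lit 14340)) (.leaf (nat_lit 35570))) (.leaf (nat_lit 36911))))) (.node (.node (.node (.node (.leaf (nat_lit 0)) (.leaf (nat_lit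 11))) (.leaf (nat_lit 14457))) (.node (.node (.leaf (nat_lit 26386)) (.leaf (nat_lit 32397))) (.leaf (nat_lit 14404)))) (.node (.node (.node (.leaf (nat_lit 23126)) (.leaf (nat_lit 17921))) (.leaf (nat_lit 4532))) (.node (.leaf (nat_lit 18971)) (.leaf (nat_lit 15421))))))) (.node (.node (.node (.node (.node (.node (.leaf (nat_lit 18)) (.leaf (nat_lit 31026))) (.leaf (nat_lit 14356))) (.node (.node (.leaf (nat_lit 130)) (.leaf (nat_lit 35058))) (.leaf (nat_lit 15609)))) (.node (.node (.node (.leaf (nat_lit 6333)) (.leaf (nat_lit 36453))) (.leaf (nat_lit 2831))) (.node (.node (.leaf (nat_lit 16036)) (.leaf (nat_lit 14484))) (.leaf (nat_lit 16833))))) (.node (.node (.node (.node (.leaf (nat_lit 14292)) (.leaf (nat_lit 19055))) (.leaf (nat_lit 14379))) (.node (.node (.leaf (nat_lit 14321)) (.leaf (nat_lit 16876))) (.leaf (nat_lit 34026)))) (.node (.node (.node (.leaf (nat_lit 2734)) (.leaf (nat_lit 26314))) (.leaf (nat_lit 17875))) (.node (.leaf (nat_lit 172)) (.leaf (nat_lit 14420)))))) (.node (.node (.node (.node (.node (.leaf (nat_lit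 7801)) (.leaf (nat_lit 10))) (.leaf (nat_lit 36063))) (.node (.node (.leaf (nat_lit 14324)) (.leaf (nat_lit 5413))) (.leaf (nat_lit 28119)))) (.node (.node (.node (.leaf (nat_lit 105)) (.leaf (nat_lit 14452))) (.leaf (nat_lit 31465))) (.node (.node (.leaf (nat_lit 20704)) (.leaf (nat_lit 16794))) (.leaf (nat_lit 65))))) (.node (.node (.node (.node (.leaf (nat_lit 2748)) (.leaf (nat_lit 11956))) (.leaf (nat_lit 7100))) (.node (.node (.leaf (nat_lit 7781)) (.leaf (nat_lit 31270))) (.leaf (nat_lit 23228)))) (.node (.node (.node (.leaf (nat_lit 24647)) (.leaf (nat_lit 30365))) (.leaf (nat_lit 14388))) (.node (.leaf (nat_lit 2118)) (.leaf (nat_lit 9581)))))))) (.node (.node (.node (.node (.node (.node (.node (.leaf (nat_lit 11)) (.leaf (nat_lit 14428))) (.leaf (nat_lit 16498))) (.node (.node (.leaf (nat_lit 126)) (.leaf (nat_lit 19306))) (.leaf (nat_lit 4)))) (.node (.node (.node (.leaf (nat_lit 14300)) (.leaf (nat_lit 5380))) (.leaf (nat_lit 7082))) (.node (.node (.leaf (nat_lit 2148)) (.leaf (nat_lit 48))) (.leaf (nat_lit 5235)))))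 (.node (.node (.node (.node (.leaf (nat_lit 15376)) (.leaf (nat_lit 6317))) (.leaf (nat_lit 14364))) (.node (.node (.leaf (nat_lit 14339)) (.leaf (nat_lit 132))) (.leaf (nat_lit 2688)))) (.node (.node (.node (.leaf (nat_lit 115)) (.leaf (nat_lit 7963))) (.leaf (nat_lit 29163))) (.node (.leaf (nat_lit 7905)) (.leaf (nat_lit 23504)))))) (.node (.node (.node (.node (.node (.leaf (nat_lit 6539)) (.leaf (nat_lit 3970))) (.leaf (nat_lit 37449))) (.node (.node (.leaf (nat_lit 137)) (.leaf (nat_lit 6982))) (.leaf (nat_lit 14396)))) (.node (.node (.node (.leaf (nat_lit 101)) (.leaf (nat_lit 15860))) (.leaf (nat_lit 14367))) (.node (.node (.leaf (nat_lit 14350)) (.leaf (nat_lit 37766))) (.leaf (nat_lit 20045))))) (.node (.node (.node (.node (.leaf (nat_lit 70)) (.leaf (nat_lit 9576))) (.leaf (nat_lit 17936))) (.node (.node (.leaf (nat_lit 14332)) (.leaf (nat_lit 23877))) (.leaf (nat_lit 31025)))) (.node (.node (.node (.leaf (nat_lit 14301)) (.leaf (nat_lit 14460))) (.leaf (nat_lit 34722))) (.node (.leaf (nat_lit 177)) (.leaf (nat_lit 3562)))))))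 (.node (.node (.node (.node (.node (.node (.leaf (nat_lit 14284)) (.leaf (nat_lit 18050))) (.leaf (nat_lit 20734))) (.node (.node (.leaf (nat_lit 34722)) (.leaf (nat_lit 25398))) (.leaf (nat_lit 7920)))) (.node (.node (.node (.leaf (nat_lit 93)) (.leaf (nat_lit 14275))) (.leaf (nat_lit 24828))) (.node (.node (.leaf (nat_lit 14335)) (.leaf (nat_lit 19259))) (.leaf (nat_lit 14412))))) (.node (.node (.node (.node (.leaf (nat_lit 60)) (.leaf (nat_lit 13117))) (.leaf (nat_lit 35514))) (.node (.node (.leaf (nat_lit 14974)) (.leaf (nat_lit 14476))) (.leaf (nat_lit 12692)))) (.node (.node (.node (.leaf (nat_lit 7789)) (.leaf (nat_lit 37119))) (.leaf (nat_lit 38586))) (.node (.leaf (nat_lit 14348)) (.leaf (nat_lit 27616)))))) (.node (.node (.node (.node (.node (.leaf (nat_lit 43)) (.leaf (nat_lit 27030))) (.leaf (nat_lit 2807))) (.node (.node (.leaf (nat_lit 142)) (.leaf (nat_lit 9741))) (.leaf (nat_lit 13771)))) (.node (.node (.node (.leaf (nat_lit 16671)) (.leaf (nat_lit 21629))) (.leaf (nat_lit 14380))) (.node (.node (.leaf (nat_lit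 167)) (.leaf (nat_lit 23909))) (.leaf (nat_lit 15629))))) (.node (.node (.node (.node (.leaf (nat_lit 78)) (.leaf (nat_lit 14444))) (.leaf (nat_lit 11704))) (.node (.node (.leaf (nat_lit 159)) (.leaf (nat_lit 191))) (.leaf (nat_lit 38586)))) (.node (.node (.node (.leaf (nat_lit 14316)) (.leaf (nat_lit 27616))) (.leaf (nat_lit 17960))) (.node (.leaf (nat_lit 7105)) (.leaf (nat_lit 7039)))))))))) (.node (.node (.node (.node (.node (.node (.node (.node (.node (.leaf (nat_lit 2)) (.leaf (nat_lit 18946))) (.leaf (nat_lit 14362))) (.node (.node (.leaf (nat_lit 14315)) (.leaf (nat_lit 36453))) (.leaf (nat_lit 14390)))) (.node (.node (.node (.leaf (nat_lit 2102)) (.leaf (nat_lit 2295))) (.leaf (nat_lit 8542))) (.node (.node (.leaf (nat_lit 32398)) (.leaf (nat_lit 56))) (.leaf (nat_lit 20618))))) (.node (.node (.node (.node (.leaf (nat_lit 35502)) (.leaf (nat_lit 31705))) (.leaf (nat_lit 11458))) (.node (.node (.leaf (nat_lit 14326)) (.leaf (nat_lit 13186))) (.leaf (nat_lit 2203)))) (.node (.node (.node (.leaf (nat_lit 112)) (.leaf (nat_lit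 14454))) (.leaf (nat_lit 14367))) (.node (.leaf (nat_lit 168)) (.leaf (nat_lit 20045)))))) (.node (.node (.node (.node (.node (.leaf (nat_lit 30)) (.leaf (nat_lit 14318))) (.leaf (nat_lit 14358))) (.node (.node (.leaf (nat_lit 133)) (.leaf (nat_lit 35225))) (.leaf (nat_lit 14391)))) (.node (.node (.node (.leaf (nat_lit 96)) (.leaf (nat_lit 135))) (.leaf (nat_lit 7951))) (.node (.node (.leaf (nat_lit 30273)) (.leaf (nat_lit 14486))) (.leaf (nat_lit 34213))))) (.node (.node (.node (.node (.leaf (nat_lit 14294)) (.leaf (nat_lit 19058))) (.leaf (nat_lit 5413))) (.node (.node (.leaf (nat_lit 1)) (.leaf (nat_lit 17103))) (.leaf (nat_lit 192)))) (.node (.node (.node (.leaf (nat_lit 34038)) (.leaf (nat_lit 12795))) (.leaf (nat_lit 39016))) (.node (.leaf (nat_lit 27539)) (.leaf (nat_lit 14422))))))) (.node (.node (.node (.node (.node (.node (.leaf (nat_lit 16)) (.leaf (nat_lit 13842))) (.leaf (nat_lit 14340))) (.node (.node (.leaf (nat_lit 14335)) (.leaf (nat_lit 37164))) (.leaf (nat_lit 16778)))) (.node (.node (.node (.leaf (nat_lit 2604))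 (.leaf (nat_lit 7974))) (.leaf (nat_lit 14374))) (.node (.node (.leaf (nat_lit 3503)) (.leaf (nat_lit 7908))) (.leaf (nat_lit 35264))))) (.node (.node (.node (.node (.leaf (nat_lit 55)) (.leaf (nat_lit 14438))) (.leaf (nat_lit 23781))) (.node (.node (.leaf (nat_lit 17899)) (.leaf (nat_lit 24947))) (.leaf (nat_lit 32800)))) (.node (.node (.node (.leaf (nat_lit 14310)) (.leaf (nat_lit 10469))) (.leaf (nat_lit 2760))) (.node (.leaf (nat_lit 29121)) (.leaf (nat_lit 25916)))))) (.node (.node (.node (.node (.node (.leaf (nat_lit 0)) (.leaf (nat_lit 38866))) (.leaf (nat_lit 34191))) (.node (.node (.leaf (nat_lit 36396)) (.leaf (nat_lit 14470))) (.leaf (nat_lit 16764)))) (.node (.node (.node (.leaf (nat_lit 104)) (.leaf (nat_lit 37003))) (.leaf (nat_lit 1179))) (.node (.node (.leaf (nat_lit 14342)) (.leaf (nat_lit 64))) (.leaf (nat_lit 6332))))) (.node (.node (.node (.node (.leaf (nat_lit 14308)) (.leaf (nat_lit 35464))) (.leaf (nat_lit 37003))) (.node (.node (.leaf (nat_lit 156)) (.leaf (nat_lit 31126))) (.leaf (nat_lit 14406)))) (.node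 (.node (.node (.leaf (nat_lit 34050)) (.leaf (nat_lit 32937))) (.leaf (nat_lit 36469))) (.node (.leaf (nat_lit 17865)) (.leaf (nat_lit 26532)))))))) (.node (.node (.node (.node (.node (.node (.node (.leaf (nat_lit 9)) (.leaf (nat_lit 36440))) (.leaf (nat_lit 14362))) (.node (.node (.leaf (nat_lit 14318)) (.leaf (nat_lit 33861))) (.leaf (nat_lit 35610)))) (.node (.node (.node (.leaf (nat_lit 85)) (.leaf (nat_lit 14446))) (.leaf (nat_lit 6230))) (.node (.node (.leaf (nat_lit 35532)) (.leaf (nat_lit 2249))) (.leaf (nat_lit 29242))))) (.node (.node (.node (.node (.leaf (nat_lit 50)) (.leaf (nat_lit 1460))) (.leaf (nat_lit 24106))) (.node (.node (.leaf (nat_lit 23860)) (.leaf (nat_lit 39013))) (.leaf (nat_lit 9801)))) (.node (.node (.node (.leaf (nat_lit 13548)) (.leaf (nat_lit 90))) (.leaf (nat_lit 14382))) (.node (.leaf (nat_lit 169)) (.leaf (nat_lit 65)))))) (.node (.node (.node (.node (.node (.leaf (nat_lit 14286)) (.leaf (nat_lit 35464))) (.leaf (nat_lit 2792))) (.node (.node (.leaf (nat_lit 17858)) (.leaf (nat_lit 32968))) (.leaf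 (nat_lit 14382)))) (.node (.node (.node (.leaf (nat_lit 100)) (.leaf (nat_lit 138))) (.leaf (nat_lit 36445))) (.node (.node (.leaf (nat_lit 165)) (.leaf (nat_lit 5114))) (.leaf (nat_lit 14414))))) (.node (.node (.node (.node (.leaf (nat_lit 69)) (.leaf (nat_lit 33217))) (.leaf (nat_lit 14374))) (.node (.node (.leaf (nat_lit 153)) (.leaf (nat_lit 14478))) (.leaf (nat_lit 23634)))) (.node (.node (.node (.leaf (nat_lit 34044)) (.leaf (nat_lit 26839))) (.leaf (nat_lit 23481))) (.node (.leaf (nat_lit 14350)) (.leaf (nat_lit 7538))))))) (.node (.node (.node (.node (.node (.node (.leaf (nat_lit 23)) (.leaf (nat_lit 14430))) (.leaf (nat_lit 19668))) (.node (.node (.leaf (nat_lit 36652)) (.leaf (nat_lit 18056))) (.leaf (nat_lit 2074)))) (.node (.node (.node (.leaf (nat_lit 14302)) (.leaf (nat_lit 208))) (.leaf (nat_lit 29166))) (.node (.node (.leaf (nat_lit 2882)) (.leaf (nat_lit 19849))) (.leaf (nat_lit 21219))))) (.node (.node (.node (.node (.leaf (nat_lit 59)) (.leaf (nat_lit 34402))) (.leaf (nat_lit 14366))) (.node (.node (.leaf (nat_lit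 15464)) (.leaf (nat_lit 13153))) (.leaf (nat_lit 17933)))) (.node (.node (.node (.leaf (nat_lit 34032)) (.leaf (nat_lit 90))) (.leaf (nat_lit 29147))) (.node (.leaf (nat_lit 14312)) (.leaf (nat_lit 4112)))))) (.node (.node (.node (.node (.node (.leaf (nat_lit 41)) (.leaf (nat_lit 18007))) (.leaf (nat_lit 16944))) (.node (.node (.leaf (nat_lit 19972)) (.leaf (nat_lit 37143))) (.leaf (nat_lit 14398)))) (.node (.node (.node (.leaf (nat_lit 14294)) (.leaf (nat_lit 29948))) (.leaf (nat_lit 3))) (.node (.node (.leaf (nat_lit 14358)) (.leaf (nat_lit 4498))) (.leaf (nat_lit 35691))))) (.node (.node (.node (.node (.leaf (nat_lit 76)) (.leaf (nat_lit 14440))) (.leaf (nat_lit 185))) (.node (.node (.leaf (nat_lit 14334)) (.leaf (nat_lit 15823))) (.leaf (nat_lit 196)))) (.node (.node (.node (.leaf (nat_lit 0)) (.leaf (nat_lit 14462))) (.leaf (nat_lit 16607))) (.node (.leaf (nat_lit 36439)) (.leaf (nat_lit 206))))))))) (.node (.node (.node (.node (.node (.node (.node (.node (.leaf (nat_lit 6)) (.leaf (nat_lit 11715))) (.leaf (nat_lit 14354)))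 (.node (.node (.leaf (nat_lit 122)) (.leaf (nat_lit 14461))) (.leaf (nat_lit 30172)))) (.node (.node (.node (.leaf (nat_lit 37404)) (.leaf (nat_lit 38217))) (.leaf (nat_lit 17872))) (.node (.node (.leaf (nat_lit 1)) (.leaf (nat_lit 14482))) (.leaf (nat_lit 20856))))) (.node (.node (.node (.node (.leaf (nat_lit 14290)) (.leaf (nat_lit 26755))) (.leaf (nat_lit 14367))) (.node (.node (.leaf (nat_lit 12659)) (.leaf (nat_lit 3477))) (.leaf (nat_lit 11857)))) (.node (.node (.node (.leaf (nat_lit 20614)) (.leaf (nat_lit 24606))) (.leaf (nat_lit 3502))) (.node (.leaf (nat_lit 36652)) (.leaf (nat_lit 14418)))))) (.node (.node (.node (.node (.node (.leaf (nat_lit 33)) (.leaf (nat_lit 26010))) (.leaf (nat_lit 16501))) (.node (.node (.leaf (nat_lit 14322)) (.leaf (nat_lit 1090))) (.leaf (nat_lit 7928)))) (.node (.node (.node (.leaf (nat_lit 99)) (.leaf (nat_lit 14450))) (.leaf (nat_lit 21341))) (.node (.node (.leaf (nat_lit 14412)) (.leaf (nat_lit 29162))) (.leaf (nat_lit 14326))))) (.node (.node (.node (.node (.leaf (nat_lit 23132)) (.leaf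 (nat_lit 27435))) (.leaf (nat_lit 27839))) (.node (.node (.leaf (nat_lit 24033)) (.leaf (nat_lit 13182))) (.leaf (nat_lit 31)))) (.node (.node (.node (.leaf (nat_lit 28886)) (.leaf (nat_lit 10818))) (.leaf (nat_lit 14386))) (.node (.leaf (nat_lit 14340)) (.leaf (nat_lit 5703))))))) (.node (.node (.node (.node (.node (.node (.leaf (nat_lit 19)) (.leaf (nat_lit 1935))) (.leaf (nat_lit 37014))) (.node (.node (.leaf (nat_lit 14311)) (.leaf (nat_lit 14466))) (.leaf (nat_lit 34873)))) (.node (.node (.node (.leaf (nat_lit 0)) (.leaf (nat_lit 18962))) (.leaf (nat_lit 3))) (.node (.node (.leaf (nat_lit 14338)) (.leaf (nat_lit 12510))) (.leaf (nat_lit 34060))))) (.node (.node (.node (.node (.leaf (nat_lit 56)) (.leaf (nat_lit 15616))) (.leaf (nat_lit 6339))) (.node (.node (.leaf (nat_lit 149)) (.leaf (nat_lit 14444))) (.leaf (nat_lit 14402)))) (.node (.node (.node (.leaf (nat_lit 32345)) (.leaf (nat_lit 38217))) (.leaf (nat_lit 21503))) (.node (.leaf (nat_lit 141)) (.leaf (nat_lit 4606)))))) (.node (.node (.node (.node (.node (.leaf (nat_lit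 39)) (.leaf (nat_lit 14434))) (.leaf (nat_lit 14350))) (.node (.node (.leaf (nat_lit 14335)) (.leaf (nat_lit 5518))) (.leaf (nat_lit 1642)))) (.node (.node (.node (.leaf (nat_lit 14306)) (.leaf (nat_lit 21810))) (.leaf (nat_lit 23851))) (.node (.node (.leaf (nat_lit 126)) (.leaf (nat_lit 21727))) (.leaf (nat_lit 35158))))) (.node (.node (.node (.node (.leaf (nat_lit 74)) (.leaf (nat_lit 24023))) (.leaf (nat_lit 14370))) (.node (.node (.leaf (nat_lit 26466)) (.leaf (nat_lit 12355))) (.leaf (nat_lit 13)))) (.node (.node (.node (.leaf (nat_lit 7823)) (.leaf (nat_lit 17))) (.leaf (nat_lit 14398))) (.node (.leaf (nat_lit 36165)) (.leaf (nat_lit 14421)))))))) (.node (.node (.node (.node (.node (.node (.node (.leaf (nat_lit 14282)) (.leaf (nat_lit 113))) (.leaf (nat_lit 7927))) (.node (.node (.leaf (nat_lit 14305)) (.leaf (nat_lit 14380))) (.leaf (nat_lit 9716)))) (.node (.node (.node (.leaf (nat_lit 87)) (.leaf (nat_lit 24045))) (.leaf (nat_lit 186))) (.node (.node (.leaf (nat_lit 14321)) (.leaf (nat_lit 18943))) (.leaf (nat_lit 14410)))))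 (.node (.node (.node (.node (.leaf (nat_lit 14315)) (.leaf (nat_lit 14434))) (.leaf (nat_lit 27969))) (.node (.node (.leaf (nat_lit 23826)) (.leaf (nat_lit 14474))) (.leaf (nat_lit 14391)))) (.node (.node (.node (.leaf (nat_lit 117)) (.leaf (nat_lit 26835))) (.leaf (nat_lit 14431))) (.node (.leaf (nat_lit 14346)) (.leaf (nat_lit 29153)))))) (.node (.node (.node (.node (.node (.leaf (nat_lit 5057)) (.leaf (nat_lit 4747))) (.leaf (nat_lit 14798))) (.node (.node (.leaf (nat_lit 138)) (.leaf (nat_lit 29138))) (.leaf (nat_lit 1476)))) (.node (.node (.node (.leaf (nat_lit 1089)) (.leaf (nat_lit 6366))) (.leaf (nat_lit 14378))) (.node (.node (.leaf (nat_lit 17912)) (.leaf (nat_lit 163))) (.leaf (nat_lit 202))))) (.node (.node (.node (.node (.leaf (nat_lit 72)) (.leaf (nat_lit 14442))) (.leaf (nat_lit 32293))) (.node (.node (.leaf (nat_lit 154)) (.leaf (nat_lit 28249))) (.leaf (nat_lit 25464)))) (.node (.node (.node (.leaf (nat_lit 14314)) (.leaf (nat_lit 8109))) (.leaf (nat_lit 170))) (.node (.leaf (nat_lit 3536)) (.leaf (nat_lit 3585)))))))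 (.node (.node (.node (.node (.node (.node (.leaf (nat_lit 26)) (.leaf (nat_lit 7967))) (.leaf (nat_lit 9995))) (.node (.node (.leaf (nat_lit 21653)) (.leaf (nat_lit 21612))) (.leaf (nat_lit 14394)))) (.node (.node (.node (.leaf (nat_lit 94)) (.leaf (nat_lit 37))) (.leaf (nat_lit 15088))) (.node (.node (.leaf (nat_lit 34151)) (.leaf (nat_lit 2621))) (.leaf (nat_lit 65))))) (.node (.node (.node (.node (.leaf (nat_lit 61)) (.leaf (nat_lit 5456))) (.leaf (nat_lit 18920))) (.node (.node (.leaf (nat_lit 14330)) (.leaf (nat_lit 6778))) (.leaf (nat_lit 191)))) (.node (.node (.node (.leaf (nat_lit 14287)) (.leaf (nat_lit 14458))) (.leaf (nat_lit 34833))) (.node (.leaf (nat_lit 14362)) (.leaf (nat_lit 13046)))))) (.node (.node (.node (.node (.node (.leaf (nat_lit 45)) (.leaf (nat_lit 35251))) (.leaf (nat_lit 14362))) (.node (.node (.leaf (nat_lit 12230)) (.leaf (nat_lit 24719))) (.leaf (nat_lit 5114)))) (.node (.node (.node (.leaf (nat_lit 109)) (.leaf (nat_lit 7133))) (.leaf (nat_lit 37466))) (.node (.leaf (nat_lit 3907)) (.leaf (nat_lit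 12237))))) (.node (.node (.node (.node (.leaf (nat_lit 14298)) (.leaf (nat_lit 138))) (.leaf (nat_lit 26393))) (.node (.node (.leaf (nat_lit 160)) (.leaf (nat_lit 5092))) (.leaf (nat_lit 5263)))) (.node (.node (.node (.leaf (nat_lit 11414)) (.leaf (nat_lit 7116))) (.leaf (nat_lit 14382))) (.node (.leaf (nat_lit 31525)) (.leaf (nat_lit 14426))))))))))) (.node (.node (.node (.node (.node (.node (.node (.node (.node (.node (.leaf (nat_lit 1)) (.leaf (nat_lit 37581))) (.leaf (nat_lit 3300))) (.node (.node (.leaf (nat_lit 32461)) (.leaf (nat_lit 14463))) (.leaf (nat_lit 24542)))) (.node (.node (.node (.leaf (nat_lit 80)) (.leaf (nat_lit 33352))) (.leaf (nat_lit 14307))) (.node (.node (.leaf (nat_lit 14335)) (.leaf (nat_lit 35623))) (.leaf (nat_lit 197))))) (.node (.node (.node (.node (.leaf (nat_lit 46)) (.leaf (nat_lit 15657))) (.leaf (nat_lit 35668))) (.node (.node (.leaf (nat_lit 37265)) (.leaf (nat_lit 28972))) (.leaf (nat_lit 14399)))) (.node (.node (.node (.leaf (nat_lit 14301)) (.leaf (nat_lit 24604))) (.leaf (nat_lit 27835)))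 (.node (.leaf (nat_lit 14362)) (.leaf (nat_lit 37514)))))) (.node (.node (.node (.node (.node (.leaf (nat_lit 29)) (.leaf (nat_lit 14431))) (.leaf (nat_lit 24743))) (.node (.node (.leaf (nat_lit 1)) (.leaf (nat_lit 114))) (.leaf (nat_lit 14302)))) (.node (.node (.node (.leaf (nat_lit 14303)) (.leaf (nat_lit 14470))) (.leaf (nat_lit 1056))) (.node (.node (.leaf (nat_lit 12956)) (.leaf (nat_lit 32739))) (.leaf (nat_lit 4599))))) (.node (.node (.node (.node (.leaf (nat_lit 64)) (.leaf (nat_lit 24037))) (.leaf (nat_lit 14367))) (.node (.node (.leaf (nat_lit 2669)) (.leaf (nat_lit 5432))) (.leaf (nat_lit 20704)))) (.node (.node (.node (.leaf (nat_lit 7812)) (.leaf (nat_lit 35563))) (.leaf (nat_lit 16746))) (.node (.leaf (nat_lit 174)) (.leaf (nat_lit 10813))))))) (.node (.node (.node (.node (.node (.node (.leaf (nat_lit 15)) (.leaf (nat_lit 10844))) (.leaf (nat_lit 24036))) (.node (.node (.leaf (nat_lit 14319)) (.leaf (nat_lit 27))) (.leaf (nat_lit 4557)))) (.node (.node (.node (.leaf (nat_lit 89)) (.leaf (nat_lit 14447))) (.leaf (nat_lit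 33762))) (.node (.node (.leaf (nat_lit 2773)) (.leaf (nat_lit 17957))) (.leaf (nat_lit 7855))))) (.node (.node (.node (.node (.leaf (nat_lit 54)) (.leaf (nat_lit 32905))) (.leaf (nat_lit 39017))) (.node (.node (.leaf (nat_lit 148)) (.leaf (nat_lit 6383))) (.leaf (nat_lit 28878)))) (.node (.node (.node (.leaf (nat_lit 10094)) (.leaf (nat_lit 31605))) (.leaf (nat_lit 14383))) (.node (.leaf (nat_lit 14300)) (.leaf (nat_lit 14416)))))) (.node (.node (.node (.node (.node (.leaf (nat_lit 14287)) (.leaf (nat_lit 39036))) (.leaf (nat_lit 35551))) (.node (.node (.leaf (nat_lit 18942)) (.leaf (nat_lit 10267))) (.leaf (nat_lit 2760)))) (.node (.node (.node (.leaf (nat_lit 103)) (.leaf (nat_lit 39059))) (.leaf (nat_lit 15615))) (.node (.node (.leaf (nat_lit 12974)) (.leaf (nat_lit 37517))) (.leaf (nat_lit 14415))))) (.node (.node (.node (.node (.leaf (nat_lit 15403)) (.leaf (nat_lit 19508))) (.leaf (nat_lit 14379))) (.node (.node (.leaf (nat_lit 14321)) (.leaf (nat_lit 14479))) (.leaf (nat_lit 168)))) (.node (.node (.node (.leaf (nat_lit 6392))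 (.leaf (nat_lit 24137))) (.leaf (nat_lit 19035))) (.node (.leaf (nat_lit 14351)) (.leaf (nat_lit 40295)))))))) (.node (.node (.node (.node (.node (.node (.node (.leaf (nat_lit 8)) (.leaf (nat_lit 38962))) (.leaf (nat_lit 14637))) (.node (.node (.leaf (nat_lit 125)) (.leaf (nat_lit 3172))) (.leaf (nat_lit 14391)))) (.node (.node (.node (.leaf (nat_lit 84)) (.leaf (nat_lit 14359))) (.leaf (nat_lit 38713))) (.node (.node (.leaf (nat_lit 34144)) (.leaf (nat_lit 3417))) (.leaf (nat_lit 19282))))) (.node (.node (.node (.node (.leaf (nat_lit 49)) (.leaf (nat_lit 10833))) (.leaf (nat_lit 25869))) (.node (.node (.leaf (nat_lit 14327)) (.leaf (nat_lit 34099))) (.leaf (nat_lit 35594)))) (.node (.node (.node (.leaf (nat_lit 5122)) (.leaf (nat_lit 14455))) (.leaf (nat_lit 14374))) (.node (.leaf (nat_lit 14340)) (.leaf (nat_lit 35178)))))) (.node (.node (.node (.node (.node (.leaf (nat_lit 32340)) (.leaf (nat_lit 20631))) (.leaf (nat_lit 14359))) (.node (.node (.leaf (nat_lit 136)) (.leaf (nat_lit 10895))) (.leaf (nat_lit 24037)))) (.node (.node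 (.node (.leaf (nat_lit 35493)) (.leaf (nat_lit 19007))) (.leaf (nat_lit 1175))) (.node (.node (.leaf (nat_lit 14801)) (.leaf (nat_lit 14487))) (.leaf (nat_lit 201))))) (.node (.node (.node (.node (.leaf (nat_lit 14295)) (.leaf (nat_lit 39884))) (.leaf (nat_lit 5390))) (.node (.node (.leaf (nat_lit 14335)) (.leaf (nat_lit 28929))) (.leaf (nat_lit 28034)))) (.node (.node (.node (.leaf (nat_lit 23171)) (.leaf (nat_lit 22116))) (.leaf (nat_lit 4341))) (.node (.leaf (nat_lit 176)) (.leaf (nat_lit 14423))))))) (.node (.node (.node (.node (.node (.node (.leaf (nat_lit 22)) (.leaf (nat_lit 202))) (.leaf (nat_lit 14350))) (.node (.node (.leaf (nat_lit 14339)) (.leaf (nat_lit 17218))) (.leaf (nat_lit 15508)))) (.node (.node (.node (.leaf (nat_lit 18355)) (.leaf (nat_lit 30144))) (.leaf (nat_lit 14375))) (.node (.node (.leaf (nat_lit 16931)) (.leaf (nat_lit 162))) (.leaf (nat_lit 199))))) (.node (.node (.node (.node (.leaf (nat_lit 58)) (.leaf (nat_lit 14439))) (.leaf (nat_lit 21221))) (.node (.node (.leaf (nat_lit 18910)) (.leaf (nat_lit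 2809))) (.leaf (nat_lit 36911)))) (.node (.node (.node (.leaf (nat_lit 14311)) (.leaf (nat_lit 14346))) (.leaf (nat_lit 14391))) (.node (.leaf (nat_lit 173)) (.leaf (nat_lit 17892)))))) (.node (.node (.node (.node (.node (.leaf (nat_lit 14294)) (.leaf (nat_lit 6480))) (.leaf (nat_lit 32407))) (.node (.node (.leaf (nat_lit 141)) (.leaf (nat_lit 14471))) (.leaf (nat_lit 22198)))) (.node (.node (.node (.leaf (nat_lit 2626)) (.leaf (nat_lit 17001))) (.leaf (nat_lit 35203))) (.node (.node (.leaf (nat_lit 14343)) (.leaf (nat_lit 5457))) (.leaf (nat_lit 7941))))) (.node (.node (.node (.node (.leaf (nat_lit 14315)) (.leaf (nat_lit 14331))) (.leaf (nat_lit 14367))) (.node (.node (.leaf (nat_lit 16930)) (.leaf (nat_lit 48))) (.leaf (nat_lit 14407)))) (.node (.node (.node (.leaf (nat_lit 20696)) (.leaf (nat_lit 19444))) (.leaf (nat_lit 173))) (.node (.leaf (nat_lit 27234)) (.leaf (nat_lit 6333))))))))) (.node (.node (.node (.node (.node (.node (.node (.node (.leaf (nat_lit 5)) (.leaf (nat_lit 14427))) (.leaf (nat_lit 28665))) (.node (.node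 (.leaf (nat_lit 14293)) (.leaf (nat_lit 13168))) (.leaf (nat_lit 2760)))) (.node (.node (.node (.leaf (nat_lit 14299)) (.leaf (nat_lit 142))) (.leaf (nat_lit 2074))) (.node (.node (.leaf (nat_lit 163)) (.leaf (nat_lit 1933))) (.leaf (nat_lit 25891))))) (.node (.node (.node (.node (.leaf (nat_lit 47)) (.leaf (nat_lit 1255))) (.leaf (nat_lit 14363))) (.node (.node (.leaf (nat_lit 14321)) (.leaf (nat_lit 13806))) (.leaf (nat_lit 35640)))) (.node (.node (.node (.leaf (nat_lit 113)) (.leaf (nat_lit 21200))) (.leaf (nat_lit 2818))) (.node (.leaf (nat_lit 16742)) (.leaf (nat_lit 19043)))))) (.node (.node (.node (.node (.node (.leaf (nat_lit 32)) (.leaf (nat_lit 113))) (.leaf (nat_lit 183))) (.node (.node (.leaf (nat_lit 134)) (.leaf (nat_lit 33271))) (.leaf (nat_lit 14395)))) (.node (.node (.node (.leaf (nat_lit 98)) (.leaf (nat_lit 14171))) (.leaf (nat_lit 35514))) (.node (.node (.leaf (nat_lit 2)) (.leaf (nat_lit 37480))) (.leaf (nat_lit 14416))))) (.node (.node (.node (.node (.leaf (nat_lit 66)) (.leaf (nat_lit 14487))) (.leaf (nat_lit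 2200))) (.node (.node (.leaf (nat_lit 14331)) (.leaf (nat_lit 20744))) (.leaf (nat_lit 193)))) (.node (.node (.node (.leaf (nat_lit 14294)) (.leaf (nat_lit 14459))) (.leaf (nat_lit 17445))) (.node (.leaf (nat_lit 175)) (.leaf (nat_lit 205))))))) (.node (.node (.node (.node (.node (.node (.leaf (nat_lit 14283)) (.leaf (nat_lit 22559))) (.leaf (nat_lit 180))) (.node (.node (.leaf (nat_lit 4532)) (.leaf (nat_lit 15239))) (.leaf (nat_lit 29126)))) (.node (.node (.node (.leaf (nat_lit 90)) (.leaf (nat_lit 24910))) (.leaf (nat_lit 187))) (.node (.node (.leaf (nat_lit 14330)) (.leaf (nat_lit 32421))) (.leaf (nat_lit 14411))))) (.node (.node (.node (.node (.leaf (nat_lit 32345)) (.leaf (nat_lit 14440))) (.leaf (nat_lit 28035))) (.node (.node (.leaf (nat_lit 15654)) (.leaf (nat_lit 14475))) (.leaf (nat_lit 14316)))) (.node (.node (.node (.leaf (nat_lit 120)) (.leaf (nat_lit 9398))) (.leaf (nat_lit 23228))) (.node (.leaf (nat_lit 14347)) (.leaf (nat_lit 23144)))))) (.node (.node (.node (.node (.node (.leaf (nat_lit 38)) (.leaf (nat_lit 9512)))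 (.leaf (nat_lit 35964))) (.node (.node (.leaf (nat_lit 21508)) (.leaf (nat_lit 132))) (.leaf (nat_lit 37013)))) (.node (.node (.node (.leaf (nat_lit 106)) (.leaf (nat_lit 12309))) (.leaf (nat_lit 14379))) (.node (.node (.leaf (nat_lit 18913)) (.leaf (nat_lit 23706))) (.leaf (nat_lit 203))))) (.node (.node (.node (.node (.leaf (nat_lit 28838)) (.leaf (nat_lit 14443))) (.leaf (nat_lit 33820))) (.node (.node (.leaf (nat_lit 157)) (.leaf (nat_lit 16524))) (.leaf (nat_lit 24885)))) (.node (.node (.node (.leaf (nat_lit 14315)) (.leaf (nat_lit 36445))) (.leaf (nat_lit 21509))) (.node (.leaf (nat_lit 30195)) (.leaf (nat_lit 39971)))))))) (.node (.node (.node (.node (.node (.node (.node (.leaf (nat_lit 12)) (.leaf (nat_lit 200))) (.leaf (nat_lit 14355))) (.node (.node (.leaf (nat_lit 127)) (.leaf (nat_lit 32968))) (.leaf (nat_lit 14467)))) (.node (.node (.node (.leaf (nat_lit 86)) (.leaf (nat_lit 14406))) (.leaf (nat_lit 18992))) (.node (.node (.leaf (nat_lit 38337)) (.leaf (nat_lit 14483))) (.leaf (nat_lit 23481))))) (.node (.node (.node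 (.node (.leaf (nat_lit 14291)) (.leaf (nat_lit 36447))) (.leaf (nat_lit 14374))) (.node (.node (.leaf (nat_lit 3497)) (.leaf (nat_lit 24725))) (.leaf (nat_lit 9712)))) (.node (.node (.node (.leaf (nat_lit 116)) (.leaf (nat_lit 26290))) (.leaf (nat_lit 37499))) (.node (.leaf (nat_lit 23048)) (.leaf (nat_lit 14419)))))) (.node (.node (.node (.node (.node (.leaf (nat_lit 11561)) (.leaf (nat_lit 18949))) (.leaf (nat_lit 12988))) (.node (.node (.leaf (nat_lit 14323)) (.leaf (nat_lit 28005))) (.leaf (nat_lit 23260)))) (.node (.node (.node (.leaf (nat_lit 16847)) (.leaf (nat_lit 14451))) (.leaf (nat_lit 188))) (.node (.node (.leaf (nat_lit 36911)) (.leaf (nat_lit 39140))) (.leaf (nat_lit 30040))))) (.node (.node (.node (.node (.leaf (nat_lit 71)) (.leaf (nat_lit 30863))) (.leaf (nat_lit 27995))) (.node (.node (.leaf (nat_lit 28047)) (.leaf (nat_lit 7336))) (.leaf (nat_lit 233)))) (.node (.node (.node (.leaf (nat_lit 16853)) (.leaf (nat_lit 23994))) (.leaf (nat_lit 14387))) (.node (.leaf (nat_lit 2)) (.leaf (nat_lit 12819))))))) (.node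 (.node (.node (.node (.node (.node (.leaf (nat_lit 25)) (.leaf (nat_lit 113))) (.leaf (nat_lit 23117))) (.node (.node (.leaf (nat_lit 131)) (.leaf (nat_lit 14467))) (.leaf (nat_lit 29767)))) (.node (.node (.node (.leaf (nat_lit 14308)) (.leaf (nat_lit 16638))) (.leaf (nat_lit 14379))) (.node (.node (.leaf (nat_lit 14339)) (.leaf (nat_lit 35666))) (.leaf (nat_lit 14317))))) (.node (.node (.node (.node (.leaf (nat_lit 14287)) (.leaf (nat_lit 14434))) (.leaf (nat_lit 7941))) (.node (.node (.leaf (nat_lit 3499)) (.leaf (nat_lit 35591))) (.leaf (nat_lit 14403)))) (.node (.node (.node (.leaf (nat_lit 20683)) (.leaf (nat_lit 37586))) (.leaf (nat_lit 21457))) (.node (.leaf (nat_lit 37265)) (.leaf (nat_lit 204)))))) (.node (.node (.node (.node (.node (.leaf (nat_lit 44)) (.leaf (nat_lit 14435))) (.leaf (nat_lit 14358))) (.node (.node (.leaf (nat_lit 14339)) (.leaf (nat_lit 132))) (.leaf (nat_lit 39014)))) (.node (.node (.node (.leaf (nat_lit 14307)) (.leaf (nat_lit 10116))) (.leaf (nat_lit 37502))) (.node (.node (.leaf (nat_lit 13601))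 (.leaf (nat_lit 2618))) (.leaf (nat_lit 35273))))) (.node (.node (.node (.node (.leaf (nat_lit 11368)) (.leaf (nat_lit 14406))) (.leaf (nat_lit 14371))) (.node (.node (.leaf (nat_lit 15617)) (.leaf (nat_lit 20728))) (.leaf (nat_lit 19)))) (.node (.node (.node (.leaf (nat_lit 30287)) (.leaf (nat_lit 28115))) (.leaf (nat_lit 19884))) (.node (.leaf (nat_lit 1823)) (.leaf (nat_lit 30143)))))))))) (.node (.node (.node (.node (.node (.node (.node (.node (.node (.leaf (nat_lit 3)) (.leaf (nat_lit 13047))) (.leaf (nat_lit 12660))) (.node (.node (.leaf (nat_lit 14317)) (.leaf (nat_lit 36437))) (.leaf (nat_lit 18927)))) (.node (.node (.node (.leaf (nat_lit 81)) (.leaf (nat_lit 14445))) (.leaf (nat_lit 11710))) (.node (.node (.leaf (nat_lit 162)) (.leaf (nat_lit 3407))) (.leaf (nat_lit 35262))))) (.node (.node (.node (.node (.leaf (nat_lit 26295)) (.leaf (nat_lit 11472))) (.leaf (nat_lit 11374))) (.node (.node (.leaf (nat_lit 145)) (.leaf (nat_lit 28014))) (.leaf (nat_lit 2270)))) (.node (.node (.node (.leaf (nat_lit 26357)) (.leaf (nat_lit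 32548))) (.leaf (nat_lit 14381))) (.node (.leaf (nat_lit 21993)) (.leaf (nat_lit 3561)))))) (.node (.node (.node (.node (.node (.leaf (nat_lit 14285)) (.leaf (nat_lit 18053))) (.leaf (nat_lit 182))) (.node (.node (.leaf (nat_lit 2156)) (.leaf (nat_lit 3565))) (.leaf (nat_lit 25368)))) (.node (.node (.node (.leaf (nat_lit 97)) (.leaf (nat_lit 25874))) (.leaf (nat_lit 6323))) (.node (.node (.leaf (nat_lit 1)) (.leaf (nat_lit 133))) (.leaf (nat_lit 14413))))) (.node (.node (.node (.node (.leaf (nat_lit 65)) (.leaf (nat_lit 36519))) (.leaf (nat_lit 3))) (.node (.node (.leaf (nat_lit 16040)) (.leaf (nat_lit 14477))) (.leaf (nat_lit 18180)))) (.node (.node (.node (.leaf (nat_lit 6386)) (.leaf (nat_lit 4852))) (.leaf (nat_lit 25891))) (.node (.leaf (nat_lit 14349)) (.leaf (nat_lit 34218))))))) (.node (.node (.node (.node (.node (.node (.leaf (nat_lit 17)) (.leaf (nat_lit 14429))) (.leaf (nat_lit 179))) (.node (.node (.leaf (nat_lit 3907)) (.leaf (nat_lit 17995))) (.leaf (nat_lit 14398)))) (.node (.node (.node (.leaf (nat_lit 14301)) (.leaf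 (nat_lit 7833))) (.leaf (nat_lit 7092))) (.node (.node (.leaf (nat_lit 35539)) (.leaf (nat_lit 25674))) (.leaf (nat_lit 19))))) (.node (.node (.node (.node (.leaf (nat_lit 30261)) (.leaf (nat_lit 6329))) (.leaf (nat_lit 14365))) (.node (.node (.leaf (nat_lit 2027)) (.leaf (nat_lit 25571))) (.leaf (nat_lit 10148)))) (.node (.node (.node (.leaf (nat_lit 119)) (.leaf (nat_lit 35655))) (.leaf (nat_lit 123))) (.node (.leaf (nat_lit 171)) (.leaf (nat_lit 26396)))))) (.node (.node (.node (.node (.node (.leaf (nat_lit 37)) (.leaf (nat_lit 207))) (.leaf (nat_lit 2801))) (.node (.node (.leaf (nat_lit 3283)) (.leaf (nat_lit 35590))) (.leaf (nat_lit 14397)))) (.node (.node (.node (.leaf (nat_lit 14287)) (.leaf (nat_lit 29438))) (.leaf (nat_lit 14374))) (.node (.node (.leaf (nat_lit 2118)) (.leaf (nat_lit 19203))) (.leaf (nat_lit 7963))))) (.node (.node (.node (.node (.leaf (nat_lit 1954)) (.leaf (nat_lit 14434))) (.leaf (nat_lit 35209))) (.node (.node (.leaf (nat_lit 14333)) (.leaf (nat_lit 5739))) (.leaf (nat_lit 195)))) (.node (.node (.node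 (.leaf (nat_lit 14308)) (.leaf (nat_lit 14461))) (.leaf (nat_lit 13713))) (.node (.leaf (nat_lit 17995)) (.leaf (nat_lit 36731)))))))) (.node (.node (.node (.node (.node (.node (.node (.leaf (nat_lit 10)) (.leaf (nat_lit 12753))) (.leaf (nat_lit 13766))) (.node (.node (.leaf (nat_lit 14330)) (.leaf (nat_lit 3300))) (.leaf (nat_lit 4592)))) (.node (.node (.node (.leaf (nat_lit 21268)) (.leaf (nat_lit 24147))) (.leaf (nat_lit 14373))) (.node (.node (.leaf (nat_lit 35636)) (.leaf (nat_lit 3123))) (.leaf (nat_lit 233))))) (.node (.node (.node (.node (.leaf (nat_lit 51)) (.leaf (nat_lit 14437))) (.leaf (nat_lit 23774))) (.node (.node (.leaf (nat_lit 12319)) (.leaf (nat_lit 24963))) (.leaf (nat_lit 2210)))) (.node (.node (.node (.leaf (nat_lit 14309)) (.leaf (nat_lit 8599))) (.leaf (nat_lit 4))) (.node (.leaf (nat_lit 170)) (.leaf (nat_lit 25966)))))) (.node (.node (.node (.node (.node (.leaf (nat_lit 233)) (.leaf (nat_lit 14664))) (.leaf (nat_lit 35625))) (.node (.node (.leaf (nat_lit 39586)) (.leaf (nat_lit 14469))) (.leaf (nat_lit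 19716)))) (.node (.node (.node (.leaf (nat_lit 32345)) (.leaf (nat_lit 4430))) (.leaf (nat_lit 24120))) (.node (.node (.leaf (nat_lit 14341)) (.leaf (nat_lit 15727))) (.leaf (nat_lit 168))))) (.node (.node (.node (.node (.leaf (nat_lit 14301)) (.leaf (nat_lit 26755))) (.leaf (nat_lit 25589))) (.node (.node (.leaf (nat_lit 22490)) (.leaf (nat_lit 32385))) (.leaf (nat_lit 14405)))) (.node (.node (.node (.leaf (nat_lit 20690)) (.leaf (nat_lit 13639))) (.leaf (nat_lit 13580))) (.node (.leaf (nat_lit 35570)) (.leaf (nat_lit 2145))))))) (.node (.node (.node (.node (.node (.node (.leaf (nat_lit 24)) (.leaf (nat_lit 6334))) (.leaf (nat_lit 14357))) (.node (.node (.leaf (nat_lit 23785)) (.leaf (nat_lit 10894))) (.leaf (nat_lit 14382)))) (.node (.node (.node (.leaf (nat_lit 92)) (.leaf (nat_lit 21034))) (.leaf (nat_lit 3077))) (.node (.node (.leaf (nat_lit 35543)) (.leaf (nat_lit 14485))) (.leaf (nat_lit 31))))) (.node (.node (.node (.node (.leaf (nat_lit 14293)) (.leaf (nat_lit 36406))) (.leaf (nat_lit 169))) (.node (.node (.leaf (nat_lit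 37392)) (.leaf (nat_lit 3211))) (.leaf (nat_lit 6955)))) (.node (.node (.node (.leaf (nat_lit 23162)) (.leaf (nat_lit 2098))) (.leaf (nat_lit 19003))) (.node (.leaf (nat_lit 6514)) (.leaf (nat_lit 14421)))))) (.node (.node (.node (.node (.node (.leaf (nat_lit 42)) (.leaf (nat_lit 14484))) (.leaf (nat_lit 24744))) (.node (.node (.leaf (nat_lit 14325)) (.leaf (nat_lit 2219))) (.leaf (nat_lit 17606)))) (.node (.node (.node (.leaf (nat_lit 108)) (.leaf (nat_lit 14453))) (.leaf (nat_lit 13869))) (.node (.node (.leaf (nat_lit 28034)) (.leaf (nat_lit 6196))) (.leaf (nat_lit 8))))) (.node (.node (.node (.node (.leaf (nat_lit 77)) (.leaf (nat_lit 14890))) (.leaf (nat_lit 7915))) (.node (.node (.leaf (nat_lit 25906)) (.leaf (nat_lit 25982))) (.leaf (nat_lit 18984)))) (.node (.node (.node (.leaf (nat_lit 121)) (.leaf (nat_lit 14343))) (.leaf (nat_lit 14389))) (.node (.leaf (nat_lit 14358)) (.leaf (nat_lit 18990))))))))) (.node (.node (.node (.node (.node (.node (.node (.node (.leaf (nat_lit 14281)) (.leaf (nat_lit 26801))) (.leaf (nat_lit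 19276))) (.node (.node (.leaf (nat_lit 123)) (.leaf (nat_lit 12581))) (.leaf (nat_lit 37006)))) (.node (.node (.node (.leaf (nat_lit 83)) (.leaf (nat_lit 15345))) (.leaf (nat_lit 15498))) (.node (.node (.leaf (nat_lit 26689)) (.leaf (nat_lit 12787))) (.leaf (nat_lit 14409))))) (.node (.node (.node (.node (.leaf (nat_lit 14308)) (.leaf (nat_lit 31328))) (.leaf (nat_lit 122))) (.node (.node (.leaf (nat_lit 147)) (.leaf (nat_lit 14473))) (.leaf (nat_lit 14382)))) (.node (.node (.node (.leaf (nat_lit 114)) (.leaf (nat_lit 16606))) (.leaf (nat_lit 37472))) (.node (.leaf (nat_lit 14345)) (.leaf (nat_lit 18053)))))) (.node (.node (.node (.node (.node (.leaf (nat_lit 34)) (.leaf (nat_lit 34217))) (.leaf (nat_lit 2))) (.node (.node (.leaf (nat_lit 135)) (.leaf (nat_lit 18887))) (.leaf (nat_lit 21516)))) (.node (.node (.node (.leaf (nat_lit 32767)) (.leaf (nat_lit 26))) (.leaf (nat_lit 14377))) (.node (.node (.leaf (nat_lit 37459)) (.leaf (nat_lit 7947))) (.leaf (nat_lit 15635))))) (.node (.node (.node (.node (.leaf (nat_lit 67)) (.leaf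 (nat_lit 14441))) (.leaf (nat_lit 184))) (.node (.node (.leaf (nat_lit 152)) (.leaf (nat_lit 34139))) (.leaf (nat_lit 194)))) (.node (.node (.node (.leaf (nat_lit 14313)) (.leaf (nat_lit 32965))) (.leaf (nat_lit 10147))) (.node (.leaf (nat_lit 15687)) (.leaf (nat_lit 21279))))))) (.node (.node (.node (.node (.node (.node (.leaf (nat_lit 20)) (.leaf (nat_lit 2864))) (.leaf (nat_lit 181))) (.node (.node (.leaf (nat_lit 213)) (.leaf (nat_lit 15398))) (.leaf (nat_lit 14393)))) (.node (.node (.node (.leaf (nat_lit 91)) (.leaf (nat_lit 12140))) (.leaf (nat_lit 25069))) (.node (.node (.leaf (nat_lit 32379)) (.leaf (nat_lit 6482))) (.leaf (nat_lit 198))))) (.node (.node (.node (.node (.leaf (nat_lit 37381)) (.leaf (nat_lit 35260))) (.leaf (nat_lit 25893))) (.node (.node (.leaf (nat_lit 14329)) (.leaf (nat_lit 151))) (.leaf (nat_lit 190)))) (.node (.node (.node (.leaf (nat_lit 24644)) (.leaf (nat_lit 14457))) (.leaf (nat_lit 16734))) (.node (.leaf (nat_lit 14358)) (.leaf (nat_lit 15713)))))) (.node (.node (.node (.node (.node (.leaf (nat_lit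 40)) (.leaf (nat_lit 21518))) (.leaf (nat_lit 14361))) (.node (.node (.leaf (nat_lit 3918)) (.leaf (nat_lit 14036))) (.leaf (nat_lit 24832)))) (.node (.node (.node (.leaf (nat_lit 107)) (.leaf (nat_lit 6539))) (.leaf (nat_lit 33959))) (.node (.node (.leaf (nat_lit 24024)) (.leaf (nat_lit 14489))) (.leaf (nat_lit 2611))))) (.node (.node (.node (.node (.leaf (nat_lit 14297)) (.leaf (nat_lit 24109))) (.leaf (nat_lit 146))) (.node (.node (.leaf (nat_lit 158)) (.leaf (nat_lit 24645))) (.leaf (nat_lit 13214)))) (.node (.node (.node (.leaf (nat_lit 23177)) (.leaf (nat_lit 20769))) (.leaf (nat_lit 37004))) (.node (.leaf (nat_lit 2686)) (.leaf (nat_lit 14425)))))))) (.node (.node (.node (.node (.node (.node (.node (.leaf (nat_lit 13)) (.leaf (nat_lit 1958))) (.leaf (nat_lit 21518))) (.node (.node (.leaf (nat_lit 128)) (.leaf (nat_lit 14465))) (.leaf (nat_lit 2643)))) (.node (.node (.node (.leaf (nat_lit 14294)) (.leaf (nat_lit 37063))) (.leaf (nat_lit 14367))) (.node (.node (.leaf (nat_lit 14337)) (.leaf (nat_lit 19095))) (.leaf (nat_lit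 32796))))) (.node (.node (.node (.node (.leaf (nat_lit 52)) (.leaf (nat_lit 18009))) (.leaf (nat_lit 7898))) (.node (.node (.leaf (nat_lit 19419)) (.leaf (nat_lit 34221))) (.leaf (nat_lit 14401)))) (.node (.node (.node (.leaf (nat_lit 14315)) (.leaf (nat_lit 23939))) (.leaf (nat_lit 11860))) (.node (.leaf (nat_lit 136)) (.leaf (nat_lit 17212)))))) (.node (.node (.node (.node (.node (.leaf (nat_lit 36)) (.leaf (nat_lit 14433))) (.leaf (nat_lit 14340))) (.node (.node (.leaf (nat_lit 14330)) (.leaf (nat_lit 32885))) (.leaf (nat_lit 11259)))) (.node (.node (.node (.leaf (nat_lit 14305)) (.leaf (nat_lit 6506))) (.leaf (nat_lit 25907))) (.node (.node (.leaf (nat_lit 166)) (.leaf (nat_lit 38079))) (.leaf (nat_lit 1460))))) (.node (.node (.node (.node (.leaf (nat_lit 73)) (.leaf (nat_lit 21504))) (.leaf (nat_lit 14369))) (.node (.node (.leaf (nat_lit 36446)) (.leaf (nat_lit 21818))) (.leaf (nat_lit 31891)))) (.node (.node (.node (.leaf (nat_lit 7819)) (.leaf (nat_lit 6457))) (.leaf (nat_lit 14382))) (.node (.leaf (nat_lit 35967)) (.leaf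 (nat_lit 17892))))))) (.node (.node (.node (.node (.node (.node (.leaf (nat_lit 27)) (.leaf (nat_lit 29073))) (.leaf (nat_lit 1266))) (.node (.node (.leaf (nat_lit 14321)) (.leaf (nat_lit 7139))) (.leaf (nat_lit 15464)))) (.node (.node (.node (.leaf (nat_lit 95)) (.leaf (nat_lit 14449))) (.leaf (nat_lit 31928))) (.node (.node (.leaf (nat_lit 2243)) (.leaf (nat_lit 14190))) (.leaf (nat_lit 34639))))) (.node (.node (.node (.node (.leaf (nat_lit 62)) (.leaf (nat_lit 10231))) (.leaf (nat_lit 28037))) (.node (.node (.leaf (nat_lit 151)) (.leaf (nat_lit 151))) (.leaf (nat_lit 25)))) (.node (.node (.node (.leaf (nat_lit 27186)) (.leaf (nat_lit 30046))) (.leaf (nat_lit 14385))) (.node (.leaf (nat_lit 32181)) (.leaf (nat_lit 16559)))))) (.node (.node (.node (.node (.node (.leaf (nat_lit 14289)) (.leaf (nat_lit 14440))) (.leaf (nat_lit 1413))) (.node (.node (.leaf (nat_lit 143)) (.leaf (nat_lit 3464))) (.leaf (nat_lit 4)))) (.node (.node (.node (.leaf (nat_lit 110)) (.leaf (nat_lit 23208))) (.leaf (nat_lit 35635))) (.node (.leaf (nat_lit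 18507)) (.leaf (nat_lit 14417))))) (.node (.node (.node (.node (.leaf (nat_lit 79)) (.leaf (nat_lit 24892))) (.leaf (nat_lit 30195))) (.node (.node (.leaf (nat_lit 14330)) (.leaf (nat_lit 14481))) (.leaf (nat_lit 15206)))) (.node (.node (.node (.leaf (nat_lit 16858)) (.leaf (nat_lit 6457))) (.leaf (nat_lit 36938))) (.node (.leaf (nat_lit 14353)) (.leaf (nat_lit 175))))))))))))

noncomputable def tD : NT := (.node (.node (.node (.node (.node (.node (.node (.node (.leaf (nat_lit 0x400001002000000020020000100000000801000000008000010040000000200200000800000004010000020000100000000400800000008000010020000000100000800002002000000020040000100000000401000)) (.leaf (nat_lit 0x801002000004000000040000000000200001002004000000000020000080100400000000004000010010000040080200000400000002000000000020000100100000800802000008000000000080080100000400000))) (.node (.leaf (nat_lit 0x8000000000000100000000000000000000000000040000000000400000000000000000000000000000000000002000000008000000000000000200000000000000000000000000000000400000000)) (.leaf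 (nat_lit 0x1000000000000000000000000000000800000000000000000000000200200000000000000000000000000000000000400000000000000000020000000000000400000000000000000000000100000000000000)))) (.node (.node (.leaf (nat_lit 0x1000000000000000000080000000000000000004000000000000000000000000000000000000000020000000000000400000000000000000000000040000000000000000000000008000000000000200000000000)) (.leaf (nat_lit 0x1000000000000000000000000000200000000004000000000000000000000000000001000000000000000040000000000000000000000000000000080000000000000000000000010000000000000000000000001))) (.leaf (nat_lit 0x400000000000000000000000000000000000400000000000000020000000000000000001000000000000000000000000000200000000000004000000000000000000000000000000000008000000000000000000000002)))) (.node (.node (.node (.leaf (nat_lit 0x400000000000000000000000000100000000000000000008000000000000000000000000000000004000000000000000000400000000000000000010000000000000000000000000000008000000000000000000000001)) (.leaf (nat_lit 0x801000000000008020040000000200200800000004000000010020040000000000800800000000008010000040080000000000802000008008000000000100200200000001002008000000040000000100400800000)))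 (.node (.leaf (nat_lit 0x200000000000000000000000000000000400000000000000008000000000000000000000000000000000020000080000000000000000000000000000000080000000000000000000000010000000000000200000000000)) (.leaf (nat_lit 0x801004000010000000000080200400000800002004000000000040000100200800000000008000010040080000000000400001000000008020020000100000400400000000008000010000000080100200000800)))) (.node (.node (.leaf (nat_lit 0x1000004008020000000000100000800801000000000020000040080100200401000002000000000000000000100000401001002008008000020000000000200400800004000000000040040080000200000000)) (.leaf (nat_lit 0x400000002008010000020000080200000000002000004000000020040080000000800000002008008000020000080100000000001004000008020000000000100400000801000000000020000080000000200401000))) (.leaf (nat_lit 0x1002004000010000000000100100400000800004008000000000080000200400400000000004000020040080000000000400001000000010010020000100000400400000000008000010000000100200200000800))))) (.node (.node (.node (.node (.leaf (nat_lit 0x1000004008010000000000200000401001000000000020000040080200200801000002000000000000000000100000401002002004008000020000000000200800800004000000000020040100000400000000))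 (.leaf (nat_lit 0x200000000000000000000000040000000000000000000000000000020000000000000000000000000010000000000080000000000000000000000000000080000000000000002000000000000000000000000000000002))) (.node (.leaf (nat_lit 0x800004004000020000000100000200400002002008000010000000100000000000800002008000020040040000100000001000002004000020000000100000000001000004008000020040080000200000001000)) (.leaf (nat_lit 0x400000000000000000020000000000000000000000000010000000000000000000000000000000010000000000000000400000000000000000000000040000000000000002000000000000000000000000000000001)))) (.node (.node (.leaf (nat_lit 0x1001004000010000000000100200400000800004008000000000080000100200800000000008000020040080000000000400002000000010020020000100000400400000000008000020000000080200400001000)) (.leaf (nat_lit 0x1001004000010000000000100200400000800004008000000000040000200200800000000004000010040080000000000800001000000008010040000080000400400000000004000010000000100100200000800))) (.leaf (nat_lit 0x200000000000000000000000000000000200000000000000008000000000000000000000002000000000000000040000000000000000000000000000000000100000000000000000008000000000000000000000000002))))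 (.node (.node (.node (.leaf (nat_lit 0x400000000000000000000000040000000000000000000000010000000000000000000000000000000000020000000000000200000000000000000000000000100000000000000000008000000000000000200000000000)) (.leaf (nat_lit 0x800000002004010000040000100100000000001000008000000020080080000000400000002004008000020000080100000000001002000010010000000000200400000801000000000020000040000000200801000))) (.leaf (nat_lit 0x4000000000000000000000000001000000008000000000000000000000002000000000000000000000000400000000002000000000000000000000000000000000000008000000040000000000000000))) (.node (.node (.leaf (nat_lit 0x2000000000000080000000000000000000000010000000000000000000000000000008000000020000000000000000000000000000020000000000000000000000000000008000000000000000000000001)) (.leaf (nat_lit 0x401000000000010020020000000100400400000004000000010020040000000000400800000000010010000080080000000001002000004008000000000080200400000002004004000000040000000100400800000))) (.leaf (nat_lit 0x2000008010020000000000200000401001000000000020000040080200400801000004000000000000000000200000800801004004008000040000000000400800800002000000000040040100000200000000))))))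 (.node (.node (.node (.node (.node (.leaf (nat_lit 0x800000000000000000040000000000000000000000000010000000000000000000000001000000000000000000000000400000000000000000000000000000200000000000000000008000000000000000000800000)) (.leaf (nat_lit 0x800801000008000000040000000000400001002002000000000020000100200200000000004000008020000080080200000400000004000000000020000080200000801001000004000000000080100200000800000))) (.node (.leaf (nat_lit 0x2000008010020000000000200000401001000000000010000080100100400800800002000000000000000000100000401002004004010000020000000000400801000004000000000040040080000400000000)) (.leaf (nat_lit 0x2000000000000000100000000000000000008000000000000000000000000001000000000000020000000000000000000000000000000000040000000000000000000000010000000000000000000000002)))) (.node (.node (.leaf (nat_lit 0x800002004000000010040000080000000400800000004000020020000000100400001000000008008000040000080000000801000000004000020040000000200000400001004000000010020000080000000800800)) (.leaf (nat_lit 0x400000000000000000000000000000000200000000000000010000000000000000000000000000000000010000040000000000000000000000000000000040000000000000000000000008000000000000100000000000)))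 (.leaf (nat_lit 0x400801000008000000020000000000200000802002000000000020000100100200000000004000008010000040080200000400000004000000000020000080100000401001000004000000000080080100000400000)))) (.node (.node (.node (.leaf (nat_lit 0x400002002000000010020000100000000801000000008000020040000000100400001000000008008000020000100000000400800000008000020020000000200000800001002000000010020000080000000800800)) (.leaf (nat_lit 0x802002000008000000000080100200001000002004000000000080000100400400000000008000020020040000000000400002000000010020020000100000200800000000008000020000000080200400001000))) (.leaf (nat_lit 0x801002000008000000040000000000400001002004000000000040000080100400000000002000010010000080100100000400000004000000000020000080200000800802000004000000000080080100000800000))) (.node (.node (.leaf (nat_lit 0x200000000000000000000000000000000000000002000000000000000000100000000000002000000000000000000000000400000000000000000000000040000000000001000000000000000000080000000000000000)) (.leaf (nat_lit 0x1000002008000010000000100000200400002004008000020000000100000000001000004004000010020040000200000001000004004000010000000100000000001000004008000020020080000100000001000)))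 (.leaf (nat_lit 0x800002008000010000000100000400800001002008000010000000080000000000800004004000010020080000200000001000004008000010000000100000000000800004008000020020040000100000001000))))) (.node (.node (.node (.node (.leaf (nat_lit 0x400000004004010000020000080200000000002000004000000040080080000000800000004004008000040000100200000000002002000010010000000000200400000801000000000020000080000000400801000)) (.leaf (nat_lit 0x800001004000000020040000080000000400800000004000010020000000200200000800000004010000040000080000000801000000004000010040000000100000400002004000000020040000100000000401000))) (.node (.leaf (nat_lit 0x400000002004008000020000080200000000002000004000000020080100000000800000002004010000020000080100000000001002000010010000000000200200001002000000000010000080000000200800800)) (.leaf (nat_lit 0x800800000000010010040000000200200400000002000000020040040000000000801000000000010020000040100000000001001000004008000000000100200400000002004008000000020000000200200800000)))) (.node (.node (.leaf (nat_lit 0x401000000000008020020000000200400400000004000000020020040000000000801000000000010020000080080000000000802000004008000000000100200200000002002008000000040000000200400800000))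 (.leaf (nat_lit 0x1000000000000000040000000000000000000000010000000000000000200000000000000000000000000000000000800000000000000000040000000000000000000000000008000000000000000000000002))) (.leaf (nat_lit 0x800000000000000000040000000000000000002000000000000000000000000000000000000000010000000000000200000000000000000000000080000000000000000000000010000000000000100000000000)))) (.node (.node (.node (.leaf (nat_lit 0x401000000000008020020000000200200800000004000000020040080000000000801000000000010020000040100000000001001000008010000000000080100200000002004004000000040000000200200400000)) (.leaf (nat_lit 0x20000040000000000000000000000000020000000000000000001000000000000000000000000000400000000000000000000000040000000000000000000000010000040000000000000000000))) (.leaf (nat_lit 0x400000000000000000000000040000000000000000000000000000000000000100000000002000000000000000000000000000400000000000000000020000000000000000000000000008000000000080000000000000))) (.node (.node (.leaf (nat_lit 0x2000000000000000000000000000000800000000010000000000000000400000000000000000000000000000000200000000000000000000000040000000000400000000000000000000000000000000000002))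 (.leaf (nat_lit 0x800000000000000000000000000200000000002000000000000000000000000000000000000000020000040000000000000000000000000000000000080000000000000000004000000000000000200000000000))) (.leaf (nat_lit 0x10000080000000000000000000000000010000000000000000000800000000000000000000000000200000000000000000000000080000000000000000000000008000020000000000000000000))))))) (.node (.node (.node (.node (.node (.node (.leaf (nat_lit 0x1000004010010000000000100000801002000000000020000040100200200401000002000000000000000000100000400802002008008000020000000000400801000002000000000020080100000400000000)) (.leaf (nat_lit 0x802002000010000000000080100200000800002004000000000040000100400400000000004000020020040000000000800002000000008010040000100000400400000000008000010000000080200400000800))) (.node (.leaf (nat_lit 0x2000004010020000000000200000801001000000000010000040100100400800800004000000000000000000200000400801002008008000020000000000400801000002000000000040040080000200000000)) (.leaf (nat_lit 0x200000000000000000000000000100000000000000000008000000000000000000000000002000000000000000000000000200000000000000000000000080000000000000000000000000020000000000000000001000))))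 (.node (.node (.leaf (nat_lit 0x1000004008010000000000100000800802000000000020000040080200200401000004000000000000000000200000800801002008008000040000000000200400800002000000000020080100000200000000)) (.leaf (nat_lit 0x801002000004000000040000000000400001001004000000000040000080200400000000002000010020000080100100000800000002000000000040000100200000800802000008000000000040100200000800000))) (.leaf (nat_lit 0x800000004008008000040000100100000000002000008000000040040100000000400000004008010000040000100200000000001004000008020000000000200200001002000000000020000080000000200801000)))) (.node (.node (.node (.leaf (nat_lit 0x800800000000010020040000000200200800000002000000020040080000000000801000000000010010000040100000000001002000008010000000000080200400000002004004000000040000000100400800000)) (.leaf (nat_lit 0x200000000000000000000000000000200000000000000000010000000000000000000800000000000000000000000000000000000002000000000000000080000000000000000000000008000000000000000400000000))) (.leaf (nat_lit 0x200000000000000000000000000080000000000000000004000000000000000000000000000000008000000000000000000200000000000000000020000000000000000000000000000010000000000000000000000002)))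 (.node (.node (.leaf (nat_lit 0x10000000000000000400000000000008000000000000000000000001000000000000000000000000400000000000004000000000000000000000000000000000010000020000000000000000000)) (.leaf (nat_lit 0x10000000000000200000000000000000000000000080000000000800000000000000000000000000000000000001000000010000000000000000400000000000000000000000000000000200000000))) (.leaf (nat_lit 0x800000000000000000040000000000000000000000000008000000000000000000000000000000008000000000000000200000000000000000000000080000000000000001000000000000000000000000000000002))))) (.node (.node (.node (.node (.leaf (nat_lit 0x800000000000000000080000000000000000002000000000000000000000000000001000000000000000000000000400000000000000000000000000100000000000000000008000000000000000000000000001)) (.leaf (nat_lit 0x1000002008000020000000080000400800002004004000020000000100000000001000004004000020020080000200000001000004008000010000000100000000001000004008000010040080000200000000800))) (.node (.leaf (nat_lit 0x2000008008020000000000200000400801000000000010000080080100400800800004000000000000000000200000801001004004010000040000000000200400800004000000000040040080000200000000))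 (.leaf (nat_lit 0x801002000004000000040000000000400000802004000000000040000100100400000000002000008010000080100100000800000002000000000040000080100000401001000004000000000080080100000400000)))) (.node (.node (.leaf (nat_lit 0x800004004000020000000080000400800001002004000020000000100000000001000004004000010040080000200000001000002008000010000000100000000001000004008000020040040000100000001000)) (.leaf (nat_lit 0x4000000000000080000000000000000000000010000000000000000000000001000000000000040000000000000000000000000000000000040000000000000000000000000020000000000000000001000))) (.leaf (nat_lit 0x2000000000000040000000000000000000000008000000000000000000000002000000000000020000000000000000000000000000000000080000000000000000000000000010000000000000000000800)))) (.node (.node (.node (.leaf (nat_lit 0x20000000000000000400000000000000010000000000000000000800000000000000000000000000000000800000004000000000000000000000000000002000000000040000000000000000000)) (.leaf (nat_lit 0x200000000000000000000000040000000000000000000000010000000000000000000000000000000008000000000000000400000000000000000000000000000100000000001000000000000000000000000000400000)))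 (.leaf (nat_lit 0x200000000000000000000000000000000000400000000000010000000000000000000000002000000000000000000000000000001000000004000000000000000000000000000004000000000000000000000000000001))) (.node (.node (.leaf (nat_lit 0x800000004008008000040000080200000000002000004000000020080080000000800000002004008000040000080100000000001004000010010000000000200200000801000000000020000080000000200801000)) (.leaf (nat_lit 0x400000000000000000000000000000000000000002000000008000000000000000000000000004000000000000000000200000000000000000000000000080000000000000000000000008000000080000000000000000))) (.leaf (nat_lit 0x400801000004000000020000000000200000801002000000000020000100200200000000004000008020000040080200000800000002000000000040000100100000401001000008000000000040100200000400000)))))) (.node (.node (.node (.node (.node (.leaf (nat_lit 0x8000000040000000000000000000000010000000000000000000000001000000000000000000000000000000001000000000000000080000000200000000000000000000000000000000200000000)) (.leaf (nat_lit 0x2000008010010000000000200000401002000000000010000080100200400800800004000000000000000000200000800802004004010000040000000000400801000002000000000020080100000400000000)))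 (.node (.leaf (nat_lit 0x400000002004010000020000100200000000002000008000000040040100000000800000002004008000020000100100000000001002000008010000000000200400001001000000000020000080000000200801000)) (.leaf (nat_lit 0x400000000000000000000000000000000000800000000000008000000000000000000000001000000000000000000000000000000800000008000000000000000000000000000002000000000000000000000000000002)))) (.node (.node (.leaf (nat_lit 0x400000000000000000000000000080000000000000000004000000000000000000000000001000000000000000000000000400000000000000000000000040000000000000000000000000010000000000000000000800)) (.leaf (nat_lit 0x802002000008000000000100200400000800002008000000000040000100400800000000004000020020080000000000800002000000008010040000080000200400000000004000020000000080200400001000))) (.leaf (nat_lit 0x401000000000008020020000000100400800000004000000010020080000000000400800000000008010000080080000000000802000008010000000000080100200000001002004000000040000000100400400000)))) (.node (.node (.node (.leaf (nat_lit 0x400000004008008000020000080200000000002000004000000040040100000000800000004008010000040000100200000000002004000008020000000000100200001002000000000010000080000000400400800))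 (.leaf (nat_lit 0x200000000000000000000000000000000000000001000000010000000000000000000000000002000000000000000000100000000000000000000000000040000000000000000000000010000000040000000000000000))) (.leaf (nat_lit 0x800800000000010010040000000100200800000002000000010040080000000000400800000000008010000040100000000001001000008010000000000080100400000001004004000000020000000100200400000))) (.node (.node (.leaf (nat_lit 0x2000000000000000080000000000000000000000008000000000000000400000000000000000000000000000000000400000000000000000020000000000000000000000000010000000000000000000000001)) (.leaf (nat_lit 0x1000004008000010000000080000200800001004004000020000000100000000001000002004000010040040000100000000800004008000010000000100000000001000002008000020020040000100000001000))) (.leaf (nat_lit 0x401000000000008010020000000100400400000004000000010020040000000000400800000000008020000080080000000000801000004008000000000100100200000001002008000000020000000200200400000))))) (.node (.node (.node (.node (.leaf (nat_lit 0x400000000000000000000000000000000000000800000000008000000000000000000000002000000000000000000000000000800000000000000000040000000000000400000000000000000000000000000000000001))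 (.leaf (nat_lit 0x400000000000000000000000040000000000000000000000008000000000000000000000000000008000000000000000000400000000000000000020000000000000000000000000000000020000000000000000001000))) (.node (.leaf (nat_lit 0x200000000000000000000000080000000000000000000000000000000000080000000000000004000000000000000000200000000000000000000000000040000000000000800000000000000000000000000000000002)) (.leaf (nat_lit 0x400802000008000000020000000000200000801002000000000020000100200400000000002000010010000040080100000400000004000000000020000080200000401002000004000000000040100100000800000)))) (.node (.node (.leaf (nat_lit 0x401001000008000000020000000000200000801004000000000040000080100200000000004000008020000040100200000400000004000000000020000080200000400801000004000000000040080200000800000)) (.leaf (nat_lit 0x800800000000010010040000000100400400000002000000010020040000000000400800000000008010000080080000000000802000004008000000000100200400000001002008000000020000000100400800000))) (.leaf (nat_lit 0x1000002008000010000000080000400800001004004000020000000080000000001000004004000010020080000200000000800004008000010000000080000000000800002004000010020040000100000000800))))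 (.node (.node (.node (.leaf (nat_lit 0x400000000000000000000000040000000000000000000000000000000000100000000000000002000000000000000000100000000000000000000000000080000000000001000000000000000000000000000000000001)) (.leaf (nat_lit 0x400000002004010000020000080200000000001000004000000020080080000000800000002004008000020000080100000000002002000010010000000000100400000801000000000010000040000000400400800))) (.leaf (nat_lit 0x400000000000000000020000000000000000000000000000000020000000000000000000000000008000000000080000000000000000000000000000000000200000000001000000000000000000000000000800000))) (.node (.node (.leaf (nat_lit 0x400000000000000000000000080000000000000000000000000000020000000000000000001000000000000000000080000000000000000000000000000000000100000000000000000008000000000000000000400000)) (.leaf (nat_lit 0x800000000000000000040000000000000000000000000000000040000000000000000000000000010000000000100000000000000000000000000000000000100000000002000000000000000000000000000400000))) (.leaf (nat_lit 0x2000008010020000000000100000800802000000000020000040080200400401000002000000000000000000100000401002004008008000020000000000400400800004000000000040080100000400000000))))))))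 (.node (.node (.node (.node (.node (.node (.node (.leaf (nat_lit 0x200000000000000000000000000000000000000800000000000000000000000100000000001000000000000000000000000400000000000000000000000080000000000400000000000000000000000080000000000000)) (.leaf (nat_lit 0x800000004008010000040000100100000000001000008000000040040080000000400000004008008000040000100200000000002004000008020000000000100400000801000000000020000040000000400401000))) (.node (.leaf (nat_lit 0x800001002000000020040000080000000401000000004000010040000000200200000800000004008000020000100000000401000000004000010020000000100000800001004000000010040000100000000400800)) (.leaf (nat_lit 0x200000000000000000000000080000000000000000000000000000000040000000000000002000000000000000000000000000000001000000008000000000000000000000000000000008000000000000000200000000)))) (.node (.node (.leaf (nat_lit 0x802002000008000000000080100200001000002004000000000040000200400400000000004000010020040000000000800001000000008010040000080000200800000000004000010000000100100200000800)) (.leaf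 (nat_lit 0x400801000008000000020000000000400000801002000000000040000100200200000000002000008020000080100100000800000004000000000040000080200000401001000004000000000040100200000800000))) (.leaf (nat_lit 0x802002000008000000000100200400000800002008000000000080000200400800000000008000010020080000000000400001000000010020020000100000200400000000008000010000000100100200000800)))) (.node (.node (.node (.leaf (nat_lit 0x1000004004000020000000080000200400002004004000020000000100000000001000002008000020040040000100000000800002004000020000000080000000001000002004000010040080000200000000800)) (.leaf (nat_lit 0x1000000000000000000000000000400000000004000000000000000000000000000000000000000010000080000000000000000000000000000000000100000000000000000008000000000000000100000000000))) (.node (.leaf (nat_lit 0x400000000000000000020000000000000000000000000008000000000000000000000002000000000000000000000000200000000000000000000000000000100000000000000000010000000000000000000400000)) (.leaf (nat_lit 0x400002004000000010020000100000000800800000008000020020000000100400001000000008010000040000080000000800800000008000020040000000200000400002002000000020020000080000000801000))))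 (.node (.node (.leaf (nat_lit 0x400000002004010000020000080100000000002000004000000020080080000000400000004008010000020000080200000000001002000010020000000000200400000802000000000020000080000000200801000)) (.leaf (nat_lit 0x8000000080000000000000000000000000000000080000000000000002000000000000000000000000200000000000000010000000000000000200000000000000000000000000000000000000001))) (.leaf (nat_lit 0x1002002000008000000000100100200001000004008000000000080000200400400000000004000020020040000000000800002000000010010040000080000200800000000004000020000000100200400001000))))) (.node (.node (.node (.node (.leaf (nat_lit 0x1000002004000010000000080000400400001004004000020000000100000000001000004008000010020080000200000001000002004000020000000080000000001000004004000020020040000100000001000)) (.leaf (nat_lit 0x1000000000000000000040000000000000000004000000000000000000000000000002000000000000000000000000200000000000000000000000000080000000000000000004000000000000000000000000002))) (.node (.leaf (nat_lit 0x10000040000000000000000000000010000000000000000000000002000000000000000000000000000000800000000000000000040000000000000000002000000000020000000000000000000))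 (.leaf (nat_lit 0x20000000000000000800000000000010000000000000000000000002000000000000000000000000200000000000008000000000000000000000000000000000008000040000000000000000000)))) (.node (.node (.leaf (nat_lit 0x400801000008000000020000000000200001001002000000000020000080200200000000004000010020000040080200000400000004000000000020000100200000800802000008000000000040100200000800000)) (.leaf (nat_lit 0x8000000000000000000000000002000000010000000000000000000000001000000000000000000000000200000000004000000000000000000000000000000000000010000000080000000000000000))) (.leaf (nat_lit 0x200000000000000000000000040000000000000000000000000000040000000000000000002000000000000000000100000000000000000000000000000000000200000000000000000010000000000000000000800000)))) (.node (.node (.node (.leaf (nat_lit 0x400002004000000020020000100000000801000000008000020020000000200400001000000008008000040000080000000801000000008000020040000000100000800001004000000020040000100000000401000)) (.leaf (nat_lit 0x20000080000000000000000000000008000000000000000000000001000000000000000000000000000001000000000000000000080000000000000000004000000000040000000000000000000)))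 (.leaf (nat_lit 0x1000002008000010000000100000200400002004008000010000000080000000000800002008000020020040000100000000800004004000020000000080000000000800002004000010020080000200000000800))) (.node (.node (.leaf (nat_lit 0x8000000000000000000000000001000000000000000000100000000000000004000000000000000000200000000000004000000000000000000000000001000000000000000000040000000000000000)) (.leaf (nat_lit 0x2000000000000000040000000000000000000000000000000000000200400000000000000000000000000000000400000000000000000000000080000000000000000000000008000000000100000000000000))) (.leaf (nat_lit 0x1000002008000010000000080000400800001004004000010000000100000000000800002008000020020080000100000001000004008000020000000100000000001000004008000020020040000200000001000)))))) (.node (.node (.node (.node (.node (.leaf (nat_lit 0x800004004000020000000100000200400002002008000020000000080000000001000004004000010040040000200000000800002004000010000000080000000000800002004000010040080000100000000800)) (.leaf (nat_lit 0x4000000000000000000000000002000000000000000000080000000000000002000000000000000000100000000000002000000000000000000000000000800000000000000000080000000000000000)))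 (.node (.leaf (nat_lit 0x401000000000008020020000000100200400000004000000010040040000000000400800000000008010000040100000000001001000004008000000000100200200000001004008000000040000000100200800000)) (.leaf (nat_lit 0x801001000004000000040000000000400001002004000000000040000080100200000000004000008020000080100200000800000002000000000040000100100000800801000008000000000080080200000400000)))) (.node (.node (.leaf (nat_lit 0x2000000000000000000000000000001000000000000000000000000100400000000000000000000000000000000000800000000000000000040000000000000800000000000000000000000080000000000000)) (.leaf (nat_lit 0x800800000000010010040000000200400800000002000000020020080000000000801000000000010020000080080000000000802000008010000000000080100400000002002004000000020000000200400400000))) (.leaf (nat_lit 0x400000000000000000000000040000000000000000000000000010000000000000000000800000000000000000000000000000001000000000000000000040000000000000000004000000000000000000000000000002)))) (.node (.node (.node (.leaf (nat_lit 0x800000000000000000040000000000000000000000000000000020000000000000000002000000000000000000080000000000000000000000000000040000000000000000000000010000000000000000000000001))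 (.leaf (nat_lit 0x4000000000000040000000000000000000000008000000000000000000000000000004000000040000000000000000000000000000010000000000000000000000000000010000000000000000000000002))) (.leaf (nat_lit 0x4000000000040000000000000000000000010000000000000000000000000004000000000000000000200000000000002000000000000000000000000000000000000010000000000000000000000001))) (.node (.node (.leaf (nat_lit 0x4000000000000000100000000000000000008000000000000000000000000000000008000000040000000000000000000000000000020000000000000000000000000000000010000000000000000000800)) (.leaf (nat_lit 0x400000000000000000000000000000000000000001000000000000000000080000000000001000000000000000000000000200000000000000000000000080000000000000800000000000000000040000000000000000))) (.leaf (nat_lit 0x802004000008000000000080100400001000002004000000000040000100400400000000004000020040080000000000400001000000008010020000080000200800000000004000020000000080200200001000))))) (.node (.node (.node (.node (.leaf (nat_lit 0x1001004000010000000000080100200001000004004000000000080000200200400000000008000010040040000000000400001000000010020020000100000400800000000008000010000000100100200000800))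 (.leaf (nat_lit 0x200000000000000000000000000000100000000000000000000000000080000000000400000000000000000000000000000400000000000000010000000000000000000000000000000008000000000000000000000002))) (.node (.leaf (nat_lit 0x800001002000000020040000080000000800800000004000010040000000200200000800000008010000020000100000000800800000008000020040000000200000400002002000000020040000100000000801000)) (.leaf (nat_lit 0x400000000000000000000000040000000000000000000000000000000080000000000000001000000000000000000000000000000002000000010000000000000000000000000000000010000000000000000400000000)))) (.node (.node (.leaf (nat_lit 0x400000000000000000000000000000100000000000000000008000000000000000000400000000000000000000000000000000000001000000000000000040000000000000000000000010000000000000000200000000)) (.leaf (nat_lit 0x200000000000000000000000000000000000001000000000010000000000000000000000001000000000000000000000000000400000000000000000020000000000000800000000000000000000000000000000000002))) (.leaf (nat_lit 0x1000000000000000080000000000000000000000000000000000000100200000000000000000000000000000000200000000000000000000000040000000000000000000000010000000000080000000000000))))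 (.node (.node (.node (.leaf (nat_lit 0x400002004000000010020000100000000401000000008000020020000000100400001000000004008000040000080000000401000000004000010020000000100000800001004000000010020000080000000400800)) (.leaf (nat_lit 0x1001004000010000000000080100200001000004004000000000040000100200400000000004000020040040000000000800002000000008010040000080000400800000000004000020000000080200400001000))) (.leaf (nat_lit 0x800800000000008010040000000200200800000002000000020040080000000000801000000000008020000040100000000000801000008010000000000100100200000001002008000000020000000200200400000))) (.node (.node (.leaf (nat_lit 0x1000004008010000000000200000401001000000000010000080100100200800800004000000000000000000200000800801002004010000040000000000200801000002000000000020040080000200000000)) (.leaf (nat_lit 0x800002002000000020040000080000000400800000004000020040000000200400001000000008008000020000100000000400800000004000020020000000100000400001002000000020040000100000000401000))) (.leaf (nat_lit 0x1001002000010000000000100200200000800004008000000000080000200200800000000008000010020040000000000800002000000010020040000100000400400000000008000010000000100100400000800)))))))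 (.node (.node (.node (.node (.node (.node (.leaf (nat_lit 0x400000002004010000020000100100000000001000008000000040040100000000400000004008010000020000100200000000002002000008020000000000100400001002000000000010000040000000400400800)) (.leaf (nat_lit 0x400000000000000000020000000000000000000000000000000040000000000000000001000000000000000000100000000000000000000000000000080000000000000000000000008000000000000000000000002))) (.node (.leaf (nat_lit 0x10000000000000000800000000000000020000000000000000001000000000000000000000000000000001000000008000000000000000000000000000004000000000020000000000000000000)) (.leaf (nat_lit 0x800000004008008000040000080100000000001000004000000020080080000000400000004008010000040000080200000000002004000010020000000000100200000802000000000010000040000000400400800)))) (.node (.node (.leaf (nat_lit 0x10000000080000000000000000000000008000000000000000000000002000000000000000000000000000000002000000000000000040000000400000000000000000000000000000000400000000)) (.leaf (nat_lit 0x200000000000000000000000080000000000000000000000000020000000000000000001000000000000000000000000000000000800000000000000000080000000000000000002000000000000000000000000000001)))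 (.leaf (nat_lit 0x800000002008008000040000100100000000001000008000000020040100000000400000002008010000020000080100000000001004000008020000000000100200001002000000000010000040000000200400800)))) (.node (.node (.node (.leaf (nat_lit 0x400002004000000010020000080000000801000000004000010040000000200400000800000008008000040000100000000801000000008000020040000000200000800001004000000010020000100000000800800)) (.leaf (nat_lit 0x4000000000080000000000000000000000000000000000100000000000001000000000000000000000000200000000002000000000000000000000000001000000000000000000000000000000000002))) (.leaf (nat_lit 0x10000000000000100000000000000000010000000000000000000400000000000000000000000000000200000000000000000000000080000000400000000000000000000000000000000000000001))) (.node (.node (.leaf (nat_lit 0x200000000000000000000000080000000000000000000000000000000000000200000000001000000000000000000000000000800000000000000000040000000000000000000000000010000000000100000000000000)) (.leaf (nat_lit 0x801000000000010010040000000200200800000004000000010020040000000000800800000000010020000040080000000001001000008008000000000080100400000002004004000000020000000200200400000)))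 (.leaf (nat_lit 0x400000000000000000000000080000000000000000000000008000000000000000000000000000000010000000000000000200000000000000000000000000000200000000002000000000000000000000000000800000))))) (.node (.node (.node (.node (.leaf (nat_lit 0x200000000000000000000000000000000000800000000000000010000000000000000000800000000000000000000000000400000000000008000000000000000000000000000000000010000000000000000000000001)) (.leaf (nat_lit 0x2000008010020000000000100000800802000000000010000080100100400400800004000000000000000000200000800801004008010000040000000000400401000002000000000040080080000200000000))) (.node (.leaf (nat_lit 0x800000000000000000000000000400000000002000000000000000000000000000002000000000000000080000000000000000000000000000000040000000000000000000000008000000000000000000000002)) (.leaf (nat_lit 0x1000008008010000000000100000400802000000000020000080080200200401000002000000000000000000100000801002004004010000040000000000200400800004000000000020080100000400000000)))) (.node (.node (.leaf (nat_lit 0x400000000000000000000000080000000000000000000000000000040000000000000000000000000008000000000100000000000000000000000000000040000000000000001000000000000000000000000000000001))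 (.leaf (nat_lit 0x800004004000010000000100000200400001002008000010000000080000000000800002008000010040040000100000000800002004000020000000080000000000800002004000020020040000100000001000))) (.leaf (nat_lit 0x400000000000000000000000000000200000000000000000000000000040000000000800000000000000000000000000000200000000000000008000000000000000000000000000000010000000000000000000000001)))) (.node (.node (.node (.leaf (nat_lit 0x400800000000010010020000000100400400000002000000020040080000000000401000000000010020000080100000000001001000004010000000000080100400000002004004000000020000000200200400000)) (.leaf (nat_lit 0x400001004000000010020000100000000801000000008000010020000000100200000800000004010000040000080000000801000000008000010040000000200000800002004000000010020000080000000800800))) (.leaf (nat_lit 0x400801000008000000020000000000400001002002000000000040000080100200000000002000010010000080100100000800000004000000000040000100100000800802000008000000000080080100000400000))) (.node (.node (.leaf (nat_lit 0x800004008000020000000100000200800002002008000010000000080000000000800002004000020040040000100000000800004008000010000000100000000000800002008000010040080000200000000800))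 (.leaf (nat_lit 0x401002000004000000020000000000200000801004000000000040000080100400000000002000010010000040100100000800000002000000000040000100100000400802000008000000000040080100000400000))) (.leaf (nat_lit 0x400000000000000000000000000000000400000000000000010000000000000000000000001000000000000000080000000000000000000000000000000000080000000000000000004000000000000000000000000001)))))) (.node (.node (.node (.node (.node (.leaf (nat_lit 0x1001004000008000000000100200400001000004008000000000080000200200800000000008000010040080000000000400001000000010020020000080000200800000000004000020000000100100200001000)) (.leaf (nat_lit 0x400800000000008020020000000100400400000002000000020040080000000000401000000000008010000080100000000000802000004010000000000100200200000001002008000000040000000100400800000))) (.node (.leaf (nat_lit 0x801002000008000000000080200200001000002004000000000040000100200800000000008000010020040000000000800002000000008020040000080000200800000000004000020000000080100400001000)) (.leaf (nat_lit 0x801002000004000000040000000000200000801004000000000020000100200400000000004000008020000040080200000400000002000000000020000080200000401001000004000000000040100200000800000))))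 (.node (.node (.leaf (nat_lit 0x800001002000000020040000100000000400800000008000020020000000100200001000000004010000020000080000000400800000004000010020000000100000400002002000000020040000080000000401000)) (.leaf (nat_lit 0x800001002000000010040000080000000400800000004000010040000000100200000800000004010000020000100000000400800000004000010020000000200000400002002000000010020000080000000800800))) (.leaf (nat_lit 0x2000004008010000000000200000800802000000000010000040080200400800800004000000000000000000200000401002002008008000020000000000200400800004000000000020080100000400000000)))) (.node (.node (.node (.leaf (nat_lit 0x2000000000000000080000000000000000004000000000000000000000000000000004000000020000000000000000000000000000010000000000000000000000000000000020000000000000000001000)) (.leaf (nat_lit 0x10000000040000000000000000000000000000000040000000000000001000000000000000000000000400000000000000008000000000000000400000000000000000000000000000000000000002))) (.leaf (nat_lit 0x4000000000000000080000000000000000004000000000000000000000000002000000000000040000000000000000000000000000000000080000000000000000000000008000000000000000000000001)))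 (.node (.node (.leaf (nat_lit 0x200000000000000000000000080000000000000000000000008000000000000000000000000000000000010000000000000400000000000000000000000000080000000000000000004000000000000000100000000000)) (.leaf (nat_lit 0x1000004008010000000000100000800802000000000010000080100100200400800002000000000000000000100000401002002008010000020000000000200401000004000000000020080080000400000000))) (.leaf (nat_lit 0x800002004000020000000100000400400002002008000010000000080000000000800004008000020020080000200000001000002004000020000000080000000000800004004000010040080000200000000800))))) (.node (.node (.node (.node (.leaf (nat_lit 0x8000000000040000000000000000000000000000000000080000000000002000000000000000000000000400000000004000000000000000000000000000800000000000000000000000000000000001)) (.leaf (nat_lit 0x800802000004000000040000000000400001002002000000000020000100200400000000002000010010000080080100000800000002000000000040000100100000801002000008000000000080100100000400000))) (.node (.leaf (nat_lit 0x800000004004008000040000100100000000001000008000000040080100000000400000004004010000040000100200000000002002000010010000000000200200001002000000000010000040000000400800800))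 (.leaf (nat_lit 0x1000000000000000000000000000001000000000008000000000000000200000000000000000000000000000000400000000000000000000000080000000000800000000000000000000000000000000000001)))) (.node (.node (.leaf (nat_lit 0x400000000000000000000000000000000000001000000000000000000000000200000000002000000000000000000000000200000000000000000000000040000000000800000000000000000000000100000000000000)) (.leaf (nat_lit 0x200000000000000000000000080000000000000000000000010000000000000000000000000000004000000000000000000200000000000000000010000000000000000000000000000000010000000000000000000800))) (.leaf (nat_lit 0x400002004000000010020000080000000400800000004000010040000000200400000800000004010000040000100000000400800000004000010020000000100000400002002000000020020000100000000401000)))) (.node (.node (.node (.leaf (nat_lit 0x8000000000080000000000000000000000008000000000000000000000000002000000000000000000100000000000004000000000000000000000000000000000000008000000000000000000000002)) (.leaf (nat_lit 0x800004004000020000000080000400800001002004000010000000080000000000800002008000020040080000100000000800002008000020000000080000000000800002004000010040040000200000000800)))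 (.leaf (nat_lit 0x800000004008008000040000100200000000001000008000000040040100000000800000002004008000040000100100000000002004000008010000000000100200001001000000000010000040000000400400800))) (.node (.node (.leaf (nat_lit 0x1000008010020000000000100000401001000000000020000080100100200401000002000000000000000000100000800801004004010000040000000000400801000002000000000040040080000200000000)) (.leaf (nat_lit 0x800001002000000020040000100000000801000000008000020020000000100200001000000008008000020000080000000801000000008000020040000000200000800001004000000010040000080000000800800))) (.leaf (nat_lit 0x8000000000000200000000000000000008000000000000000000800000000000000000000000000000400000000000000000000000040000000200000000000000000000000000000000000000002)))))))))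

noncomputable def iD : NT := (.node (.node (.node (.node (.node (.node (.node (.node (.node (.node (.node (.node (.node (.node (.node (.node (.node (.node (.node (.node (.node (.node (.node (.node (.node (.node (.node (.node (.node (.node (.node (.node (.node (.node (.node (.node (.node (.node (.node (.node (.node (.node (.node (.node (.node (.node (.node (.node (.node (.node (.node (.node (.node (.node (.node (.node (.node (.node (.node (.node (.node (.node (.node (.node (.node (.node (.node (.node (.node (.node (.node (.node (.node (.node (.node (.node (.node (.node (.node (.leaf (nat_lit 0)) (.node (.node (.node (.node (.node (.node (.node (.node (.node (.node (.node (.node (.node (.node (.node (.node (.node (.node (.node (.node (.node (.node (.node (.node (.node (.node (.node (.node (.node (.node (.node (.node (.node (.node (.node (.node (.node (.node (.node (.node (.node (.node (.node (.leaf (nat_lit 153)) (.leaf (nat_lit 26))) (.leaf (nat_lit 0))) (.leaf (nat_lit 0))) (.leaf (nat_lit 0))) (.leaf (nat_lit 0))) (.leaf (nat_lit 0))) (.leaf (nat_lit 0))) (.leaf (nat_lit 0))) (.leaf (nat_lit 0))) (.leaf (nat_lit 0))) (.leaf (nat_lit 0))) (.leaf (nat_lit 0))) (.leaf (nat_lit 0))) (.leaf (nat_lit 0))) (.leaf (nat_lit 0))) (.leaf (nat_lit 0))) (.leaf (nat_lit 0))) (.leaf (nat_lit 0))) (.leaf (nat_lit 0))) (.leaf (nat_lit 0))) (.leaf (nat_lit 0))) (.leaf (nat_lit 156))) (.leaf (nat_lit 201))) (.leaf (nat_lit 0))) (.leaf (nat_lit 0))) (.leaf (nat_lit 0))) (.leaf (nat_lit 0))) (.leaf (nat_lit 0))) (.leaf (nat_lit 0))) (.leaf (nat_lit 0))) (.leaf (nat_lit 0))) (.leaf (nat_lit 0))) (.leaf (nat_lit 0))) (.leaf (nat_lit 0))) (.leaf (nat_lit 0))) (.leaf (nat_lit 0))) (.leaf (nat_lit 0))) (.leaf (nat_lit 0))) (.leaf (nat_lit 0))) (.leaf (nat_lit 0))) (.leaf (nat_lit 0))) (.leaf (nat_lit 0))) (.leaf (nat_lit 0)))) (.node (.node (.node (.node (.node (.node (.node (.node (.node (.node (.node (.node (.node (.node (.node (.node (.node (.node (.node (.node (.node (.node (.node (.node (.node (.node (.node (.node (.node (.node (.node (.node (.node (.node (.node (.node (.node (.node (.node (.node (.node (.node (.node (.node (.leaf (nat_lit 67)) (.leaf (nat_lit 73))) (.leaf (nat_lit 0))) (.leaf (nat_lit 0))) (.leaf (nat_lit 0))) (.leaf (nat_lit 0))) (.leaf (nat_lit 0))) (.leaf (nat_lit 0))) (.leaf (nat_lit 0))) (.leaf (nat_lit 0))) (.leaf (nat_lit 0))) (.leaf (nat_lit 0))) (.leaf (nat_lit 0))) (.leaf (nat_lit 0))) (.leaf (nat_lit 0))) (.leaf (nat_lit 0))) (.leaf (nat_lit 0))) (.leaf (nat_lit 0))) (.leaf (nat_lit 0))) (.leaf (nat_lit 0))) (.leaf (nat_lit 0))) (.leaf (nat_lit 0))) (.leaf (nat_lit 50))) (.leaf (nat_lit 124))) (.leaf (nat_lit 0))) (.leaf (nat_lit 0))) (.leaf (nat_lit 0))) (.leaf (nat_lit 0))) (.leaf (nat_lit 0))) (.leaf (nat_lit 0))) (.leaf (nat_lit 0))) (.leaf (nat_lit 0))) (.leaf (nat_lit 0))) (.leaf (nat_lit 0))) (.leaf (nat_lit 0))) (.leaf (nat_lit 0))) (.leaf (nat_lit 0))) (.leaf (nat_lit 0))) (.leaf (nat_lit 0))) (.leaf (nat_lit 0))) (.leaf (nat_lit 0))) (.leaf (nat_lit 0))) (.leaf (nat_lit 0))) (.leaf (nat_lit 0))) (.leaf (nat_lit 0)))) (.leaf (nat_lit 0))) (.leaf (nat_lit 0))) (.leaf (nat_lit 0))) (.leaf (nat_lit 0))) (.leaf (nat_lit 0))) (.leaf (nat_lit 0))) (.leaf (nat_lit 0))) (.leaf (nat_lit 0))) (.leaf (nat_lit 0))) (.node (.node (.node (.node (.node (.node (.node (.node (.node (.node (.node (.node (.node (.node (.node (.node (.node (.node (.node (.node (.node (.node (.node (.node (.node (.node (.node (.node (.node (.node (.node (.node (.node (.node (.node (.node (.node (.node (.node (.node (.node (.node (.node (.node (.node (.node (.node (.node (.node (.node (.node (.node (.node (.node (.node (.node (.node (.node (.node (.node (.node (.node (.node (.node (.node (.node (.node (.node (.node (.node (.node (.node (.node (.node (.node (.node (.leaf (nat_lit 52)) (.leaf (nat_lit 133))) (.leaf (nat_lit 0))) (.leaf (nat_lit 0))) (.leaf (nat_lit 0))) (.leaf (nat_lit 0))) (.leaf (nat_lit 0))) (.leaf (nat_lit 0))) (.leaf (nat_lit 0))) (.leaf (nat_lit 0))) (.leaf (nat_lit 0))) (.leaf (nat_lit 0))) (.leaf (nat_lit 0))) (.leaf (nat_lit 0))) (.leaf (nat_lit 0))) (.leaf (nat_lit 0))) (.leaf (nat_lit 0))) (.leaf (nat_lit 0))) (.leaf (nat_lit 0))) (.leaf (nat_lit 0))) (.leaf (nat_lit 0))) (.leaf (nat_lit 0))) (.leaf (nat_lit 0))) (.leaf (nat_lit 0))) (.leaf (nat_lit 0))) (.leaf (nat_lit 0))) (.leaf (nat_lit 0))) (.leaf (nat_lit 0))) (.leaf (nat_lit 0))) (.leaf (nat_lit 0))) (.leaf (nat_lit 0))) (.leaf (nat_lit 0))) (.leaf (nat_lit 0))) (.leaf (nat_lit 0))) (.leaf (nat_lit 0))) (.leaf (nat_lit 0))) (.leaf (nat_lit 0))) (.leaf (nat_lit 0))) (.leaf (nat_lit 0))) (.leaf (nat_lit 0))) (.leaf (nat_lit 0))) (.leaf (nat_lit 0))) (.leaf (nat_lit 0))) (.leaf (nat_lit 0))) (.leaf (nat_lit 169))) (.leaf (nat_lit 186))) (.leaf (nat_lit 0))) (.leaf (nat_lit 0))) (.leaf (nat_lit 0))) (.leaf (nat_lit 0))) (.leaf (nat_lit 0))) (.leaf (nat_lit 0))) (.leaf (nat_lit 0))) (.leaf (nat_lit 0))) (.leaf (nat_lit 0))) (.leaf (nat_lit 0))) (.leaf (nat_lit 0))) (.leaf (nat_lit 0))) (.leaf (nat_lit 0))) (.leaf (nat_lit 0))) (.leaf (nat_lit 0))) (.leaf (nat_lit 0))) (.leaf (nat_lit 0))) (.leaf (nat_lit 0))) (.leaf (nat_lit 0))) (.leaf (nat_lit 0))) (.leaf (nat_lit 0))) (.leaf (nat_lit 0))) (.leaf (nat_lit 0))) (.leaf (nat_lit 0))) (.leaf (nat_lit 0))) (.leaf (nat_lit 0))) (.leaf (nat_lit 0))) (.leaf (nat_lit 0))) (.leaf (nat_lit 0))) (.leaf (nat_lit 0))) (.leaf (nat_lit 0)))) (.node (.node (.node (.node (.node (.node (.node (.node (.node (.node (.node (.node (.node (.node (.node (.node (.node (.node (.node (.node (.node (.node (.node (.node (.node (.node (.node (.node (.node (.node (.node (.node (.node (.node (.node (.node (.node (.node (.node (.node (.node (.node (.node (.node (.node (.node (.node (.node (.node (.node (.node (.node (.node (.node (.node (.node (.node (.node (.node (.node (.node (.node (.node (.node (.node (.node (.node (.node (.node (.node (.node (.node (.node (.node (.node (.node (.node (.leaf (nat_lit 57)) (.leaf (nat_lit 181))) (.leaf (nat_lit 0))) (.leaf (nat_lit 0))) (.leaf (nat_lit 0))) (.leaf (nat_lit 0))) (.leaf (nat_lit 0))) (.leaf (nat_lit 0))) (.leaf (nat_lit 0))) (.leaf (nat_lit 0))) (.leaf (nat_lit 0))) (.leaf (nat_lit 0))) (.leaf (nat_lit 0))) (.leaf (nat_lit 0))) (.leaf (nat_lit 0))) (.leaf (nat_lit 0))) (.leaf (nat_lit 0))) (.leaf (nat_lit 0))) (.leaf (nat_lit 0))) (.leaf (nat_lit 0))) (.leaf (nat_lit 0))) (.leaf (nat_lit 0))) (.leaf (nat_lit 0))) (.leaf (nat_lit 0))) (.leaf (nat_lit 0))) (.leaf (nat_lit 0))) (.leaf (nat_lit 0))) (.leaf (nat_lit 0))) (.leaf (nat_lit 0))) (.leaf (nat_lit 0))) (.leaf (nat_lit 0))) (.leaf (nat_lit 0))) (.leaf (nat_lit 0))) (.leaf (nat_lit 0))) (.leaf (nat_lit 0))) (.leaf (nat_lit 0))) (.leaf (nat_lit 0))) (.leaf (nat_lit 0))) (.leaf (nat_lit 0))) (.leaf (nat_lit 0))) (.leaf (nat_lit 0))) (.leaf (nat_lit 0))) (.leaf (nat_lit 0))) (.leaf (nat_lit 0))) (.leaf (nat_lit 150))) (.leaf (nat_lit 88))) (.leaf (nat_lit 0))) (.leaf (nat_lit 0))) (.leaf (nat_lit 0))) (.leaf (nat_lit 0))) (.leaf (nat_lit 0))) (.leaf (nat_lit 0))) (.leaf (nat_lit 0))) (.leaf (nat_lit 0))) (.leaf (nat_lit 0))) (.leaf (nat_lit 0))) (.leaf (nat_lit 0))) (.leaf (nat_lit 0))) (.leaf (nat_lit 0))) (.leaf (nat_lit 0))) (.leaf (nat_lit 0))) (.leaf (nat_lit 0))) (.leaf (nat_lit 0))) (.leaf (nat_lit 0))) (.leaf (nat_lit 0))) (.leaf (nat_lit 0))) (.leaf (nat_lit 0))) (.leaf (nat_lit 0))) (.leaf (nat_lit 0))) (.leaf (nat_lit 0))) (.leaf (nat_lit 0))) (.leaf (nat_lit 0))) (.leaf (nat_lit 0))) (.leaf (nat_lit 0))) (.leaf (nat_lit 0))) (.leaf (nat_lit 0))) (.leaf (nat_lit 0))) (.leaf (nat_lit 0)))) (.leaf (nat_lit 0))) (.leaf (nat_lit 0))) (.leaf (nat_lit 0))) (.leaf (nat_lit 0))) (.leaf (nat_lit 0))) (.leaf (nat_lit 0))) (.leaf (nat_lit 0))) (.leaf (nat_lit 0))) (.leaf (nat_lit 0))) (.node (.node (.node (.node (.node (.node (.node (.node (.node (.node (.node (.node (.node (.node (.node (.node (.node (.node (.node (.node (.node (.node (.node (.node (.node (.node (.node (.node (.node (.node (.node (.node (.node (.node (.node (.node (.node (.node (.node (.node (.node (.node (.node (.node (.node (.node (.node (.node (.node (.node (.node (.node (.node (.node (.node (.node (.node (.node (.node (.node (.node (.node (.node (.node (.node (.node (.node (.node (.node (.node (.node (.node (.node (.node (.node (.node (.node (.node (.node (.node (.node (.node (.node (.node (.node (.node (.node (.node (.node (.node (.node (.node (.node (.node (.node (.node (.node (.node (.leaf (nat_lit 47)) (.leaf (nat_lit 192))) (.leaf (nat_lit 0))) (.leaf (nat_lit 0))) (.leaf (nat_lit 0))) (.leaf (nat_lit 0))) (.leaf (nat_lit 0))) (.leaf (nat_lit 0))) (.leaf (nat_lit 0))) (.leaf (nat_lit 0))) (.leaf (nat_lit 0))) (.leaf (nat_lit 0))) (.leaf (nat_lit 0))) (.leaf (nat_lit 0))) (.leaf (nat_lit 0))) (.leaf (nat_lit 0))) (.leaf (nat_lit 0))) (.leaf (nat_lit 0))) (.leaf (nat_lit 0))) (.leaf (nat_lit 0))) (.leaf (nat_lit 0))) (.leaf (nat_lit 0))) (.leaf (nat_lit 0))) (.leaf (nat_lit 0))) (.leaf (nat_lit 0))) (.leaf (nat_lit 0))) (.leaf (nat_lit 0))) (.leaf (nat_lit 0))) (.leaf (nat_lit 0))) (.leaf (nat_lit 0))) (.leaf (nat_lit 0))) (.leaf (nat_lit 0))) (.leaf (nat_lit 0))) (.leaf (nat_lit 0))) (.leaf (nat_lit 0))) (.leaf (nat_lit 0))) (.leaf (nat_lit 0))) (.leaf (nat_lit 0))) (.leaf (nat_lit 0))) (.leaf (nat_lit 0))) (.leaf (nat_lit 0))) (.leaf (nat_lit 0))) (.leaf (nat_lit 0))) (.leaf (nat_lit 0))) (.leaf (nat_lit 0))) (.leaf (nat_lit 0))) (.leaf (nat_lit 0))) (.leaf (nat_lit 0))) (.leaf (nat_lit 0))) (.leaf (nat_lit 0))) (.leaf (nat_lit 0))) (.leaf (nat_lit 0))) (.leaf (nat_lit 0))) (.leaf (nat_lit 0))) (.leaf (nat_lit 0))) (.leaf (nat_lit 51))) (.leaf (nat_lit 185))) (.leaf (nat_lit 0))) (.leaf (nat_lit 0))) (.leaf (nat_lit 0))) (.leaf (nat_lit 0))) (.leaf (nat_lit 0))) (.leaf (nat_lit 0))) (.leaf (nat_lit 0))) (.leaf (nat_lit 0))) (.leaf (nat_lit 0))) (.leaf (nat_lit 0))) (.leaf (nat_lit 0))) (.leaf (nat_lit 0))) (.leaf (nat_lit 0))) (.leaf (nat_lit 0))) (.leaf (nat_lit 0))) (.leaf (nat_lit 0))) (.leaf (nat_lit 0))) (.leaf (nat_lit 0))) (.leaf (nat_lit 0))) (.leaf (nat_lit 0))) (.leaf (nat_lit 0))) (.leaf (nat_lit 0))) (.leaf (nat_lit 0))) (.leaf (nat_lit 0))) (.leaf (nat_lit 0))) (.leaf (nat_lit 0))) (.leaf (nat_lit 0))) (.leaf (nat_lit 0))) (.leaf (nat_lit 0))) (.leaf (nat_lit 0))) (.leaf (nat_lit 0))) (.leaf (nat_lit 0))) (.leaf (nat_lit 0))) (.leaf (nat_lit 0))) (.leaf (nat_lit 0))) (.leaf (nat_lit 0))) (.leaf (nat_lit 0))) (.leaf (nat_lit 0))) (.leaf (nat_lit 0))) (.leaf (nat_lit 0))) (.leaf (nat_lit 0))) (.leaf (nat_lit 0)))) (.node (.node (.node (.node (.node (.node (.node (.node (.node (.node (.node (.node (.node (.node (.node (.node (.node (.node (.node (.node (.node (.node (.node (.node (.node (.node (.node (.node (.node (.node (.node (.node (.node (.node (.node (.node (.node (.node (.node (.node (.node (.node (.node (.node (.node (.node (.node (.node (.node (.node (.node (.node (.node (.node (.node (.node (.node (.node (.node (.node (.node (.node (.node (.node (.node (.node (.node (.node (.node (.node (.node (.node (.node (.node (.node (.node (.node (.node (.node (.node (.node (.node (.node (.node (.node (.node (.node (.node (.node (.node (.node (.node (.node (.node (.node (.node (.node (.node (.node (.leaf (nat_lit 37)) (.leaf (nat_lit 1))) (.leaf (nat_lit 0))) (.leaf (nat_lit 0))) (.leaf (nat_lit 0))) (.leaf (nat_lit 0))) (.leaf (nat_lit 0))) (.leaf (nat_lit 0))) (.leaf (nat_lit 0))) (.leaf (nat_lit 0))) (.leaf (nat_lit 0))) (.leaf (nat_lit 0))) (.leaf (nat_lit 0))) (.leaf (nat_lit 0))) (.leaf (nat_lit 0))) (.leaf (nat_lit 0))) (.leaf (nat_lit 0))) (.leaf (nat_lit 0))) (.leaf (nat_lit 0))) (.leaf (nat_lit 0))) (.leaf (nat_lit 0))) (.leaf (nat_lit 0))) (.leaf (nat_lit 0))) (.leaf (nat_lit 0))) (.leaf (nat_lit 0))) (.leaf (nat_lit 0))) (.leaf (nat_lit 0))) (.leaf (nat_lit 0))) (.leaf (nat_lit 0))) (.leaf (nat_lit 0))) (.leaf (nat_lit 0))) (.leaf (nat_lit 0))) (.leaf (nat_lit 0))) (.leaf (nat_lit 0))) (.leaf (nat_lit 0))) (.leaf (nat_lit 0))) (.leaf (nat_lit 0))) (.leaf (nat_lit 0))) (.leaf (nat_lit 0))) (.leaf (nat_lit 0))) (.leaf (nat_lit 0))) (.leaf (nat_lit 0))) (.leaf (nat_lit 0))) (.leaf (nat_lit 0))) (.leaf (nat_lit 0))) (.leaf (nat_lit 0))) (.leaf (nat_lit 0))) (.leaf (nat_lit 0))) (.leaf (nat_lit 0))) (.leaf (nat_lit 0))) (.leaf (nat_lit 0))) (.leaf (nat_lit 0))) (.leaf (nat_lit 0))) (.leaf (nat_lit 0))) (.leaf (nat_lit 0))) (.leaf (nat_lit 109))) (.leaf (nat_lit 92))) (.leaf (nat_lit 0))) (.leaf (nat_lit 0))) (.leaf (nat_lit 0))) (.leaf (nat_lit 0))) (.leaf (nat_lit 0))) (.leaf (nat_lit 0))) (.leaf (nat_lit 0))) (.leaf (nat_lit 0))) (.leaf (nat_lit 0))) (.leaf (nat_lit 0))) (.leaf (nat_lit 0))) (.leaf (nat_lit 0))) (.leaf (nat_lit 0))) (.leaf (nat_lit 0))) (.leaf (nat_lit 0))) (.leaf (nat_lit 0))) (.leaf (nat_lit 0))) (.leaf (nat_lit 0))) (.leaf (nat_lit 0))) (.leaf (nat_lit 0))) (.leaf (nat_lit 0))) (.leaf (nat_lit 0))) (.leaf (nat_lit 0))) (.leaf (nat_lit 0))) (.leaf (nat_lit 0))) (.leaf (nat_lit 0))) (.leaf (nat_lit 0))) (.leaf (nat_lit 0))) (.leaf (nat_lit 0))) (.leaf (nat_lit 0))) (.leaf (nat_lit 0))) (.leaf (nat_lit 0))) (.leaf (nat_lit 0))) (.leaf (nat_lit 0))) (.leaf (nat_lit 0))) (.leaf (nat_lit 0))) (.leaf (nat_lit 0))) (.leaf (nat_lit 0))) (.leaf (nat_lit 0))) (.leaf (nat_lit 0))) (.leaf (nat_lit 0))) (.leaf (nat_lit 0))) (.leaf (nat_lit 0)))) (.leaf (nat_lit 0))) (.leaf (nat_lit 0))) (.leaf (nat_lit 0))) (.leaf (nat_lit 0))) (.leaf (nat_lit 0))) (.leaf (nat_lit 0))) (.leaf (nat_lit 0))) (.leaf (nat_lit 0))) (.leaf (nat_lit 0))) (.node (.node (.node (.node (.node (.node (.node (.node (.node (.node (.node (.node (.node (.node (.node (.node (.node (.node (.node (.node (.node (.node (.node (.node (.node (.node (.node (.node (.node (.node (.node (.node (.node (.node (.node (.node (.node (.node (.node (.node (.node (.node (.node (.node (.node (.node (.node (.node (.node (.node (.node (.node (.node (.node (.node (.node (.node (.node (.node (.node (.node (.node (.node (.node (.node (.leaf (nat_lit 24)) (.leaf (nat_lit 188))) (.leaf (nat_lit 0))) (.leaf (nat_lit 0))) (.leaf (nat_lit 0))) (.leaf (nat_lit 0))) (.leaf (nat_lit 0))) (.leaf (nat_lit 0))) (.leaf (nat_lit 0))) (.leaf (nat_lit 0))) (.leaf (nat_lit 0))) (.leaf (nat_lit 80))) (.leaf (nat_lit 32))) (.leaf (nat_lit 0))) (.leaf (nat_lit 0))) (.leaf (nat_lit 0))) (.leaf (nat_lit 0))) (.leaf (nat_lit 0))) (.leaf (nat_lit 0))) (.leaf (nat_lit 0))) (.leaf (nat_lit 0))) (.leaf (nat_lit 0))) (.leaf (nat_lit 0))) (.leaf (nat_lit 0))) (.leaf (nat_lit 0))) (.leaf (nat_lit 0))) (.leaf (nat_lit 0))) (.leaf (nat_lit 0))) (.leaf (nat_lit 0))) (.leaf (nat_lit 0))) (.leaf (nat_lit 0))) (.leaf (nat_lit 0))) (.leaf (nat_lit 0))) (.leaf (nat_lit 0))) (.leaf (nat_lit 0))) (.leaf (nat_lit 0))) (.leaf (nat_lit 0))) (.leaf (nat_lit 0))) (.leaf (nat_lit 0))) (.leaf (nat_lit 0))) (.leaf (nat_lit 0))) (.leaf (nat_lit 0))) (.leaf (nat_lit 0))) (.leaf (nat_lit 0))) (.leaf (nat_lit 0))) (.leaf (nat_lit 0))) (.leaf (nat_lit 0))) (.leaf (nat_lit 0))) (.leaf (nat_lit 0))) (.leaf (nat_lit 0))) (.leaf (nat_lit 0))) (.leaf (nat_lit 0))) (.leaf (nat_lit 0))) (.leaf (nat_lit 0))) (.leaf (nat_lit 0))) (.leaf (nat_lit 0))) (.leaf (nat_lit 0))) (.leaf (nat_lit 0))) (.leaf (nat_lit 0))) (.leaf (nat_lit 0))) (.leaf (nat_lit 0))) (.leaf (nat_lit 0))) (.leaf (nat_lit 0))) (.leaf (nat_lit 0))) (.leaf (nat_lit 0))) (.leaf (nat_lit 0)))) (.node (.node (.node (.node (.node (.node (.node (.node (.node (.node (.node (.node (.node (.node (.node (.node (.node (.node (.node (.node (.node (.node (.node (.node (.node (.node (.node (.node (.node (.node (.node (.node (.node (.node (.node (.node (.node (.node (.node (.node (.node (.node (.node (.node (.node (.node (.node (.node (.node (.node (.node (.node (.node (.node (.node (.node (.node (.node (.node (.node (.node (.node (.node (.node (.node (.node (.leaf (nat_lit 145)) (.leaf (nat_lit 55))) (.leaf (nat_lit 0))) (.leaf (nat_lit 0))) (.leaf (nat_lit 0))) (.leaf (nat_lit 0))) (.leaf (nat_lit 0))) (.leaf (nat_lit 0))) (.leaf (nat_lit 0))) (.leaf (nat_lit 0))) (.leaf (nat_lit 0))) (.leaf (nat_lit 108))) (.leaf (nat_lit 164))) (.leaf (nat_lit 0))) (.leaf (nat_lit 0))) (.leaf (nat_lit 0))) (.leaf (nat_lit 0))) (.leaf (nat_lit 0))) (.leaf (nat_lit 0))) (.leaf (nat_lit 0))) (.leaf (nat_lit 0))) (.leaf (nat_lit 0))) (.leaf (nat_lit 0))) (.leaf (nat_lit 0))) (.leaf (nat_lit 0))) (.leaf (nat_lit 0))) (.leaf (nat_lit 0))) (.leaf (nat_lit 0))) (.leaf (nat_lit 0))) (.leaf (nat_lit 0))) (.leaf (nat_lit 0))) (.leaf (nat_lit 0))) (.leaf (nat_lit 0))) (.leaf (nat_lit 0))) (.leaf (nat_lit 0))) (.leaf (nat_lit 0))) (.leaf (nat_lit 0))) (.leaf (nat_lit 0))) (.leaf (nat_lit 0))) (.leaf (nat_lit 0))) (.leaf (nat_lit 0))) (.leaf (nat_lit 0))) (.leaf (nat_lit 0))) (.leaf (nat_lit 0))) (.leaf (nat_lit 0))) (.leaf (nat_lit 0))) (.leaf (nat_lit 0))) (.leaf (nat_lit 0))) (.leaf (nat_lit 0))) (.leaf (nat_lit 0))) (.leaf (nat_lit 0))) (.leaf (nat_lit 0))) (.leaf (nat_lit 0))) (.leaf (nat_lit 0))) (.leaf (nat_lit 0))) (.leaf (nat_lit 0))) (.leaf (nat_lit 0))) (.leaf (nat_lit 0))) (.leaf (nat_lit 0))) (.leaf (nat_lit 0))) (.leaf (nat_lit 0))) (.leaf (nat_lit 0))) (.leaf (nat_lit 0))) (.leaf (nat_lit 0))) (.leaf (nat_lit 0))) (.leaf (nat_lit 0))) (.leaf (nat_lit 0)))) (.leaf (nat_lit 0))) (.leaf (nat_lit 0))) (.leaf (nat_lit 0))) (.leaf (nat_lit 0))) (.leaf (nat_lit 0))) (.leaf (nat_lit 0))) (.leaf (nat_lit 0))) (.leaf (nat_lit 0))) (.leaf (nat_lit 0))) (.node (.node (.node (.node (.node (.node (.node (.node (.node (.node (.node (.node (.node (.node (.node (.node (.node (.node (.node (.node (.node (.node (.node (.node (.node (.node (.node (.node (.node (.node (.node (.node (.node (.node (.node (.node (.node (.node (.node (.node (.node (.node (.node (.node (.node (.node (.node (.node (.node (.node (.node (.node (.node (.node (.node (.node (.node (.node (.node (.node (.node (.node (.node (.node (.node (.node (.node (.node (.node (.node (.node (.node (.node (.node (.node (.node (.node (.node (.node (.node (.node (.node (.node (.node (.node (.node (.node (.node (.node (.node (.node (.node (.node (.node (.node (.node (.node (.node (.node (.node (.node (.node (.node (.node (.node (.node (.node (.node (.node (.node (.node (.node (.node (.node (.node (.node (.node (.node (.node (.node (.node (.node (.node (.node (.node (.node (.node (.node (.node (.node (.node (.leaf (nat_lit 35)) (.leaf (nat_lit 64))) (.leaf (nat_lit 0))) (.leaf (nat_lit 0))) (.leaf (nat_lit 0))) (.leaf (nat_lit 0))) (.leaf (nat_lit 0))) (.leaf (nat_lit 0))) (.leaf (nat_lit 0))) (.leaf (nat_lit 0))) (.leaf (nat_lit 0))) (.leaf (nat_lit 0))) (.leaf (nat_lit 0))) (.leaf (nat_lit 0))) (.leaf (nat_lit 0))) (.leaf (nat_lit 0))) (.leaf (nat_lit 0))) (.leaf (nat_lit 0))) (.leaf (nat_lit 0))) (.leaf (nat_lit 0))) (.leaf (nat_lit 0))) (.leaf (nat_lit 0))) (.leaf (nat_lit 0))) (.leaf (nat_lit 0))) (.leaf (nat_lit 0))) (.leaf (nat_lit 0))) (.leaf (nat_lit 0))) (.leaf (nat_lit 0))) (.leaf (nat_lit 0))) (.leaf (nat_lit 0))) (.leaf (nat_lit 0))) (.leaf (nat_lit 0))) (.leaf (nat_lit 0))) (.leaf (nat_lit 0))) (.leaf (nat_lit 0))) (.leaf (nat_lit 0))) (.leaf (nat_lit 0))) (.leaf (nat_lit 0))) (.leaf (nat_lit 0))) (.leaf (nat_lit 0))) (.leaf (nat_lit 0))) (.leaf (nat_lit 0))) (.leaf (nat_lit 0))) (.leaf (nat_lit 0))) (.leaf (nat_lit 0))) (.leaf (nat_lit 0))) (.leaf (nat_lit 0))) (.leaf (nat_lit 0))) (.leaf (nat_lit 0))) (.leaf (nat_lit 0))) (.leaf (nat_lit 0))) (.leaf (nat_lit 0))) (.leaf (nat_lit 0))) (.leaf (nat_lit 0))) (.leaf (nat_lit 0))) (.leaf (nat_lit 0))) (.leaf (nat_lit 0))) (.leaf (nat_lit 0))) (.leaf (nat_lit 0))) (.leaf (nat_lit 0))) (.leaf (nat_lit 0))) (.leaf (nat_lit 0))) (.leaf (nat_lit 0))) (.leaf (nat_lit 0))) (.leaf (nat_lit 0))) (.leaf (nat_lit 0))) (.leaf (nat_lit 205))) (.leaf (nat_lit 146))) (.leaf (nat_lit 0))) (.leaf (nat_lit 0))) (.leaf (nat_lit 0))) (.leaf (nat_lit 0))) (.leaf (nat_lit 0))) (.leaf (nat_lit 0))) (.leaf (nat_lit 0))) (.leaf (nat_lit 0))) (.leaf (nat_lit 0))) (.leaf (nat_lit 0))) (.leaf (nat_lit 0))) (.leaf (nat_lit 0))) (.leaf (nat_lit 0))) (.leaf (nat_lit 0))) (.leaf (nat_lit 0))) (.leaf (nat_lit 0))) (.leaf (nat_lit 0))) (.leaf (nat_lit 0))) (.leaf (nat_lit 0))) (.leaf (nat_lit 0))) (.leaf (nat_lit 0))) (.leaf (nat_lit 0))) (.leaf (nat_lit 0))) (.leaf (nat_lit 0))) (.leaf (nat_lit 0))) (.leaf (nat_lit 0))) (.leaf (nat_lit 0))) (.leaf (nat_lit 0))) (.leaf (nat_lit 0))) (.leaf (nat_lit 0))) (.leaf (nat_lit 0))) (.leaf (nat_lit 0))) (.leaf (nat_lit 0))) (.leaf (nat_lit 0))) (.leaf (nat_lit 0))) (.leaf (nat_lit 0))) (.leaf (nat_lit 0))) (.leaf (nat_lit 0))) (.leaf (nat_lit 0))) (.leaf (nat_lit 0))) (.leaf (nat_lit 0))) (.leaf (nat_lit 0))) (.node (.node (.node (.node (.node (.node (.node (.node (.node (.node (.node (.leaf (nat_lit 0)) (.node (.node (.node (.node (.node (.node (.node (.node (.node (.node (.leaf (nat_lit 126)) (.node (.node (.node (.node (.node (.node (.node (.node (.node (.node (.node (.node (.node (.node (.node (.node (.node (.node (.node (.node (.node (.node (.node (.node (.node (.node (.node (.node (.node (.node (.node (.node (.node (.node (.node (.node (.node (.node (.node (.node (.node (.node (.node (.node (.node (.leaf (nat_lit 0)) (.node (.node (.node (.node (.node (.node (.node (.node (.node (.node (.node (.node (.node (.node (.node (.node (.node (.node (.node (.node (.node (.leaf (nat_lit 0)) (.node (.node (.node (.node (.node (.node (.node (.node (.node (.node (.node (.leaf (nat_lit 0)) (.node (.node (.node (.node (.node (.node (.node (.node (.node (.node (.node (.leaf (nat_lit 0)) (.node (.node (.node (.node (.node (.node (.node (.node (.node (.node (.node (.node (.node (.node (.node (.node (.node (.node (.node (.node (.node (.node (.node (.node (.node (.node (.node (.node (.node (.node (.node (.node (.node (.node (.node (.node (.node (.node (.node (.node (.node (.node (.node (.node (.leaf (nat_lit 203)) (.leaf (nat_lit 103))) (.leaf (nat_lit 0))) (.leaf (nat_lit 0))) (.leaf (nat_lit 0))) (.leaf (nat_lit 0))) (.leaf (nat_lit 0))) (.leaf (nat_lit 0))) (.leaf (nat_lit 0))) (.leaf (nat_lit 0))) (.leaf (nat_lit 0))) (.leaf (nat_lit 0))) (.leaf (nat_lit 0))) (.leaf (nat_lit 0))) (.leaf (nat_lit 0))) (.leaf (nat_lit 0))) (.leaf (nat_lit 0))) (.leaf (nat_lit 0))) (.leaf (nat_lit 0))) (.leaf (nat_lit 0))) (.leaf (nat_lit 0))) (.leaf (nat_lit 0))) (.leaf (nat_lit 0))) (.leaf (nat_lit 0))) (.leaf (nat_lit 0))) (.leaf (nat_lit 0))) (.leaf (nat_lit 0))) (.leaf (nat_lit 0))) (.leaf (nat_lit 0))) (.leaf (nat_lit 0))) (.leaf (nat_lit 0))) (.leaf (nat_lit 0))) (.leaf (nat_lit 0))) (.leaf (nat_lit 0))) (.leaf (nat_lit 0))) (.leaf (nat_lit 0))) (.leaf (nat_lit 0))) (.leaf (nat_lit 0))) (.leaf (nat_lit 0))) (.leaf (nat_lit 0))) (.leaf (nat_lit 0))) (.leaf (nat_lit 0))) (.leaf (nat_lit 0))) (.leaf (nat_lit 0))) (.leaf (nat_lit 0)))) (.leaf (nat_lit 0))) (.leaf (nat_lit 0))) (.leaf (nat_lit 0))) (.leaf (nat_lit 0))) (.leaf (nat_lit 0))) (.leaf (nat_lit 0))) (.leaf (nat_lit 0))) (.leaf (nat_lit 0))) (.leaf (nat_lit 0))) (.leaf (nat_lit 0)))) (.leaf (nat_lit 0))) (.leaf (nat_lit 0))) (.leaf (nat_lit 0))) (.leaf (nat_lit 0))) (.leaf (nat_lit 0))) (.leaf (nat_lit 0))) (.leaf (nat_lit 0))) (.leaf (nat_lit 0))) (.leaf (nat_lit 0))) (.leaf (nat_lit 0)))) (.leaf (nat_lit 0))) (.leaf (nat_lit 0))) (.leaf (nat_lit 0))) (.leaf (nat_lit 0))) (.leaf (nat_lit 0))) (.leaf (nat_lit 0))) (.leaf (nat_lit 0))) (.leaf (nat_lit 0))) (.leaf (nat_lit 0))) (.leaf (nat_lit 0))) (.leaf (nat_lit 0))) (.leaf (nat_lit 0))) (.leaf (nat_lit 0))) (.leaf (nat_lit 0))) (.leaf (nat_lit 0))) (.leaf (nat_lit 0))) (.leaf (nat_lit 0))) (.leaf (nat_lit 0))) (.leaf (nat_lit 0))) (.leaf (nat_lit 0)))) (.node (.node (.node (.node (.node (.node (.node (.node (.node (.node (.node (.node (.node (.node (.node (.node (.node (.node (.node (.node (.node (.node (.node (.leaf (nat_lit 0)) (.node (.node (.node (.node (.node (.node (.node (.node (.node (.node (.node (.leaf (nat_lit 0)) (.node (.node (.node (.node (.node (.node (.node (.node (.node (.node (.node (.leaf (nat_lit 0)) (.node (.node (.node (.node (.node (.node (.node (.node (.node (.node (.node (.node (.node (.node (.node (.node (.node (.node (.node (.node (.node (.node (.node (.node (.node (.node (.node (.node (.node (.node (.node (.node (.node (.node (.node (.node (.node (.node (.node (.node (.node (.node (.node (.leaf (nat_lit 134)) (.leaf (nat_lit 2))) (.leaf (nat_lit 0))) (.leaf (nat_lit 0))) (.leaf (nat_lit 0))) (.leaf (nat_lit 0))) (.leaf (nat_lit 0))) (.leaf (nat_lit 0))) (.leaf (nat_lit 0))) (.leaf (nat_lit 0))) (.leaf (nat_lit 0))) (.leaf (nat_lit 0))) (.leaf (nat_lit 0))) (.leaf (nat_lit 0))) (.leaf (nat_lit 0))) (.leaf (nat_lit 0))) (.leaf (nat_lit 0))) (.leaf (nat_lit 0))) (.leaf (nat_lit 0))) (.leaf (nat_lit 0))) (.leaf (nat_lit 0))) (.leaf (nat_lit 0))) (.leaf (nat_lit 0))) (.leaf (nat_lit 0))) (.leaf (nat_lit 0))) (.leaf (nat_lit 0))) (.leaf (nat_lit 0))) (.leaf (nat_lit 0))) (.leaf (nat_lit 0))) (.leaf (nat_lit 0))) (.leaf (nat_lit 0))) (.leaf (nat_lit 0))) (.leaf (nat_lit 0))) (.leaf (nat_lit 0))) (.leaf (nat_lit 0))) (.leaf (nat_lit 0))) (.leaf (nat_lit 0))) (.leaf (nat_lit 0))) (.leaf (nat_lit 0))) (.leaf (nat_lit 0))) (.leaf (nat_lit 0))) (.leaf (nat_lit 0))) (.leaf (nat_lit 0))) (.leaf (nat_lit 0)))) (.leaf (nat_lit 0))) (.leaf (nat_lit 0))) (.leaf (nat_lit 0))) (.leaf (nat_lit 0))) (.leaf (nat_lit 0))) (.leaf (nat_lit 0))) (.leaf (nat_lit 0))) (.leaf (nat_lit 0))) (.leaf (nat_lit 0))) (.leaf (nat_lit 0)))) (.leaf (nat_lit 0))) (.leaf (nat_lit 0))) (.leaf (nat_lit 0))) (.leaf (nat_lit 0))) (.leaf (nat_lit 0))) (.leaf (nat_lit 0))) (.leaf (nat_lit 0))) (.leaf (nat_lit 0))) (.leaf (nat_lit 0))) (.leaf (nat_lit 0)))) (.leaf (nat_lit 0))) (.leaf (nat_lit 0))) (.leaf (nat_lit 0))) (.leaf (nat_lit 0))) (.leaf (nat_lit 0))) (.leaf (nat_lit 0))) (.leaf (nat_lit 0))) (.leaf (nat_lit 0))) (.leaf (nat_lit 0))) (.leaf (nat_lit 0))) (.leaf (nat_lit 0))) (.leaf (nat_lit 0))) (.leaf (nat_lit 0))) (.leaf (nat_lit 0))) (.leaf (nat_lit 0))) (.leaf (nat_lit 0))) (.leaf (nat_lit 0))) (.leaf (nat_lit 0))) (.leaf (nat_lit 0))) (.leaf (nat_lit 0))) (.leaf (nat_lit 0))) (.leaf (nat_lit 0)))) (.leaf (nat_lit 0))) (.leaf (nat_lit 0))) (.leaf (nat_lit 0))) (.leaf (nat_lit 0))) (.leaf (nat_lit 0))) (.leaf (nat_lit 0))) (.leaf (nat_lit 0))) (.leaf (nat_lit 0))) (.leaf (nat_lit 0))) (.leaf (nat_lit 0))) (.leaf (nat_lit 0))) (.leaf (nat_lit 0))) (.leaf (nat_lit 0))) (.leaf (nat_lit 0))) (.leaf (nat_lit 0))) (.leaf (nat_lit 0))) (.leaf (nat_lit 0))) (.leaf (nat_lit 0))) (.leaf (nat_lit 0))) (.leaf (nat_lit 0))) (.leaf (nat_lit 0))) (.leaf (nat_lit 0))) (.leaf (nat_lit 0))) (.leaf (nat_lit 0))) (.leaf (nat_lit 0))) (.leaf (nat_lit 0))) (.leaf (nat_lit 0))) (.leaf (nat_lit 0))) (.leaf (nat_lit 0))) (.leaf (nat_lit 0))) (.leaf (nat_lit 0))) (.leaf (nat_lit 0))) (.leaf (nat_lit 0))) (.leaf (nat_lit 0))) (.leaf (nat_lit 0))) (.leaf (nat_lit 0))) (.leaf (nat_lit 0))) (.leaf (nat_lit 0))) (.leaf (nat_lit 0))) (.leaf (nat_lit 0))) (.leaf (nat_lit 0))) (.leaf (nat_lit 0))) (.leaf (nat_lit 0)))) (.leaf (nat_lit 0))) (.leaf (nat_lit 0))) (.leaf (nat_lit 0))) (.leaf (nat_lit 0))) (.leaf (nat_lit 0))) (.leaf (nat_lit 0))) (.leaf (nat_lit 0))) (.leaf (nat_lit 0))) (.leaf (nat_lit 0)))) (.leaf (nat_lit 8))) (.leaf (nat_lit 0))) (.leaf (nat_lit 0))) (.leaf (nat_lit 0))) (.leaf (nat_lit 0))) (.leaf (nat_lit 0))) (.leaf (nat_lit 0))) (.leaf (nat_lit 0))) (.leaf (nat_lit 0))) (.leaf (nat_lit 0)))) (.node (.node (.node (.node (.node (.node (.node (.node (.node (.node (.node (.leaf (nat_lit 183)) (.leaf (nat_lit 68))) (.leaf (nat_lit 0))) (.leaf (nat_lit 0))) (.leaf (nat_lit 0))) (.leaf (nat_lit 0))) (.leaf (nat_lit 0))) (.leaf (nat_lit 0))) (.leaf (nat_lit 0))) (.leaf (nat_lit 0))) (.leaf (nat_lit 0))) (.leaf (nat_lit 0)))) (.leaf (nat_lit 0))) (.leaf (nat_lit 0))) (.leaf (nat_lit 0))) (.leaf (nat_lit 0))) (.leaf (nat_lit 0))) (.leaf (nat_lit 0))) (.leaf (nat_lit 0))) (.leaf (nat_lit 0))) (.leaf (nat_lit 0))) (.leaf (nat_lit 0))) (.leaf (nat_lit 0))) (.leaf (nat_lit 0))) (.leaf (nat_lit 0))) (.leaf (nat_lit 0))) (.leaf (nat_lit 0))) (.leaf (nat_lit 0))) (.leaf (nat_lit 0))) (.leaf (nat_lit 0))) (.leaf (nat_lit 0))) (.leaf (nat_lit 0)))) (.node (.node (.node (.node (.node (.node (.node (.node (.node (.node (.node (.node (.node (.node (.node (.node (.node (.node (.node (.node (.node (.node (.node (.node (.node (.node (.node (.node (.node (.node (.node (.node (.node (.node (.node (.node (.node (.node (.node (.node (.node (.node (.node (.node (.node (.node (.node (.node (.node (.node (.node (.node (.node (.node (.node (.node (.node (.node (.node (.node (.node (.node (.node (.node (.node (.node (.node (.node (.node (.node (.node (.node (.node (.node (.node (.node (.node (.node (.node (.node (.node (.node (.node (.node (.node (.node (.node (.node (.node (.node (.node (.node (.node (.node (.node (.node (.node (.node (.node (.node (.node (.node (.node (.node (.node (.node (.node (.node (.node (.node (.node (.node (.node (.node (.node (.node (.node (.node (.node (.node (.node (.node (.node (.node (.node (.node (.node (.node (.node (.node (.node (.node (.leaf (nat_lit 178)) (.leaf (nat_lit 6))) (.leaf (nat_lit 0))) (.leaf (nat_lit 0))) (.leaf (nat_lit 0))) (.leaf (nat_lit 0))) (.leaf (nat_lit 0))) (.leaf (nat_lit 0))) (.leaf (nat_lit 0))) (.leaf (nat_lit 0))) (.leaf (nat_lit 0))) (.leaf (nat_lit 0))) (.leaf (nat_lit 0))) (.leaf (nat_lit 0))) (.leaf (nat_lit 0))) (.leaf (nat_lit 0))) (.leaf (nat_lit 0))) (.leaf (nat_lit 0))) (.leaf (nat_lit 0))) (.leaf (nat_lit 0))) (.leaf (nat_lit 0))) (.leaf (nat_lit 0))) (.leaf (nat_lit 0))) (.leaf (nat_lit 0))) (.leaf (nat_lit 0))) (.leaf (nat_lit 0))) (.leaf (nat_lit 0))) (.leaf (nat_lit 0))) (.leaf (nat_lit 0))) (.leaf (nat_lit 0))) (.leaf (nat_lit 0))) (.leaf (nat_lit 0))) (.leaf (nat_lit 0))) (.leaf (nat_lit 0))) (.leaf (nat_lit 0))) (.leaf (nat_lit 0))) (.leaf (nat_lit 0))) (.leaf (nat_lit 0))) (.leaf (nat_lit 0))) (.leaf (nat_lit 0))) (.leaf (nat_lit 0))) (.leaf (nat_lit 0))) (.leaf (nat_lit 0))) (.leaf (nat_lit 0))) (.leaf (nat_lit 0))) (.leaf (nat_lit 0))) (.leaf (nat_lit 0))) (.leaf (nat_lit 0))) (.leaf (nat_lit 0))) (.leaf (nat_lit 0))) (.leaf (nat_lit 0))) (.leaf (nat_lit 0))) (.leaf (nat_lit 0))) (.leaf (nat_lit 0))) (.leaf (nat_lit 0))) (.leaf (nat_lit 0))) (.leaf (nat_lit 0))) (.leaf (nat_lit 0))) (.leaf (nat_lit 0))) (.leaf (nat_lit 0))) (.leaf (nat_lit 0))) (.leaf (nat_lit 0))) (.leaf (nat_lit 0))) (.leaf (nat_lit 0))) (.leaf (nat_lit 0))) (.leaf (nat_lit 0))) (.leaf (nat_lit 45))) (.leaf (nat_lit 193))) (.leaf (nat_lit 0))) (.leaf (nat_lit 0))) (.leaf (nat_lit 0))) (.leaf (nat_lit 0))) (.leaf (nat_lit 0))) (.leaf (nat_lit 0))) (.leaf (nat_lit 0))) (.leaf (nat_lit 0))) (.leaf (nat_lit 0))) (.leaf (nat_lit 0))) (.leaf (nat_lit 0))) (.leaf (nat_lit 0))) (.leaf (nat_lit 0))) (.leaf (nat_lit 0))) (.leaf (nat_lit 0))) (.leaf (nat_lit 0))) (.leaf (nat_lit 0))) (.leaf (nat_lit 0))) (.leaf (nat_lit 0))) (.leaf (nat_lit 0))) (.leaf (nat_lit 0))) (.leaf (nat_lit 0))) (.leaf (nat_lit 0))) (.leaf (nat_lit 0))) (.leaf (nat_lit 0))) (.leaf (nat_lit 0))) (.leaf (nat_lit 0))) (.leaf (nat_lit 0))) (.leaf (nat_lit 0))) (.leaf (nat_lit 0))) (.leaf (nat_lit 0))) (.leaf (nat_lit 0))) (.leaf (nat_lit 0))) (.leaf (nat_lit 0))) (.leaf (nat_lit 0))) (.leaf (nat_lit 0))) (.leaf (nat_lit 0))) (.leaf (nat_lit 0))) (.leaf (nat_lit 0))) (.leaf (nat_lit 0))) (.leaf (nat_lit 0))) (.leaf (nat_lit 0))) (.node (.node (.node (.node (.node (.node (.node (.node (.node (.node (.leaf (nat_lit 34)) (.leaf (nat_lit 120))) (.leaf (nat_lit 0))) (.leaf (nat_lit 0))) (.leaf (nat_lit 0))) (.leaf (nat_lit 0))) (.leaf (nat_lit 0))) (.leaf (nat_lit 0))) (.leaf (nat_lit 0))) (.leaf (nat_lit 0))) (.leaf (nat_lit 0)))) (.node (.node (.node (.node (.node (.node (.node (.node (.node (.node (.node (.leaf (nat_lit 139)) (.node (.node (.node (.node (.node (.node (.node (.node (.node (.node (.node (.node (.leaf (nat_lit 0)) (.node (.node (.node (.node (.node (.node (.node (.node (.node (.node (.node (.node (.node (.node (.node (.node (.node (.node (.node (.node (.node (.node (.node (.node (.node (.node (.node (.node (.node (.node (.node (.node (.node (.node (.node (.node (.node (.node (.node (.node (.node (.node (.node (.node (.leaf (nat_lit 0)) (.node (.node (.node (.node (.node (.node (.node (.node (.node (.node (.node (.node (.node (.node (.node (.node (.node (.node (.node (.node (.node (.leaf (nat_lit 0)) (.node (.node (.node (.node (.node (.node (.node (.node (.node (.node (.node (.leaf (nat_lit 0)) (.node (.node (.node (.node (.node (.node (.node (.node (.node (.node (.node (.leaf (nat_lit 0)) (.node (.node (.node (.node (.node (.node (.node (.node (.node (.node (.node (.node (.node (.node (.node (.node (.node (.node (.node (.node (.node (.node (.node (.node (.node (.node (.node (.node (.node (.node (.node (.node (.node (.node (.node (.node (.node (.node (.node (.node (.node (.node (.node (.node (.leaf (nat_lit 74)) (.leaf (nat_lit 48))) (.leaf (nat_lit 0))) (.leaf (nat_lit 0))) (.leaf (nat_lit 0))) (.leaf (nat_lit 0))) (.leaf (nat_lit 0))) (.leaf (nat_lit 0))) (.leaf (nat_lit 0))) (.leaf (nat_lit 0))) (.leaf (nat_lit 0))) (.leaf (nat_lit 0))) (.leaf (nat_lit 0))) (.leaf (nat_lit 0))) (.leaf (nat_lit 0))) (.leaf (nat_lit 0))) (.leaf (nat_lit 0))) (.leaf (nat_lit 0))) (.leaf (nat_lit 0))) (.leaf (nat_lit 0))) (.leaf (nat_lit 0))) (.leaf (nat_lit 0))) (.leaf (nat_lit 0))) (.leaf (nat_lit 0))) (.leaf (nat_lit 0))) (.leaf (nat_lit 0))) (.leaf (nat_lit 0))) (.leaf (nat_lit 0))) (.leaf (nat_lit 0))) (.leaf (nat_lit 0))) (.leaf (nat_lit 0))) (.leaf (nat_lit 0))) (.leaf (nat_lit 0))) (.leaf (nat_lit 0))) (.leaf (nat_lit 0))) (.leaf (nat_lit 0))) (.leaf (nat_lit 0))) (.leaf (nat_lit 0))) (.leaf (nat_lit 0))) (.leaf (nat_lit 0))) (.leaf (nat_lit 0))) (.leaf (nat_lit 0))) (.leaf (nat_lit 0))) (.leaf (nat_lit 0))) (.leaf (nat_lit 0)))) (.leaf (nat_lit 0))) (.leaf (nat_lit 0))) (.leaf (nat_lit 0))) (.leaf (nat_lit 0))) (.leaf (nat_lit 0))) (.leaf (nat_lit 0))) (.leaf (nat_lit 0))) (.leaf (nat_lit 0))) (.leaf (nat_lit 0))) (.leaf (nat_lit 0)))) (.leaf (nat_lit 0))) (.leaf (nat_lit 0))) (.leaf (nat_lit 0))) (.leaf (nat_lit 0))) (.leaf (nat_lit 0))) (.leaf (nat_lit 0))) (.leaf (nat_lit 0))) (.leaf (nat_lit 0))) (.leaf (nat_lit 0))) (.leaf (nat_lit 0)))) (.leaf (nat_lit 0))) (.leaf (nat_lit 0))) (.leaf (nat_lit 0))) (.leaf (nat_lit 0))) (.leaf (nat_lit 0))) (.leaf (nat_lit 0))) (.leaf (nat_lit 0))) (.leaf (nat_lit 0))) (.leaf (nat_lit 0))) (.leaf (nat_lit 0))) (.leaf (nat_lit 0))) (.leaf (nat_lit 0))) (.leaf (nat_lit 0))) (.leaf (nat_lit 0))) (.leaf (nat_lit 0))) (.leaf (nat_lit 0))) (.leaf (nat_lit 0))) (.leaf (nat_lit 0))) (.leaf (nat_lit 0))) (.leaf (nat_lit 0)))) (.node (.node (.node (.node (.node (.node (.node (.node (.node (.node (.node (.node (.node (.node (.node (.node (.node (.node (.node (.node (.node (.node (.node (.leaf (nat_lit 0)) (.node (.node (.node (.node (.node (.node (.node (.node (.node (.node (.node (.leaf (nat_lit 0)) (.node (.node (.node (.node (.node (.node (.node (.node (.node (.node (.node (.leaf (nat_lit 0)) (.node (.node (.node (.node (.node (.node (.node (.node (.node (.node (.node (.node (.node (.node (.node (.node (.node (.node (.node (.node (.node (.node (.node (.node (.node (.node (.node (.node (.node (.node (.node (.node (.node (.node (.node (.node (.node (.node (.node (.node (.node (.node (.node (.leaf (nat_lit 63)) (.leaf (nat_lit 66))) (.leaf (nat_lit 0))) (.leaf (nat_lit 0))) (.leaf (nat_lit 0))) (.leaf (nat_lit 0))) (.leaf (nat_lit 0))) (.leaf (nat_lit 0))) (.leaf (nat_lit 0))) (.leaf (nat_lit 0))) (.leaf (nat_lit 0))) (.leaf (nat_lit 0))) (.leaf (nat_lit 0))) (.leaf (nat_lit 0))) (.leaf (nat_lit 0))) (.leaf (nat_lit 0))) (.leaf (nat_lit 0))) (.leaf (nat_lit 0))) (.leaf (nat_lit 0))) (.leaf (nat_lit 0))) (.leaf (nat_lit 0))) (.leaf (nat_lit 0))) (.leaf (nat_lit 0))) (.leaf (nat_lit 0))) (.leaf (nat_lit 0))) (.leaf (nat_lit 0))) (.leaf (nat_lit 0))) (.leaf (nat_lit 0))) (.leaf (nat_lit 0))) (.leaf (nat_lit 0))) (.leaf (nat_lit 0))) (.leaf (nat_lit 0))) (.leaf (nat_lit 0))) (.leaf (nat_lit 0))) (.leaf (nat_lit 0))) (.leaf (nat_lit 0))) (.leaf (nat_lit 0))) (.leaf (nat_lit 0))) (.leaf (nat_lit 0))) (.leaf (nat_lit 0))) (.leaf (nat_lit 0))) (.leaf (nat_lit 0))) (.leaf (nat_lit 0))) (.leaf (nat_lit 0)))) (.leaf (nat_lit 0))) (.leaf (nat_lit 0))) (.leaf (nat_lit 0))) (.leaf (nat_lit 0))) (.leaf (nat_lit 0))) (.leaf (nat_lit 0))) (.leaf (nat_lit 0))) (.leaf (nat_lit 0))) (.leaf (nat_lit 0))) (.leaf (nat_lit 0)))) (.leaf (nat_lit 0))) (.leaf (nat_lit 0))) (.leaf (nat_lit 0))) (.leaf (nat_lit 0))) (.leaf (nat_lit 0))) (.leaf (nat_lit 0))) (.leaf (nat_lit 0))) (.leaf (nat_lit 0))) (.leaf (nat_lit 0))) (.leaf (nat_lit 0)))) (.leaf (nat_lit 0))) (.leaf (nat_lit 0))) (.leaf (nat_lit 0))) (.leaf (nat_lit 0))) (.leaf (nat_lit 0))) (.leaf (nat_lit 0))) (.leaf (nat_lit 0))) (.leaf (nat_lit 0))) (.leaf (nat_lit 0))) (.leaf (nat_lit 0))) (.leaf (nat_lit 0))) (.leaf (nat_lit 0))) (.leaf (nat_lit 0))) (.leaf (nat_lit 0))) (.leaf (nat_lit 0))) (.leaf (nat_lit 0))) (.leaf (nat_lit 0))) (.leaf (nat_lit 0))) (.leaf (nat_lit 0))) (.leaf (nat_lit 0))) (.leaf (nat_lit 0))) (.leaf (nat_lit 0)))) (.leaf (nat_lit 0))) (.leaf (nat_lit 0))) (.leaf (nat_lit 0))) (.leaf (nat_lit 0))) (.leaf (nat_lit 0))) (.leaf (nat_lit 0))) (.leaf (nat_lit 0))) (.leaf (nat_lit 0))) (.leaf (nat_lit 0))) (.leaf (nat_lit 0))) (.leaf (nat_lit 0))) (.leaf (nat_lit 0))) (.leaf (nat_lit 0))) (.leaf (nat_lit 0))) (.leaf (nat_lit 0))) (.leaf (nat_lit 0))) (.leaf (nat_lit 0))) (.leaf (nat_lit 0))) (.leaf (nat_lit 0))) (.leaf (nat_lit 0))) (.leaf (nat_lit 0))) (.leaf (nat_lit 0))) (.leaf (nat_lit 0))) (.leaf (nat_lit 0))) (.leaf (nat_lit 0))) (.leaf (nat_lit 0))) (.leaf (nat_lit 0))) (.leaf (nat_lit 0))) (.leaf (nat_lit 0))) (.leaf (nat_lit 0))) (.leaf (nat_lit 0))) (.leaf (nat_lit 0))) (.leaf (nat_lit 0))) (.leaf (nat_lit 0))) (.leaf (nat_lit 0))) (.leaf (nat_lit 0))) (.leaf (nat_lit 0))) (.leaf (nat_lit 0))) (.leaf (nat_lit 0))) (.leaf (nat_lit 0))) (.leaf (nat_lit 0))) (.leaf (nat_lit 0)))) (.leaf (nat_lit 61))) (.leaf (nat_lit 0))) (.leaf (nat_lit 0))) (.leaf (nat_lit 0))) (.leaf (nat_lit 0))) (.leaf (nat_lit 0))) (.leaf (nat_lit 0))) (.leaf (nat_lit 0))) (.leaf (nat_lit 0))) (.leaf (nat_lit 0))) (.leaf (nat_lit 0)))) (.leaf (nat_lit 0))) (.leaf (nat_lit 0))) (.leaf (nat_lit 0))) (.leaf (nat_lit 0))) (.leaf (nat_lit 0))) (.leaf (nat_lit 0))) (.leaf (nat_lit 0))) (.leaf (nat_lit 0))) (.leaf (nat_lit 0))) (.leaf (nat_lit 0)))) (.leaf (nat_lit 0))) (.leaf (nat_lit 0))) (.leaf (nat_lit 0))) (.leaf (nat_lit 0))) (.leaf (nat_lit 0))) (.leaf (nat_lit 0))) (.leaf (nat_lit 0))) (.leaf (nat_lit 0))) (.leaf (nat_lit 0))) (.leaf (nat_lit 0))) (.leaf (nat_lit 0))) (.leaf (nat_lit 0))) (.leaf (nat_lit 0))) (.leaf (nat_lit 0))) (.leaf (nat_lit 0))) (.leaf (nat_lit 0))) (.leaf (nat_lit 0))) (.leaf (nat_lit 0))) (.leaf (nat_lit 0))) (.leaf (nat_lit 0))) (.leaf (nat_lit 0)))) (.leaf (nat_lit 0))) (.leaf (nat_lit 0))) (.leaf (nat_lit 0))) (.leaf (nat_lit 0))) (.leaf (nat_lit 0))) (.leaf (nat_lit 0))) (.leaf (nat_lit 0))) (.leaf (nat_lit 0))) (.leaf (nat_lit 0))) (.node (.node (.node (.node (.node (.node (.node (.node (.node (.node (.node (.node (.node (.node (.node (.node (.node (.node (.node (.node (.node (.node (.node (.node (.node (.node (.node (.node (.node (.node (.node (.node (.node (.node (.node (.node (.node (.node (.node (.node (.node (.node (.node (.node (.node (.node (.node (.node (.node (.node (.node (.node (.node (.node (.node (.node (.node (.node (.node (.node (.node (.node (.node (.node (.node (.node (.node (.node (.node (.node (.node (.node (.node (.node (.node (.node (.node (.node (.node (.node (.node (.node (.node (.node (.node (.node (.node (.node (.node (.node (.node (.node (.node (.node (.node (.node (.node (.node (.node (.node (.node (.node (.node (.node (.node (.node (.node (.node (.node (.leaf (nat_lit 115)) (.leaf (nat_lit 94))) (.leaf (nat_lit 0))) (.leaf (nat_lit 0))) (.leaf (nat_lit 0))) (.leaf (nat_lit 0))) (.leaf (nat_lit 0))) (.leaf (nat_lit 0))) (.leaf (nat_lit 0))) (.leaf (nat_lit 0))) (.leaf (nat_lit 0))) (.leaf (nat_lit 0))) (.leaf (nat_lit 0))) (.leaf (nat_lit 0))) (.leaf (nat_lit 0))) (.leaf (nat_lit 0))) (.leaf (nat_lit 0))) (.leaf (nat_lit 0))) (.leaf (nat_lit 0))) (.leaf (nat_lit 0))) (.leaf (nat_lit 0))) (.leaf (nat_lit 0))) (.leaf (nat_lit 0))) (.leaf (nat_lit 0))) (.leaf (nat_lit 0))) (.leaf (nat_lit 0))) (.leaf (nat_lit 0))) (.leaf (nat_lit 0))) (.leaf (nat_lit 0))) (.leaf (nat_lit 0))) (.leaf (nat_lit 0))) (.leaf (nat_lit 0))) (.leaf (nat_lit 0))) (.leaf (nat_lit 105))) (.leaf (nat_lit 4))) (.leaf (nat_lit 0))) (.leaf (nat_lit 0))) (.leaf (nat_lit 0))) (.leaf (nat_lit 0))) (.leaf (nat_lit 0))) (.leaf (nat_lit 0))) (.leaf (nat_lit 0))) (.leaf (nat_lit 0))) (.leaf (nat_lit 0))) (.leaf (nat_lit 0))) (.leaf (nat_lit 0))) (.leaf (nat_lit 0))) (.leaf (nat_lit 0))) (.leaf (nat_lit 0))) (.leaf (nat_lit 0))) (.leaf (nat_lit 0))) (.leaf (nat_lit 0))) (.leaf (nat_lit 0))) (.leaf (nat_lit 0))) (.leaf (nat_lit 0))) (.leaf (nat_lit 0))) (.leaf (nat_lit 0))) (.leaf (nat_lit 0))) (.leaf (nat_lit 0))) (.leaf (nat_lit 0))) (.leaf (nat_lit 0))) (.leaf (nat_lit 0))) (.leaf (nat_lit 0))) (.leaf (nat_lit 0))) (.leaf (nat_lit 0))) (.leaf (nat_lit 0))) (.leaf (nat_lit 0))) (.leaf (nat_lit 0))) (.leaf (nat_lit 0))) (.leaf (nat_lit 0))) (.leaf (nat_lit 0))) (.leaf (nat_lit 0))) (.leaf (nat_lit 0))) (.leaf (nat_lit 0))) (.leaf (nat_lit 0))) (.leaf (nat_lit 0))) (.leaf (nat_lit 0))) (.leaf (nat_lit 0))) (.leaf (nat_lit 0))) (.leaf (nat_lit 0))) (.leaf (nat_lit 0))) (.leaf (nat_lit 0))) (.leaf (nat_lit 0))) (.leaf (nat_lit 0))) (.leaf (nat_lit 0))) (.leaf (nat_lit 0))) (.leaf (nat_lit 0))) (.leaf (nat_lit 0))) (.node (.node (.node (.node (.node (.node (.node (.node (.node (.node (.node (.leaf (nat_lit 0)) (.node (.node (.node (.node (.node (.node (.node (.node (.node (.node (.leaf (nat_lit 132)) (.node (.node (.node (.node (.node (.node (.node (.node (.node (.node (.node (.node (.node (.node (.node (.node (.node (.node (.node (.node (.node (.node (.node (.node (.node (.node (.node (.node (.node (.node (.node (.node (.node (.node (.node (.node (.node (.node (.node (.node (.node (.node (.node (.node (.node (.leaf (nat_lit 0)) (.node (.node (.node (.node (.node (.node (.node (.node (.node (.node (.node (.node (.node (.node (.node (.node (.node (.node (.node (.node (.node (.node (.leaf (nat_lit 0)) (.node (.node (.node (.node (.node (.node (.node (.node (.node (.node (.leaf (nat_lit 0)) (.node (.node (.node (.node (.node (.node (.node (.node (.node (.node (.node (.node (.leaf (nat_lit 0)) (.node (.node (.node (.node (.node (.node (.node (.node (.node (.node (.node (.node (.node (.node (.node (.node (.node (.node (.node (.node (.node (.node (.leaf (nat_lit 0)) (.node (.node (.node (.node (.node (.node (.node (.node (.node (.node (.node (.leaf (nat_lit 0)) (.node (.node (.node (.node (.node (.node (.node (.node (.node (.node (.node (.node (.node (.node (.node (.node (.node (.node (.node (.node (.node (.leaf (nat_lit 162)) (.leaf (nat_lit 41))) (.leaf (nat_lit 0))) (.leaf (nat_lit 0))) (.leaf (nat_lit 0))) (.leaf (nat_lit 0))) (.leaf (nat_lit 0))) (.leaf (nat_lit 0))) (.leaf (nat_lit 0))) (.leaf (nat_lit 0))) (.leaf (nat_lit 0))) (.leaf (nat_lit 0))) (.leaf (nat_lit 0))) (.leaf (nat_lit 0))) (.leaf (nat_lit 0))) (.leaf (nat_lit 0))) (.leaf (nat_lit 0))) (.leaf (nat_lit 0))) (.leaf (nat_lit 0))) (.leaf (nat_lit 0))) (.leaf (nat_lit 0))) (.leaf (nat_lit 0)))) (.leaf (nat_lit 0))) (.leaf (nat_lit 0))) (.leaf (nat_lit 0))) (.leaf (nat_lit 0))) (.leaf (nat_lit 0))) (.leaf (nat_lit 0))) (.leaf (nat_lit 0))) (.leaf (nat_lit 0))) (.leaf (nat_lit 0))) (.leaf (nat_lit 0)))) (.leaf (nat_lit 0))) (.leaf (nat_lit 0))) (.leaf (nat_lit 0))) (.leaf (nat_lit 0))) (.leaf (nat_lit 0))) (.leaf (nat_lit 0))) (.leaf (nat_lit 0))) (.leaf (nat_lit 0))) (.leaf (nat_lit 0))) (.leaf (nat_lit 0))) (.leaf (nat_lit 0))) (.leaf (nat_lit 0))) (.leaf (nat_lit 0))) (.leaf (nat_lit 0))) (.leaf (nat_lit 0))) (.leaf (nat_lit 0))) (.leaf (nat_lit 0))) (.leaf (nat_lit 0))) (.leaf (nat_lit 0))) (.leaf (nat_lit 0))) (.leaf (nat_lit 0)))) (.leaf (nat_lit 0))) (.leaf (nat_lit 0))) (.leaf (nat_lit 0))) (.leaf (nat_lit 0))) (.leaf (nat_lit 0))) (.leaf (nat_lit 0))) (.leaf (nat_lit 0))) (.leaf (nat_lit 0))) (.leaf (nat_lit 0))) (.leaf (nat_lit 0))) (.leaf (nat_lit 0)))) (.leaf (nat_lit 0))) (.leaf (nat_lit 0))) (.leaf (nat_lit 0))) (.leaf (nat_lit 0))) (.leaf (nat_lit 0))) (.leaf (nat_lit 0))) (.leaf (nat_lit 0))) (.leaf (nat_lit 0))) (.leaf (nat_lit 0)))) (.leaf (nat_lit 0))) (.leaf (nat_lit 0))) (.leaf (nat_lit 0))) (.leaf (nat_lit 0))) (.leaf (nat_lit 0))) (.leaf (nat_lit 0))) (.leaf (nat_lit 0))) (.leaf (nat_lit 0))) (.leaf (nat_lit 0))) (.leaf (nat_lit 0))) (.leaf (nat_lit 0))) (.leaf (nat_lit 0))) (.leaf (nat_lit 0))) (.leaf (nat_lit 0))) (.leaf (nat_lit 0))) (.leaf (nat_lit 0))) (.leaf (nat_lit 0))) (.leaf (nat_lit 0))) (.leaf (nat_lit 0))) (.leaf (nat_lit 0))) (.leaf (nat_lit 0)))) (.node (.node (.node (.node (.node (.node (.node (.node (.node (.node (.node (.node (.node (.node (.node (.node (.node (.node (.node (.node (.node (.node (.leaf (nat_lit 0)) (.node (.node (.node (.node (.node (.node (.node (.node (.node (.node (.node (.node (.leaf (nat_lit 0)) (.node (.node (.node (.node (.node (.node (.node (.node (.node (.node (.leaf (nat_lit 0)) (.node (.node (.node (.node (.node (.node (.node (.node (.node (.node (.node (.node (.node (.node (.node (.node (.node (.node (.node (.node (.node (.node (.node (.leaf (nat_lit 0)) (.node (.node (.node (.node (.node (.node (.node (.node (.node (.node (.leaf (nat_lit 0)) (.node (.node (.node (.node (.node (.node (.node (.node (.node (.node (.node (.node (.node (.node (.node (.node (.node (.node (.node (.node (.node (.node (.leaf (nat_lit 161)) (.leaf (nat_lit 199))) (.leaf (nat_lit 0))) (.leaf (nat_lit 0))) (.leaf (nat_lit 0))) (.leaf (nat_lit 0))) (.leaf (nat_lit 0))) (.leaf (nat_lit 0))) (.leaf (nat_lit 0))) (.leaf (nat_lit 0))) (.leaf (nat_lit 0))) (.leaf (nat_lit 0))) (.leaf (nat_lit 0))) (.leaf (nat_lit 0))) (.leaf (nat_lit 0))) (.leaf (nat_lit 0))) (.leaf (nat_lit 0))) (.leaf (nat_lit 0))) (.leaf (nat_lit 0))) (.leaf (nat_lit 0))) (.leaf (nat_lit 0))) (.leaf (nat_lit 0))) (.leaf (nat_lit 0)))) (.leaf (nat_lit 0))) (.leaf (nat_lit 0))) (.leaf (nat_lit 0))) (.leaf (nat_lit 0))) (.leaf (nat_lit 0))) (.leaf (nat_lit 0))) (.leaf (nat_lit 0))) (.leaf (nat_lit 0))) (.leaf (nat_lit 0)))) (.leaf (nat_lit 0))) (.leaf (nat_lit 0))) (.leaf (nat_lit 0))) (.leaf (nat_lit 0))) (.leaf (nat_lit 0))) (.leaf (nat_lit 0))) (.leaf (nat_lit 0))) (.leaf (nat_lit 0))) (.leaf (nat_lit 0))) (.leaf (nat_lit 0))) (.leaf (nat_lit 0))) (.leaf (nat_lit 0))) (.leaf (nat_lit 0))) (.leaf (nat_lit 0))) (.leaf (nat_lit 0))) (.leaf (nat_lit 0))) (.leaf (nat_lit 0))) (.leaf (nat_lit 0))) (.leaf (nat_lit 0))) (.leaf (nat_lit 0))) (.leaf (nat_lit 0))) (.leaf (nat_lit 0)))) (.leaf (nat_lit 0))) (.leaf (nat_lit 0))) (.leaf (nat_lit 0))) (.leaf (nat_lit 0))) (.leaf (nat_lit 0))) (.leaf (nat_lit 0))) (.leaf (nat_lit 0))) (.leaf (nat_lit 0))) (.leaf (nat_lit 0)))) (.leaf (nat_lit 0))) (.leaf (nat_lit 0))) (.leaf (nat_lit 0))) (.leaf (nat_lit 0))) (.leaf (nat_lit 0))) (.leaf (nat_lit 0))) (.leaf (nat_lit 0))) (.leaf (nat_lit 0))) (.leaf (nat_lit 0))) (.leaf (nat_lit 0))) (.leaf (nat_lit 0)))) (.leaf (nat_lit 0))) (.leaf (nat_lit 0))) (.leaf (nat_lit 0))) (.leaf (nat_lit 0))) (.leaf (nat_lit 0))) (.leaf (nat_lit 0))) (.leaf (nat_lit 0))) (.leaf (nat_lit 0))) (.leaf (nat_lit 0))) (.leaf (nat_lit 0))) (.leaf (nat_lit 0))) (.leaf (nat_lit 0))) (.leaf (nat_lit 0))) (.leaf (nat_lit 0))) (.leaf (nat_lit 0))) (.leaf (nat_lit 0))) (.leaf (nat_lit 0))) (.leaf (nat_lit 0))) (.leaf (nat_lit 0))) (.leaf (nat_lit 0))) (.leaf (nat_lit 0)))) (.leaf (nat_lit 0))) (.leaf (nat_lit 0))) (.leaf (nat_lit 0))) (.leaf (nat_lit 0))) (.leaf (nat_lit 0))) (.leaf (nat_lit 0))) (.leaf (nat_lit 0))) (.leaf (nat_lit 0))) (.leaf (nat_lit 0))) (.leaf (nat_lit 0))) (.leaf (nat_lit 0))) (.leaf (nat_lit 0))) (.leaf (nat_lit 0))) (.leaf (nat_lit 0))) (.leaf (nat_lit 0))) (.leaf (nat_lit 0))) (.leaf (nat_lit 0))) (.leaf (nat_lit 0))) (.leaf (nat_lit 0))) (.leaf (nat_lit 0))) (.leaf (nat_lit 0))) (.leaf (nat_lit 0))) (.leaf (nat_lit 0))) (.leaf (nat_lit 0))) (.leaf (nat_lit 0))) (.leaf (nat_lit 0))) (.leaf (nat_lit 0))) (.leaf (nat_lit 0))) (.leaf (nat_lit 0))) (.leaf (nat_lit 0))) (.leaf (nat_lit 0))) (.leaf (nat_lit 0))) (.leaf (nat_lit 0))) (.leaf (nat_lit 0))) (.leaf (nat_lit 0))) (.leaf (nat_lit 0))) (.leaf (nat_lit 0))) (.leaf (nat_lit 0))) (.leaf (nat_lit 0))) (.leaf (nat_lit 0))) (.leaf (nat_lit 0))) (.leaf (nat_lit 0))) (.leaf (nat_lit 0)))) (.leaf (nat_lit 0))) (.leaf (nat_lit 0))) (.leaf (nat_lit 0))) (.leaf (nat_lit 0))) (.leaf (nat_lit 0))) (.leaf (nat_lit 0))) (.leaf (nat_lit 0))) (.leaf (nat_lit 0))) (.leaf (nat_lit 0)))) (.leaf (nat_lit 46))) (.leaf (nat_lit 0))) (.leaf (nat_lit 0))) (.leaf (nat_lit 0))) (.leaf (nat_lit 0))) (.leaf (nat_lit 0))) (.leaf (nat_lit 0))) (.leaf (nat_lit 0))) (.leaf (nat_lit 0))) (.leaf (nat_lit 0)))) (.node (.node (.node (.node (.node (.node (.node (.node (.node (.node (.node (.leaf (nat_lit 206)) (.leaf (nat_lit 84))) (.leaf (nat_lit 0))) (.leaf (nat_lit 0))) (.leaf (nat_lit 0))) (.leaf (nat_lit 0))) (.leaf (nat_lit 0))) (.leaf (nat_lit 0))) (.leaf (nat_lit 0))) (.leaf (nat_lit 0))) (.leaf (nat_lit 0))) (.leaf (nat_lit 0)))) (.leaf (nat_lit 0))) (.leaf (nat_lit 0))) (.leaf (nat_lit 0))) (.leaf (nat_lit 0))) (.leaf (nat_lit 0))) (.leaf (nat_lit 0))) (.leaf (nat_lit 0))) (.leaf (nat_lit 0))) (.leaf (nat_lit 0))) (.node (.node (.node (.node (.node (.node (.node (.node (.node (.node (.leaf (nat_lit 44)) (.node (.node (.node (.node (.node (.node (.node (.node (.node (.node (.node (.node (.node (.node (.node (.node (.node (.node (.node (.node (.node (.node (.node (.node (.node (.node (.node (.node (.node (.node (.node (.node (.node (.node (.leaf (nat_lit 0)) (.node (.node (.node (.node (.node (.node (.node (.node (.node (.node (.node (.node (.node (.node (.node (.node (.node (.node (.node (.node (.node (.node (.node (.node (.node (.node (.node (.node (.node (.node (.node (.node (.node (.leaf (nat_lit 0)) (.node (.node (.node (.node (.node (.node (.node (.node (.node (.node (.leaf (nat_lit 0)) (.node (.node (.node (.node (.node (.node (.node (.node (.node (.node (.node (.leaf (nat_lit 0)) (.node (.node (.node (.node (.node (.node (.node (.node (.node (.node (.node (.node (.node (.node (.node (.node (.node (.node (.node (.node (.node (.node (.node (.node (.node (.node (.node (.node (.node (.node (.node (.node (.node (.leaf (nat_lit 0)) (.node (.node (.node (.node (.node (.node (.node (.node (.node (.node (.node (.node (.leaf (nat_lit 0)) (.node (.node (.node (.node (.node (.node (.node (.node (.node (.node (.node (.leaf (nat_lit 0)) (.node (.node (.node (.node (.node (.node (.node (.node (.node (.node (.node (.node (.node (.node (.node (.node (.node (.node (.node (.node (.node (.node (.node (.node (.node (.node (.node (.node (.node (.node (.node (.node (.node (.node (.node (.node (.node (.node (.node (.node (.node (.node (.node (.leaf (nat_lit 135)) (.leaf (nat_lit 144))) (.leaf (nat_lit 0))) (.leaf (nat_lit 0))) (.leaf (nat_lit 0))) (.leaf (nat_lit 0))) (.leaf (nat_lit 0))) (.leaf (nat_lit 0))) (.leaf (nat_lit 0))) (.leaf (nat_lit 0))) (.leaf (nat_lit 0))) (.leaf (nat_lit 0))) (.leaf (nat_lit 0))) (.leaf (nat_lit 0))) (.leaf (nat_lit 0))) (.leaf (nat_lit 0))) (.leaf (nat_lit 0))) (.leaf (nat_lit 0))) (.leaf (nat_lit 0))) (.leaf (nat_lit 0))) (.leaf (nat_lit 0))) (.leaf (nat_lit 0))) (.leaf (nat_lit 0))) (.leaf (nat_lit 0))) (.leaf (nat_lit 0))) (.leaf (nat_lit 0))) (.leaf (nat_lit 0))) (.leaf (nat_lit 0))) (.leaf (nat_lit 0))) (.leaf (nat_lit 0))) (.leaf (nat_lit 0))) (.leaf (nat_lit 0))) (.leaf (nat_lit 0))) (.leaf (nat_lit 0))) (.leaf (nat_lit 0))) (.leaf (nat_lit 0))) (.leaf (nat_lit 0))) (.leaf (nat_lit 0))) (.leaf (nat_lit 0))) (.leaf (nat_lit 0))) (.leaf (nat_lit 0))) (.leaf (nat_lit 0))) (.leaf (nat_lit 0))) (.leaf (nat_lit 0)))) (.leaf (nat_lit 0))) (.leaf (nat_lit 0))) (.leaf (nat_lit 0))) (.leaf (nat_lit 0))) (.leaf (nat_lit 0))) (.leaf (nat_lit 0))) (.leaf (nat_lit 0))) (.leaf (nat_lit 0))) (.leaf (nat_lit 0))) (.leaf (nat_lit 0)))) (.leaf (nat_lit 0))) (.leaf (nat_lit 0))) (.leaf (nat_lit 0))) (.leaf (nat_lit 0))) (.leaf (nat_lit 0))) (.leaf (nat_lit 0))) (.leaf (nat_lit 0))) (.leaf (nat_lit 0))) (.leaf (nat_lit 0))) (.leaf (nat_lit 0))) (.leaf (nat_lit 0)))) (.leaf (nat_lit 0))) (.leaf (nat_lit 0))) (.leaf (nat_lit 0))) (.leaf (nat_lit 0))) (.leaf (nat_lit 0))) (.leaf (nat_lit 0))) (.leaf (nat_lit 0))) (.leaf (nat_lit 0))) (.leaf (nat_lit 0))) (.leaf (nat_lit 0))) (.leaf (nat_lit 0))) (.leaf (nat_lit 0))) (.leaf (nat_lit 0))) (.leaf (nat_lit 0))) (.leaf (nat_lit 0))) (.leaf (nat_lit 0))) (.leaf (nat_lit 0))) (.leaf (nat_lit 0))) (.leaf (nat_lit 0))) (.leaf (nat_lit 0))) (.leaf (nat_lit 0))) (.leaf (nat_lit 0))) (.leaf (nat_lit 0))) (.leaf (nat_lit 0))) (.leaf (nat_lit 0))) (.leaf (nat_lit 0))) (.leaf (nat_lit 0))) (.leaf (nat_lit 0))) (.leaf (nat_lit 0))) (.leaf (nat_lit 0))) (.leaf (nat_lit 0))) (.leaf (nat_lit 0)))) (.leaf (nat_lit 0))) (.leaf (nat_lit 0))) (.leaf (nat_lit 0))) (.leaf (nat_lit 0))) (.leaf (nat_lit 0))) (.leaf (nat_lit 0))) (.leaf (nat_lit 0))) (.leaf (nat_lit 0))) (.leaf (nat_lit 0))) (.leaf (nat_lit 0)))) (.leaf (nat_lit 0))) (.leaf (nat_lit 0))) (.leaf (nat_lit 0))) (.leaf (nat_lit 0))) (.leaf (nat_lit 0))) (.leaf (nat_lit 0))) (.leaf (nat_lit 0))) (.leaf (nat_lit 0))) (.leaf (nat_lit 0)))) (.node (.node (.node (.node (.node (.node (.node (.node (.node (.node (.node (.node (.leaf (nat_lit 0)) (.node (.node (.node (.node (.node (.node (.node (.node (.node (.node (.node (.leaf (nat_lit 0)) (.node (.node (.node (.node (.node (.node (.node (.node (.node (.node (.node (.node (.node (.node (.node (.node (.node (.node (.node (.node (.node (.node (.node (.node (.node (.node (.node (.node (.node (.node (.node (.node (.node (.leaf (nat_lit 0)) (.node (.node (.node (.node (.node (.node (.node (.node (.node (.node (.node (.leaf (nat_lit 0)) (.node (.node (.node (.node (.node (.node (.node (.node (.node (.node (.leaf (nat_lit 0)) (.node (.node (.node (.node (.node (.node (.node (.node (.node (.node (.node (.node (.node (.node (.node (.node (.node (.node (.node (.node (.node (.node (.node (.node (.node (.node (.node (.node (.node (.node (.node (.node (.node (.node (.node (.node (.node (.node (.node (.node (.node (.node (.node (.node (.leaf (nat_lit 18)) (.leaf (nat_lit 184))) (.leaf (nat_lit 0))) (.leaf (nat_lit 0))) (.leaf (nat_lit 0))) (.leaf (nat_lit 0))) (.leaf (nat_lit 0))) (.leaf (nat_lit 0))) (.leaf (nat_lit 0))) (.leaf (nat_lit 0))) (.leaf (nat_lit 0))) (.leaf (nat_lit 0))) (.leaf (nat_lit 0))) (.leaf (nat_lit 0))) (.leaf (nat_lit 0))) (.leaf (nat_lit 0))) (.leaf (nat_lit 0))) (.leaf (nat_lit 0))) (.leaf (nat_lit 0))) (.leaf (nat_lit 0))) (.leaf (nat_lit 0))) (.leaf (nat_lit 0))) (.leaf (nat_lit 0))) (.leaf (nat_lit 0))) (.leaf (nat_lit 0))) (.leaf (nat_lit 0))) (.leaf (nat_lit 0))) (.leaf (nat_lit 0))) (.leaf (nat_lit 0))) (.leaf (nat_lit 0))) (.leaf (nat_lit 0))) (.leaf (nat_lit 0))) (.leaf (nat_lit 0))) (.leaf (nat_lit 0))) (.leaf (nat_lit 0))) (.leaf (nat_lit 0))) (.leaf (nat_lit 0))) (.leaf (nat_lit 0))) (.leaf (nat_lit 0))) (.leaf (nat_lit 0))) (.leaf (nat_lit 0))) (.leaf (nat_lit 0))) (.leaf (nat_lit 0))) (.leaf (nat_lit 0))) (.leaf (nat_lit 0)))) (.leaf (nat_lit 0))) (.leaf (nat_lit 0))) (.leaf (nat_lit 0))) (.leaf (nat_lit 0))) (.leaf (nat_lit 0))) (.leaf (nat_lit 0))) (.leaf (nat_lit 0))) (.leaf (nat_lit 0))) (.leaf (nat_lit 0)))) (.leaf (nat_lit 0))) (.leaf (nat_lit 0))) (.leaf (nat_lit 0))) (.leaf (nat_lit 0))) (.leaf (nat_lit 0))) (.leaf (nat_lit 0))) (.leaf (nat_lit 0))) (.leaf (nat_lit 0))) (.leaf (nat_lit 0))) (.leaf (nat_lit 0)))) (.leaf (nat_lit 0))) (.leaf (nat_lit 0))) (.leaf (nat_lit 0))) (.leaf (nat_lit 0))) (.leaf (nat_lit 0))) (.leaf (nat_lit 0))) (.leaf (nat_lit 0))) (.leaf (nat_lit 0))) (.leaf (nat_lit 0))) (.leaf (nat_lit 0))) (.leaf (nat_lit 0))) (.leaf (nat_lit 0))) (.leaf (nat_lit 0))) (.leaf (nat_lit 0))) (.leaf (nat_lit 0))) (.leaf (nat_lit 0))) (.leaf (nat_lit 0))) (.leaf (nat_lit 0))) (.leaf (nat_lit 0))) (.leaf (nat_lit 0))) (.leaf (nat_lit 0))) (.leaf (nat_lit 0))) (.leaf (nat_lit 0))) (.leaf (nat_lit 0))) (.leaf (nat_lit 0))) (.leaf (nat_lit 0))) (.leaf (nat_lit 0))) (.leaf (nat_lit 0))) (.leaf (nat_lit 0))) (.leaf (nat_lit 0))) (.leaf (nat_lit 0))) (.leaf (nat_lit 0)))) (.leaf (nat_lit 0))) (.leaf (nat_lit 0))) (.leaf (nat_lit 0))) (.leaf (nat_lit 0))) (.leaf (nat_lit 0))) (.leaf (nat_lit 0))) (.leaf (nat_lit 0))) (.leaf (nat_lit 0))) (.leaf (nat_lit 0))) (.leaf (nat_lit 0)))) (.leaf (nat_lit 0))) (.leaf (nat_lit 0))) (.leaf (nat_lit 0))) (.leaf (nat_lit 0))) (.leaf (nat_lit 0))) (.leaf (nat_lit 0))) (.leaf (nat_lit 0))) (.leaf (nat_lit 0))) (.leaf (nat_lit 0))) (.leaf (nat_lit 0))) (.leaf (nat_lit 0)))) (.leaf (nat_lit 0))) (.leaf (nat_lit 0))) (.leaf (nat_lit 0))) (.leaf (nat_lit 0))) (.leaf (nat_lit 0))) (.leaf (nat_lit 0))) (.leaf (nat_lit 0))) (.leaf (nat_lit 0))) (.leaf (nat_lit 0))) (.leaf (nat_lit 0))) (.leaf (nat_lit 0))) (.leaf (nat_lit 0))) (.leaf (nat_lit 0))) (.leaf (nat_lit 0))) (.leaf (nat_lit 0))) (.leaf (nat_lit 0))) (.leaf (nat_lit 0))) (.leaf (nat_lit 0))) (.leaf (nat_lit 0))) (.leaf (nat_lit 0))) (.leaf (nat_lit 0))) (.leaf (nat_lit 0))) (.leaf (nat_lit 0))) (.leaf (nat_lit 0))) (.leaf (nat_lit 0))) (.leaf (nat_lit 0))) (.leaf (nat_lit 0))) (.leaf (nat_lit 0))) (.leaf (nat_lit 0))) (.leaf (nat_lit 0))) (.leaf (nat_lit 0)))) (.leaf (nat_lit 174))) (.leaf (nat_lit 0))) (.leaf (nat_lit 0))) (.leaf (nat_lit 0))) (.leaf (nat_lit 0))) (.leaf (nat_lit 0))) (.leaf (nat_lit 0))) (.leaf (nat_lit 0))) (.leaf (nat_lit 0))) (.leaf (nat_lit 0))) (.leaf (nat_lit 0))) (.leaf (nat_lit 0))) (.leaf (nat_lit 0))) (.leaf (nat_lit 0))) (.leaf (nat_lit 0))) (.leaf (nat_lit 0))) (.leaf (nat_lit 0))) (.leaf (nat_lit 0))) (.leaf (nat_lit 0))) (.leaf (nat_lit 0))) (.leaf (nat_lit 0))) (.leaf (nat_lit 0))) (.leaf (nat_lit 0))) (.leaf (nat_lit 0))) (.leaf (nat_lit 0))) (.leaf (nat_lit 0))) (.leaf (nat_lit 0))) (.leaf (nat_lit 0))) (.leaf (nat_lit 0))) (.leaf (nat_lit 0))) (.leaf (nat_lit 0))) (.leaf (nat_lit 0))) (.leaf (nat_lit 0)))) (.leaf (nat_lit 0))) (.leaf (nat_lit 0))) (.leaf (nat_lit 0))) (.leaf (nat_lit 0))) (.leaf (nat_lit 0))) (.leaf (nat_lit 0))) (.leaf (nat_lit 0))) (.leaf (nat_lit 0))) (.leaf (nat_lit 0)))) (.node (.node (.node (.node (.node (.node (.node (.node (.node (.node (.node (.leaf (nat_lit 204)) (.leaf (nat_lit 69))) (.leaf (nat_lit 0))) (.leaf (nat_lit 0))) (.leaf (nat_lit 0))) (.leaf (nat_lit 0))) (.leaf (nat_lit 0))) (.leaf (nat_lit 0))) (.leaf (nat_lit 0))) (.leaf (nat_lit 0))) (.leaf (nat_lit 0))) (.leaf (nat_lit 0)))) (.leaf (nat_lit 0))) (.leaf (nat_lit 0))) (.leaf (nat_lit 0))) (.leaf (nat_lit 0))) (.leaf (nat_lit 0))) (.leaf (nat_lit 0))) (.leaf (nat_lit 0))) (.leaf (nat_lit 0))) (.leaf (nat_lit 0)))) (.node (.node (.node (.node (.node (.node (.node (.node (.node (.node (.node (.node (.node (.node (.node (.node (.node (.node (.node (.node (.node (.node (.node (.node (.node (.node (.node (.node (.node (.node (.node (.node (.node (.node (.node (.node (.node (.node (.node (.node (.node (.node (.node (.node (.node (.node (.node (.node (.node (.node (.node (.node (.node (.node (.node (.node (.node (.node (.node (.node (.node (.node (.node (.node (.node (.node (.node (.node (.node (.node (.node (.node (.node (.node (.node (.node (.node (.node (.node (.node (.node (.node (.node (.node (.node (.node (.node (.node (.node (.node (.node (.node (.node (.node (.node (.node (.node (.node (.node (.node (.node (.node (.node (.node (.node (.node (.node (.node (.node (.node (.leaf (nat_lit 190)) (.leaf (nat_lit 154))) (.leaf (nat_lit 0))) (.leaf (nat_lit 0))) (.leaf (nat_lit 0))) (.leaf (nat_lit 0))) (.leaf (nat_lit 0))) (.leaf (nat_lit 0))) (.leaf (nat_lit 0))) (.leaf (nat_lit 0))) (.leaf (nat_lit 0))) (.leaf (nat_lit 0))) (.leaf (nat_lit 0))) (.leaf (nat_lit 0))) (.leaf (nat_lit 0))) (.leaf (nat_lit 0))) (.leaf (nat_lit 0))) (.leaf (nat_lit 0))) (.leaf (nat_lit 0))) (.leaf (nat_lit 0))) (.leaf (nat_lit 0))) (.leaf (nat_lit 0))) (.leaf (nat_lit 0))) (.leaf (nat_lit 0))) (.leaf (nat_lit 0))) (.leaf (nat_lit 0))) (.leaf (nat_lit 0))) (.leaf (nat_lit 0))) (.leaf (nat_lit 0))) (.leaf (nat_lit 0))) (.leaf (nat_lit 0))) (.leaf (nat_lit 0))) (.leaf (nat_lit 0))) (.leaf (nat_lit 81))) (.leaf (nat_lit 62))) (.leaf (nat_lit 0))) (.leaf (nat_lit 0))) (.leaf (nat_lit 0))) (.leaf (nat_lit 0))) (.leaf (nat_lit 0))) (.leaf (nat_lit 0))) (.leaf (nat_lit 0))) (.leaf (nat_lit 0))) (.leaf (nat_lit 0))) (.leaf (nat_lit 0))) (.leaf (nat_lit 0))) (.leaf (nat_lit 0))) (.leaf (nat_lit 0))) (.leaf (nat_lit 0))) (.leaf (nat_lit 0))) (.leaf (nat_lit 0))) (.leaf (nat_lit 0))) (.leaf (nat_lit 0))) (.leaf (nat_lit 0))) (.leaf (nat_lit 0))) (.leaf (nat_lit 0))) (.leaf (nat_lit 0))) (.leaf (nat_lit 0))) (.leaf (nat_lit 0))) (.leaf (nat_lit 0))) (.leaf (nat_lit 0))) (.leaf (nat_lit 0))) (.leaf (nat_lit 0))) (.leaf (nat_lit 0))) (.leaf (nat_lit 0))) (.leaf (nat_lit 0))) (.leaf (nat_lit 0))) (.leaf (nat_lit 0))) (.leaf (nat_lit 0))) (.leaf (nat_lit 0))) (.leaf (nat_lit 0))) (.leaf (nat_lit 0))) (.leaf (nat_lit 0))) (.leaf (nat_lit 0))) (.leaf (nat_lit 0))) (.leaf (nat_lit 0))) (.leaf (nat_lit 0))) (.leaf (nat_lit 0))) (.leaf (nat_lit 0))) (.leaf (nat_lit 0))) (.leaf (nat_lit 0))) (.leaf (nat_lit 0))) (.leaf (nat_lit 0))) (.leaf (nat_lit 0))) (.leaf (nat_lit 0))) (.leaf (nat_lit 0))) (.leaf (nat_lit 0))) (.leaf (nat_lit 0))) (.node (.node (.node (.node (.node (.node (.node (.node (.node (.node (.leaf (nat_lit 122)) (.leaf (nat_lit 197))) (.leaf (nat_lit 0))) (.leaf (nat_lit 0))) (.leaf (nat_lit 0))) (.leaf (nat_lit 0))) (.leaf (nat_lit 0))) (.leaf (nat_lit 0))) (.leaf (nat_lit 0))) (.leaf (nat_lit 0))) (.leaf (nat_lit 0)))) (.node (.node (.node (.node (.node (.node (.node (.node (.node (.node (.node (.leaf (nat_lit 143)) (.node (.node (.node (.node (.node (.node (.node (.node (.node (.node (.node (.node (.leaf (nat_lit 0)) (.node (.node (.node (.node (.node (.node (.node (.node (.node (.node (.node (.node (.node (.node (.node (.node (.node (.node (.node (.node (.node (.node (.node (.node (.node (.node (.node (.node (.node (.node (.node (.node (.node (.node (.node (.node (.node (.node (.node (.node (.node (.node (.node (.node (.leaf (nat_lit 0)) (.node (.node (.node (.node (.node (.node (.node (.node (.node (.node (.node (.node (.node (.node (.node (.node (.node (.node (.node (.node (.node (.node (.leaf (nat_lit 0)) (.node (.node (.node (.node (.node (.node (.node (.node (.node (.node (.leaf (nat_lit 0)) (.node (.node (.node (.node (.node (.node (.node (.node (.node (.node (.node (.node (.leaf (nat_lit 0)) (.node (.node (.node (.node (.node (.node (.node (.node (.node (.node (.node (.node (.node (.node (.node (.node (.node (.node (.node (.node (.node (.leaf (nat_lit 0)) (.node (.node (.node (.node (.node (.node (.node (.node (.node (.node (.node (.node (.leaf (nat_lit 0)) (.node (.node (.node (.node (.node (.node (.node (.node (.node (.node (.node (.node (.node (.node (.node (.node (.node (.node (.node (.node (.node (.leaf (nat_lit 91)) (.leaf (nat_lit 128))) (.leaf (nat_lit 0))) (.leaf (nat_lit 0))) (.leaf (nat_lit 0))) (.leaf (nat_lit 0))) (.leaf (nat_lit 0))) (.leaf (nat_lit 0))) (.leaf (nat_lit 0))) (.leaf (nat_lit 0))) (.leaf (nat_lit 0))) (.leaf (nat_lit 0))) (.leaf (nat_lit 0))) (.leaf (nat_lit 0))) (.leaf (nat_lit 0))) (.leaf (nat_lit 0))) (.leaf (nat_lit 0))) (.leaf (nat_lit 0))) (.leaf (nat_lit 0))) (.leaf (nat_lit 0))) (.leaf (nat_lit 0))) (.leaf (nat_lit 0)))) (.leaf (nat_lit 0))) (.leaf (nat_lit 0))) (.leaf (nat_lit 0))) (.leaf (nat_lit 0))) (.leaf (nat_lit 0))) (.leaf (nat_lit 0))) (.leaf (nat_lit 0))) (.leaf (nat_lit 0))) (.leaf (nat_lit 0))) (.leaf (nat_lit 0))) (.leaf (nat_lit 0)))) (.leaf (nat_lit 0))) (.leaf (nat_lit 0))) (.leaf (nat_lit 0))) (.leaf (nat_lit 0))) (.leaf (nat_lit 0))) (.leaf (nat_lit 0))) (.leaf (nat_lit 0))) (.leaf (nat_lit 0))) (.leaf (nat_lit 0))) (.leaf (nat_lit 0))) (.leaf (nat_lit 0))) (.leaf (nat_lit 0))) (.leaf (nat_lit 0))) (.leaf (nat_lit 0))) (.leaf (nat_lit 0))) (.leaf (nat_lit 0))) (.leaf (nat_lit 0))) (.leaf (nat_lit 0))) (.leaf (nat_lit 0))) (.leaf (nat_lit 0)))) (.leaf (nat_lit 0))) (.leaf (nat_lit 0))) (.leaf (nat_lit 0))) (.leaf (nat_lit 0))) (.leaf (nat_lit 0))) (.leaf (nat_lit 0))) (.leaf (nat_lit 0))) (.leaf (nat_lit 0))) (.leaf (nat_lit 0))) (.leaf (nat_lit 0))) (.leaf (nat_lit 0)))) (.leaf (nat_lit 0))) (.leaf (nat_lit 0))) (.leaf (nat_lit 0))) (.leaf (nat_lit 0))) (.leaf (nat_lit 0))) (.leaf (nat_lit 0))) (.leaf (nat_lit 0))) (.leaf (nat_lit 0))) (.leaf (nat_lit 0)))) (.leaf (nat_lit 0))) (.leaf (nat_lit 0))) (.leaf (nat_lit 0))) (.leaf (nat_lit 0))) (.leaf (nat_lit 0))) (.leaf (nat_lit 0))) (.leaf (nat_lit 0))) (.leaf (nat_lit 0))) (.leaf (nat_lit 0))) (.leaf (nat_lit 0))) (.leaf (nat_lit 0))) (.leaf (nat_lit 0))) (.leaf (nat_lit 0))) (.leaf (nat_lit 0))) (.leaf (nat_lit 0))) (.leaf (nat_lit 0))) (.leaf (nat_lit 0))) (.leaf (nat_lit 0))) (.leaf (nat_lit 0))) (.leaf (nat_lit 0))) (.leaf (nat_lit 0)))) (.node (.node (.node (.node (.node (.node (.node (.node (.node (.node (.node (.node (.node (.node (.node (.node (.node (.node (.node (.node (.node (.node (.leaf (nat_lit 0)) (.node (.node (.node (.node (.node (.node (.node (.node (.node (.node (.node (.node (.leaf (nat_lit 0)) (.node (.node (.node (.node (.node (.node (.node (.node (.node (.node (.leaf (nat_lit 0)) (.node (.node (.node (.node (.node (.node (.node (.node (.node (.node (.node (.node (.node (.node (.node (.node (.node (.node (.node (.node (.node (.node (.leaf (nat_lit 0)) (.node (.node (.node (.node (.node (.node (.node (.node (.node (.node (.node (.leaf (nat_lit 0)) (.node (.node (.node (.node (.node (.node (.node (.node (.node (.node (.node (.node (.node (.node (.node (.node (.node (.node (.node (.node (.node (.node (.leaf (nat_lit 202)) (.leaf (nat_lit 100))) (.leaf (nat_lit 0))) (.leaf (nat_lit 0))) (.leaf (nat_lit 0))) (.leaf (nat_lit 0))) (.leaf (nat_lit 0))) (.leaf (nat_lit 0))) (.leaf (nat_lit 0))) (.leaf (nat_lit 0))) (.leaf (nat_lit 0))) (.leaf (nat_lit 0))) (.leaf (nat_lit 0))) (.leaf (nat_lit 0))) (.leaf (nat_lit 0))) (.leaf (nat_lit 0))) (.leaf (nat_lit 0))) (.leaf (nat_lit 0))) (.leaf (nat_lit 0))) (.leaf (nat_lit 0))) (.leaf (nat_lit 0))) (.leaf (nat_lit 0))) (.leaf (nat_lit 0)))) (.leaf (nat_lit 0))) (.leaf (nat_lit 0))) (.leaf (nat_lit 0))) (.leaf (nat_lit 0))) (.leaf (nat_lit 0))) (.leaf (nat_lit 0))) (.leaf (nat_lit 0))) (.leaf (nat_lit 0))) (.leaf (nat_lit 0))) (.leaf (nat_lit 0)))) (.leaf (nat_lit 0))) (.leaf (nat_lit 0))) (.leaf (nat_lit 0))) (.leaf (nat_lit 0))) (.leaf (nat_lit 0))) (.leaf (nat_lit 0))) (.leaf (nat_lit 0))) (.leaf (nat_lit 0))) (.leaf (nat_lit 0))) (.leaf (nat_lit 0))) (.leaf (nat_lit 0))) (.leaf (nat_lit 0))) (.leaf (nat_lit 0))) (.leaf (nat_lit 0))) (.leaf (nat_lit 0))) (.leaf (nat_lit 0))) (.leaf (nat_lit 0))) (.leaf (nat_lit 0))) (.leaf (nat_lit 0))) (.leaf (nat_lit 0))) (.leaf (nat_lit 0)))) (.leaf (nat_lit 0))) (.leaf (nat_lit 0))) (.leaf (nat_lit 0))) (.leaf (nat_lit 0))) (.leaf (nat_lit 0))) (.leaf (nat_lit 0))) (.leaf (nat_lit 0))) (.leaf (nat_lit 0))) (.leaf (nat_lit 0)))) (.leaf (nat_lit 0))) (.leaf (nat_lit 0))) (.leaf (nat_lit 0))) (.leaf (nat_lit 0))) (.leaf (nat_lit 0))) (.leaf (nat_lit 0))) (.leaf (nat_lit 0))) (.leaf (nat_lit 0))) (.leaf (nat_lit 0))) (.leaf (nat_lit 0))) (.leaf (nat_lit 0)))) (.leaf (nat_lit 0))) (.leaf (nat_lit 0))) (.leaf (nat_lit 0))) (.leaf (nat_lit 0))) (.leaf (nat_lit 0))) (.leaf (nat_lit 0))) (.leaf (nat_lit 0))) (.leaf (nat_lit 0))) (.leaf (nat_lit 0))) (.leaf (nat_lit 0))) (.leaf (nat_lit 0))) (.leaf (nat_lit 0))) (.leaf (nat_lit 0))) (.leaf (nat_lit 0))) (.leaf (nat_lit 0))) (.leaf (nat_lit 0))) (.leaf (nat_lit 0))) (.leaf (nat_lit 0))) (.leaf (nat_lit 0))) (.leaf (nat_lit 0))) (.leaf (nat_lit 0)))) (.leaf (nat_lit 0))) (.leaf (nat_lit 0))) (.leaf (nat_lit 0))) (.leaf (nat_lit 0))) (.leaf (nat_lit 0))) (.leaf (nat_lit 0))) (.leaf (nat_lit 0))) (.leaf (nat_lit 0))) (.leaf (nat_lit 0))) (.leaf (nat_lit 0))) (.leaf (nat_lit 0))) (.leaf (nat_lit 0))) (.leaf (nat_lit 0))) (.leaf (nat_lit 0))) (.leaf (nat_lit 0))) (.leaf (nat_lit 0))) (.leaf (nat_lit 0))) (.leaf (nat_lit 0))) (.leaf (nat_lit 0))) (.leaf (nat_lit 0))) (.leaf (nat_lit 0))) (.leaf (nat_lit 0))) (.leaf (nat_lit 0))) (.leaf (nat_lit 0))) (.leaf (nat_lit 0))) (.leaf (nat_lit 0))) (.leaf (nat_lit 0))) (.leaf (nat_lit 0))) (.leaf (nat_lit 0))) (.leaf (nat_lit 0))) (.leaf (nat_lit 0))) (.leaf (nat_lit 0))) (.leaf (nat_lit 0))) (.leaf (nat_lit 0))) (.leaf (nat_lit 0))) (.leaf (nat_lit 0))) (.leaf (nat_lit 0))) (.leaf (nat_lit 0))) (.leaf (nat_lit 0))) (.leaf (nat_lit 0))) (.leaf (nat_lit 0))) (.leaf (nat_lit 0)))) (.leaf (nat_lit 187))) (.leaf (nat_lit 0))) (.leaf (nat_lit 0))) (.leaf (nat_lit 0))) (.leaf (nat_lit 0))) (.leaf (nat_lit 0))) (.leaf (nat_lit 0))) (.leaf (nat_lit 0))) (.leaf (nat_lit 0))) (.leaf (nat_lit 0))) (.leaf (nat_lit 0)))) (.leaf (nat_lit 0))) (.leaf (nat_lit 0))) (.leaf (nat_lit 0))) (.leaf (nat_lit 0))) (.leaf (nat_lit 0))) (.leaf (nat_lit 0))) (.leaf (nat_lit 0))) (.leaf (nat_lit 0))) (.leaf (nat_lit 0))) (.leaf (nat_lit 0)))) (.leaf (nat_lit 0))) (.leaf (nat_lit 0))) (.leaf (nat_lit 0))) (.leaf (nat_lit 0))) (.leaf (nat_lit 0))) (.leaf (nat_lit 0))) (.leaf (nat_lit 0))) (.leaf (nat_lit 0))) (.leaf (nat_lit 0))) (.node (.node (.node (.node (.node (.node (.node (.node (.node (.node (.leaf (nat_lit 165)) (.leaf (nat_lit 102))) (.leaf (nat_lit 0))) (.leaf (nat_lit 0))) (.leaf (nat_lit 0))) (.leaf (nat_lit 0))) (.leaf (nat_lit 0))) (.leaf (nat_lit 0))) (.leaf (nat_lit 0))) (.leaf (nat_lit 0))) (.leaf (nat_lit 0)))) (.node (.node (.node (.node (.node (.node (.node (.node (.node (.node (.node (.node (.leaf (nat_lit 0)) (.node (.node (.node (.node (.node (.node (.node (.node (.node (.node (.node (.node (.node (.node (.node (.node (.node (.node (.node (.node (.node (.node (.node (.node (.node (.node (.node (.node (.node (.node (.node (.node (.leaf (nat_lit 28)) (.node (.node (.node (.node (.node (.node (.node (.node (.node (.node (.node (.node (.node (.node (.node (.node (.node (.node (.node (.node (.node (.node (.node (.node (.node (.node (.node (.node (.node (.node (.node (.node (.node (.node (.leaf (nat_lit 0)) (.node (.node (.node (.node (.node (.node (.node (.node (.node (.node (.leaf (nat_lit 0)) (.node (.node (.node (.node (.node (.node (.node (.node (.node (.node (.node (.leaf (nat_lit 0)) (.node (.node (.node (.node (.node (.node (.node (.node (.node (.node (.node (.node (.node (.node (.node (.node (.node (.node (.node (.node (.node (.node (.node (.node (.node (.node (.node (.node (.node (.node (.node (.node (.node (.leaf (nat_lit 0)) (.node (.node (.node (.node (.node (.node (.node (.node (.node (.node (.node (.leaf (nat_lit 0)) (.node (.node (.node (.node (.node (.node (.node (.node (.node (.node (.node (.node (.leaf (nat_lit 0)) (.node (.node (.node (.node (.node (.node (.node (.node (.node (.node (.node (.node (.node (.node (.node (.node (.node (.node (.node (.node (.node (.node (.node (.node (.node (.node (.node (.node (.node (.node (.node (.node (.node (.node (.node (.node (.node (.node (.node (.node (.node (.node (.node (.leaf (nat_lit 93)) (.leaf (nat_lit 118))) (.leaf (nat_lit 0))) (.leaf (nat_lit 0))) (.leaf (nat_lit 0))) (.leaf (nat_lit 0))) (.leaf (nat_lit 0))) (.leaf (nat_lit 0))) (.leaf (nat_lit 0))) (.leaf (nat_lit 0))) (.leaf (nat_lit 0))) (.leaf (nat_lit 0))) (.leaf (nat_lit 0))) (.leaf (nat_lit 0))) (.leaf (nat_lit 0))) (.leaf (nat_lit 0))) (.leaf (nat_lit 0))) (.leaf (nat_lit 0))) (.leaf (nat_lit 0))) (.leaf (nat_lit 0))) (.leaf (nat_lit 0))) (.leaf (nat_lit 0))) (.leaf (nat_lit 0))) (.leaf (nat_lit 0))) (.leaf (nat_lit 0))) (.leaf (nat_lit 0))) (.leaf (nat_lit 0))) (.leaf (nat_lit 0))) (.leaf (nat_lit 0))) (.leaf (nat_lit 0))) (.leaf (nat_lit 0))) (.leaf (nat_lit 0))) (.leaf (nat_lit 0))) (.leaf (nat_lit 0))) (.leaf (nat_lit 0))) (.leaf (nat_lit 0))) (.leaf (nat_lit 0))) (.leaf (nat_lit 0))) (.leaf (nat_lit 0))) (.leaf (nat_lit 0))) (.leaf (nat_lit 0))) (.leaf (nat_lit 0))) (.leaf (nat_lit 0))) (.leaf (nat_lit 0)))) (.leaf (nat_lit 0))) (.leaf (nat_lit 0))) (.leaf (nat_lit 0))) (.leaf (nat_lit 0))) (.leaf (nat_lit 0))) (.leaf (nat_lit 0))) (.leaf (nat_lit 0))) (.leaf (nat_lit 0))) (.leaf (nat_lit 0))) (.leaf (nat_lit 0))) (.leaf (nat_lit 0)))) (.leaf (nat_lit 0))) (.leaf (nat_lit 0))) (.leaf (nat_lit 0))) (.leaf (nat_lit 0))) (.leaf (nat_lit 0))) (.leaf (nat_lit 0))) (.leaf (nat_lit 0))) (.leaf (nat_lit 0))) (.leaf (nat_lit 0))) (.leaf (nat_lit 0)))) (.leaf (nat_lit 0))) (.leaf (nat_lit 0))) (.leaf (nat_lit 0))) (.leaf (nat_lit 0))) (.leaf (nat_lit 0))) (.leaf (nat_lit 0))) (.leaf (nat_lit 0))) (.leaf (nat_lit 0))) (.leaf (nat_lit 0))) (.leaf (nat_lit 0))) (.leaf (nat_lit 0))) (.leaf (nat_lit 0))) (.leaf (nat_lit 0))) (.leaf (nat_lit 0))) (.leaf (nat_lit 0))) (.leaf (nat_lit 0))) (.leaf (nat_lit 0))) (.leaf (nat_lit 0))) (.leaf (nat_lit 0))) (.leaf (nat_lit 0))) (.leaf (nat_lit 0))) (.leaf (nat_lit 0))) (.leaf (nat_lit 0))) (.leaf (nat_lit 0))) (.leaf (nat_lit 0))) (.leaf (nat_lit 0))) (.leaf (nat_lit 0))) (.leaf (nat_lit 0))) (.leaf (nat_lit 0))) (.leaf (nat_lit 0))) (.leaf (nat_lit 0))) (.leaf (nat_lit 0)))) (.leaf (nat_lit 0))) (.leaf (nat_lit 0))) (.leaf (nat_lit 0))) (.leaf (nat_lit 0))) (.leaf (nat_lit 0))) (.leaf (nat_lit 0))) (.leaf (nat_lit 0))) (.leaf (nat_lit 0))) (.leaf (nat_lit 0))) (.leaf (nat_lit 0)))) (.leaf (nat_lit 0))) (.leaf (nat_lit 0))) (.leaf (nat_lit 0))) (.leaf (nat_lit 0))) (.leaf (nat_lit 0))) (.leaf (nat_lit 0))) (.leaf (nat_lit 0))) (.leaf (nat_lit 0))) (.leaf (nat_lit 0)))) (.node (.node (.node (.node (.node (.node (.node (.node (.node (.node (.node (.node (.leaf (nat_lit 0)) (.node (.node (.node (.node (.node (.node (.node (.node (.node (.node (.node (.leaf (nat_lit 0)) (.node (.node (.node (.node (.node (.node (.node (.node (.node (.node (.node (.node (.node (.node (.node (.node (.node (.node (.node (.node (.node (.node (.node (.node (.node (.node (.node (.node (.node (.node (.node (.node (.node (.leaf (nat_lit 0)) (.node (.node (.node (.node (.node (.node (.node (.node (.node (.node (.leaf (nat_lit 0)) (.node (.node (.node (.node (.node (.node (.node (.node (.node (.node (.node (.leaf (nat_lit 0)) (.node (.node (.node (.node (.node (.node (.node (.node (.node (.node (.node (.node (.node (.node (.node (.node (.node (.node (.node (.node (.node (.node (.node (.node (.node (.node (.node (.node (.node (.node (.node (.node (.node (.node (.node (.node (.node (.node (.node (.node (.node (.node (.node (.node (.leaf (nat_lit 27)) (.leaf (nat_lit 179))) (.leaf (nat_lit 0))) (.leaf (nat_lit 0))) (.leaf (nat_lit 0))) (.leaf (nat_lit 0))) (.leaf (nat_lit 0))) (.leaf (nat_lit 0))) (.leaf (nat_lit 0))) (.leaf (nat_lit 0))) (.leaf (nat_lit 0))) (.leaf (nat_lit 0))) (.leaf (nat_lit 0))) (.leaf (nat_lit 0))) (.leaf (nat_lit 0))) (.leaf (nat_lit 0))) (.leaf (nat_lit 0))) (.leaf (nat_lit 0))) (.leaf (nat_lit 0))) (.leaf (nat_lit 0))) (.leaf (nat_lit 0))) (.leaf (nat_lit 0))) (.leaf (nat_lit 0))) (.leaf (nat_lit 0))) (.leaf (nat_lit 0))) (.leaf (nat_lit 0))) (.leaf (nat_lit 0))) (.leaf (nat_lit 0))) (.leaf (nat_lit 0))) (.leaf (nat_lit 0))) (.leaf (nat_lit 0))) (.leaf (nat_lit 0))) (.leaf (nat_lit 0))) (.leaf (nat_lit 0))) (.leaf (nat_lit 0))) (.leaf (nat_lit 0))) (.leaf (nat_lit 0))) (.leaf (nat_lit 0))) (.leaf (nat_lit 0))) (.leaf (nat_lit 0))) (.leaf (nat_lit 0))) (.leaf (nat_lit 0))) (.leaf (nat_lit 0))) (.leaf (nat_lit 0))) (.leaf (nat_lit 0)))) (.leaf (nat_lit 0))) (.leaf (nat_lit 0))) (.leaf (nat_lit 0))) (.leaf (nat_lit 0))) (.leaf (nat_lit 0))) (.leaf (nat_lit 0))) (.leaf (nat_lit 0))) (.leaf (nat_lit 0))) (.leaf (nat_lit 0))) (.leaf (nat_lit 0)))) (.leaf (nat_lit 0))) (.leaf (nat_lit 0))) (.leaf (nat_lit 0))) (.leaf (nat_lit 0))) (.leaf (nat_lit 0))) (.leaf (nat_lit 0))) (.leaf (nat_lit 0))) (.leaf (nat_lit 0))) (.leaf (nat_lit 0)))) (.leaf (nat_lit 0))) (.leaf (nat_lit 0))) (.leaf (nat_lit 0))) (.leaf (nat_lit 0))) (.leaf (nat_lit 0))) (.leaf (nat_lit 0))) (.leaf (nat_lit 0))) (.leaf (nat_lit 0))) (.leaf (nat_lit 0))) (.leaf (nat_lit 0))) (.leaf (nat_lit 0))) (.leaf (nat_lit 0))) (.leaf (nat_lit 0))) (.leaf (nat_lit 0))) (.leaf (nat_lit 0))) (.leaf (nat_lit 0))) (.leaf (nat_lit 0))) (.leaf (nat_lit 0))) (.leaf (nat_lit 0))) (.leaf (nat_lit 0))) (.leaf (nat_lit 0))) (.leaf (nat_lit 0))) (.leaf (nat_lit 0))) (.leaf (nat_lit 0))) (.leaf (nat_lit 0))) (.leaf (nat_lit 0))) (.leaf (nat_lit 0))) (.leaf (nat_lit 0))) (.leaf (nat_lit 0))) (.leaf (nat_lit 0))) (.leaf (nat_lit 0))) (.leaf (nat_lit 0)))) (.leaf (nat_lit 0))) (.leaf (nat_lit 0))) (.leaf (nat_lit 0))) (.leaf (nat_lit 0))) (.leaf (nat_lit 0))) (.leaf (nat_lit 0))) (.leaf (nat_lit 0))) (.leaf (nat_lit 0))) (.leaf (nat_lit 0))) (.leaf (nat_lit 0)))) (.leaf (nat_lit 0))) (.leaf (nat_lit 0))) (.leaf (nat_lit 0))) (.leaf (nat_lit 0))) (.leaf (nat_lit 0))) (.leaf (nat_lit 0))) (.leaf (nat_lit 0))) (.leaf (nat_lit 0))) (.leaf (nat_lit 0))) (.leaf (nat_lit 0))) (.leaf (nat_lit 0)))) (.leaf (nat_lit 0))) (.leaf (nat_lit 0))) (.leaf (nat_lit 0))) (.leaf (nat_lit 0))) (.leaf (nat_lit 0))) (.leaf (nat_lit 0))) (.leaf (nat_lit 0))) (.leaf (nat_lit 0))) (.leaf (nat_lit 0))) (.leaf (nat_lit 0))) (.leaf (nat_lit 0))) (.leaf (nat_lit 0))) (.leaf (nat_lit 0))) (.leaf (nat_lit 0))) (.leaf (nat_lit 0))) (.leaf (nat_lit 0))) (.leaf (nat_lit 0))) (.leaf (nat_lit 0))) (.leaf (nat_lit 0))) (.leaf (nat_lit 0))) (.leaf (nat_lit 0))) (.leaf (nat_lit 0))) (.leaf (nat_lit 0))) (.leaf (nat_lit 0))) (.leaf (nat_lit 0))) (.leaf (nat_lit 0))) (.leaf (nat_lit 0))) (.leaf (nat_lit 0))) (.leaf (nat_lit 0))) (.leaf (nat_lit 0))) (.leaf (nat_lit 0))) (.leaf (nat_lit 0)))) (.leaf (nat_lit 0))) (.leaf (nat_lit 0))) (.leaf (nat_lit 0))) (.leaf (nat_lit 0))) (.leaf (nat_lit 0))) (.leaf (nat_lit 0))) (.leaf (nat_lit 0))) (.leaf (nat_lit 0))) (.leaf (nat_lit 0))) (.leaf (nat_lit 0))) (.leaf (nat_lit 0))) (.leaf (nat_lit 0))) (.leaf (nat_lit 0))) (.leaf (nat_lit 0))) (.leaf (nat_lit 0))) (.leaf (nat_lit 0))) (.leaf (nat_lit 0))) (.leaf (nat_lit 0))) (.leaf (nat_lit 0))) (.leaf (nat_lit 0))) (.leaf (nat_lit 0))) (.leaf (nat_lit 0))) (.leaf (nat_lit 0))) (.leaf (nat_lit 0))) (.leaf (nat_lit 0))) (.leaf (nat_lit 0))) (.leaf (nat_lit 0))) (.leaf (nat_lit 0))) (.leaf (nat_lit 0))) (.leaf (nat_lit 0))) (.leaf (nat_lit 0)))) (.leaf (nat_lit 86))) (.leaf (nat_lit 0))) (.leaf (nat_lit 0))) (.leaf (nat_lit 0))) (.leaf (nat_lit 0))) (.leaf (nat_lit 0))) (.leaf (nat_lit 0))) (.leaf (nat_lit 0))) (.leaf (nat_lit 0))) (.leaf (nat_lit 0))) (.leaf (nat_lit 0)))) (.leaf (nat_lit 0))) (.leaf (nat_lit 0))) (.leaf (nat_lit 0))) (.leaf (nat_lit 0))) (.leaf (nat_lit 0))) (.leaf (nat_lit 0))) (.leaf (nat_lit 0))) (.leaf (nat_lit 0))) (.leaf (nat_lit 0))) (.leaf (nat_lit 0)))) (.leaf (nat_lit 0))) (.leaf (nat_lit 0))) (.leaf (nat_lit 0))) (.leaf (nat_lit 0))) (.leaf (nat_lit 0))) (.leaf (nat_lit 0))) (.leaf (nat_lit 0))) (.leaf (nat_lit 0))) (.leaf (nat_lit 0))) (.node (.node (.node (.node (.node (.node (.node (.node (.node (.node (.node (.node (.node (.node (.node (.node (.node (.node (.node (.node (.node (.node (.node (.node (.node (.node (.node (.node (.node (.node (.node (.node (.node (.node (.node (.node (.node (.node (.node (.node (.node (.node (.node (.node (.node (.node (.node (.node (.node (.node (.node (.node (.node (.node (.node (.node (.node (.node (.node (.node (.node (.node (.node (.node (.node (.node (.node (.node (.node (.node (.node (.node (.node (.node (.node (.node (.node (.leaf (nat_lit 0)) (.node (.node (.node (.node (.node (.node (.node (.node (.node (.node (.node (.node (.node (.node (.node (.node (.node (.node (.node (.node (.node (.node (.node (.node (.node (.node (.node (.node (.node (.node (.node (.node (.node (.node (.node (.node (.node (.node (.node (.node (.node (.node (.node (.node (.node (.node (.node (.node (.node (.node (.node (.node (.node (.node (.node (.node (.node (.node (.node (.node (.node (.node (.node (.node (.node (.node (.node (.node (.node (.node (.node (.node (.node (.node (.node (.node (.node (.node (.node (.node (.node (.node (.node (.node (.node (.node (.node (.node (.node (.node (.node (.node (.node (.node (.node (.node (.node (.node (.node (.node (.node (.node (.node (.node (.node (.node (.node (.node (.node (.node (.node (.node (.node (.node (.node (.node (.node (.node (.node (.node (.node (.node (.node (.node (.node (.node (.node (.node (.node (.node (.node (.leaf (nat_lit 142)) (.leaf (nat_lit 23))) (.leaf (nat_lit 0))) (.leaf (nat_lit 0))) (.leaf (nat_lit 0))) (.leaf (nat_lit 0))) (.leaf (nat_lit 0))) (.leaf (nat_lit 0))) (.leaf (nat_lit 0))) (.leaf (nat_lit 0))) (.leaf (nat_lit 0))) (.leaf (nat_lit 0))) (.leaf (nat_lit 0))) (.leaf (nat_lit 0))) (.leaf (nat_lit 0))) (.leaf (nat_lit 0))) (.leaf (nat_lit 0))) (.leaf (nat_lit 0))) (.leaf (nat_lit 0))) (.leaf (nat_lit 0))) (.leaf (nat_lit 0))) (.leaf (nat_lit 0))) (.leaf (nat_lit 194))) (.leaf (nat_lit 170))) (.leaf (nat_lit 0))) (.leaf (nat_lit 0))) (.leaf (nat_lit 0))) (.leaf (nat_lit 0))) (.leaf (nat_lit 0))) (.leaf (nat_lit 0))) (.leaf (nat_lit 0))) (.leaf (nat_lit 0))) (.leaf (nat_lit 0))) (.leaf (nat_lit 0))) (.leaf (nat_lit 0))) (.leaf (nat_lit 0))) (.leaf (nat_lit 0))) (.leaf (nat_lit 0))) (.leaf (nat_lit 0))) (.leaf (nat_lit 0))) (.leaf (nat_lit 0))) (.leaf (nat_lit 0))) (.leaf (nat_lit 0))) (.leaf (nat_lit 0))) (.leaf (nat_lit 0))) (.leaf (nat_lit 0))) (.leaf (nat_lit 0))) (.leaf (nat_lit 0))) (.leaf (nat_lit 0))) (.leaf (nat_lit 0))) (.leaf (nat_lit 0))) (.leaf (nat_lit 0))) (.leaf (nat_lit 0))) (.leaf (nat_lit 0))) (.leaf (nat_lit 0))) (.leaf (nat_lit 0))) (.leaf (nat_lit 0))) (.leaf (nat_lit 0))) (.leaf (nat_lit 0))) (.leaf (nat_lit 0))) (.leaf (nat_lit 0))) (.leaf (nat_lit 0))) (.leaf (nat_lit 0))) (.leaf (nat_lit 0))) (.leaf (nat_lit 0))) (.leaf (nat_lit 0))) (.leaf (nat_lit 0))) (.leaf (nat_lit 0))) (.leaf (nat_lit 0))) (.leaf (nat_lit 0))) (.leaf (nat_lit 0))) (.leaf (nat_lit 0))) (.leaf (nat_lit 0))) (.leaf (nat_lit 0))) (.leaf (nat_lit 0))) (.leaf (nat_lit 0))) (.leaf (nat_lit 0))) (.leaf (nat_lit 0))) (.leaf (nat_lit 0))) (.leaf (nat_lit 0))) (.leaf (nat_lit 0))) (.leaf (nat_lit 0))) (.leaf (nat_lit 0))) (.leaf (nat_lit 0))) (.leaf (nat_lit 0))) (.leaf (nat_lit 0))) (.leaf (nat_lit 0))) (.leaf (nat_lit 0))) (.leaf (nat_lit 0))) (.leaf (nat_lit 0))) (.leaf (nat_lit 0))) (.leaf (nat_lit 0))) (.leaf (nat_lit 0))) (.leaf (nat_lit 0))) (.leaf (nat_lit 0))) (.leaf (nat_lit 0))) (.leaf (nat_lit 0))) (.leaf (nat_lit 0))) (.leaf (nat_lit 0))) (.leaf (nat_lit 0))) (.leaf (nat_lit 0))) (.leaf (nat_lit 0))) (.leaf (nat_lit 0))) (.leaf (nat_lit 0))) (.leaf (nat_lit 0))) (.leaf (nat_lit 0))) (.leaf (nat_lit 0))) (.leaf (nat_lit 0))) (.leaf (nat_lit 0))) (.leaf (nat_lit 0))) (.leaf (nat_lit 0))) (.leaf (nat_lit 0))) (.leaf (nat_lit 0))) (.leaf (nat_lit 0))) (.leaf (nat_lit 0))) (.leaf (nat_lit 0))) (.leaf (nat_lit 0))) (.leaf (nat_lit 0))) (.leaf (nat_lit 0))) (.leaf (nat_lit 0))) (.leaf (nat_lit 0))) (.leaf (nat_lit 0))) (.leaf (nat_lit 0))) (.leaf (nat_lit 0))) (.leaf (nat_lit 0))) (.leaf (nat_lit 0))) (.leaf (nat_lit 0))) (.leaf (nat_lit 0))) (.leaf (nat_lit 0))) (.leaf (nat_lit 0))) (.leaf (nat_lit 0))) (.leaf (nat_lit 0)))) (.leaf (nat_lit 0))) (.leaf (nat_lit 0))) (.leaf (nat_lit 0))) (.leaf (nat_lit 0))) (.leaf (nat_lit 0))) (.leaf (nat_lit 0))) (.leaf (nat_lit 0))) (.leaf (nat_lit 0))) (.leaf (nat_lit 0))) (.leaf (nat_lit 0))) (.leaf (nat_lit 0))) (.leaf (nat_lit 0))) (.leaf (nat_lit 0))) (.leaf (nat_lit 0))) (.leaf (nat_lit 0))) (.leaf (nat_lit 0))) (.leaf (nat_lit 0))) (.leaf (nat_lit 0))) (.leaf (nat_lit 0))) (.leaf (nat_lit 0))) (.leaf (nat_lit 0))) (.leaf (nat_lit 0))) (.leaf (nat_lit 0))) (.leaf (nat_lit 0))) (.leaf (nat_lit 0))) (.leaf (nat_lit 0))) (.leaf (nat_lit 0))) (.leaf (nat_lit 0))) (.leaf (nat_lit 0))) (.leaf (nat_lit 0))) (.leaf (nat_lit 0))) (.leaf (nat_lit 0))) (.leaf (nat_lit 0))) (.leaf (nat_lit 0))) (.leaf (nat_lit 0))) (.leaf (nat_lit 0))) (.leaf (nat_lit 0))) (.leaf (nat_lit 0))) (.leaf (nat_lit 0))) (.leaf (nat_lit 0))) (.leaf (nat_lit 0))) (.leaf (nat_lit 0))) (.leaf (nat_lit 0))) (.node (.node (.node (.node (.node (.node (.node (.node (.node (.node (.node (.node (.node (.node (.node (.node (.node (.node (.node (.node (.node (.leaf (nat_lit 72)) (.leaf (nat_lit 121))) (.leaf (nat_lit 0))) (.leaf (nat_lit 0))) (.leaf (nat_lit 0))) (.leaf (nat_lit 0))) (.leaf (nat_lit 0))) (.leaf (nat_lit 0))) (.leaf (nat_lit 0))) (.leaf (nat_lit 0))) (.leaf (nat_lit 0))) (.leaf (nat_lit 0))) (.leaf (nat_lit 0))) (.leaf (nat_lit 0))) (.leaf (nat_lit 0))) (.leaf (nat_lit 0))) (.leaf (nat_lit 0))) (.leaf (nat_lit 0))) (.leaf (nat_lit 0))) (.leaf (nat_lit 0))) (.leaf (nat_lit 0))) (.leaf (nat_lit 0)))) (.node (.node (.node (.node (.node (.node (.node (.node (.node (.node (.node (.node (.node (.node (.node (.node (.node (.node (.node (.node (.node (.node (.leaf (nat_lit 180)) (.node (.node (.node (.node (.node (.node (.node (.node (.node (.node (.node (.leaf (nat_lit 42)) (.node (.node (.node (.node (.node (.node (.node (.node (.node (.node (.node (.node (.leaf (nat_lit 0)) (.node (.node (.node (.node (.node (.node (.node (.node (.node (.node (.node (.node (.node (.node (.node (.node (.node (.node (.node (.node (.node (.node (.leaf (nat_lit 0)) (.node (.node (.node (.node (.node (.node (.node (.node (.node (.node (.leaf (nat_lit 116)) (.leaf (nat_lit 182))) (.leaf (nat_lit 0))) (.leaf (nat_lit 0))) (.leaf (nat_lit 0))) (.leaf (nat_lit 0))) (.leaf (nat_lit 0))) (.leaf (nat_lit 0))) (.leaf (nat_lit 0))) (.leaf (nat_lit 0))) (.leaf (nat_lit 0)))) (.node (.node (.node (.node (.node (.node (.node (.node (.node (.node (.node (.leaf (nat_lit 9)) (.leaf (nat_lit 171))) (.leaf (nat_lit 0))) (.leaf (nat_lit 0))) (.leaf (nat_lit 0))) (.leaf (nat_lit 0))) (.leaf (nat_lit 0))) (.leaf (nat_lit 0))) (.leaf (nat_lit 0))) (.leaf (nat_lit 0))) (.leaf (nat_lit 0))) (.leaf (nat_lit 0)))) (.leaf (nat_lit 0))) (.leaf (nat_lit 0))) (.leaf (nat_lit 0))) (.leaf (nat_lit 0))) (.leaf (nat_lit 0))) (.leaf (nat_lit 0))) (.leaf (nat_lit 0))) (.leaf (nat_lit 0))) (.leaf (nat_lit 0))) (.leaf (nat_lit 0))) (.leaf (nat_lit 0))) (.leaf (nat_lit 0))) (.leaf (nat_lit 0))) (.leaf (nat_lit 0))) (.leaf (nat_lit 0))) (.leaf (nat_lit 0))) (.leaf (nat_lit 0))) (.leaf (nat_lit 0))) (.leaf (nat_lit 0))) (.leaf (nat_lit 0)))) (.leaf (nat_lit 0))) (.leaf (nat_lit 0))) (.leaf (nat_lit 0))) (.leaf (nat_lit 0))) (.leaf (nat_lit 0))) (.leaf (nat_lit 0))) (.leaf (nat_lit 0))) (.leaf (nat_lit 0))) (.leaf (nat_lit 0))) (.leaf (nat_lit 0))) (.leaf (nat_lit 0)))) (.leaf (nat_lit 0))) (.leaf (nat_lit 0))) (.leaf (nat_lit 0))) (.leaf (nat_lit 0))) (.leaf (nat_lit 0))) (.leaf (nat_lit 0))) (.leaf (nat_lit 0))) (.leaf (nat_lit 0))) (.leaf (nat_lit 0))) (.leaf (nat_lit 0)))) (.leaf (nat_lit 0))) (.leaf (nat_lit 0))) (.leaf (nat_lit 0))) (.leaf (nat_lit 0))) (.leaf (nat_lit 0))) (.leaf (nat_lit 0))) (.leaf (nat_lit 0))) (.leaf (nat_lit 0))) (.leaf (nat_lit 0))) (.leaf (nat_lit 0))) (.leaf (nat_lit 0))) (.leaf (nat_lit 0))) (.leaf (nat_lit 0))) (.leaf (nat_lit 0))) (.leaf (nat_lit 0))) (.leaf (nat_lit 0))) (.leaf (nat_lit 0))) (.leaf (nat_lit 0))) (.leaf (nat_lit 0))) (.leaf (nat_lit 0))) (.leaf (nat_lit 0)))) (.leaf (nat_lit 0))) (.leaf (nat_lit 0))) (.leaf (nat_lit 0))) (.leaf (nat_lit 0))) (.leaf (nat_lit 0))) (.leaf (nat_lit 0))) (.leaf (nat_lit 0))) (.leaf (nat_lit 0))) (.leaf (nat_lit 0))) (.node (.node (.node (.node (.node (.node (.node (.node (.node (.node (.node (.leaf (nat_lit 0)) (.node (.node (.node (.node (.node (.node (.node (.node (.node (.node (.leaf (nat_lit 113)) (.node (.node (.node (.node (.node (.node (.node (.node (.node (.node (.node (.node (.node (.node (.node (.node (.node (.node (.node (.node (.node (.node (.node (.node (.node (.node (.node (.node (.node (.node (.node (.node (.node (.node (.leaf (nat_lit 0)) (.node (.node (.node (.node (.node (.node (.node (.node (.node (.node (.node (.node (.node (.node (.node (.node (.node (.node (.node (.node (.node (.node (.leaf (nat_lit 0)) (.node (.node (.node (.node (.node (.node (.node (.node (.node (.node (.node (.node (.node (.node (.node (.node (.node (.node (.node (.node (.node (.node (.node (.node (.node (.node (.node (.node (.node (.node (.node (.node (.node (.node (.node (.node (.node (.node (.node (.node (.node (.node (.node (.leaf (nat_lit 148)) (.leaf (nat_lit 40))) (.leaf (nat_lit 0))) (.leaf (nat_lit 0))) (.leaf (nat_lit 0))) (.leaf (nat_lit 0))) (.leaf (nat_lit 0))) (.leaf (nat_lit 0))) (.leaf (nat_lit 0))) (.leaf (nat_lit 0))) (.leaf (nat_lit 0))) (.leaf (nat_lit 0))) (.leaf (nat_lit 0))) (.leaf (nat_lit 0))) (.leaf (nat_lit 0))) (.leaf (nat_lit 0))) (.leaf (nat_lit 0))) (.leaf (nat_lit 0))) (.leaf (nat_lit 0))) (.leaf (nat_lit 0))) (.leaf (nat_lit 0))) (.leaf (nat_lit 0))) (.leaf (nat_lit 0))) (.leaf (nat_lit 0))) (.leaf (nat_lit 0))) (.leaf (nat_lit 0))) (.leaf (nat_lit 0))) (.leaf (nat_lit 0))) (.leaf (nat_lit 0))) (.leaf (nat_lit 0))) (.leaf (nat_lit 0))) (.leaf (nat_lit 0))) (.leaf (nat_lit 0))) (.leaf (nat_lit 0))) (.leaf (nat_lit 0))) (.leaf (nat_lit 0))) (.leaf (nat_lit 0))) (.leaf (nat_lit 0))) (.leaf (nat_lit 0))) (.leaf (nat_lit 0))) (.leaf (nat_lit 0))) (.leaf (nat_lit 0))) (.leaf (nat_lit 0))) (.leaf (nat_lit 0)))) (.node (.node (.node (.node (.node (.node (.node (.node (.node (.node (.node (.node (.node (.node (.node (.node (.node (.node (.node (.node (.node (.node (.node (.node (.node (.node (.node (.node (.node (.node (.node (.node (.node (.node (.node (.node (.node (.node (.node (.node (.node (.node (.node (.node (.leaf (nat_lit 157)) (.leaf (nat_lit 166))) (.leaf (nat_lit 0))) (.leaf (nat_lit 0))) (.leaf (nat_lit 0))) (.leaf (nat_lit 0))) (.leaf (nat_lit 0))) (.leaf (nat_lit 0))) (.leaf (nat_lit 0))) (.leaf (nat_lit 0))) (.leaf (nat_lit 0))) (.leaf (nat_lit 0))) (.leaf (nat_lit 0))) (.leaf (nat_lit 0))) (.leaf (nat_lit 0))) (.leaf (nat_lit 0))) (.leaf (nat_lit 0))) (.leaf (nat_lit 0))) (.leaf (nat_lit 0))) (.leaf (nat_lit 0))) (.leaf (nat_lit 0))) (.leaf (nat_lit 0))) (.leaf (nat_lit 0))) (.leaf (nat_lit 0))) (.leaf (nat_lit 0))) (.leaf (nat_lit 0))) (.leaf (nat_lit 0))) (.leaf (nat_lit 0))) (.leaf (nat_lit 0))) (.leaf (nat_lit 0))) (.leaf (nat_lit 0))) (.leaf (nat_lit 0))) (.leaf (nat_lit 0))) (.leaf (nat_lit 0))) (.leaf (nat_lit 0))) (.leaf (nat_lit 0))) (.leaf (nat_lit 0))) (.leaf (nat_lit 0))) (.leaf (nat_lit 0))) (.leaf (nat_lit 0))) (.leaf (nat_lit 0))) (.leaf (nat_lit 0))) (.leaf (nat_lit 0))) (.leaf (nat_lit 0))) (.leaf (nat_lit 0)))) (.leaf (nat_lit 0))) (.leaf (nat_lit 0))) (.leaf (nat_lit 0))) (.leaf (nat_lit 0))) (.leaf (nat_lit 0))) (.leaf (nat_lit 0))) (.leaf (nat_lit 0))) (.leaf (nat_lit 0))) (.leaf (nat_lit 0))) (.leaf (nat_lit 0))) (.leaf (nat_lit 0))) (.leaf (nat_lit 0))) (.leaf (nat_lit 0))) (.leaf (nat_lit 0))) (.leaf (nat_lit 0))) (.leaf (nat_lit 0))) (.leaf (nat_lit 0))) (.leaf (nat_lit 0))) (.leaf (nat_lit 0))) (.leaf (nat_lit 0)))) (.leaf (nat_lit 0))) (.leaf (nat_lit 0))) (.leaf (nat_lit 0))) (.leaf (nat_lit 0))) (.leaf (nat_lit 0))) (.leaf (nat_lit 0))) (.leaf (nat_lit 0))) (.leaf (nat_lit 0))) (.leaf (nat_lit 0))) (.leaf (nat_lit 0))) (.leaf (nat_lit 0))) (.leaf (nat_lit 0))) (.leaf (nat_lit 0))) (.leaf (nat_lit 0))) (.leaf (nat_lit 0))) (.leaf (nat_lit 0))) (.leaf (nat_lit 0))) (.leaf (nat_lit 0))) (.leaf (nat_lit 0))) (.leaf (nat_lit 0))) (.leaf (nat_lit 0))) (.leaf (nat_lit 0))) (.leaf (nat_lit 0))) (.leaf (nat_lit 0))) (.leaf (nat_lit 0))) (.leaf (nat_lit 0))) (.leaf (nat_lit 0))) (.leaf (nat_lit 0))) (.leaf (nat_lit 0))) (.leaf (nat_lit 0))) (.leaf (nat_lit 0))) (.leaf (nat_lit 0))) (.leaf (nat_lit 0)))) (.leaf (nat_lit 0))) (.leaf (nat_lit 0))) (.leaf (nat_lit 0))) (.leaf (nat_lit 0))) (.leaf (nat_lit 0))) (.leaf (nat_lit 0))) (.leaf (nat_lit 0))) (.leaf (nat_lit 0))) (.leaf (nat_lit 0)))) (.leaf (nat_lit 71))) (.leaf (nat_lit 0))) (.leaf (nat_lit 0))) (.leaf (nat_lit 0))) (.leaf (nat_lit 0))) (.leaf (nat_lit 0))) (.leaf (nat_lit 0))) (.leaf (nat_lit 0))) (.leaf (nat_lit 0))) (.leaf (nat_lit 0)))) (.node (.node (.node (.node (.node (.node (.node (.node (.node (.node (.node (.leaf (nat_lit 117)) (.leaf (nat_lit 7))) (.leaf (nat_lit 0))) (.leaf (nat_lit 0))) (.leaf (nat_lit 0))) (.leaf (nat_lit 0))) (.leaf (nat_lit 0))) (.leaf (nat_lit 0))) (.leaf (nat_lit 0))) (.leaf (nat_lit 0))) (.leaf (nat_lit 0))) (.leaf (nat_lit 0)))) (.leaf (nat_lit 0))) (.leaf (nat_lit 0))) (.leaf (nat_lit 0))) (.leaf (nat_lit 0))) (.leaf (nat_lit 0))) (.leaf (nat_lit 0))) (.leaf (nat_lit 0))) (.leaf (nat_lit 0))) (.leaf (nat_lit 0))) (.node (.node (.node (.node (.node (.node (.node (.node (.node (.node (.node (.node (.node (.node (.node (.node (.node (.node (.node (.node (.node (.node (.node (.node (.node (.node (.node (.node (.node (.node (.node (.node (.leaf (nat_lit 77)) (.leaf (nat_lit 209))) (.leaf (nat_lit 0))) (.leaf (nat_lit 0))) (.leaf (nat_lit 0))) (.leaf (nat_lit 0))) (.leaf (nat_lit 0))) (.leaf (nat_lit 0))) (.leaf (nat_lit 0))) (.leaf (nat_lit 0))) (.leaf (nat_lit 0))) (.leaf (nat_lit 0))) (.leaf (nat_lit 0))) (.leaf (nat_lit 0))) (.leaf (nat_lit 0))) (.leaf (nat_lit 0))) (.leaf (nat_lit 0))) (.leaf (nat_lit 0))) (.leaf (nat_lit 0))) (.leaf (nat_lit 0))) (.leaf (nat_lit 0))) (.leaf (nat_lit 0))) (.leaf (nat_lit 12))) (.node (.node (.node (.node (.node (.node (.node (.node (.node (.node (.node (.node (.node (.node (.node (.node (.node (.node (.node (.node (.node (.node (.node (.node (.node (.node (.node (.node (.node (.node (.node (.node (.node (.node (.leaf (nat_lit 0)) (.node (.node (.node (.node (.node (.node (.node (.node (.node (.node (.node (.node (.node (.node (.node (.node (.node (.node (.node (.node (.node (.node (.leaf (nat_lit 0)) (.node (.node (.node (.node (.node (.node (.node (.node (.node (.node (.node (.node (.node (.node (.node (.node (.node (.node (.node (.node (.node (.node (.node (.node (.node (.node (.node (.node (.node (.node (.node (.node (.node (.node (.node (.node (.node (.node (.node (.node (.node (.node (.node (.node (.leaf (nat_lit 0)) (.node (.node (.node (.node (.node (.node (.node (.node (.node (.node (.leaf (nat_lit 98)) (.leaf (nat_lit 49))) (.leaf (nat_lit 0))) (.leaf (nat_lit 0))) (.leaf (nat_lit 0))) (.leaf (nat_lit 0))) (.leaf (nat_lit 0))) (.leaf (nat_lit 0))) (.leaf (nat_lit 0))) (.leaf (nat_lit 0))) (.leaf (nat_lit 0)))) (.node (.node (.node (.node (.node (.node (.node (.node (.node (.node (.node (.leaf (nat_lit 70)) (.leaf (nat_lit 58))) (.leaf (nat_lit 0))) (.leaf (nat_lit 0))) (.leaf (nat_lit 0))) (.leaf (nat_lit 0))) (.leaf (nat_lit 0))) (.leaf (nat_lit 0))) (.leaf (nat_lit 0))) (.leaf (nat_lit 0))) (.leaf (nat_lit 0))) (.leaf (nat_lit 0)))) (.leaf (nat_lit 0))) (.leaf (nat_lit 0))) (.leaf (nat_lit 0))) (.leaf (nat_lit 0))) (.leaf (nat_lit 0))) (.leaf (nat_lit 0))) (.leaf (nat_lit 0))) (.leaf (nat_lit 0))) (.leaf (nat_lit 0))) (.leaf (nat_lit 0))) (.leaf (nat_lit 0))) (.leaf (nat_lit 0))) (.leaf (nat_lit 0))) (.leaf (nat_lit 0))) (.leaf (nat_lit 0))) (.leaf (nat_lit 0))) (.leaf (nat_lit 0))) (.leaf (nat_lit 0))) (.leaf (nat_lit 0))) (.leaf (nat_lit 0))) (.leaf (nat_lit 0))) (.leaf (nat_lit 0))) (.leaf (nat_lit 0))) (.leaf (nat_lit 0))) (.leaf (nat_lit 0))) (.leaf (nat_lit 0))) (.leaf (nat_lit 0))) (.leaf (nat_lit 0))) (.leaf (nat_lit 0))) (.leaf (nat_lit 0))) (.leaf (nat_lit 0))) (.leaf (nat_lit 0))) (.leaf (nat_lit 0))) (.leaf (nat_lit 0))) (.leaf (nat_lit 0))) (.leaf (nat_lit 0))) (.leaf (nat_lit 0))) (.leaf (nat_lit 0))) (.leaf (nat_lit 0))) (.leaf (nat_lit 0))) (.leaf (nat_lit 0))) (.leaf (nat_lit 0)))) (.leaf (nat_lit 0))) (.leaf (nat_lit 0))) (.leaf (nat_lit 0))) (.leaf (nat_lit 0))) (.leaf (nat_lit 0))) (.leaf (nat_lit 0))) (.leaf (nat_lit 0))) (.leaf (nat_lit 0))) (.leaf (nat_lit 0))) (.leaf (nat_lit 0))) (.leaf (nat_lit 0))) (.leaf (nat_lit 0))) (.leaf (nat_lit 0))) (.leaf (nat_lit 0))) (.leaf (nat_lit 0))) (.leaf (nat_lit 0))) (.leaf (nat_lit 0))) (.leaf (nat_lit 0))) (.leaf (nat_lit 0))) (.leaf (nat_lit 0))) (.leaf (nat_lit 0)))) (.leaf (nat_lit 152))) (.leaf (nat_lit 0))) (.leaf (nat_lit 0))) (.leaf (nat_lit 0))) (.leaf (nat_lit 0))) (.leaf (nat_lit 0))) (.leaf (nat_lit 0))) (.leaf (nat_lit 0))) (.leaf (nat_lit 0))) (.leaf (nat_lit 0))) (.leaf (nat_lit 0))) (.leaf (nat_lit 0))) (.leaf (nat_lit 0))) (.leaf (nat_lit 0))) (.leaf (nat_lit 0))) (.leaf (nat_lit 0))) (.leaf (nat_lit 0))) (.leaf (nat_lit 0))) (.leaf (nat_lit 0))) (.leaf (nat_lit 0))) (.leaf (nat_lit 0))) (.leaf (nat_lit 0))) (.leaf (nat_lit 0))) (.leaf (nat_lit 0))) (.leaf (nat_lit 0))) (.leaf (nat_lit 0))) (.leaf (nat_lit 0))) (.leaf (nat_lit 0))) (.leaf (nat_lit 0))) (.leaf (nat_lit 0))) (.leaf (nat_lit 0))) (.leaf (nat_lit 0))) (.leaf (nat_lit 0)))) (.leaf (nat_lit 0))) (.leaf (nat_lit 0))) (.leaf (nat_lit 0))) (.leaf (nat_lit 0))) (.leaf (nat_lit 0))) (.leaf (nat_lit 0))) (.leaf (nat_lit 0))) (.leaf (nat_lit 0))) (.leaf (nat_lit 0)))) (.node (.node (.node (.node (.node (.node (.node (.node (.node (.node (.node (.node (.node (.node (.node (.node (.node (.node (.node (.node (.node (.node (.node (.node (.node (.node (.node (.node (.node (.node (.node (.node (.node (.node (.leaf (nat_lit 0)) (.node (.node (.node (.node (.node (.node (.node (.node (.node (.node (.node (.node (.node (.node (.node (.node (.node (.node (.node (.node (.node (.node (.leaf (nat_lit 0)) (.node (.node (.node (.node (.node (.node (.node (.node (.node (.node (.node (.leaf (nat_lit 0)) (.node (.node (.node (.node (.node (.node (.node (.node (.node (.node (.node (.node (.node (.node (.node (.node (.node (.node (.node (.node (.node (.node (.node (.node (.node (.node (.node (.node (.node (.node (.node (.node (.node (.leaf (nat_lit 0)) (.node (.node (.node (.node (.node (.node (.node (.node (.node (.node (.leaf (nat_lit 140)) (.leaf (nat_lit 25))) (.leaf (nat_lit 0))) (.leaf (nat_lit 0))) (.leaf (nat_lit 0))) (.leaf (nat_lit 0))) (.leaf (nat_lit 0))) (.leaf (nat_lit 0))) (.leaf (nat_lit 0))) (.leaf (nat_lit 0))) (.leaf (nat_lit 0)))) (.node (.node (.node (.node (.node (.node (.node (.node (.node (.node (.node (.leaf (nat_lit 0)) (.leaf (nat_lit 189))) (.leaf (nat_lit 0))) (.leaf (nat_lit 0))) (.leaf (nat_lit 0))) (.leaf (nat_lit 0))) (.leaf (nat_lit 0))) (.leaf (nat_lit 0))) (.leaf (nat_lit 0))) (.leaf (nat_lit 0))) (.leaf (nat_lit 0))) (.leaf (nat_lit 0)))) (.leaf (nat_lit 0))) (.leaf (nat_lit 0))) (.leaf (nat_lit 0))) (.leaf (nat_lit 0))) (.leaf (nat_lit 0))) (.leaf (nat_lit 0))) (.leaf (nat_lit 0))) (.leaf (nat_lit 0))) (.leaf (nat_lit 0))) (.leaf (nat_lit 0))) (.leaf (nat_lit 0))) (.leaf (nat_lit 0))) (.leaf (nat_lit 0))) (.leaf (nat_lit 0))) (.leaf (nat_lit 0))) (.leaf (nat_lit 0))) (.leaf (nat_lit 0))) (.leaf (nat_lit 0))) (.leaf (nat_lit 0))) (.leaf (nat_lit 0))) (.leaf (nat_lit 0))) (.leaf (nat_lit 0))) (.leaf (nat_lit 0))) (.leaf (nat_lit 0))) (.leaf (nat_lit 0))) (.leaf (nat_lit 0))) (.leaf (nat_lit 0))) (.leaf (nat_lit 0))) (.leaf (nat_lit 0))) (.leaf (nat_lit 0))) (.leaf (nat_lit 0)))) (.leaf (nat_lit 0))) (.leaf (nat_lit 0))) (.leaf (nat_lit 0))) (.leaf (nat_lit 0))) (.leaf (nat_lit 0))) (.leaf (nat_lit 0))) (.leaf (nat_lit 0))) (.leaf (nat_lit 0))) (.leaf (nat_lit 0))) (.leaf (nat_lit 0)))) (.leaf (nat_lit 111))) (.leaf (nat_lit 0))) (.leaf (nat_lit 0))) (.leaf (nat_lit 0))) (.leaf (nat_lit 0))) (.leaf (nat_lit 0))) (.leaf (nat_lit 0))) (.leaf (nat_lit 0))) (.leaf (nat_lit 0))) (.leaf (nat_lit 0))) (.leaf (nat_lit 0))) (.leaf (nat_lit 0))) (.leaf (nat_lit 0))) (.leaf (nat_lit 0))) (.leaf (nat_lit 0))) (.leaf (nat_lit 0))) (.leaf (nat_lit 0))) (.leaf (nat_lit 0))) (.leaf (nat_lit 0))) (.leaf (nat_lit 0))) (.leaf (nat_lit 0)))) (.leaf (nat_lit 39))) (.leaf (nat_lit 0))) (.leaf (nat_lit 0))) (.leaf (nat_lit 0))) (.leaf (nat_lit 0))) (.leaf (nat_lit 0))) (.leaf (nat_lit 0))) (.leaf (nat_lit 0))) (.leaf (nat_lit 0))) (.leaf (nat_lit 0))) (.leaf (nat_lit 0))) (.leaf (nat_lit 0))) (.leaf (nat_lit 0))) (.leaf (nat_lit 0))) (.leaf (nat_lit 0))) (.leaf (nat_lit 0))) (.leaf (nat_lit 0))) (.leaf (nat_lit 0))) (.leaf (nat_lit 0))) (.leaf (nat_lit 0))) (.leaf (nat_lit 0))) (.leaf (nat_lit 129))) (.leaf (nat_lit 176))) (.leaf (nat_lit 0))) (.leaf (nat_lit 0))) (.leaf (nat_lit 0))) (.leaf (nat_lit 0))) (.leaf (nat_lit 0))) (.leaf (nat_lit 0))) (.leaf (nat_lit 0))) (.leaf (nat_lit 0))) (.leaf (nat_lit 0))) (.leaf (nat_lit 0)))) (.leaf (nat_lit 0))) (.leaf (nat_lit 0))) (.leaf (nat_lit 0))) (.leaf (nat_lit 0))) (.leaf (nat_lit 0))) (.leaf (nat_lit 0))) (.leaf (nat_lit 0))) (.leaf (nat_lit 0))) (.leaf (nat_lit 0)))) (.node (.node (.node (.node (.node (.node (.node (.node (.node (.node (.node (.node (.node (.node (.node (.node (.node (.node (.node (.node (.node (.node (.node (.node (.node (.node (.node (.node (.node (.node (.node (.node (.node (.node (.node (.node (.node (.node (.node (.node (.node (.node (.node (.node (.node (.node (.node (.node (.node (.node (.node (.node (.node (.node (.node (.node (.node (.node (.node (.node (.node (.node (.node (.node (.node (.node (.node (.node (.node (.node (.node (.node (.node (.node (.node (.node (.node (.leaf (nat_lit 0)) (.node (.node (.node (.node (.node (.node (.node (.node (.node (.node (.node (.node (.node (.node (.node (.node (.node (.node (.node (.node (.node (.node (.node (.node (.node (.node (.node (.node (.node (.node (.node (.node (.node (.node (.node (.node (.node (.node (.node (.node (.node (.node (.node (.node (.node (.node (.node (.node (.node (.node (.node (.node (.node (.node (.node (.node (.node (.node (.node (.node (.node (.node (.node (.node (.node (.node (.node (.node (.node (.node (.node (.node (.node (.node (.node (.node (.node (.node (.node (.node (.node (.node (.node (.node (.node (.node (.node (.node (.node (.node (.node (.node (.node (.node (.node (.node (.node (.node (.node (.node (.node (.node (.node (.node (.node (.node (.node (.node (.node (.node (.node (.node (.node (.node (.node (.node (.node (.node (.node (.node (.node (.node (.node (.node (.node (.node (.node (.node (.node (.node (.node (.node (.leaf (nat_lit 53)) (.leaf (nat_lit 175))) (.leaf (nat_lit 0))) (.leaf (nat_lit 0))) (.leaf (nat_lit 0))) (.leaf (nat_lit 0))) (.leaf (nat_lit 0))) (.leaf (nat_lit 0))) (.leaf (nat_lit 0))) (.leaf (nat_lit 0))) (.leaf (nat_lit 0))) (.leaf (nat_lit 0))) (.leaf (nat_lit 0))) (.leaf (nat_lit 0))) (.leaf (nat_lit 0))) (.leaf (nat_lit 0))) (.leaf (nat_lit 0))) (.leaf (nat_lit 0))) (.leaf (nat_lit 0))) (.leaf (nat_lit 0))) (.leaf (nat_lit 0))) (.leaf (nat_lit 0))) (.leaf (nat_lit 106))) (.leaf (nat_lit 38))) (.leaf (nat_lit 0))) (.leaf (nat_lit 0))) (.leaf (nat_lit 0))) (.leaf (nat_lit 0))) (.leaf (nat_lit 0))) (.leaf (nat_lit 0))) (.leaf (nat_lit 0))) (.leaf (nat_lit 0))) (.leaf (nat_lit 0))) (.leaf (nat_lit 0))) (.leaf (nat_lit 0))) (.leaf (nat_lit 0))) (.leaf (nat_lit 0))) (.leaf (nat_lit 0))) (.leaf (nat_lit 0))) (.leaf (nat_lit 0))) (.leaf (nat_lit 0))) (.leaf (nat_lit 0))) (.leaf (nat_lit 0))) (.leaf (nat_lit 0))) (.leaf (nat_lit 0))) (.leaf (nat_lit 0))) (.leaf (nat_lit 0))) (.leaf (nat_lit 0))) (.leaf (nat_lit 0))) (.leaf (nat_lit 0))) (.leaf (nat_lit 0))) (.leaf (nat_lit 0))) (.leaf (nat_lit 0))) (.leaf (nat_lit 0))) (.leaf (nat_lit 0))) (.leaf (nat_lit 0))) (.leaf (nat_lit 0))) (.leaf (nat_lit 0))) (.leaf (nat_lit 0))) (.leaf (nat_lit 0))) (.leaf (nat_lit 0))) (.leaf (nat_lit 0))) (.leaf (nat_lit 0))) (.leaf (nat_lit 0))) (.leaf (nat_lit 0))) (.leaf (nat_lit 0))) (.leaf (nat_lit 0))) (.leaf (nat_lit 0))) (.leaf (nat_lit 0))) (.leaf (nat_lit 0))) (.leaf (nat_lit 0))) (.leaf (nat_lit 0))) (.leaf (nat_lit 0))) (.leaf (nat_lit 0))) (.leaf (nat_lit 0))) (.leaf (nat_lit 0))) (.leaf (nat_lit 0))) (.leaf (nat_lit 0))) (.leaf (nat_lit 0))) (.leaf (nat_lit 0))) (.leaf (nat_lit 0))) (.leaf (nat_lit 0))) (.leaf (nat_lit 0))) (.leaf (nat_lit 0))) (.leaf (nat_lit 0))) (.leaf (nat_lit 0))) (.leaf (nat_lit 0))) (.leaf (nat_lit 0))) (.leaf (nat_lit 0))) (.leaf (nat_lit 0))) (.leaf (nat_lit 0))) (.leaf (nat_lit 0))) (.leaf (nat_lit 0))) (.leaf (nat_lit 0))) (.leaf (nat_lit 0))) (.leaf (nat_lit 0))) (.leaf (nat_lit 0))) (.leaf (nat_lit 0))) (.leaf (nat_lit 0))) (.leaf (nat_lit 0))) (.leaf (nat_lit 0))) (.leaf (nat_lit 0))) (.leaf (nat_lit 0))) (.leaf (nat_lit 0))) (.leaf (nat_lit 0))) (.leaf (nat_lit 0))) (.leaf (nat_lit 0))) (.leaf (nat_lit 0))) (.leaf (nat_lit 0))) (.leaf (nat_lit 0))) (.leaf (nat_lit 0))) (.leaf (nat_lit 0))) (.leaf (nat_lit 0))) (.leaf (nat_lit 0))) (.leaf (nat_lit 0))) (.leaf (nat_lit 0))) (.leaf (nat_lit 0))) (.leaf (nat_lit 0))) (.leaf (nat_lit 0))) (.leaf (nat_lit 0))) (.leaf (nat_lit 0))) (.leaf (nat_lit 0))) (.leaf (nat_lit 0))) (.leaf (nat_lit 0))) (.leaf (nat_lit 0))) (.leaf (nat_lit 0))) (.leaf (nat_lit 0))) (.leaf (nat_lit 0))) (.leaf (nat_lit 0))) (.leaf (nat_lit 0))) (.leaf (nat_lit 0))) (.leaf (nat_lit 0))) (.leaf (nat_lit 0)))) (.leaf (nat_lit 0))) (.leaf (nat_lit 0))) (.leaf (nat_lit 0))) (.leaf (nat_lit 0))) (.leaf (nat_lit 0))) (.leaf (nat_lit 0))) (.leaf (nat_lit 0))) (.leaf (nat_lit 0))) (.leaf (nat_lit 0))) (.leaf (nat_lit 0))) (.leaf (nat_lit 0))) (.leaf (nat_lit 0))) (.leaf (nat_lit 0))) (.leaf (nat_lit 0))) (.leaf (nat_lit 0))) (.leaf (nat_lit 0))) (.leaf (nat_lit 0))) (.leaf (nat_lit 0))) (.leaf (nat_lit 0))) (.leaf (nat_lit 0))) (.leaf (nat_lit 0))) (.leaf (nat_lit 0))) (.leaf (nat_lit 0))) (.leaf (nat_lit 0))) (.leaf (nat_lit 0))) (.leaf (nat_lit 0))) (.leaf (nat_lit 0))) (.leaf (nat_lit 0))) (.leaf (nat_lit 0))) (.leaf (nat_lit 0))) (.leaf (nat_lit 0))) (.leaf (nat_lit 0))) (.leaf (nat_lit 0))) (.leaf (nat_lit 0))) (.leaf (nat_lit 0))) (.leaf (nat_lit 0))) (.leaf (nat_lit 0))) (.leaf (nat_lit 0))) (.leaf (nat_lit 0))) (.leaf (nat_lit 0))) (.leaf (nat_lit 0))) (.leaf (nat_lit 0))) (.node (.node (.node (.node (.node (.node (.node (.node (.node (.node (.node (.node (.node (.node (.node (.node (.node (.node (.node (.node (.node (.node (.leaf (nat_lit 0)) (.node (.node (.node (.node (.node (.node (.node (.node (.node (.node (.node (.leaf (nat_lit 0)) (.node (.node (.node (.node (.node (.node (.node (.node (.node (.node (.leaf (nat_lit 0)) (.node (.node (.node (.node (.node (.node (.node (.node (.node (.node (.node (.node (.node (.node (.node (.node (.node (.node (.node (.node (.node (.node (.node (.leaf (nat_lit 0)) (.node (.node (.node (.node (.node (.node (.node (.node (.node (.node (.leaf (nat_lit 138)) (.leaf (nat_lit 59))) (.leaf (nat_lit 0))) (.leaf (nat_lit 0))) (.leaf (nat_lit 0))) (.leaf (nat_lit 0))) (.leaf (nat_lit 0))) (.leaf (nat_lit 0))) (.leaf (nat_lit 0))) (.leaf (nat_lit 0))) (.leaf (nat_lit 0)))) (.node (.node (.node (.node (.node (.node (.node (.node (.node (.node (.node (.leaf (nat_lit 119)) (.leaf (nat_lit 17))) (.leaf (nat_lit 0))) (.leaf (nat_lit 0))) (.leaf (nat_lit 0))) (.leaf (nat_lit 0))) (.leaf (nat_lit 0))) (.leaf (nat_lit 0))) (.leaf (nat_lit 0))) (.leaf (nat_lit 0))) (.leaf (nat_lit 0))) (.leaf (nat_lit 0)))) (.leaf (nat_lit 0))) (.leaf (nat_lit 0))) (.leaf (nat_lit 0))) (.leaf (nat_lit 0))) (.leaf (nat_lit 0))) (.leaf (nat_lit 0))) (.leaf (nat_lit 0))) (.leaf (nat_lit 0))) (.leaf (nat_lit 0))) (.leaf (nat_lit 0))) (.leaf (nat_lit 0))) (.leaf (nat_lit 0))) (.leaf (nat_lit 0))) (.leaf (nat_lit 0))) (.leaf (nat_lit 0))) (.leaf (nat_lit 0))) (.leaf (nat_lit 0))) (.leaf (nat_lit 0))) (.leaf (nat_lit 0))) (.leaf (nat_lit 0))) (.leaf (nat_lit 0)))) (.leaf (nat_lit 0))) (.leaf (nat_lit 0))) (.leaf (nat_lit 0))) (.leaf (nat_lit 0))) (.leaf (nat_lit 0))) (.leaf (nat_lit 0))) (.leaf (nat_lit 0))) (.leaf (nat_lit 0))) (.leaf (nat_lit 0)))) (.leaf (nat_lit 89))) (.leaf (nat_lit 0))) (.leaf (nat_lit 0))) (.leaf (nat_lit 0))) (.leaf (nat_lit 0))) (.leaf (nat_lit 0))) (.leaf (nat_lit 0))) (.leaf (nat_lit 0))) (.leaf (nat_lit 0))) (.leaf (nat_lit 0)))) (.leaf (nat_lit 159))) (.leaf (nat_lit 0))) (.leaf (nat_lit 0))) (.leaf (nat_lit 0))) (.leaf (nat_lit 0))) (.leaf (nat_lit 0))) (.leaf (nat_lit 0))) (.leaf (nat_lit 0))) (.leaf (nat_lit 0))) (.leaf (nat_lit 0))) (.leaf (nat_lit 0))) (.leaf (nat_lit 0))) (.leaf (nat_lit 0))) (.leaf (nat_lit 0))) (.leaf (nat_lit 0))) (.leaf (nat_lit 0))) (.leaf (nat_lit 0))) (.leaf (nat_lit 0))) (.leaf (nat_lit 0))) (.leaf (nat_lit 0))) (.leaf (nat_lit 0)))) (.node (.node (.node (.node (.node (.node (.node (.node (.node (.node (.node (.node (.node (.node (.node (.node (.node (.node (.node (.node (.node (.node (.leaf (nat_lit 5)) (.leaf (nat_lit 110))) (.leaf (nat_lit 0))) (.leaf (nat_lit 0))) (.leaf (nat_lit 0))) (.leaf (nat_lit 0))) (.leaf (nat_lit 0))) (.leaf (nat_lit 0))) (.leaf (nat_lit 0))) (.leaf (nat_lit 0))) (.leaf (nat_lit 0))) (.leaf (nat_lit 0))) (.leaf (nat_lit 0))) (.leaf (nat_lit 0))) (.leaf (nat_lit 0))) (.leaf (nat_lit 0))) (.leaf (nat_lit 0))) (.leaf (nat_lit 0))) (.leaf (nat_lit 0))) (.leaf (nat_lit 0))) (.leaf (nat_lit 0))) (.leaf (nat_lit 0))) (.leaf (nat_lit 0)))) (.leaf (nat_lit 0))) (.leaf (nat_lit 0))) (.leaf (nat_lit 0))) (.leaf (nat_lit 0))) (.leaf (nat_lit 0))) (.leaf (nat_lit 0))) (.leaf (nat_lit 0))) (.leaf (nat_lit 0))) (.leaf (nat_lit 0))) (.node (.node (.node (.node (.node (.node (.node (.node (.node (.node (.leaf (nat_lit 130)) (.leaf (nat_lit 125))) (.leaf (nat_lit 0))) (.leaf (nat_lit 0))) (.leaf (nat_lit 0))) (.leaf (nat_lit 0))) (.leaf (nat_lit 0))) (.leaf (nat_lit 0))) (.leaf (nat_lit 0))) (.leaf (nat_lit 0))) (.leaf (nat_lit 0)))) (.node (.node (.node (.node (.node (.node (.node (.node (.node (.node (.node (.leaf (nat_lit 112)) (.node (.node (.node (.node (.node (.node (.node (.node (.node (.node (.node (.node (.leaf (nat_lit 0)) (.node (.node (.node (.node (.node (.node (.node (.node (.node (.node (.node (.node (.node (.node (.node (.node (.node (.node (.node (.node (.node (.node (.node (.node (.node (.node (.node (.node (.node (.node (.node (.node (.leaf (nat_lit 0)) (.node (.node (.node (.node (.node (.node (.node (.node (.node (.node (.node (.node (.node (.node (.node (.node (.node (.node (.node (.node (.node (.node (.node (.leaf (nat_lit 0)) (.node (.node (.node (.node (.node (.node (.node (.node (.node (.node (.node (.node (.node (.node (.node (.node (.node (.node (.node (.node (.node (.node (.node (.node (.node (.node (.node (.node (.node (.node (.node (.node (.node (.node (.node (.node (.node (.node (.node (.node (.node (.node (.node (.leaf (nat_lit 13)) (.leaf (nat_lit 97))) (.leaf (nat_lit 0))) (.leaf (nat_lit 0))) (.leaf (nat_lit 0))) (.leaf (nat_lit 0))) (.leaf (nat_lit 0))) (.leaf (nat_lit 0))) (.leaf (nat_lit 0))) (.leaf (nat_lit 0))) (.leaf (nat_lit 0))) (.leaf (nat_lit 0))) (.leaf (nat_lit 0))) (.leaf (nat_lit 0))) (.leaf (nat_lit 0))) (.leaf (nat_lit 0))) (.leaf (nat_lit 0))) (.leaf (nat_lit 0))) (.leaf (nat_lit 0))) (.leaf (nat_lit 0))) (.leaf (nat_lit 0))) (.leaf (nat_lit 0))) (.leaf (nat_lit 0))) (.leaf (nat_lit 0))) (.leaf (nat_lit 0))) (.leaf (nat_lit 0))) (.leaf (nat_lit 0))) (.leaf (nat_lit 0))) (.leaf (nat_lit 0))) (.leaf (nat_lit 0))) (.leaf (nat_lit 0))) (.leaf (nat_lit 0))) (.leaf (nat_lit 0))) (.leaf (nat_lit 0))) (.leaf (nat_lit 0))) (.leaf (nat_lit 0))) (.leaf (nat_lit 0))) (.leaf (nat_lit 0))) (.leaf (nat_lit 0))) (.leaf (nat_lit 0))) (.leaf (nat_lit 0))) (.leaf (nat_lit 0))) (.leaf (nat_lit 0))) (.leaf (nat_lit 0)))) (.node (.node (.node (.node (.node (.node (.node (.node (.node (.node (.node (.node (.node (.node (.node (.node (.node (.node (.node (.node (.node (.node (.node (.node (.node (.node (.node (.node (.node (.node (.node (.node (.node (.node (.node (.node (.node (.node (.node (.node (.node (.node (.node (.node (.leaf (nat_lit 33)) (.leaf (nat_lit 168))) (.leaf (nat_lit 0))) (.leaf (nat_lit 0))) (.leaf (nat_lit 0))) (.leaf (nat_lit 0))) (.leaf (nat_lit 0))) (.leaf (nat_lit 0))) (.leaf (nat_lit 0))) (.leaf (nat_lit 0))) (.leaf (nat_lit 0))) (.leaf (nat_lit 0))) (.leaf (nat_lit 0))) (.leaf (nat_lit 0))) (.leaf (nat_lit 0))) (.leaf (nat_lit 0))) (.leaf (nat_lit 0))) (.leaf (nat_lit 0))) (.leaf (nat_lit 0))) (.leaf (nat_lit 0))) (.leaf (nat_lit 0))) (.leaf (nat_lit 0))) (.leaf (nat_lit 0))) (.leaf (nat_lit 0))) (.leaf (nat_lit 0))) (.leaf (nat_lit 0))) (.leaf (nat_lit 0))) (.leaf (nat_lit 0))) (.leaf (nat_lit 0))) (.leaf (nat_lit 0))) (.leaf (nat_lit 0))) (.leaf (nat_lit 0))) (.leaf (nat_lit 0))) (.leaf (nat_lit 0))) (.leaf (nat_lit 0))) (.leaf (nat_lit 0))) (.leaf (nat_lit 0))) (.leaf (nat_lit 0))) (.leaf (nat_lit 0))) (.leaf (nat_lit 0))) (.leaf (nat_lit 0))) (.leaf (nat_lit 0))) (.leaf (nat_lit 0))) (.leaf (nat_lit 0))) (.leaf (nat_lit 0)))) (.leaf (nat_lit 0))) (.leaf (nat_lit 0))) (.leaf (nat_lit 0))) (.leaf (nat_lit 0))) (.leaf (nat_lit 0))) (.leaf (nat_lit 0))) (.leaf (nat_lit 0))) (.leaf (nat_lit 0))) (.leaf (nat_lit 0))) (.leaf (nat_lit 0))) (.leaf (nat_lit 0))) (.leaf (nat_lit 0))) (.leaf (nat_lit 0))) (.leaf (nat_lit 0))) (.leaf (nat_lit 0))) (.leaf (nat_lit 0))) (.leaf (nat_lit 0))) (.leaf (nat_lit 0))) (.leaf (nat_lit 0))) (.leaf (nat_lit 0))) (.leaf (nat_lit 0)))) (.leaf (nat_lit 0))) (.leaf (nat_lit 0))) (.leaf (nat_lit 0))) (.leaf (nat_lit 0))) (.leaf (nat_lit 0))) (.leaf (nat_lit 0))) (.leaf (nat_lit 0))) (.leaf (nat_lit 0))) (.leaf (nat_lit 0))) (.leaf (nat_lit 0))) (.leaf (nat_lit 0))) (.leaf (nat_lit 0))) (.leaf (nat_lit 0))) (.leaf (nat_lit 0))) (.leaf (nat_lit 0))) (.leaf (nat_lit 0))) (.leaf (nat_lit 0))) (.leaf (nat_lit 0))) (.leaf (nat_lit 0))) (.leaf (nat_lit 0))) (.leaf (nat_lit 0))) (.leaf (nat_lit 0))) (.leaf (nat_lit 0))) (.leaf (nat_lit 0))) (.leaf (nat_lit 0))) (.leaf (nat_lit 0))) (.leaf (nat_lit 0))) (.leaf (nat_lit 0))) (.leaf (nat_lit 0))) (.leaf (nat_lit 0))) (.leaf (nat_lit 0)))) (.leaf (nat_lit 208))) (.leaf (nat_lit 0))) (.leaf (nat_lit 0))) (.leaf (nat_lit 0))) (.leaf (nat_lit 0))) (.leaf (nat_lit 0))) (.leaf (nat_lit 0))) (.leaf (nat_lit 0))) (.leaf (nat_lit 0))) (.leaf (nat_lit 0))) (.leaf (nat_lit 0)))) (.leaf (nat_lit 0))) (.leaf (nat_lit 0))) (.leaf (nat_lit 0))) (.leaf (nat_lit 0))) (.leaf (nat_lit 0))) (.leaf (nat_lit 0))) (.leaf (nat_lit 0))) (.leaf (nat_lit 0))) (.leaf (nat_lit 0))) (.leaf (nat_lit 0)))) (.leaf (nat_lit 0))) (.leaf (nat_lit 0))) (.leaf (nat_lit 0))) (.leaf (nat_lit 0))) (.leaf (nat_lit 0))) (.leaf (nat_lit 0))) (.leaf (nat_lit 0))) (.leaf (nat_lit 0))) (.leaf (nat_lit 0))) (.node (.node (.node (.node (.node (.node (.node (.node (.node (.node (.node (.node (.node (.node (.node (.node (.node (.node (.node (.node (.node (.node (.node (.node (.node (.node (.node (.node (.node (.node (.node (.node (.leaf (nat_lit 19)) (.node (.node (.node (.node (.node (.node (.node (.node (.node (.node (.node (.node (.node (.node (.node (.node (.node (.node (.node (.node (.node (.node (.leaf (nat_lit 191)) (.node (.node (.node (.node (.node (.node (.node (.node (.node (.node (.node (.leaf (nat_lit 0)) (.node (.node (.node (.node (.node (.node (.node (.node (.node (.node (.node (.node (.node (.node (.node (.node (.node (.node (.node (.node (.node (.node (.node (.node (.node (.node (.node (.node (.node (.node (.node (.node (.node (.node (.leaf (nat_lit 0)) (.node (.node (.node (.node (.node (.node (.node (.node (.node (.node (.leaf (nat_lit 155)) (.leaf (nat_lit 36))) (.leaf (nat_lit 0))) (.leaf (nat_lit 0))) (.leaf (nat_lit 0))) (.leaf (nat_lit 0))) (.leaf (nat_lit 0))) (.leaf (nat_lit 0))) (.leaf (nat_lit 0))) (.leaf (nat_lit 0))) (.leaf (nat_lit 0)))) (.node (.node (.node (.node (.node (.node (.node (.node (.node (.node (.node (.leaf (nat_lit 167)) (.leaf (nat_lit 20))) (.leaf (nat_lit 0))) (.leaf (nat_lit 0))) (.leaf (nat_lit 0))) (.leaf (nat_lit 0))) (.leaf (nat_lit 0))) (.leaf (nat_lit 0))) (.leaf (nat_lit 0))) (.leaf (nat_lit 0))) (.leaf (nat_lit 0))) (.leaf (nat_lit 0)))) (.leaf (nat_lit 0))) (.leaf (nat_lit 0))) (.leaf (nat_lit 0))) (.leaf (nat_lit 0))) (.leaf (nat_lit 0))) (.leaf (nat_lit 0))) (.leaf (nat_lit 0))) (.leaf (nat_lit 0))) (.leaf (nat_lit 0))) (.leaf (nat_lit 0))) (.leaf (nat_lit 0))) (.leaf (nat_lit 0))) (.leaf (nat_lit 0))) (.leaf (nat_lit 0))) (.leaf (nat_lit 0))) (.leaf (nat_lit 0))) (.leaf (nat_lit 0))) (.leaf (nat_lit 0))) (.leaf (nat_lit 0))) (.leaf (nat_lit 0))) (.leaf (nat_lit 0))) (.leaf (nat_lit 0))) (.leaf (nat_lit 0))) (.leaf (nat_lit 0))) (.leaf (nat_lit 0))) (.leaf (nat_lit 0))) (.leaf (nat_lit 0))) (.leaf (nat_lit 0))) (.leaf (nat_lit 0))) (.leaf (nat_lit 0))) (.leaf (nat_lit 0))) (.leaf (nat_lit 0)))) (.leaf (nat_lit 0))) (.leaf (nat_lit 0))) (.leaf (nat_lit 0))) (.leaf (nat_lit 0))) (.leaf (nat_lit 0))) (.leaf (nat_lit 0))) (.leaf (nat_lit 0))) (.leaf (nat_lit 0))) (.leaf (nat_lit 0))) (.leaf (nat_lit 0)))) (.leaf (nat_lit 0))) (.leaf (nat_lit 0))) (.leaf (nat_lit 0))) (.leaf (nat_lit 0))) (.leaf (nat_lit 0))) (.leaf (nat_lit 0))) (.leaf (nat_lit 0))) (.leaf (nat_lit 0))) (.leaf (nat_lit 0))) (.leaf (nat_lit 0))) (.leaf (nat_lit 0))) (.leaf (nat_lit 0))) (.leaf (nat_lit 0))) (.leaf (nat_lit 0))) (.leaf (nat_lit 0))) (.leaf (nat_lit 0))) (.leaf (nat_lit 0))) (.leaf (nat_lit 0))) (.leaf (nat_lit 0))) (.leaf (nat_lit 0))) (.leaf (nat_lit 0)))) (.leaf (nat_lit 0))) (.leaf (nat_lit 0))) (.leaf (nat_lit 0))) (.leaf (nat_lit 0))) (.leaf (nat_lit 0))) (.leaf (nat_lit 0))) (.leaf (nat_lit 0))) (.leaf (nat_lit 0))) (.leaf (nat_lit 0))) (.leaf (nat_lit 0))) (.leaf (nat_lit 0))) (.leaf (nat_lit 0))) (.leaf (nat_lit 0))) (.leaf (nat_lit 0))) (.leaf (nat_lit 0))) (.leaf (nat_lit 0))) (.leaf (nat_lit 0))) (.leaf (nat_lit 0))) (.leaf (nat_lit 0))) (.leaf (nat_lit 0))) (.leaf (nat_lit 79))) (.leaf (nat_lit 76))) (.leaf (nat_lit 0))) (.leaf (nat_lit 0))) (.leaf (nat_lit 0))) (.leaf (nat_lit 0))) (.leaf (nat_lit 0))) (.leaf (nat_lit 0))) (.leaf (nat_lit 0))) (.leaf (nat_lit 0))) (.leaf (nat_lit 0)))) (.node (.node (.node (.node (.node (.node (.node (.node (.node (.node (.node (.node (.node (.node (.node (.node (.node (.node (.node (.node (.node (.node (.node (.node (.node (.node (.node (.node (.node (.node (.node (.node (.node (.leaf (nat_lit 65)) (.leaf (nat_lit 29))) (.leaf (nat_lit 0))) (.leaf (nat_lit 0))) (.leaf (nat_lit 0))) (.leaf (nat_lit 0))) (.leaf (nat_lit 0))) (.leaf (nat_lit 0))) (.leaf (nat_lit 0))) (.leaf (nat_lit 0))) (.leaf (nat_lit 0))) (.leaf (nat_lit 0))) (.leaf (nat_lit 0))) (.leaf (nat_lit 0))) (.leaf (nat_lit 0))) (.leaf (nat_lit 0))) (.leaf (nat_lit 0))) (.leaf (nat_lit 0))) (.leaf (nat_lit 0))) (.leaf (nat_lit 0))) (.leaf (nat_lit 0))) (.leaf (nat_lit 0))) (.node (.node (.node (.node (.node (.node (.node (.node (.node (.node (.node (.node (.node (.node (.node (.node (.node (.node (.node (.node (.node (.node (.node (.node (.node (.node (.node (.node (.node (.node (.node (.node (.leaf (nat_lit 22)) (.node (.node (.node (.node (.node (.node (.node (.node (.node (.node (.node (.node (.node (.node (.node (.node (.node (.node (.node (.node (.node (.node (.leaf (nat_lit 0)) (.node (.node (.node (.node (.node (.node (.node (.node (.node (.node (.node (.node (.node (.node (.node (.node (.node (.node (.node (.node (.node (.node (.node (.node (.node (.node (.node (.node (.node (.node (.node (.node (.node (.node (.node (.node (.node (.node (.node (.node (.node (.node (.node (.node (.node (.leaf (nat_lit 0)) (.node (.node (.node (.node (.node (.node (.node (.node (.node (.node (.leaf (nat_lit 3)) (.leaf (nat_lit 195))) (.leaf (nat_lit 0))) (.leaf (nat_lit 0))) (.leaf (nat_lit 0))) (.leaf (nat_lit 0))) (.leaf (nat_lit 0))) (.leaf (nat_lit 0))) (.leaf (nat_lit 0))) (.leaf (nat_lit 0))) (.leaf (nat_lit 0)))) (.node (.node (.node (.node (.node (.node (.node (.node (.node (.node (.node (.leaf (nat_lit 95)) (.leaf (nat_lit 158))) (.leaf (nat_lit 0))) (.leaf (nat_lit 0))) (.leaf (nat_lit 0))) (.leaf (nat_lit 0))) (.leaf (nat_lit 0))) (.leaf (nat_lit 0))) (.leaf (nat_lit 0))) (.leaf (nat_lit 0))) (.leaf (nat_lit 0))) (.leaf (nat_lit 0)))) (.leaf (nat_lit 0))) (.leaf (nat_lit 0))) (.leaf (nat_lit 0))) (.leaf (nat_lit 0))) (.leaf (nat_lit 0))) (.leaf (nat_lit 0))) (.leaf (nat_lit 0))) (.leaf (nat_lit 0))) (.leaf (nat_lit 0))) (.leaf (nat_lit 0))) (.leaf (nat_lit 0))) (.leaf (nat_lit 0))) (.leaf (nat_lit 0))) (.leaf (nat_lit 0))) (.leaf (nat_lit 0))) (.leaf (nat_lit 0))) (.leaf (nat_lit 0))) (.leaf (nat_lit 0))) (.leaf (nat_lit 0))) (.leaf (nat_lit 0))) (.leaf (nat_lit 0))) (.leaf (nat_lit 0))) (.leaf (nat_lit 0))) (.leaf (nat_lit 0))) (.leaf (nat_lit 0))) (.leaf (nat_lit 0))) (.leaf (nat_lit 0))) (.leaf (nat_lit 0))) (.leaf (nat_lit 0))) (.leaf (nat_lit 0))) (.leaf (nat_lit 0))) (.leaf (nat_lit 0))) (.leaf (nat_lit 0))) (.leaf (nat_lit 0))) (.leaf (nat_lit 0))) (.leaf (nat_lit 0))) (.leaf (nat_lit 0))) (.leaf (nat_lit 0))) (.leaf (nat_lit 0))) (.leaf (nat_lit 0))) (.leaf (nat_lit 0))) (.leaf (nat_lit 0))) (.leaf (nat_lit 0)))) (.leaf (nat_lit 0))) (.leaf (nat_lit 0))) (.leaf (nat_lit 0))) (.leaf (nat_lit 0))) (.leaf (nat_lit 0))) (.leaf (nat_lit 0))) (.leaf (nat_lit 0))) (.leaf (nat_lit 0))) (.leaf (nat_lit 0))) (.leaf (nat_lit 0))) (.leaf (nat_lit 0))) (.leaf (nat_lit 0))) (.leaf (nat_lit 0))) (.leaf (nat_lit 0))) (.leaf (nat_lit 0))) (.leaf (nat_lit 0))) (.leaf (nat_lit 0))) (.leaf (nat_lit 0))) (.leaf (nat_lit 0))) (.leaf (nat_lit 0))) (.leaf (nat_lit 0)))) (.leaf (nat_lit 0))) (.leaf (nat_lit 0))) (.leaf (nat_lit 0))) (.leaf (nat_lit 0))) (.leaf (nat_lit 0))) (.leaf (nat_lit 0))) (.leaf (nat_lit 0))) (.leaf (nat_lit 0))) (.leaf (nat_lit 0))) (.leaf (nat_lit 0))) (.leaf (nat_lit 0))) (.leaf (nat_lit 0))) (.leaf (nat_lit 0))) (.leaf (nat_lit 0))) (.leaf (nat_lit 0))) (.leaf (nat_lit 0))) (.leaf (nat_lit 0))) (.leaf (nat_lit 0))) (.leaf (nat_lit 0))) (.leaf (nat_lit 0))) (.leaf (nat_lit 0))) (.leaf (nat_lit 0))) (.leaf (nat_lit 0))) (.leaf (nat_lit 0))) (.leaf (nat_lit 0))) (.leaf (nat_lit 0))) (.leaf (nat_lit 0))) (.leaf (nat_lit 0))) (.leaf (nat_lit 0))) (.leaf (nat_lit 0))) (.leaf (nat_lit 0)))) (.leaf (nat_lit 99))) (.leaf (nat_lit 0))) (.leaf (nat_lit 0))) (.leaf (nat_lit 0))) (.leaf (nat_lit 0))) (.leaf (nat_lit 0))) (.leaf (nat_lit 0))) (.leaf (nat_lit 0))) (.leaf (nat_lit 0))) (.leaf (nat_lit 0))) (.leaf (nat_lit 0)))) (.leaf (nat_lit 0))) (.leaf (nat_lit 0))) (.leaf (nat_lit 0))) (.leaf (nat_lit 0))) (.leaf (nat_lit 0))) (.leaf (nat_lit 0))) (.leaf (nat_lit 0))) (.leaf (nat_lit 0))) (.leaf (nat_lit 0))) (.leaf (nat_lit 0)))) (.leaf (nat_lit 0))) (.leaf (nat_lit 0))) (.leaf (nat_lit 0))) (.leaf (nat_lit 0))) (.leaf (nat_lit 0))) (.leaf (nat_lit 0))) (.leaf (nat_lit 0))) (.leaf (nat_lit 0))) (.leaf (nat_lit 0))) (.node (.node (.node (.node (.node (.node (.node (.node (.node (.node (.node (.node (.node (.node (.node (.node (.node (.node (.node (.node (.node (.node (.node (.node (.node (.node (.node (.node (.node (.node (.node (.node (.node (.node (.node (.node (.node (.node (.node (.node (.node (.node (.node (.node (.node (.node (.node (.node (.node (.node (.node (.node (.node (.node (.node (.node (.node (.node (.node (.node (.node (.node (.node (.node (.node (.node (.node (.node (.node (.node (.node (.node (.node (.node (.node (.node (.node (.node (.node (.node (.node (.node (.node (.node (.node (.node (.node (.node (.node (.node (.node (.node (.node (.node (.node (.node (.node (.node (.node (.node (.node (.node (.node (.node (.node (.node (.node (.node (.node (.node (.node (.node (.node (.node (.node (.node (.node (.node (.node (.node (.node (.node (.node (.node (.node (.node (.node (.node (.node (.node (.node (.node (.node (.node (.node (.node (.node (.node (.node (.node (.node (.node (.node (.node (.node (.node (.node (.node (.node (.node (.node (.node (.node (.node (.node (.node (.node (.node (.node (.node (.node (.node (.node (.node (.leaf (nat_lit 151)) (.leaf (nat_lit 127))) (.leaf (nat_lit 0))) (.leaf (nat_lit 0))) (.leaf (nat_lit 0))) (.leaf (nat_lit 0))) (.leaf (nat_lit 0))) (.leaf (nat_lit 0))) (.leaf (nat_lit 0))) (.leaf (nat_lit 0))) (.leaf (nat_lit 0))) (.leaf (nat_lit 173))) (.leaf (nat_lit 60))) (.leaf (nat_lit 0))) (.leaf (nat_lit 0))) (.leaf (nat_lit 0))) (.leaf (nat_lit 0))) (.leaf (nat_lit 0))) (.leaf (nat_lit 0))) (.leaf (nat_lit 0))) (.leaf (nat_lit 0))) (.leaf (nat_lit 0))) (.leaf (nat_lit 147))) (.leaf (nat_lit 78))) (.leaf (nat_lit 0))) (.leaf (nat_lit 0))) (.leaf (nat_lit 0))) (.leaf (nat_lit 0))) (.leaf (nat_lit 0))) (.leaf (nat_lit 0))) (.leaf (nat_lit 0))) (.leaf (nat_lit 0))) (.leaf (nat_lit 0))) (.leaf (nat_lit 136))) (.leaf (nat_lit 114))) (.leaf (nat_lit 0))) (.leaf (nat_lit 0))) (.leaf (nat_lit 0))) (.leaf (nat_lit 0))) (.leaf (nat_lit 0))) (.leaf (nat_lit 0))) (.leaf (nat_lit 0))) (.leaf (nat_lit 0))) (.leaf (nat_lit 0))) (.leaf (nat_lit 101))) (.leaf (nat_lit 198))) (.leaf (nat_lit 0))) (.leaf (nat_lit 0))) (.leaf (nat_lit 0))) (.leaf (nat_lit 0))) (.leaf (nat_lit 0))) (.leaf (nat_lit 0))) (.leaf (nat_lit 0))) (.leaf (nat_lit 0))) (.leaf (nat_lit 0))) (.leaf (nat_lit 104))) (.leaf (nat_lit 137))) (.leaf (nat_lit 0))) (.leaf (nat_lit 0))) (.leaf (nat_lit 0))) (.leaf (nat_lit 0))) (.leaf (nat_lit 0))) (.leaf (nat_lit 0))) (.leaf (nat_lit 0))) (.leaf (nat_lit 0))) (.leaf (nat_lit 0))) (.node (.node (.node (.node (.node (.node (.node (.node (.node (.node (.node (.node (.node (.node (.node (.node (.node (.node (.node (.node (.node (.node (.node (.node (.node (.node (.node (.node (.node (.node (.node (.node (.node (.node (.node (.node (.node (.node (.node (.node (.node (.node (.node (.node (.node (.node (.node (.node (.node (.node (.node (.node (.node (.node (.node (.node (.node (.node (.node (.node (.node (.node (.node (.node (.node (.node (.node (.node (.node (.node (.node (.node (.node (.node (.node (.node (.node (.node (.node (.node (.node (.node (.node (.node (.node (.node (.node (.node (.node (.node (.node (.node (.node (.node (.node (.node (.node (.node (.node (.node (.node (.node (.node (.node (.node (.node (.node (.node (.node (.node (.node (.node (.node (.node (.node (.node (.node (.node (.node (.node (.leaf (nat_lit 82)) (.leaf (nat_lit 149))) (.leaf (nat_lit 0))) (.leaf (nat_lit 0))) (.leaf (nat_lit 0))) (.leaf (nat_lit 0))) (.leaf (nat_lit 0))) (.leaf (nat_lit 0))) (.leaf (nat_lit 0))) (.leaf (nat_lit 0))) (.leaf (nat_lit 0))) (.leaf (nat_lit 0))) (.leaf (nat_lit 0))) (.leaf (nat_lit 0))) (.leaf (nat_lit 0))) (.leaf (nat_lit 0))) (.leaf (nat_lit 0))) (.leaf (nat_lit 0))) (.leaf (nat_lit 0))) (.leaf (nat_lit 0))) (.leaf (nat_lit 0))) (.leaf (nat_lit 0))) (.leaf (nat_lit 0))) (.leaf (nat_lit 196))) (.leaf (nat_lit 0))) (.leaf (nat_lit 0))) (.leaf (nat_lit 0))) (.leaf (nat_lit 0))) (.leaf (nat_lit 0))) (.leaf (nat_lit 0))) (.leaf (nat_lit 0))) (.leaf (nat_lit 0))) (.leaf (nat_lit 0))) (.leaf (nat_lit 0))) (.leaf (nat_lit 0))) (.leaf (nat_lit 0))) (.leaf (nat_lit 0))) (.leaf (nat_lit 0))) (.leaf (nat_lit 0))) (.leaf (nat_lit 0))) (.leaf (nat_lit 0))) (.leaf (nat_lit 0))) (.leaf (nat_lit 0))) (.leaf (nat_lit 0))) (.leaf (nat_lit 0))) (.leaf (nat_lit 0))) (.leaf (nat_lit 0))) (.leaf (nat_lit 0))) (.leaf (nat_lit 0))) (.leaf (nat_lit 0))) (.leaf (nat_lit 0))) (.leaf (nat_lit 0))) (.leaf (nat_lit 0))) (.leaf (nat_lit 0))) (.leaf (nat_lit 0))) (.leaf (nat_lit 0))) (.leaf (nat_lit 0))) (.leaf (nat_lit 0))) (.leaf (nat_lit 0))) (.leaf (nat_lit 0))) (.leaf (nat_lit 0))) (.leaf (nat_lit 0))) (.leaf (nat_lit 0))) (.leaf (nat_lit 0))) (.leaf (nat_lit 0))) (.leaf (nat_lit 0))) (.leaf (nat_lit 0))) (.leaf (nat_lit 0))) (.leaf (nat_lit 0))) (.leaf (nat_lit 0))) (.leaf (nat_lit 0))) (.leaf (nat_lit 0))) (.leaf (nat_lit 0))) (.leaf (nat_lit 0))) (.leaf (nat_lit 0))) (.leaf (nat_lit 0))) (.leaf (nat_lit 0))) (.leaf (nat_lit 0))) (.leaf (nat_lit 0))) (.leaf (nat_lit 0))) (.leaf (nat_lit 0))) (.leaf (nat_lit 0))) (.leaf (nat_lit 0))) (.leaf (nat_lit 0))) (.leaf (nat_lit 0))) (.leaf (nat_lit 0))) (.leaf (nat_lit 0))) (.leaf (nat_lit 0))) (.leaf (nat_lit 0))) (.leaf (nat_lit 0))) (.leaf (nat_lit 0))) (.leaf (nat_lit 0))) (.leaf (nat_lit 0))) (.leaf (nat_lit 0))) (.leaf (nat_lit 0))) (.leaf (nat_lit 0))) (.leaf (nat_lit 0))) (.leaf (nat_lit 0))) (.leaf (nat_lit 0))) (.leaf (nat_lit 0))) (.leaf (nat_lit 0))) (.leaf (nat_lit 0))) (.leaf (nat_lit 0))) (.leaf (nat_lit 0))) (.leaf (nat_lit 0))) (.leaf (nat_lit 0))) (.leaf (nat_lit 0))) (.leaf (nat_lit 0))) (.leaf (nat_lit 0))) (.leaf (nat_lit 0))) (.leaf (nat_lit 0))) (.leaf (nat_lit 0))) (.leaf (nat_lit 0))) (.leaf (nat_lit 0))) (.leaf (nat_lit 0))) (.leaf (nat_lit 0))) (.leaf (nat_lit 0))) (.leaf (nat_lit 0))) (.leaf (nat_lit 0))) (.leaf (nat_lit 0))) (.leaf (nat_lit 0)))) (.node (.node (.node (.node (.node (.node (.node (.node (.node (.node (.node (.node (.node (.node (.node (.node (.node (.node (.node (.node (.node (.node (.node (.node (.node (.node (.node (.node (.node (.node (.node (.node (.node (.node (.node (.node (.node (.node (.node (.node (.node (.node (.node (.node (.node (.node (.node (.node (.node (.node (.node (.node (.node (.node (.node (.node (.node (.node (.node (.node (.node (.node (.node (.node (.node (.node (.node (.node (.node (.node (.node (.node (.node (.node (.node (.node (.node (.node (.node (.node (.node (.node (.node (.node (.node (.node (.node (.node (.node (.node (.node (.node (.node (.node (.node (.node (.node (.node (.node (.node (.node (.node (.node (.node (.node (.node (.node (.node (.node (.node (.node (.node (.node (.node (.node (.node (.node (.node (.node (.node (.node (.node (.node (.node (.node (.node (.node (.node (.node (.node (.node (.node (.node (.node (.node (.node (.node (.node (.node (.node (.node (.node (.node (.leaf (nat_lit 31)) (.leaf (nat_lit 96))) (.leaf (nat_lit 0))) (.leaf (nat_lit 0))) (.leaf (nat_lit 0))) (.leaf (nat_lit 0))) (.leaf (nat_lit 0))) (.leaf (nat_lit 0))) (.leaf (nat_lit 0))) (.leaf (nat_lit 0))) (.leaf (nat_lit 0))) (.leaf (nat_lit 141))) (.leaf (nat_lit 0))) (.leaf (nat_lit 0))) (.leaf (nat_lit 0))) (.leaf (nat_lit 0))) (.leaf (nat_lit 0))) (.leaf (nat_lit 0))) (.leaf (nat_lit 0))) (.leaf (nat_lit 0))) (.leaf (nat_lit 0))) (.leaf (nat_lit 0))) (.leaf (nat_lit 0))) (.leaf (nat_lit 0))) (.leaf (nat_lit 0))) (.leaf (nat_lit 0))) (.leaf (nat_lit 0))) (.leaf (nat_lit 0))) (.leaf (nat_lit 0))) (.leaf (nat_lit 0))) (.leaf (nat_lit 0))) (.leaf (nat_lit 0))) (.leaf (nat_lit 0))) (.leaf (nat_lit 172))) (.leaf (nat_lit 0))) (.leaf (nat_lit 0))) (.leaf (nat_lit 0))) (.leaf (nat_lit 0))) (.leaf (nat_lit 0))) (.leaf (nat_lit 0))) (.leaf (nat_lit 0))) (.leaf (nat_lit 0))) (.leaf (nat_lit 0))) (.leaf (nat_lit 0))) (.leaf (nat_lit 131))) (.leaf (nat_lit 75))) (.leaf (nat_lit 0))) (.leaf (nat_lit 0))) (.leaf (nat_lit 0))) (.leaf (nat_lit 0))) (.leaf (nat_lit 0))) (.leaf (nat_lit 0))) (.leaf (nat_lit 0))) (.leaf (nat_lit 0))) (.leaf (nat_lit 0))) (.leaf (nat_lit 0))) (.leaf (nat_lit 0))) (.leaf (nat_lit 0))) (.leaf (nat_lit 0))) (.leaf (nat_lit 0))) (.leaf (nat_lit 0))) (.leaf (nat_lit 0))) (.leaf (nat_lit 0))) (.leaf (nat_lit 0))) (.leaf (nat_lit 0))) (.leaf (nat_lit 0))) (.leaf (nat_lit 0))) (.leaf (nat_lit 0))) (.leaf (nat_lit 0))) (.leaf (nat_lit 0))) (.leaf (nat_lit 0))) (.leaf (nat_lit 0))) (.leaf (nat_lit 0))) (.leaf (nat_lit 0))) (.leaf (nat_lit 0))) (.leaf (nat_lit 0))) (.leaf (nat_lit 0))) (.leaf (nat_lit 0))) (.leaf (nat_lit 0))) (.leaf (nat_lit 0))) (.leaf (nat_lit 0))) (.leaf (nat_lit 0))) (.leaf (nat_lit 0))) (.leaf (nat_lit 0))) (.leaf (nat_lit 0))) (.leaf (nat_lit 0))) (.leaf (nat_lit 0))) (.leaf (nat_lit 0))) (.leaf (nat_lit 0))) (.leaf (nat_lit 0))) (.leaf (nat_lit 0))) (.leaf (nat_lit 0))) (.leaf (nat_lit 0))) (.leaf (nat_lit 0))) (.leaf (nat_lit 0))) (.leaf (nat_lit 0))) (.leaf (nat_lit 0))) (.leaf (nat_lit 0))) (.leaf (nat_lit 0))) (.leaf (nat_lit 0))) (.leaf (nat_lit 0))) (.leaf (nat_lit 0))) (.leaf (nat_lit 0))) (.leaf (nat_lit 0))) (.leaf (nat_lit 0))) (.leaf (nat_lit 0))) (.leaf (nat_lit 0))) (.leaf (nat_lit 0))) (.leaf (nat_lit 0))) (.leaf (nat_lit 0))) (.leaf (nat_lit 0))) (.leaf (nat_lit 0))) (.leaf (nat_lit 0))) (.leaf (nat_lit 0))) (.leaf (nat_lit 0))) (.leaf (nat_lit 0))) (.leaf (nat_lit 0))) (.leaf (nat_lit 0))) (.leaf (nat_lit 0))) (.leaf (nat_lit 0))) (.leaf (nat_lit 0))) (.leaf (nat_lit 0))) (.leaf (nat_lit 0))) (.leaf (nat_lit 0))) (.leaf (nat_lit 0))) (.leaf (nat_lit 0))) (.leaf (nat_lit 0))) (.leaf (nat_lit 0))) (.leaf (nat_lit 0))) (.leaf (nat_lit 0))) (.leaf (nat_lit 0))) (.leaf (nat_lit 0))) (.leaf (nat_lit 0))) (.leaf (nat_lit 0))) (.leaf (nat_lit 0))) (.leaf (nat_lit 0))) (.leaf (nat_lit 0))) (.leaf (nat_lit 0))) (.leaf (nat_lit 0))) (.leaf (nat_lit 0))) (.leaf (nat_lit 0))) (.leaf (nat_lit 0))) (.leaf (nat_lit 0))) (.leaf (nat_lit 0)))) (.leaf (nat_lit 0))) (.leaf (nat_lit 0))) (.leaf (nat_lit 0))) (.leaf (nat_lit 0))) (.leaf (nat_lit 0))) (.leaf (nat_lit 0))) (.leaf (nat_lit 0))) (.leaf (nat_lit 0))) (.leaf (nat_lit 0))) (.leaf (nat_lit 0))) (.leaf (nat_lit 0))) (.leaf (nat_lit 0))) (.leaf (nat_lit 0))) (.leaf (nat_lit 0))) (.leaf (nat_lit 0))) (.leaf (nat_lit 0))) (.leaf (nat_lit 0))) (.leaf (nat_lit 0))) (.leaf (nat_lit 0))) (.leaf (nat_lit 0))) (.leaf (nat_lit 0))) (.leaf (nat_lit 0))) (.leaf (nat_lit 0))) (.leaf (nat_lit 0))) (.leaf (nat_lit 0))) (.leaf (nat_lit 0))) (.leaf (nat_lit 0))) (.leaf (nat_lit 0))) (.leaf (nat_lit 0))) (.leaf (nat_lit 0))) (.leaf (nat_lit 0))) (.leaf (nat_lit 0))) (.leaf (nat_lit 0))) (.leaf (nat_lit 0))) (.leaf (nat_lit 0))) (.leaf (nat_lit 0))) (.leaf (nat_lit 0))) (.leaf (nat_lit 0))) (.leaf (nat_lit 0))) (.leaf (nat_lit 0))) (.leaf (nat_lit 0))) (.leaf (nat_lit 0))) (.leaf (nat_lit 0))) (.leaf (nat_lit 0))) (.leaf (nat_lit 0))) (.leaf (nat_lit 0))) (.leaf (nat_lit 0))) (.leaf (nat_lit 0))) (.leaf (nat_lit 0))) (.leaf (nat_lit 0))) (.leaf (nat_lit 0))) (.leaf (nat_lit 0))) (.leaf (nat_lit 0))) (.leaf (nat_lit 0))) (.leaf (nat_lit 0))) (.leaf (nat_lit 0))) (.leaf (nat_lit 0))) (.leaf (nat_lit 0))) (.leaf (nat_lit 0))) (.leaf (nat_lit 0))) (.leaf (nat_lit 0))) (.leaf (nat_lit 0))) (.leaf (nat_lit 0))) (.leaf (nat_lit 0))) (.leaf (nat_lit 0))) (.leaf (nat_lit 0))) (.leaf (nat_lit 0))) (.leaf (nat_lit 0))) (.leaf (nat_lit 0))) (.leaf (nat_lit 0))) (.leaf (nat_lit 0))) (.leaf (nat_lit 0))) (.leaf (nat_lit 0))) (.leaf (nat_lit 0))) (.leaf (nat_lit 0))) (.leaf (nat_lit 0))) (.leaf (nat_lit 0))) (.leaf (nat_lit 0))) (.leaf (nat_lit 0))) (.leaf (nat_lit 0))) (.leaf (nat_lit 0))) (.leaf (nat_lit 0))) (.leaf (nat_lit 0))) (.leaf (nat_lit 0))) (.leaf (nat_lit 0))) (.leaf (nat_lit 0))) (.leaf (nat_lit 0))) (.leaf (nat_lit 0))) (.leaf (nat_lit 0))) (.leaf (nat_lit 0))) (.leaf (nat_lit 0))) (.leaf (nat_lit 0))) (.leaf (nat_lit 0))) (.leaf (nat_lit 0))) (.leaf (nat_lit 0))) (.leaf (nat_lit 0))) (.leaf (nat_lit 0)))) (.node (.node (.node (.node (.node (.node (.node (.node (.node (.node (.node (.node (.node (.node (.node (.node (.node (.node (.node (.node (.node (.node (.node (.node (.node (.node (.node (.node (.node (.node (.node (.node (.node (.node (.node (.node (.node (.node (.node (.node (.node (.node (.node (.node (.node (.node (.node (.node (.node (.node (.node (.node (.node (.node (.node (.node (.node (.node (.node (.node (.node (.node (.node (.node (.node (.node (.node (.node (.node (.node (.node (.node (.node (.node (.node (.node (.node (.node (.node (.node (.node (.node (.node (.node (.node (.node (.node (.node (.node (.node (.node (.node (.node (.node (.node (.node (.node (.node (.node (.node (.node (.node (.node (.node (.node (.node (.node (.node (.node (.node (.node (.node (.node (.node (.node (.node (.node (.node (.node (.node (.node (.node (.node (.node (.node (.node (.node (.node (.node (.node (.node (.node (.node (.node (.node (.node (.node (.node (.node (.node (.node (.node (.node (.node (.node (.node (.node (.node (.node (.node (.node (.node (.node (.node (.node (.node (.node (.node (.node (.node (.node (.node (.node (.node (.node (.leaf (nat_lit 83)) (.leaf (nat_lit 177))) (.leaf (nat_lit 0))) (.leaf (nat_lit 0))) (.leaf (nat_lit 0))) (.leaf (nat_lit 0))) (.leaf (nat_lit 0))) (.leaf (nat_lit 0))) (.leaf (nat_lit 0))) (.leaf (nat_lit 0))) (.leaf (nat_lit 0))) (.leaf (nat_lit 207))) (.leaf (nat_lit 14))) (.leaf (nat_lit 0))) (.leaf (nat_lit 0))) (.leaf (nat_lit 0))) (.leaf (nat_lit 0))) (.leaf (nat_lit 0))) (.leaf (nat_lit 0))) (.leaf (nat_lit 0))) (.leaf (nat_lit 0))) (.leaf (nat_lit 0))) (.leaf (nat_lit 30))) (.leaf (nat_lit 15))) (.leaf (nat_lit 0))) (.leaf (nat_lit 0))) (.leaf (nat_lit 0))) (.leaf (nat_lit 0))) (.leaf (nat_lit 0))) (.leaf (nat_lit 0))) (.leaf (nat_lit 0))) (.leaf (nat_lit 0))) (.leaf (nat_lit 0))) (.leaf (nat_lit 200))) (.leaf (nat_lit 43))) (.leaf (nat_lit 0))) (.leaf (nat_lit 0))) (.leaf (nat_lit 0))) (.leaf (nat_lit 0))) (.leaf (nat_lit 0))) (.leaf (nat_lit 0))) (.leaf (nat_lit 0))) (.leaf (nat_lit 0))) (.leaf (nat_lit 0))) (.leaf (nat_lit 90))) (.leaf (nat_lit 163))) (.leaf (nat_lit 0))) (.leaf (nat_lit 0))) (.leaf (nat_lit 0))) (.leaf (nat_lit 0))) (.leaf (nat_lit 0))) (.leaf (nat_lit 0))) (.leaf (nat_lit 0))) (.leaf (nat_lit 0))) (.leaf (nat_lit 0))) (.leaf (nat_lit 10))) (.leaf (nat_lit 123))) (.leaf (nat_lit 0))) (.leaf (nat_lit 0))) (.leaf (nat_lit 0))) (.leaf (nat_lit 0))) (.leaf (nat_lit 0))) (.leaf (nat_lit 0))) (.leaf (nat_lit 0))) (.leaf (nat_lit 0))) (.leaf (nat_lit 0))) (.node (.node (.node (.node (.node (.node (.node (.node (.node (.node (.node (.node (.node (.node (.node (.node (.node (.node (.node (.node (.node (.node (.node (.node (.node (.node (.node (.node (.node (.node (.node (.node (.node (.node (.node (.node (.node (.node (.node (.node (.node (.node (.node (.node (.node (.node (.node (.node (.node (.node (.node (.node (.node (.node (.node (.node (.node (.node (.node (.node (.node (.node (.node (.node (.node (.node (.node (.node (.node (.node (.node (.node (.node (.node (.node (.node (.node (.node (.node (.node (.node (.node (.node (.node (.node (.node (.node (.node (.node (.node (.node (.node (.node (.node (.node (.node (.node (.node (.node (.node (.node (.node (.node (.node (.node (.node (.node (.node (.node (.node (.node (.node (.node (.node (.node (.node (.node (.node (.node (.node (.node (.node (.node (.node (.node (.node (.node (.node (.node (.node (.node (.node (.node (.node (.node (.node (.node (.node (.node (.node (.node (.node (.node (.leaf (nat_lit 85)) (.leaf (nat_lit 11))) (.leaf (nat_lit 0))) (.leaf (nat_lit 0))) (.leaf (nat_lit 0))) (.leaf (nat_lit 0))) (.leaf (nat_lit 0))) (.leaf (nat_lit 0))) (.leaf (nat_lit 0))) (.leaf (nat_lit 0))) (.leaf (nat_lit 0))) (.leaf (nat_lit 0))) (.leaf (nat_lit 0))) (.leaf (nat_lit 107))) (.leaf (nat_lit 0))) (.leaf (nat_lit 0))) (.leaf (nat_lit 0))) (.leaf (nat_lit 0))) (.leaf (nat_lit 0))) (.leaf (nat_lit 0))) (.leaf (nat_lit 0))) (.leaf (nat_lit 0))) (.leaf (nat_lit 0))) (.leaf (nat_lit 0))) (.leaf (nat_lit 0))) (.leaf (nat_lit 0))) (.leaf (nat_lit 0))) (.leaf (nat_lit 0))) (.leaf (nat_lit 0))) (.leaf (nat_lit 0))) (.leaf (nat_lit 0))) (.leaf (nat_lit 0))) (.leaf (nat_lit 0))) (.leaf (nat_lit 0))) (.leaf (nat_lit 0))) (.leaf (nat_lit 54))) (.leaf (nat_lit 0))) (.leaf (nat_lit 0))) (.leaf (nat_lit 0))) (.leaf (nat_lit 0))) (.leaf (nat_lit 0))) (.leaf (nat_lit 0))) (.leaf (nat_lit 0))) (.leaf (nat_lit 0))) (.leaf (nat_lit 0))) (.leaf (nat_lit 160))) (.leaf (nat_lit 21))) (.leaf (nat_lit 0))) (.leaf (nat_lit 0))) (.leaf (nat_lit 0))) (.leaf (nat_lit 0))) (.leaf (nat_lit 0))) (.leaf (nat_lit 0))) (.leaf (nat_lit 0))) (.leaf (nat_lit 0))) (.leaf (nat_lit 0))) (.leaf (nat_lit 0))) (.leaf (nat_lit 0))) (.leaf (nat_lit 0))) (.leaf (nat_lit 0))) (.leaf (nat_lit 0))) (.leaf (nat_lit 0))) (.leaf (nat_lit 0))) (.leaf (nat_lit 0))) (.leaf (nat_lit 0))) (.leaf (nat_lit 0))) (.leaf (nat_lit 0))) (.leaf (nat_lit 0))) (.leaf (nat_lit 0))) (.leaf (nat_lit 0))) (.leaf (nat_lit 0))) (.leaf (nat_lit 0))) (.leaf (nat_lit 0))) (.leaf (nat_lit 0))) (.leaf (nat_lit 0))) (.leaf (nat_lit 0))) (.leaf (nat_lit 0))) (.leaf (nat_lit 0))) (.leaf (nat_lit 0))) (.leaf (nat_lit 0))) (.leaf (nat_lit 0))) (.leaf (nat_lit 0))) (.leaf (nat_lit 0))) (.leaf (nat_lit 0))) (.leaf (nat_lit 0))) (.leaf (nat_lit 0))) (.leaf (nat_lit 0))) (.leaf (nat_lit 0))) (.leaf (nat_lit 0))) (.leaf (nat_lit 0))) (.leaf (nat_lit 0))) (.leaf (nat_lit 0))) (.leaf (nat_lit 0))) (.leaf (nat_lit 0))) (.leaf (nat_lit 0))) (.leaf (nat_lit 0))) (.leaf (nat_lit 0))) (.leaf (nat_lit 0))) (.leaf (nat_lit 0))) (.leaf (nat_lit 0))) (.leaf (nat_lit 0))) (.leaf (nat_lit 0))) (.leaf (nat_lit 0))) (.leaf (nat_lit 0))) (.leaf (nat_lit 0))) (.leaf (nat_lit 0))) (.leaf (nat_lit 0))) (.leaf (nat_lit 0))) (.leaf (nat_lit 0))) (.leaf (nat_lit 0))) (.leaf (nat_lit 0))) (.leaf (nat_lit 0))) (.leaf (nat_lit 0))) (.leaf (nat_lit 0))) (.leaf (nat_lit 0))) (.leaf (nat_lit 0))) (.leaf (nat_lit 0))) (.leaf (nat_lit 0))) (.leaf (nat_lit 0))) (.leaf (nat_lit 0))) (.leaf (nat_lit 0))) (.leaf (nat_lit 0))) (.leaf (nat_lit 0))) (.leaf (nat_lit 0))) (.leaf (nat_lit 0))) (.leaf (nat_lit 0))) (.leaf (nat_lit 0))) (.leaf (nat_lit 0))) (.leaf (nat_lit 0))) (.leaf (nat_lit 0))) (.leaf (nat_lit 0))) (.leaf (nat_lit 0))) (.leaf (nat_lit 0))) (.leaf (nat_lit 0))) (.leaf (nat_lit 0))) (.leaf (nat_lit 0))) (.leaf (nat_lit 0))) (.leaf (nat_lit 0))) (.leaf (nat_lit 0))) (.leaf (nat_lit 0))) (.leaf (nat_lit 0))) (.leaf (nat_lit 0))) (.leaf (nat_lit 0))) (.leaf (nat_lit 0)))) (.node (.node (.node (.node (.node (.node (.node (.node (.node (.node (.node (.node (.node (.node (.node (.node (.node (.node (.node (.node (.node (.node (.node (.node (.node (.node (.node (.node (.node (.node (.node (.node (.node (.node (.node (.node (.node (.node (.node (.node (.node (.node (.node (.node (.node (.node (.node (.node (.node (.node (.node (.node (.node (.node (.node (.node (.node (.node (.node (.node (.node (.node (.node (.node (.node (.node (.node (.node (.node (.node (.node (.node (.node (.node (.node (.node (.node (.node (.node (.node (.node (.node (.node (.node (.node (.node (.node (.node (.node (.node (.node (.node (.node (.node (.node (.node (.node (.node (.node (.node (.node (.node (.node (.node (.node (.node (.node (.node (.node (.node (.node (.node (.node (.node (.node (.node (.node (.node (.node (.node (.node (.leaf (nat_lit 56)) (.leaf (nat_lit 16))) (.leaf (nat_lit 0))) (.leaf (nat_lit 0))) (.leaf (nat_lit 0))) (.leaf (nat_lit 0))) (.leaf (nat_lit 0))) (.leaf (nat_lit 0))) (.leaf (nat_lit 0))) (.leaf (nat_lit 0))) (.leaf (nat_lit 0))) (.leaf (nat_lit 0))) (.leaf (nat_lit 0))) (.leaf (nat_lit 0))) (.leaf (nat_lit 0))) (.leaf (nat_lit 0))) (.leaf (nat_lit 0))) (.leaf (nat_lit 0))) (.leaf (nat_lit 0))) (.leaf (nat_lit 0))) (.leaf (nat_lit 0))) (.leaf (nat_lit 0))) (.leaf (nat_lit 87))) (.leaf (nat_lit 0))) (.leaf (nat_lit 0))) (.leaf (nat_lit 0))) (.leaf (nat_lit 0))) (.leaf (nat_lit 0))) (.leaf (nat_lit 0))) (.leaf (nat_lit 0))) (.leaf (nat_lit 0))) (.leaf (nat_lit 0))) (.leaf (nat_lit 0))) (.leaf (nat_lit 0))) (.leaf (nat_lit 0))) (.leaf (nat_lit 0))) (.leaf (nat_lit 0))) (.leaf (nat_lit 0))) (.leaf (nat_lit 0))) (.leaf (nat_lit 0))) (.leaf (nat_lit 0))) (.leaf (nat_lit 0))) (.leaf (nat_lit 0))) (.leaf (nat_lit 0))) (.leaf (nat_lit 0))) (.leaf (nat_lit 0))) (.leaf (nat_lit 0))) (.leaf (nat_lit 0))) (.leaf (nat_lit 0))) (.leaf (nat_lit 0))) (.leaf (nat_lit 0))) (.leaf (nat_lit 0))) (.leaf (nat_lit 0))) (.leaf (nat_lit 0))) (.leaf (nat_lit 0))) (.leaf (nat_lit 0))) (.leaf (nat_lit 0))) (.leaf (nat_lit 0))) (.leaf (nat_lit 0))) (.leaf (nat_lit 0))) (.leaf (nat_lit 0))) (.leaf (nat_lit 0))) (.leaf (nat_lit 0))) (.leaf (nat_lit 0))) (.leaf (nat_lit 0))) (.leaf (nat_lit 0))) (.leaf (nat_lit 0))) (.leaf (nat_lit 0))) (.leaf (nat_lit 0))) (.leaf (nat_lit 0))) (.leaf (nat_lit 0))) (.leaf (nat_lit 0))) (.leaf (nat_lit 0))) (.leaf (nat_lit 0))) (.leaf (nat_lit 0))) (.leaf (nat_lit 0))) (.leaf (nat_lit 0))) (.leaf (nat_lit 0))) (.leaf (nat_lit 0))) (.leaf (nat_lit 0))) (.leaf (nat_lit 0))) (.leaf (nat_lit 0))) (.leaf (nat_lit 0))) (.leaf (nat_lit 0))) (.leaf (nat_lit 0))) (.leaf (nat_lit 0))) (.leaf (nat_lit 0))) (.leaf (nat_lit 0))) (.leaf (nat_lit 0))) (.leaf (nat_lit 0))) (.leaf (nat_lit 0))) (.leaf (nat_lit 0))) (.leaf (nat_lit 0))) (.leaf (nat_lit 0))) (.leaf (nat_lit 0))) (.leaf (nat_lit 0))) (.leaf (nat_lit 0))) (.leaf (nat_lit 0))) (.leaf (nat_lit 0))) (.leaf (nat_lit 0))) (.leaf (nat_lit 0))) (.leaf (nat_lit 0))) (.leaf (nat_lit 0))) (.leaf (nat_lit 0))) (.leaf (nat_lit 0))) (.leaf (nat_lit 0))) (.leaf (nat_lit 0))) (.leaf (nat_lit 0))) (.leaf (nat_lit 0))) (.leaf (nat_lit 0))) (.leaf (nat_lit 0))) (.leaf (nat_lit 0))) (.leaf (nat_lit 0))) (.leaf (nat_lit 0))) (.leaf (nat_lit 0))) (.leaf (nat_lit 0))) (.leaf (nat_lit 0))) (.leaf (nat_lit 0))) (.leaf (nat_lit 0))) (.leaf (nat_lit 0))) (.leaf (nat_lit 0))) (.leaf (nat_lit 0)))) (.leaf (nat_lit 0))) (.leaf (nat_lit 0))) (.leaf (nat_lit 0))) (.leaf (nat_lit 0))) (.leaf (nat_lit 0))) (.leaf (nat_lit 0))) (.leaf (nat_lit 0))) (.leaf (nat_lit 0))) (.leaf (nat_lit 0))) (.leaf (nat_lit 0))) (.leaf (nat_lit 0))) (.leaf (nat_lit 0))) (.leaf (nat_lit 0))) (.leaf (nat_lit 0))) (.leaf (nat_lit 0))) (.leaf (nat_lit 0))) (.leaf (nat_lit 0))) (.leaf (nat_lit 0))) (.leaf (nat_lit 0))) (.leaf (nat_lit 0))) (.leaf (nat_lit 0))) (.leaf (nat_lit 0))) (.leaf (nat_lit 0))) (.leaf (nat_lit 0))) (.leaf (nat_lit 0))) (.leaf (nat_lit 0))) (.leaf (nat_lit 0))) (.leaf (nat_lit 0))) (.leaf (nat_lit 0))) (.leaf (nat_lit 0))) (.leaf (nat_lit 0))) (.leaf (nat_lit 0))) (.leaf (nat_lit 0))) (.leaf (nat_lit 0))) (.leaf (nat_lit 0))) (.leaf (nat_lit 0))) (.leaf (nat_lit 0))) (.leaf (nat_lit 0))) (.leaf (nat_lit 0))) (.leaf (nat_lit 0))) (.leaf (nat_lit 0))) (.leaf (nat_lit 0))) (.leaf (nat_lit 0))) (.leaf (nat_lit 0))) (.leaf (nat_lit 0))) (.leaf (nat_lit 0))) (.leaf (nat_lit 0))) (.leaf (nat_lit 0))) (.leaf (nat_lit 0))) (.leaf (nat_lit 0))) (.leaf (nat_lit 0))) (.leaf (nat_lit 0))) (.leaf (nat_lit 0))) (.leaf (nat_lit 0))) (.leaf (nat_lit 0))) (.leaf (nat_lit 0))) (.leaf (nat_lit 0))) (.leaf (nat_lit 0))) (.leaf (nat_lit 0))) (.leaf (nat_lit 0))) (.leaf (nat_lit 0))) (.leaf (nat_lit 0))) (.leaf (nat_lit 0))) (.leaf (nat_lit 0))) (.leaf (nat_lit 0))) (.leaf (nat_lit 0))) (.leaf (nat_lit 0))) (.leaf (nat_lit 0))) (.leaf (nat_lit 0))) (.leaf (nat_lit 0))) (.leaf (nat_lit 0))) (.leaf (nat_lit 0))) (.leaf (nat_lit 0))) (.leaf (nat_lit 0))) (.leaf (nat_lit 0))) (.leaf (nat_lit 0))) (.leaf (nat_lit 0))) (.leaf (nat_lit 0))) (.leaf (nat_lit 0))) (.leaf (nat_lit 0))) (.leaf (nat_lit 0))) (.leaf (nat_lit 0))) (.leaf (nat_lit 0))) (.leaf (nat_lit 0))) (.leaf (nat_lit 0))) (.leaf (nat_lit 0))) (.leaf (nat_lit 0))) (.leaf (nat_lit 0))) (.leaf (nat_lit 0))) (.leaf (nat_lit 0))) (.leaf (nat_lit 0))) (.leaf (nat_lit 0))) (.leaf (nat_lit 0))) (.leaf (nat_lit 0))) (.leaf (nat_lit 0))) (.leaf (nat_lit 0))) (.leaf (nat_lit 0))) (.leaf (nat_lit 0))))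

noncomputable def iB : NT := (.node (.node (.node (.node (.node (.node (.node (.node (.node (.node (.node (.node (.node (.node (.node (.node (.node (.node (.node (.node (.node (.node (.node (.node (.node (.node (.node (.node (.node (.node (.node (.node (.node (.node (.node (.node (.node (.node (.node (.node (.node (.node (.node (.node (.node (.node (.leaf (nat_lit 0)) (.node (.node (.node (.node (.node (.node (.node (.node (.node (.node (.node (.node (.node (.node (.node (.node (.node (.node (.node (.node (.node (.node (.node (.node (.node (.node (.node (.node (.node (.node (.node (.node (.node (.node (.node (.node (.node (.node (.node (.node (.node (.node (.node (.node (.node (.node (.node (.node (.node (.node (.node (.node (.node (.node (.node (.node (.node (.node (.node (.node (.node (.node (.node (.node (.node (.node (.node (.node (.node (.node (.node (.node (.node (.node (.node (.node (.node (.node (.node (.node (.node (.node (.node (.node (.node (.node (.node (.node (.node (.node (.node (.node (.node (.node (.node (.node (.node (.node (.leaf (nat_lit 48)) (.leaf (nat_lit 33))) (.leaf (nat_lit 0))) (.leaf (nat_lit 0))) (.leaf (nat_lit 0))) (.leaf (nat_lit 0))) (.leaf (nat_lit 0))) (.leaf (nat_lit 0))) (.leaf (nat_lit 0))) (.leaf (nat_lit 0))) (.leaf (nat_lit 0))) (.leaf (nat_lit 0))) (.leaf (nat_lit 0))) (.leaf (nat_lit 0))) (.leaf (nat_lit 0))) (.leaf (nat_lit 0))) (.leaf (nat_lit 0))) (.leaf (nat_lit 0))) (.leaf (nat_lit 0))) (.leaf (nat_lit 0))) (.leaf (nat_lit 0))) (.leaf (nat_lit 0))) (.leaf (nat_lit 0))) (.leaf (nat_lit 0))) (.leaf (nat_lit 0))) (.leaf (nat_lit 0))) (.leaf (nat_lit 0))) (.leaf (nat_lit 0))) (.leaf (nat_lit 0))) (.leaf (nat_lit 0))) (.leaf (nat_lit 0))) (.leaf (nat_lit 0))) (.leaf (nat_lit 0))) (.leaf (nat_lit 0))) (.leaf (nat_lit 1))) (.leaf (nat_lit 0))) (.leaf (nat_lit 0))) (.leaf (nat_lit 0))) (.leaf (nat_lit 0))) (.leaf (nat_lit 0))) (.leaf (nat_lit 0))) (.leaf (nat_lit 0))) (.leaf (nat_lit 0))) (.leaf (nat_lit 0))) (.leaf (nat_lit 67))) (.leaf (nat_lit 0))) (.leaf (nat_lit 0))) (.leaf (nat_lit 0))) (.leaf (nat_lit 0))) (.leaf (nat_lit 0))) (.leaf (nat_lit 0))) (.leaf (nat_lit 0))) (.leaf (nat_lit 0))) (.leaf (nat_lit 0))) (.leaf (nat_lit 0))) (.leaf (nat_lit 0))) (.leaf (nat_lit 0))) (.leaf (nat_lit 0))) (.leaf (nat_lit 0))) (.leaf (nat_lit 0))) (.leaf (nat_lit 0))) (.leaf (nat_lit 0))) (.leaf (nat_lit 0))) (.leaf (nat_lit 0))) (.leaf (nat_lit 0))) (.leaf (nat_lit 0))) (.leaf (nat_lit 0))) (.leaf (nat_lit 0))) (.leaf (nat_lit 0))) (.leaf (nat_lit 0))) (.leaf (nat_lit 0))) (.leaf (nat_lit 0))) (.leaf (nat_lit 0))) (.leaf (nat_lit 0))) (.leaf (nat_lit 0))) (.leaf (nat_lit 0))) (.leaf (nat_lit 0))) (.leaf (nat_lit 0))) (.leaf (nat_lit 0))) (.leaf (nat_lit 0))) (.leaf (nat_lit 0))) (.leaf (nat_lit 0))) (.leaf (nat_lit 0))) (.leaf (nat_lit 0))) (.leaf (nat_lit 0))) (.leaf (nat_lit 0))) (.leaf (nat_lit 0))) (.leaf (nat_lit 0))) (.leaf (nat_lit 0))) (.leaf (nat_lit 0))) (.leaf (nat_lit 0))) (.leaf (nat_lit 0))) (.leaf (nat_lit 0))) (.leaf (nat_lit 0))) (.leaf (nat_lit 0))) (.leaf (nat_lit 0))) (.leaf (nat_lit 0))) (.leaf (nat_lit 0))) (.leaf (nat_lit 0)))) (.node (.node (.node (.node (.node (.node (.node (.node (.node (.node (.node (.node (.node (.node (.node (.node (.node (.node (.node (.node (.node (.node (.node (.node (.node (.node (.node (.node (.node (.node (.node (.node (.node (.node (.node (.node (.node (.node (.node (.node (.node (.node (.node (.node (.node (.node (.node (.node (.node (.node (.node (.node (.node (.node (.node (.node (.node (.node (.node (.node (.node (.node (.node (.node (.node (.node (.node (.node (.node (.node (.node (.node (.node (.node (.node (.node (.node (.node (.node (.node (.node (.node (.node (.node (.node (.node (.node (.node (.node (.node (.node (.node (.node (.node (.node (.node (.node (.node (.node (.node (.leaf (nat_lit 7)) (.leaf (nat_lit 133))) (.leaf (nat_lit 0))) (.leaf (nat_lit 0))) (.leaf (nat_lit 0))) (.leaf (nat_lit 0))) (.leaf (nat_lit 0))) (.leaf (nat_lit 0))) (.leaf (nat_lit 0))) (.leaf (nat_lit 0))) (.leaf (nat_lit 0))) (.leaf (nat_lit 0))) (.leaf (nat_lit 0))) (.leaf (nat_lit 0))) (.leaf (nat_lit 0))) (.leaf (nat_lit 0))) (.leaf (nat_lit 0))) (.leaf (nat_lit 0))) (.leaf (nat_lit 0))) (.leaf (nat_lit 0))) (.leaf (nat_lit 0))) (.leaf (nat_lit 0))) (.leaf (nat_lit 0))) (.leaf (nat_lit 0))) (.leaf (nat_lit 0))) (.leaf (nat_lit 0))) (.leaf (nat_lit 0))) (.leaf (nat_lit 0))) (.leaf (nat_lit 0))) (.leaf (nat_lit 0))) (.leaf (nat_lit 0))) (.leaf (nat_lit 0))) (.leaf (nat_lit 0))) (.leaf (nat_lit 0))) (.leaf (nat_lit 103))) (.leaf (nat_lit 0))) (.leaf (nat_lit 0))) (.leaf (nat_lit 0))) (.leaf (nat_lit 0))) (.leaf (nat_lit 0))) (.leaf (nat_lit 0))) (.leaf (nat_lit 0))) (.leaf (nat_lit 0))) (.leaf (nat_lit 0))) (.leaf (nat_lit 0))) (.leaf (nat_lit 0))) (.leaf (nat_lit 12))) (.leaf (nat_lit 0))) (.leaf (nat_lit 0))) (.leaf (nat_lit 0))) (.leaf (nat_lit 0))) (.leaf (nat_lit 0))) (.leaf (nat_lit 0))) (.leaf (nat_lit 0))) (.leaf (nat_lit 0))) (.leaf (nat_lit 0))) (.leaf (nat_lit 0))) (.leaf (nat_lit 0))) (.leaf (nat_lit 0))) (.leaf (nat_lit 0))) (.leaf (nat_lit 0))) (.leaf (nat_lit 0))) (.leaf (nat_lit 0))) (.leaf (nat_lit 0))) (.leaf (nat_lit 0))) (.leaf (nat_lit 0))) (.leaf (nat_lit 0))) (.leaf (nat_lit 0))) (.leaf (nat_lit 0))) (.leaf (nat_lit 0))) (.leaf (nat_lit 0))) (.leaf (nat_lit 0))) (.leaf (nat_lit 0))) (.leaf (nat_lit 0))) (.leaf (nat_lit 0))) (.leaf (nat_lit 0))) (.leaf (nat_lit 0))) (.leaf (nat_lit 0))) (.leaf (nat_lit 0))) (.leaf (nat_lit 0))) (.leaf (nat_lit 0))) (.leaf (nat_lit 0))) (.leaf (nat_lit 0))) (.leaf (nat_lit 0))) (.leaf (nat_lit 0))) (.leaf (nat_lit 0))) (.leaf (nat_lit 0))) (.leaf (nat_lit 0))) (.leaf (nat_lit 0))) (.leaf (nat_lit 0))) (.leaf (nat_lit 0))) (.leaf (nat_lit 0))) (.leaf (nat_lit 0))) (.leaf (nat_lit 0))) (.leaf (nat_lit 0))) (.leaf (nat_lit 0))) (.leaf (nat_lit 0))) (.leaf (nat_lit 0))) (.leaf (nat_lit 0))) (.leaf (nat_lit 0))) (.leaf (nat_lit 0)))) (.leaf (nat_lit 0))) (.leaf (nat_lit 0))) (.leaf (nat_lit 0))) (.leaf (nat_lit 0))) (.leaf (nat_lit 0))) (.leaf (nat_lit 0))) (.leaf (nat_lit 0))) (.leaf (nat_lit 0))) (.leaf (nat_lit 0))) (.node (.node (.node (.node (.node (.node (.node (.node (.node (.node (.node (.node (.node (.node (.node (.node (.node (.node (.node (.node (.node (.node (.node (.node (.node (.node (.node (.node (.node (.node (.node (.node (.node (.node (.node (.node (.node (.node (.node (.node (.node (.node (.node (.node (.node (.node (.node (.node (.node (.node (.node (.node (.node (.node (.node (.node (.node (.node (.node (.node (.node (.node (.node (.node (.node (.node (.node (.node (.node (.node (.node (.node (.node (.node (.node (.node (.node (.node (.node (.node (.node (.node (.node (.node (.node (.node (.node (.node (.node (.node (.node (.node (.node (.node (.node (.node (.node (.node (.node (.node (.node (.node (.node (.node (.node (.node (.node (.node (.node (.node (.leaf (nat_lit 156)) (.leaf (nat_lit 131))) (.leaf (nat_lit 0))) (.leaf (nat_lit 0))) (.leaf (nat_lit 0))) (.leaf (nat_lit 0))) (.leaf (nat_lit 0))) (.leaf (nat_lit 0))) (.leaf (nat_lit 0))) (.leaf (nat_lit 0))) (.leaf (nat_lit 0))) (.leaf (nat_lit 0))) (.leaf (nat_lit 0))) (.leaf (nat_lit 0))) (.leaf (nat_lit 0))) (.leaf (nat_lit 0))) (.leaf (nat_lit 0))) (.leaf (nat_lit 0))) (.leaf (nat_lit 0))) (.leaf (nat_lit 0))) (.leaf (nat_lit 0))) (.leaf (nat_lit 0))) (.leaf (nat_lit 0))) (.leaf (nat_lit 0))) (.leaf (nat_lit 0))) (.leaf (nat_lit 0))) (.leaf (nat_lit 0))) (.leaf (nat_lit 0))) (.leaf (nat_lit 0))) (.leaf (nat_lit 0))) (.leaf (nat_lit 0))) (.leaf (nat_lit 0))) (.leaf (nat_lit 0))) (.leaf (nat_lit 0))) (.leaf (nat_lit 0))) (.leaf (nat_lit 21))) (.leaf (nat_lit 0))) (.leaf (nat_lit 0))) (.leaf (nat_lit 0))) (.leaf (nat_lit 0))) (.leaf (nat_lit 0))) (.leaf (nat_lit 0))) (.leaf (nat_lit 0))) (.leaf (nat_lit 0))) (.leaf (nat_lit 0))) (.leaf (nat_lit 0))) (.leaf (nat_lit 16))) (.leaf (nat_lit 0))) (.leaf (nat_lit 0))) (.leaf (nat_lit 0))) (.leaf (nat_lit 0))) (.leaf (nat_lit 0))) (.leaf (nat_lit 0))) (.leaf (nat_lit 0))) (.leaf (nat_lit 0))) (.leaf (nat_lit 0))) (.leaf (nat_lit 0))) (.leaf (nat_lit 0))) (.leaf (nat_lit 0))) (.leaf (nat_lit 0))) (.leaf (nat_lit 0))) (.leaf (nat_lit 0))) (.leaf (nat_lit 0))) (.leaf (nat_lit 0))) (.leaf (nat_lit 0))) (.leaf (nat_lit 0))) (.leaf (nat_lit 0))) (.leaf (nat_lit 0))) (.leaf (nat_lit 0))) (.leaf (nat_lit 0))) (.leaf (nat_lit 0))) (.leaf (nat_lit 0))) (.leaf (nat_lit 0))) (.leaf (nat_lit 0))) (.leaf (nat_lit 0))) (.leaf (nat_lit 0))) (.leaf (nat_lit 0))) (.leaf (nat_lit 0))) (.leaf (nat_lit 0))) (.leaf (nat_lit 0))) (.leaf (nat_lit 0))) (.leaf (nat_lit 0))) (.leaf (nat_lit 0))) (.leaf (nat_lit 0))) (.leaf (nat_lit 0))) (.leaf (nat_lit 0))) (.leaf (nat_lit 0))) (.leaf (nat_lit 0))) (.leaf (nat_lit 0))) (.node (.node (.node (.node (.node (.node (.node (.node (.node (.node (.leaf (nat_lit 0)) (.node (.node (.node (.node (.node (.node (.node (.node (.node (.node (.node (.leaf (nat_lit 0)) (.node (.node (.node (.node (.node (.node (.node (.node (.node (.node (.node (.node (.node (.node (.node (.node (.node (.node (.node (.node (.node (.node (.node (.node (.node (.node (.node (.node (.node (.node (.node (.node (.node (.node (.node (.node (.node (.node (.node (.node (.node (.node (.node (.node (.node (.leaf (nat_lit 0)) (.node (.node (.node (.node (.node (.node (.node (.node (.node (.node (.node (.node (.node (.node (.node (.node (.node (.node (.node (.node (.node (.leaf (nat_lit 13)) (.leaf (nat_lit 2))) (.leaf (nat_lit 0))) (.leaf (nat_lit 0))) (.leaf (nat_lit 0))) (.leaf (nat_lit 0))) (.leaf (nat_lit 0))) (.leaf (nat_lit 0))) (.leaf (nat_lit 0))) (.leaf (nat_lit 0))) (.leaf (nat_lit 0))) (.leaf (nat_lit 0))) (.leaf (nat_lit 0))) (.leaf (nat_lit 0))) (.leaf (nat_lit 0))) (.leaf (nat_lit 0))) (.leaf (nat_lit 0))) (.leaf (nat_lit 0))) (.leaf (nat_lit 0))) (.leaf (nat_lit 0))) (.leaf (nat_lit 0))) (.leaf (nat_lit 0)))) (.leaf (nat_lit 0))) (.leaf (nat_lit 0))) (.leaf (nat_lit 0))) (.leaf (nat_lit 0))) (.leaf (nat_lit 0))) (.leaf (nat_lit 0))) (.leaf (nat_lit 0))) (.leaf (nat_lit 0))) (.leaf (nat_lit 0))) (.leaf (nat_lit 0))) (.leaf (nat_lit 0))) (.leaf (nat_lit 0))) (.leaf (nat_lit 0))) (.leaf (nat_lit 0))) (.leaf (nat_lit 0))) (.leaf (nat_lit 0))) (.leaf (nat_lit 0))) (.leaf (nat_lit 0))) (.leaf (nat_lit 0))) (.leaf (nat_lit 0))) (.leaf (nat_lit 0))) (.leaf (nat_lit 0))) (.leaf (nat_lit 0))) (.leaf (nat_lit 0))) (.leaf (nat_lit 0))) (.leaf (nat_lit 0))) (.leaf (nat_lit 0))) (.leaf (nat_lit 0))) (.leaf (nat_lit 0))) (.leaf (nat_lit 0))) (.leaf (nat_lit 0))) (.leaf (nat_lit 0))) (.leaf (nat_lit 121))) (.leaf (nat_lit 166))) (.leaf (nat_lit 0))) (.leaf (nat_lit 0))) (.leaf (nat_lit 0))) (.leaf (nat_lit 0))) (.leaf (nat_lit 0))) (.leaf (nat_lit 0))) (.leaf (nat_lit 0))) (.leaf (nat_lit 0))) (.leaf (nat_lit 0))) (.leaf (nat_lit 0)))) (.leaf (nat_lit 0))) (.leaf (nat_lit 0))) (.leaf (nat_lit 0))) (.leaf (nat_lit 0))) (.leaf (nat_lit 0))) (.leaf (nat_lit 0))) (.leaf (nat_lit 0))) (.leaf (nat_lit 0))) (.leaf (nat_lit 0))) (.leaf (nat_lit 0)))) (.leaf (nat_lit 0))) (.leaf (nat_lit 0))) (.leaf (nat_lit 0))) (.leaf (nat_lit 0))) (.leaf (nat_lit 0))) (.leaf (nat_lit 0))) (.leaf (nat_lit 0))) (.leaf (nat_lit 0))) (.leaf (nat_lit 0)))) (.node (.node (.node (.node (.node (.node (.node (.node (.node (.node (.node (.leaf (nat_lit 0)) (.node (.node (.node (.node (.node (.node (.node (.node (.node (.node (.node (.node (.leaf (nat_lit 0)) (.node (.node (.node (.node (.node (.node (.node (.node (.node (.node (.node (.node (.node (.node (.node (.node (.node (.node (.node (.node (.node (.node (.node (.node (.node (.node (.node (.node (.node (.node (.node (.node (.node (.node (.node (.node (.node (.node (.node (.node (.node (.node (.node (.leaf (nat_lit 0)) (.node (.node (.node (.node (.node (.node (.node (.node (.node (.node (.node (.node (.node (.node (.node (.node (.node (.node (.node (.node (.node (.node (.leaf (nat_lit 35)) (.leaf (nat_lit 9))) (.leaf (nat_lit 0))) (.leaf (nat_lit 0))) (.leaf (nat_lit 0))) (.leaf (nat_lit 0))) (.leaf (nat_lit 0))) (.leaf (nat_lit 0))) (.leaf (nat_lit 0))) (.leaf (nat_lit 0))) (.leaf (nat_lit 0))) (.leaf (nat_lit 0))) (.leaf (nat_lit 0))) (.leaf (nat_lit 0))) (.leaf (nat_lit 0))) (.leaf (nat_lit 0))) (.leaf (nat_lit 0))) (.leaf (nat_lit 0))) (.leaf (nat_lit 0))) (.leaf (nat_lit 0))) (.leaf (nat_lit 0))) (.leaf (nat_lit 0))) (.leaf (nat_lit 0)))) (.leaf (nat_lit 0))) (.leaf (nat_lit 0))) (.leaf (nat_lit 0))) (.leaf (nat_lit 0))) (.leaf (nat_lit 0))) (.leaf (nat_lit 0))) (.leaf (nat_lit 0))) (.leaf (nat_lit 0))) (.leaf (nat_lit 0))) (.leaf (nat_lit 0))) (.leaf (nat_lit 0))) (.leaf (nat_lit 0))) (.leaf (nat_lit 0))) (.leaf (nat_lit 0))) (.leaf (nat_lit 0))) (.leaf (nat_lit 0))) (.leaf (nat_lit 0))) (.leaf (nat_lit 0))) (.leaf (nat_lit 0))) (.leaf (nat_lit 0))) (.leaf (nat_lit 0))) (.leaf (nat_lit 0))) (.leaf (nat_lit 0))) (.leaf (nat_lit 0))) (.leaf (nat_lit 0))) (.leaf (nat_lit 0))) (.leaf (nat_lit 0))) (.leaf (nat_lit 0))) (.leaf (nat_lit 0))) (.leaf (nat_lit 0))) (.leaf (nat_lit 0))) (.leaf (nat_lit 65))) (.leaf (nat_lit 119))) (.leaf (nat_lit 0))) (.leaf (nat_lit 0))) (.leaf (nat_lit 0))) (.leaf (nat_lit 0))) (.leaf (nat_lit 0))) (.leaf (nat_lit 0))) (.leaf (nat_lit 0))) (.leaf (nat_lit 0))) (.leaf (nat_lit 0)))) (.leaf (nat_lit 0))) (.leaf (nat_lit 0))) (.leaf (nat_lit 0))) (.leaf (nat_lit 0))) (.leaf (nat_lit 0))) (.leaf (nat_lit 0))) (.leaf (nat_lit 0))) (.leaf (nat_lit 0))) (.leaf (nat_lit 0))) (.leaf (nat_lit 0))) (.leaf (nat_lit 0)))) (.leaf (nat_lit 0))) (.leaf (nat_lit 0))) (.leaf (nat_lit 0))) (.leaf (nat_lit 0))) (.leaf (nat_lit 0))) (.leaf (nat_lit 0))) (.leaf (nat_lit 0))) (.leaf (nat_lit 0))) (.leaf (nat_lit 0))) (.leaf (nat_lit 0)))) (.leaf (nat_lit 0))) (.leaf (nat_lit 0))) (.leaf (nat_lit 0))) (.leaf (nat_lit 0))) (.leaf (nat_lit 0))) (.leaf (nat_lit 0))) (.leaf (nat_lit 0))) (.leaf (nat_lit 0))) (.leaf (nat_lit 0))) (.leaf (nat_lit 0))) (.leaf (nat_lit 0))) (.leaf (nat_lit 0))) (.leaf (nat_lit 0))) (.leaf (nat_lit 0))) (.leaf (nat_lit 0))) (.leaf (nat_lit 0))) (.leaf (nat_lit 0))) (.leaf (nat_lit 0))) (.leaf (nat_lit 0))) (.leaf (nat_lit 0)))) (.node (.node (.node (.node (.node (.node (.node (.node (.node (.node (.node (.node (.node (.node (.node (.node (.node (.node (.node (.node (.node (.node (.node (.node (.node (.node (.node (.node (.node (.node (.node (.node (.node (.node (.node (.node (.node (.node (.node (.node (.node (.node (.node (.node (.node (.node (.node (.node (.node (.node (.node (.node (.node (.node (.node (.node (.node (.node (.node (.node (.node (.node (.node (.node (.node (.node (.node (.node (.node (.node (.node (.node (.node (.node (.node (.node (.node (.node (.node (.node (.node (.node (.node (.node (.node (.node (.node (.node (.node (.node (.node (.node (.node (.node (.node (.node (.node (.node (.node (.node (.node (.node (.node (.node (.node (.node (.node (.node (.node (.node (.leaf (nat_lit 5)) (.leaf (nat_lit 31))) (.leaf (nat_lit 0))) (.leaf (nat_lit 0))) (.leaf (nat_lit 0))) (.leaf (nat_lit 0))) (.leaf (nat_lit 0))) (.leaf (nat_lit 0))) (.leaf (nat_lit 0))) (.leaf (nat_lit 0))) (.leaf (nat_lit 0))) (.leaf (nat_lit 0))) (.leaf (nat_lit 0))) (.leaf (nat_lit 0))) (.leaf (nat_lit 0))) (.leaf (nat_lit 0))) (.leaf (nat_lit 0))) (.leaf (nat_lit 0))) (.leaf (nat_lit 0))) (.leaf (nat_lit 0))) (.leaf (nat_lit 0))) (.leaf (nat_lit 0))) (.leaf (nat_lit 0))) (.leaf (nat_lit 0))) (.leaf (nat_lit 0))) (.leaf (nat_lit 0))) (.leaf (nat_lit 0))) (.leaf (nat_lit 0))) (.leaf (nat_lit 0))) (.leaf (nat_lit 0))) (.leaf (nat_lit 0))) (.leaf (nat_lit 0))) (.leaf (nat_lit 0))) (.leaf (nat_lit 102))) (.leaf (nat_lit 0))) (.leaf (nat_lit 0))) (.leaf (nat_lit 0))) (.leaf (nat_lit 0))) (.leaf (nat_lit 0))) (.leaf (nat_lit 0))) (.leaf (nat_lit 0))) (.leaf (nat_lit 0))) (.leaf (nat_lit 0))) (.leaf (nat_lit 0))) (.leaf (nat_lit 86))) (.leaf (nat_lit 0))) (.leaf (nat_lit 0))) (.leaf (nat_lit 0))) (.leaf (nat_lit 0))) (.leaf (nat_lit 0))) (.leaf (nat_lit 0))) (.leaf (nat_lit 0))) (.leaf (nat_lit 0))) (.leaf (nat_lit 0))) (.leaf (nat_lit 0))) (.leaf (nat_lit 0))) (.leaf (nat_lit 0))) (.leaf (nat_lit 0))) (.leaf (nat_lit 0))) (.leaf (nat_lit 0))) (.leaf (nat_lit 0))) (.leaf (nat_lit 0))) (.leaf (nat_lit 0))) (.leaf (nat_lit 0))) (.leaf (nat_lit 0))) (.leaf (nat_lit 0))) (.leaf (nat_lit 0))) (.leaf (nat_lit 0))) (.leaf (nat_lit 0))) (.leaf (nat_lit 0))) (.leaf (nat_lit 0))) (.leaf (nat_lit 0))) (.leaf (nat_lit 0))) (.leaf (nat_lit 0))) (.leaf (nat_lit 0))) (.leaf (nat_lit 0))) (.leaf (nat_lit 0))) (.leaf (nat_lit 0))) (.leaf (nat_lit 0))) (.leaf (nat_lit 0))) (.leaf (nat_lit 0))) (.leaf (nat_lit 0))) (.leaf (nat_lit 0))) (.leaf (nat_lit 0))) (.leaf (nat_lit 0))) (.leaf (nat_lit 0))) (.leaf (nat_lit 0))) (.leaf (nat_lit 0))) (.node (.node (.node (.node (.node (.node (.node (.node (.node (.node (.node (.leaf (nat_lit 0)) (.node (.node (.node (.node (.node (.node (.node (.node (.node (.node (.leaf (nat_lit 0)) (.node (.node (.node (.node (.node (.node (.node (.node (.node (.node (.node (.node (.node (.node (.node (.node (.node (.node (.node (.node (.node (.node (.node (.node (.node (.node (.node (.node (.node (.node (.node (.node (.node (.node (.node (.node (.node (.node (.node (.node (.node (.node (.node (.node (.node (.leaf (nat_lit 0)) (.node (.node (.node (.node (.node (.node (.node (.node (.node (.node (.node (.node (.node (.node (.node (.node (.node (.node (.node (.node (.node (.leaf (nat_lit 81)) (.leaf (nat_lit 28))) (.leaf (nat_lit 0))) (.leaf (nat_lit 0))) (.leaf (nat_lit 0))) (.leaf (nat_lit 0))) (.leaf (nat_lit 0))) (.leaf (nat_lit 0))) (.leaf (nat_lit 0))) (.leaf (nat_lit 0))) (.leaf (nat_lit 0))) (.leaf (nat_lit 0))) (.leaf (nat_lit 0))) (.leaf (nat_lit 0))) (.leaf (nat_lit 0))) (.leaf (nat_lit 0))) (.leaf (nat_lit 0))) (.leaf (nat_lit 0))) (.leaf (nat_lit 0))) (.leaf (nat_lit 0))) (.leaf (nat_lit 0))) (.leaf (nat_lit 0)))) (.leaf (nat_lit 0))) (.leaf (nat_lit 0))) (.leaf (nat_lit 0))) (.leaf (nat_lit 0))) (.leaf (nat_lit 0))) (.leaf (nat_lit 0))) (.leaf (nat_lit 0))) (.leaf (nat_lit 0))) (.leaf (nat_lit 0))) (.leaf (nat_lit 0))) (.leaf (nat_lit 0))) (.leaf (nat_lit 0))) (.leaf (nat_lit 0))) (.leaf (nat_lit 0))) (.leaf (nat_lit 0))) (.leaf (nat_lit 0))) (.leaf (nat_lit 0))) (.leaf (nat_lit 0))) (.leaf (nat_lit 0))) (.leaf (nat_lit 0))) (.leaf (nat_lit 0))) (.leaf (nat_lit 0))) (.leaf (nat_lit 0))) (.leaf (nat_lit 0))) (.leaf (nat_lit 0))) (.leaf (nat_lit 0))) (.leaf (nat_lit 0))) (.leaf (nat_lit 0))) (.leaf (nat_lit 0))) (.leaf (nat_lit 0))) (.leaf (nat_lit 0))) (.leaf (nat_lit 0))) (.leaf (nat_lit 26))) (.leaf (nat_lit 79))) (.leaf (nat_lit 0))) (.leaf (nat_lit 0))) (.leaf (nat_lit 0))) (.leaf (nat_lit 0))) (.leaf (nat_lit 0))) (.leaf (nat_lit 0))) (.leaf (nat_lit 0))) (.leaf (nat_lit 0))) (.leaf (nat_lit 0))) (.leaf (nat_lit 0)))) (.leaf (nat_lit 0))) (.leaf (nat_lit 0))) (.leaf (nat_lit 0))) (.leaf (nat_lit 0))) (.leaf (nat_lit 0))) (.leaf (nat_lit 0))) (.leaf (nat_lit 0))) (.leaf (nat_lit 0))) (.leaf (nat_lit 0)))) (.leaf (nat_lit 0))) (.leaf (nat_lit 0))) (.leaf (nat_lit 0))) (.leaf (nat_lit 0))) (.leaf (nat_lit 0))) (.leaf (nat_lit 0))) (.leaf (nat_lit 0))) (.leaf (nat_lit 0))) (.leaf (nat_lit 0))) (.leaf (nat_lit 0)))) (.node (.node (.node (.node (.node (.node (.node (.node (.node (.node (.node (.node (.leaf (nat_lit 0)) (.node (.node (.node (.node (.node (.node (.node (.node (.node (.node (.node (.leaf (nat_lit 0)) (.node (.node (.node (.node (.node (.node (.node (.node (.node (.node (.node (.node (.node (.node (.node (.node (.node (.node (.node (.node (.node (.node (.node (.node (.node (.node (.node (.node (.node (.node (.node (.node (.node (.node (.node (.node (.node (.node (.node (.node (.node (.node (.node (.leaf (nat_lit 0)) (.node (.node (.node (.node (.node (.node (.node (.node (.node (.node (.node (.node (.node (.node (.node (.node (.node (.node (.node (.node (.node (.node (.leaf (nat_lit 36)) (.leaf (nat_lit 10))) (.leaf (nat_lit 0))) (.leaf (nat_lit 0))) (.leaf (nat_lit 0))) (.leaf (nat_lit 0))) (.leaf (nat_lit 0))) (.leaf (nat_lit 0))) (.leaf (nat_lit 0))) (.leaf (nat_lit 0))) (.leaf (nat_lit 0))) (.leaf (nat_lit 0))) (.leaf (nat_lit 0))) (.leaf (nat_lit 0))) (.leaf (nat_lit 0))) (.leaf (nat_lit 0))) (.leaf (nat_lit 0))) (.leaf (nat_lit 0))) (.leaf (nat_lit 0))) (.leaf (nat_lit 0))) (.leaf (nat_lit 0))) (.leaf (nat_lit 0))) (.leaf (nat_lit 0)))) (.leaf (nat_lit 0))) (.leaf (nat_lit 0))) (.leaf (nat_lit 0))) (.leaf (nat_lit 0))) (.leaf (nat_lit 0))) (.leaf (nat_lit 0))) (.leaf (nat_lit 0))) (.leaf (nat_lit 0))) (.leaf (nat_lit 0))) (.leaf (nat_lit 0))) (.leaf (nat_lit 0))) (.leaf (nat_lit 0))) (.leaf (nat_lit 0))) (.leaf (nat_lit 0))) (.leaf (nat_lit 0))) (.leaf (nat_lit 0))) (.leaf (nat_lit 0))) (.leaf (nat_lit 0))) (.leaf (nat_lit 0))) (.leaf (nat_lit 0))) (.leaf (nat_lit 0))) (.leaf (nat_lit 0))) (.leaf (nat_lit 0))) (.leaf (nat_lit 0))) (.leaf (nat_lit 0))) (.leaf (nat_lit 0))) (.leaf (nat_lit 0))) (.leaf (nat_lit 0))) (.leaf (nat_lit 0))) (.leaf (nat_lit 0))) (.leaf (nat_lit 0))) (.leaf (nat_lit 116))) (.leaf (nat_lit 175))) (.leaf (nat_lit 0))) (.leaf (nat_lit 0))) (.leaf (nat_lit 0))) (.leaf (nat_lit 0))) (.leaf (nat_lit 0))) (.leaf (nat_lit 0))) (.leaf (nat_lit 0))) (.leaf (nat_lit 0))) (.leaf (nat_lit 0)))) (.leaf (nat_lit 0))) (.leaf (nat_lit 0))) (.leaf (nat_lit 0))) (.leaf (nat_lit 0))) (.leaf (nat_lit 0))) (.leaf (nat_lit 0))) (.leaf (nat_lit 0))) (.leaf (nat_lit 0))) (.leaf (nat_lit 0))) (.leaf (nat_lit 0)))) (.leaf (nat_lit 0))) (.leaf (nat_lit 0))) (.leaf (nat_lit 0))) (.leaf (nat_lit 0))) (.leaf (nat_lit 0))) (.leaf (nat_lit 0))) (.leaf (nat_lit 0))) (.leaf (nat_lit 0))) (.leaf (nat_lit 0))) (.leaf (nat_lit 0))) (.leaf (nat_lit 0)))) (.leaf (nat_lit 0))) (.leaf (nat_lit 0))) (.leaf (nat_lit 0))) (.leaf (nat_lit 0))) (.leaf (nat_lit 0))) (.leaf (nat_lit 0))) (.leaf (nat_lit 0))) (.leaf (nat_lit 0))) (.leaf (nat_lit 0))) (.leaf (nat_lit 0))) (.leaf (nat_lit 0))) (.leaf (nat_lit 0))) (.leaf (nat_lit 0))) (.leaf (nat_lit 0))) (.leaf (nat_lit 0))) (.leaf (nat_lit 0))) (.leaf (nat_lit 0))) (.leaf (nat_lit 0))) (.leaf (nat_lit 0))) (.leaf (nat_lit 0))) (.leaf (nat_lit 0)))) (.leaf (nat_lit 0))) (.leaf (nat_lit 0))) (.leaf (nat_lit 0))) (.leaf (nat_lit 0))) (.leaf (nat_lit 0))) (.leaf (nat_lit 0))) (.leaf (nat_lit 0))) (.leaf (nat_lit 0))) (.leaf (nat_lit 0))) (.node (.node (.node (.node (.node (.node (.node (.node (.node (.node (.node (.node (.node (.node (.node (.node (.node (.node (.node (.node (.node (.node (.leaf (nat_lit 0)) (.node (.node (.node (.node (.node (.node (.node (.node (.node (.node (.node (.leaf (nat_lit 0)) (.node (.node (.node (.node (.node (.node (.node (.node (.node (.node (.node (.leaf (nat_lit 0)) (.node (.node (.node (.node (.node (.node (.node (.node (.node (.node (.node (.node (.node (.node (.node (.node (.node (.node (.node (.node (.node (.node (.node (.node (.node (.node (.node (.node (.node (.node (.node (.node (.node (.node (.node (.node (.node (.node (.node (.node (.node (.node (.node (.leaf (nat_lit 85)) (.leaf (nat_lit 163))) (.leaf (nat_lit 0))) (.leaf (nat_lit 0))) (.leaf (nat_lit 0))) (.leaf (nat_lit 0))) (.leaf (nat_lit 0))) (.leaf (nat_lit 0))) (.leaf (nat_lit 0))) (.leaf (nat_lit 0))) (.leaf (nat_lit 0))) (.leaf (nat_lit 0))) (.leaf (nat_lit 0))) (.leaf (nat_lit 0))) (.leaf (nat_lit 0))) (.leaf (nat_lit 0))) (.leaf (nat_lit 0))) (.leaf (nat_lit 0))) (.leaf (nat_lit 0))) (.leaf (nat_lit 0))) (.leaf (nat_lit 0))) (.leaf (nat_lit 0))) (.leaf (nat_lit 161))) (.leaf (nat_lit 83))) (.leaf (nat_lit 0))) (.leaf (nat_lit 0))) (.leaf (nat_lit 0))) (.leaf (nat_lit 0))) (.leaf (nat_lit 0))) (.leaf (nat_lit 0))) (.leaf (nat_lit 0))) (.leaf (nat_lit 0))) (.leaf (nat_lit 0))) (.leaf (nat_lit 0))) (.leaf (nat_lit 0))) (.leaf (nat_lit 0))) (.leaf (nat_lit 0))) (.leaf (nat_lit 0))) (.leaf (nat_lit 0))) (.leaf (nat_lit 0))) (.leaf (nat_lit 0))) (.leaf (nat_lit 0))) (.leaf (nat_lit 0))) (.leaf (nat_lit 0)))) (.leaf (nat_lit 0))) (.leaf (nat_lit 0))) (.leaf (nat_lit 0))) (.leaf (nat_lit 0))) (.leaf (nat_lit 0))) (.leaf (nat_lit 0))) (.leaf (nat_lit 0))) (.leaf (nat_lit 0))) (.leaf (nat_lit 0))) (.leaf (nat_lit 0)))) (.leaf (nat_lit 0))) (.leaf (nat_lit 0))) (.leaf (nat_lit 0))) (.leaf (nat_lit 0))) (.leaf (nat_lit 0))) (.leaf (nat_lit 0))) (.leaf (nat_lit 0))) (.leaf (nat_lit 0))) (.leaf (nat_lit 0))) (.leaf (nat_lit 0)))) (.node (.node (.node (.node (.node (.node (.node (.node (.node (.node (.node (.node (.leaf (nat_lit 0)) (.node (.node (.node (.node (.node (.node (.node (.node (.node (.node (.leaf (nat_lit 0)) (.node (.node (.node (.node (.node (.node (.node (.node (.node (.node (.node (.node (.node (.node (.node (.node (.node (.node (.node (.node (.node (.node (.node (.node (.node (.node (.node (.node (.node (.node (.node (.node (.node (.node (.node (.node (.node (.node (.node (.node (.node (.node (.node (.node (.leaf (nat_lit 15)) (.leaf (nat_lit 42))) (.leaf (nat_lit 0))) (.leaf (nat_lit 0))) (.leaf (nat_lit 0))) (.leaf (nat_lit 0))) (.leaf (nat_lit 0))) (.leaf (nat_lit 0))) (.leaf (nat_lit 0))) (.leaf (nat_lit 0))) (.leaf (nat_lit 0))) (.leaf (nat_lit 0))) (.leaf (nat_lit 0))) (.leaf (nat_lit 0))) (.leaf (nat_lit 0))) (.leaf (nat_lit 0))) (.leaf (nat_lit 0))) (.leaf (nat_lit 0))) (.leaf (nat_lit 0))) (.leaf (nat_lit 0))) (.leaf (nat_lit 0))) (.leaf (nat_lit 0))) (.leaf (nat_lit 122))) (.leaf (nat_lit 176))) (.leaf (nat_lit 0))) (.leaf (nat_lit 0))) (.leaf (nat_lit 0))) (.leaf (nat_lit 0))) (.leaf (nat_lit 0))) (.leaf (nat_lit 0))) (.leaf (nat_lit 0))) (.leaf (nat_lit 0))) (.leaf (nat_lit 0))) (.leaf (nat_lit 0))) (.leaf (nat_lit 0))) (.leaf (nat_lit 0))) (.leaf (nat_lit 0))) (.leaf (nat_lit 0))) (.leaf (nat_lit 0))) (.leaf (nat_lit 0))) (.leaf (nat_lit 0))) (.leaf (nat_lit 0))) (.leaf (nat_lit 0))) (.leaf (nat_lit 0))) (.leaf (nat_lit 0)))) (.leaf (nat_lit 0))) (.leaf (nat_lit 0))) (.leaf (nat_lit 0))) (.leaf (nat_lit 0))) (.leaf (nat_lit 0))) (.leaf (nat_lit 0))) (.leaf (nat_lit 0))) (.leaf (nat_lit 0))) (.leaf (nat_lit 0)))) (.leaf (nat_lit 0))) (.leaf (nat_lit 0))) (.leaf (nat_lit 0))) (.leaf (nat_lit 0))) (.leaf (nat_lit 0))) (.leaf (nat_lit 0))) (.leaf (nat_lit 0))) (.leaf (nat_lit 0))) (.leaf (nat_lit 0))) (.leaf (nat_lit 0))) (.leaf (nat_lit 0)))) (.leaf (nat_lit 0))) (.leaf (nat_lit 0))) (.leaf (nat_lit 0))) (.leaf (nat_lit 0))) (.leaf (nat_lit 0))) (.leaf (nat_lit 0))) (.leaf (nat_lit 0))) (.leaf (nat_lit 0))) (.leaf (nat_lit 0))) (.node (.node (.node (.node (.node (.node (.node (.node (.node (.node (.leaf (nat_lit 0)) (.node (.node (.node (.node (.node (.node (.node (.node (.node (.node (.node (.node (.node (.node (.node (.node (.node (.node (.node (.node (.node (.node (.node (.node (.node (.node (.node (.node (.node (.node (.node (.node (.node (.node (.leaf (nat_lit 0)) (.node (.node (.node (.node (.node (.node (.node (.node (.node (.node (.node (.node (.node (.node (.node (.node (.node (.node (.node (.node (.node (.node (.node (.node (.node (.node (.node (.node (.node (.node (.node (.node (.leaf (nat_lit 44)) (.leaf (nat_lit 98))) (.leaf (nat_lit 0))) (.leaf (nat_lit 0))) (.leaf (nat_lit 0))) (.leaf (nat_lit 0))) (.leaf (nat_lit 0))) (.leaf (nat_lit 0))) (.leaf (nat_lit 0))) (.leaf (nat_lit 0))) (.leaf (nat_lit 0))) (.leaf (nat_lit 0))) (.leaf (nat_lit 0))) (.leaf (nat_lit 0))) (.leaf (nat_lit 0))) (.leaf (nat_lit 0))) (.leaf (nat_lit 0))) (.leaf (nat_lit 0))) (.leaf (nat_lit 0))) (.leaf (nat_lit 0))) (.leaf (nat_lit 0))) (.leaf (nat_lit 0))) (.leaf (nat_lit 177))) (.leaf (nat_lit 149))) (.leaf (nat_lit 0))) (.leaf (nat_lit 0))) (.leaf (nat_lit 0))) (.leaf (nat_lit 0))) (.leaf (nat_lit 0))) (.leaf (nat_lit 0))) (.leaf (nat_lit 0))) (.leaf (nat_lit 0))) (.leaf (nat_lit 0)))) (.leaf (nat_lit 0))) (.leaf (nat_lit 0))) (.leaf (nat_lit 0))) (.leaf (nat_lit 0))) (.leaf (nat_lit 0))) (.leaf (nat_lit 0))) (.leaf (nat_lit 0))) (.leaf (nat_lit 0))) (.leaf (nat_lit 0))) (.leaf (nat_lit 0))) (.leaf (nat_lit 0))) (.leaf (nat_lit 0))) (.leaf (nat_lit 0))) (.leaf (nat_lit 0))) (.leaf (nat_lit 0))) (.leaf (nat_lit 0))) (.leaf (nat_lit 0))) (.leaf (nat_lit 0))) (.leaf (nat_lit 0))) (.leaf (nat_lit 0))) (.leaf (nat_lit 0))) (.leaf (nat_lit 0))) (.leaf (nat_lit 0))) (.leaf (nat_lit 0))) (.leaf (nat_lit 0))) (.leaf (nat_lit 0))) (.leaf (nat_lit 0))) (.leaf (nat_lit 0))) (.leaf (nat_lit 0))) (.leaf (nat_lit 0))) (.leaf (nat_lit 0))) (.leaf (nat_lit 0))) (.leaf (nat_lit 0)))) (.leaf (nat_lit 0))) (.leaf (nat_lit 0))) (.leaf (nat_lit 0))) (.leaf (nat_lit 0))) (.leaf (nat_lit 0))) (.leaf (nat_lit 0))) (.leaf (nat_lit 0))) (.leaf (nat_lit 0))) (.leaf (nat_lit 0)))) (.leaf (nat_lit 0))) (.leaf (nat_lit 0))) (.leaf (nat_lit 0))) (.leaf (nat_lit 0))) (.leaf (nat_lit 0))) (.leaf (nat_lit 0))) (.leaf (nat_lit 0))) (.leaf (nat_lit 0))) (.leaf (nat_lit 0))) (.leaf (nat_lit 0)))) (.node (.node (.node (.node (.node (.node (.node (.node (.node (.node (.node (.node (.node (.node (.node (.node (.node (.node (.node (.node (.node (.node (.node (.leaf (nat_lit 0)) (.node (.node (.node (.node (.node (.node (.node (.node (.node (.node (.leaf (nat_lit 0)) (.node (.node (.node (.node (.node (.node (.node (.node (.node (.node (.node (.node (.leaf (nat_lit 0)) (.node (.node (.node (.node (.node (.node (.node (.node (.node (.node (.node (.node (.node (.node (.node (.node (.node (.node (.node (.node (.node (.node (.node (.node (.node (.node (.node (.node (.node (.node (.node (.node (.node (.node (.node (.node (.node (.node (.node (.node (.node (.node (.node (.leaf (nat_lit 39)) (.leaf (nat_lit 91))) (.leaf (nat_lit 0))) (.leaf (nat_lit 0))) (.leaf (nat_lit 0))) (.leaf (nat_lit 0))) (.leaf (nat_lit 0))) (.leaf (nat_lit 0))) (.leaf (nat_lit 0))) (.leaf (nat_lit 0))) (.leaf (nat_lit 0))) (.leaf (nat_lit 0))) (.leaf (nat_lit 0))) (.leaf (nat_lit 0))) (.leaf (nat_lit 0))) (.leaf (nat_lit 0))) (.leaf (nat_lit 0))) (.leaf (nat_lit 0))) (.leaf (nat_lit 0))) (.leaf (nat_lit 0))) (.leaf (nat_lit 0))) (.leaf (nat_lit 0))) (.leaf (nat_lit 138))) (.leaf (nat_lit 109))) (.leaf (nat_lit 0))) (.leaf (nat_lit 0))) (.leaf (nat_lit 0))) (.leaf (nat_lit 0))) (.leaf (nat_lit 0))) (.leaf (nat_lit 0))) (.leaf (nat_lit 0))) (.leaf (nat_lit 0))) (.leaf (nat_lit 0))) (.leaf (nat_lit 0))) (.leaf (nat_lit 0))) (.leaf (nat_lit 0))) (.leaf (nat_lit 0))) (.leaf (nat_lit 0))) (.leaf (nat_lit 0))) (.leaf (nat_lit 0))) (.leaf (nat_lit 0))) (.leaf (nat_lit 0))) (.leaf (nat_lit 0))) (.leaf (nat_lit 0)))) (.leaf (nat_lit 0))) (.leaf (nat_lit 0))) (.leaf (nat_lit 0))) (.leaf (nat_lit 0))) (.leaf (nat_lit 0))) (.leaf (nat_lit 0))) (.leaf (nat_lit 0))) (.leaf (nat_lit 0))) (.leaf (nat_lit 0))) (.leaf (nat_lit 0))) (.leaf (nat_lit 0)))) (.leaf (nat_lit 0))) (.leaf (nat_lit 0))) (.leaf (nat_lit 0))) (.leaf (nat_lit 0))) (.leaf (nat_lit 0))) (.leaf (nat_lit 0))) (.leaf (nat_lit 0))) (.leaf (nat_lit 0))) (.leaf (nat_lit 0)))) (.node (.node (.node (.node (.node (.node (.node (.node (.node (.node (.node (.leaf (nat_lit 0)) (.node (.node (.node (.node (.node (.node (.node (.node (.node (.node (.node (.leaf (nat_lit 0)) (.node (.node (.node (.node (.node (.node (.node (.node (.node (.node (.node (.node (.node (.node (.node (.node (.node (.node (.node (.node (.node (.node (.node (.node (.node (.node (.node (.node (.node (.node (.node (.node (.node (.node (.node (.node (.node (.node (.node (.node (.node (.node (.node (.node (.leaf (nat_lit 38)) (.leaf (nat_lit 90))) (.leaf (nat_lit 0))) (.leaf (nat_lit 0))) (.leaf (nat_lit 0))) (.leaf (nat_lit 0))) (.leaf (nat_lit 0))) (.leaf (nat_lit 0))) (.leaf (nat_lit 0))) (.leaf (nat_lit 0))) (.leaf (nat_lit 0))) (.leaf (nat_lit 0))) (.leaf (nat_lit 0))) (.leaf (nat_lit 0))) (.leaf (nat_lit 0))) (.leaf (nat_lit 0))) (.leaf (nat_lit 0))) (.leaf (nat_lit 0))) (.leaf (nat_lit 0))) (.leaf (nat_lit 0))) (.leaf (nat_lit 0))) (.leaf (nat_lit 0))) (.leaf (nat_lit 165))) (.leaf (nat_lit 153))) (.leaf (nat_lit 0))) (.leaf (nat_lit 0))) (.leaf (nat_lit 0))) (.leaf (nat_lit 0))) (.leaf (nat_lit 0))) (.leaf (nat_lit 0))) (.leaf (nat_lit 0))) (.leaf (nat_lit 0))) (.leaf (nat_lit 0))) (.leaf (nat_lit 0))) (.leaf (nat_lit 0))) (.leaf (nat_lit 0))) (.leaf (nat_lit 0))) (.leaf (nat_lit 0))) (.leaf (nat_lit 0))) (.leaf (nat_lit 0))) (.leaf (nat_lit 0))) (.leaf (nat_lit 0))) (.leaf (nat_lit 0))) (.leaf (nat_lit 0))) (.leaf (nat_lit 0)))) (.leaf (nat_lit 0))) (.leaf (nat_lit 0))) (.leaf (nat_lit 0))) (.leaf (nat_lit 0))) (.leaf (nat_lit 0))) (.leaf (nat_lit 0))) (.leaf (nat_lit 0))) (.leaf (nat_lit 0))) (.leaf (nat_lit 0))) (.leaf (nat_lit 0)))) (.leaf (nat_lit 0))) (.leaf (nat_lit 0))) (.leaf (nat_lit 0))) (.leaf (nat_lit 0))) (.leaf (nat_lit 0))) (.leaf (nat_lit 0))) (.leaf (nat_lit 0))) (.leaf (nat_lit 0))) (.leaf (nat_lit 0))) (.leaf (nat_lit 0)))) (.leaf (nat_lit 0))) (.leaf (nat_lit 0))) (.leaf (nat_lit 0))) (.leaf (nat_lit 0))) (.leaf (nat_lit 0))) (.leaf (nat_lit 0))) (.leaf (nat_lit 0))) (.leaf (nat_lit 0))) (.leaf (nat_lit 0))) (.leaf (nat_lit 0))) (.node (.node (.node (.node (.node (.node (.node (.node (.node (.node (.node (.node (.leaf (nat_lit 0)) (.node (.node (.node (.node (.node (.node (.node (.node (.node (.node (.node (.node (.node (.node (.node (.node (.node (.node (.node (.node (.node (.node (.node (.node (.node (.node (.node (.node (.node (.node (.node (.node (.leaf (nat_lit 0)) (.node (.node (.node (.node (.node (.node (.node (.node (.node (.node (.node (.node (.node (.node (.node (.node (.node (.node (.node (.node (.node (.node (.node (.node (.node (.node (.node (.node (.node (.node (.node (.node (.node (.leaf (nat_lit 110)) (.leaf (nat_lit 179))) (.leaf (nat_lit 0))) (.leaf (nat_lit 0))) (.leaf (nat_lit 0))) (.leaf (nat_lit 0))) (.leaf (nat_lit 0))) (.leaf (nat_lit 0))) (.leaf (nat_lit 0))) (.leaf (nat_lit 0))) (.leaf (nat_lit 0))) (.leaf (nat_lit 0))) (.leaf (nat_lit 0))) (.leaf (nat_lit 0))) (.leaf (nat_lit 0))) (.leaf (nat_lit 0))) (.leaf (nat_lit 0))) (.leaf (nat_lit 0))) (.leaf (nat_lit 0))) (.leaf (nat_lit 0))) (.leaf (nat_lit 0))) (.leaf (nat_lit 0))) (.leaf (nat_lit 93))) (.leaf (nat_lit 95))) (.leaf (nat_lit 0))) (.leaf (nat_lit 0))) (.leaf (nat_lit 0))) (.leaf (nat_lit 0))) (.leaf (nat_lit 0))) (.leaf (nat_lit 0))) (.leaf (nat_lit 0))) (.leaf (nat_lit 0))) (.leaf (nat_lit 0))) (.leaf (nat_lit 0)))) (.leaf (nat_lit 0))) (.leaf (nat_lit 0))) (.leaf (nat_lit 0))) (.leaf (nat_lit 0))) (.leaf (nat_lit 0))) (.leaf (nat_lit 0))) (.leaf (nat_lit 0))) (.leaf (nat_lit 0))) (.leaf (nat_lit 0))) (.leaf (nat_lit 0))) (.leaf (nat_lit 0))) (.leaf (nat_lit 0))) (.leaf (nat_lit 0))) (.leaf (nat_lit 0))) (.leaf (nat_lit 0))) (.leaf (nat_lit 0))) (.leaf (nat_lit 0))) (.leaf (nat_lit 0))) (.leaf (nat_lit 0))) (.leaf (nat_lit 0))) (.leaf (nat_lit 0))) (.leaf (nat_lit 0))) (.leaf (nat_lit 0))) (.leaf (nat_lit 0))) (.leaf (nat_lit 0))) (.leaf (nat_lit 0))) (.leaf (nat_lit 0))) (.leaf (nat_lit 0))) (.leaf (nat_lit 0))) (.leaf (nat_lit 0))) (.leaf (nat_lit 0)))) (.leaf (nat_lit 0))) (.leaf (nat_lit 0))) (.leaf (nat_lit 0))) (.leaf (nat_lit 0))) (.leaf (nat_lit 0))) (.leaf (nat_lit 0))) (.leaf (nat_lit 0))) (.leaf (nat_lit 0))) (.leaf (nat_lit 0))) (.leaf (nat_lit 0))) (.leaf (nat_lit 0)))) (.leaf (nat_lit 0))) (.leaf (nat_lit 0))) (.leaf (nat_lit 0))) (.leaf (nat_lit 0))) (.leaf (nat_lit 0))) (.leaf (nat_lit 0))) (.leaf (nat_lit 0))) (.leaf (nat_lit 0))) (.leaf (nat_lit 0))) (.leaf (nat_lit 0)))) (.leaf (nat_lit 0))) (.leaf (nat_lit 0))) (.leaf (nat_lit 0))) (.leaf (nat_lit 0))) (.leaf (nat_lit 0))) (.leaf (nat_lit 0))) (.leaf (nat_lit 0))) (.leaf (nat_lit 0))) (.leaf (nat_lit 0))) (.node (.node (.node (.node (.node (.node (.node (.node (.node (.node (.node (.node (.node (.node (.node (.node (.node (.node (.node (.node (.node (.node (.node (.node (.node (.node (.node (.node (.node (.node (.node (.node (.node (.leaf (nat_lit 0)) (.node (.node (.node (.node (.node (.node (.node (.node (.node (.node (.node (.node (.node (.node (.node (.node (.node (.node (.node (.node (.node (.leaf (nat_lit 0)) (.node (.node (.node (.node (.node (.node (.node (.node (.node (.node (.node (.leaf (nat_lit 0)) (.node (.node (.node (.node (.node (.node (.node (.node (.node (.node (.node (.node (.node (.node (.node (.node (.node (.node (.node (.node (.node (.node (.leaf (nat_lit 70)) (.leaf (nat_lit 51))) (.leaf (nat_lit 0))) (.leaf (nat_lit 0))) (.leaf (nat_lit 0))) (.leaf (nat_lit 0))) (.leaf (nat_lit 0))) (.leaf (nat_lit 0))) (.leaf (nat_lit 0))) (.leaf (nat_lit 0))) (.leaf (nat_lit 0))) (.leaf (nat_lit 164))) (.leaf (nat_lit 87))) (.leaf (nat_lit 0))) (.leaf (nat_lit 0))) (.leaf (nat_lit 0))) (.leaf (nat_lit 0))) (.leaf (nat_lit 0))) (.leaf (nat_lit 0))) (.leaf (nat_lit 0))) (.leaf (nat_lit 0))) (.leaf (nat_lit 0))) (.leaf (nat_lit 0)))) (.leaf (nat_lit 0))) (.leaf (nat_lit 0))) (.leaf (nat_lit 0))) (.leaf (nat_lit 0))) (.leaf (nat_lit 0))) (.leaf (nat_lit 0))) (.leaf (nat_lit 0))) (.leaf (nat_lit 0))) (.leaf (nat_lit 0))) (.leaf (nat_lit 0)))) (.leaf (nat_lit 0))) (.leaf (nat_lit 0))) (.leaf (nat_lit 0))) (.leaf (nat_lit 0))) (.leaf (nat_lit 0))) (.leaf (nat_lit 0))) (.leaf (nat_lit 0))) (.leaf (nat_lit 0))) (.leaf (nat_lit 0))) (.leaf (nat_lit 0))) (.leaf (nat_lit 0))) (.leaf (nat_lit 0))) (.leaf (nat_lit 0))) (.leaf (nat_lit 0))) (.leaf (nat_lit 0))) (.leaf (nat_lit 0))) (.leaf (nat_lit 0))) (.leaf (nat_lit 0))) (.leaf (nat_lit 0))) (.leaf (nat_lit 0)))) (.node (.node (.node (.node (.node (.node (.node (.node (.node (.node (.node (.node (.node (.node (.node (.node (.node (.node (.node (.node (.node (.node (.node (.leaf (nat_lit 0)) (.node (.node (.node (.node (.node (.node (.node (.node (.node (.node (.leaf (nat_lit 0)) (.node (.node (.node (.node (.node (.node (.node (.node (.node (.node (.node (.node (.node (.node (.node (.node (.node (.node (.node (.node (.node (.node (.leaf (nat_lit 168)) (.leaf (nat_lit 150))) (.leaf (nat_lit 0))) (.leaf (nat_lit 0))) (.leaf (nat_lit 0))) (.leaf (nat_lit 0))) (.leaf (nat_lit 0))) (.leaf (nat_lit 0))) (.leaf (nat_lit 0))) (.leaf (nat_lit 0))) (.leaf (nat_lit 0))) (.leaf (nat_lit 187))) (.leaf (nat_lit 154))) (.leaf (nat_lit 0))) (.leaf (nat_lit 0))) (.leaf (nat_lit 0))) (.leaf (nat_lit 0))) (.leaf (nat_lit 0))) (.leaf (nat_lit 0))) (.leaf (nat_lit 0))) (.leaf (nat_lit 0))) (.leaf (nat_lit 0))) (.leaf (nat_lit 0)))) (.leaf (nat_lit 0))) (.leaf (nat_lit 0))) (.leaf (nat_lit 0))) (.leaf (nat_lit 0))) (.leaf (nat_lit 0))) (.leaf (nat_lit 0))) (.leaf (nat_lit 0))) (.leaf (nat_lit 0))) (.leaf (nat_lit 0)))) (.leaf (nat_lit 0))) (.leaf (nat_lit 0))) (.leaf (nat_lit 0))) (.leaf (nat_lit 0))) (.leaf (nat_lit 0))) (.leaf (nat_lit 0))) (.leaf (nat_lit 0))) (.leaf (nat_lit 0))) (.leaf (nat_lit 0))) (.leaf (nat_lit 0))) (.leaf (nat_lit 0))) (.leaf (nat_lit 0))) (.leaf (nat_lit 0))) (.leaf (nat_lit 0))) (.leaf (nat_lit 0))) (.leaf (nat_lit 0))) (.leaf (nat_lit 0))) (.leaf (nat_lit 0))) (.leaf (nat_lit 0))) (.leaf (nat_lit 0))) (.leaf (nat_lit 0))) (.leaf (nat_lit 0)))) (.leaf (nat_lit 0))) (.leaf (nat_lit 0))) (.leaf (nat_lit 0))) (.leaf (nat_lit 0))) (.leaf (nat_lit 0))) (.leaf (nat_lit 0))) (.leaf (nat_lit 0))) (.leaf (nat_lit 0))) (.leaf (nat_lit 0))) (.node (.node (.node (.node (.node (.node (.node (.node (.node (.node (.node (.leaf (nat_lit 0)) (.node (.node (.node (.node (.node (.node (.node (.node (.node (.node (.leaf (nat_lit 0)) (.node (.node (.node (.node (.node (.node (.node (.node (.node (.node (.node (.node (.node (.node (.node (.node (.node (.node (.node (.node (.node (.node (.node (.node (.node (.node (.node (.node (.node (.node (.node (.node (.node (.node (.node (.node (.node (.node (.node (.node (.node (.node (.node (.node (.leaf (nat_lit 139)) (.leaf (nat_lit 152))) (.leaf (nat_lit 0))) (.leaf (nat_lit 0))) (.leaf (nat_lit 0))) (.leaf (nat_lit 0))) (.leaf (nat_lit 0))) (.leaf (nat_lit 0))) (.leaf (nat_lit 0))) (.leaf (nat_lit 0))) (.leaf (nat_lit 0))) (.leaf (nat_lit 191))) (.leaf (nat_lit 178))) (.leaf (nat_lit 0))) (.leaf (nat_lit 0))) (.leaf (nat_lit 0))) (.leaf (nat_lit 0))) (.leaf (nat_lit 0))) (.leaf (nat_lit 0))) (.leaf (nat_lit 0))) (.leaf (nat_lit 0))) (.leaf (nat_lit 0))) (.leaf (nat_lit 0))) (.leaf (nat_lit 0))) (.leaf (nat_lit 0))) (.leaf (nat_lit 0))) (.leaf (nat_lit 0))) (.leaf (nat_lit 0))) (.leaf (nat_lit 0))) (.leaf (nat_lit 0))) (.leaf (nat_lit 0))) (.leaf (nat_lit 0))) (.leaf (nat_lit 0))) (.leaf (nat_lit 0))) (.leaf (nat_lit 0))) (.leaf (nat_lit 0))) (.leaf (nat_lit 0))) (.leaf (nat_lit 0))) (.leaf (nat_lit 0))) (.leaf (nat_lit 0))) (.leaf (nat_lit 0))) (.leaf (nat_lit 0))) (.leaf (nat_lit 0))) (.leaf (nat_lit 0))) (.leaf (nat_lit 0)))) (.leaf (nat_lit 0))) (.leaf (nat_lit 0))) (.leaf (nat_lit 0))) (.leaf (nat_lit 0))) (.leaf (nat_lit 0))) (.leaf (nat_lit 0))) (.leaf (nat_lit 0))) (.leaf (nat_lit 0))) (.leaf (nat_lit 0)))) (.leaf (nat_lit 0))) (.leaf (nat_lit 0))) (.leaf (nat_lit 0))) (.leaf (nat_lit 0))) (.leaf (nat_lit 0))) (.leaf (nat_lit 0))) (.leaf (nat_lit 0))) (.leaf (nat_lit 0))) (.leaf (nat_lit 0))) (.leaf (nat_lit 0)))) (.leaf (nat_lit 0))) (.leaf (nat_lit 0))) (.leaf (nat_lit 0))) (.leaf (nat_lit 0))) (.leaf (nat_lit 0))) (.leaf (nat_lit 0))) (.leaf (nat_lit 0))) (.leaf (nat_lit 0))) (.leaf (nat_lit 0))) (.leaf (nat_lit 0))) (.node (.node (.node (.node (.node (.node (.node (.node (.node (.node (.node (.node (.node (.node (.node (.node (.node (.node (.node (.node (.node (.node (.node (.node (.node (.node (.node (.node (.node (.node (.node (.node (.leaf (nat_lit 0)) (.node (.node (.node (.node (.node (.node (.node (.node (.node (.node (.node (.node (.node (.node (.node (.node (.node (.node (.node (.node (.node (.node (.node (.leaf (nat_lit 0)) (.node (.node (.node (.node (.node (.node (.node (.node (.node (.node (.node (.leaf (nat_lit 0)) (.node (.node (.node (.node (.node (.node (.node (.node (.node (.node (.node (.node (.node (.node (.node (.node (.node (.node (.node (.node (.node (.node (.node (.node (.node (.node (.node (.node (.node (.node (.node (.node (.leaf (nat_lit 0)) (.node (.node (.node (.node (.node (.node (.node (.node (.node (.node (.node (.leaf (nat_lit 43)) (.leaf (nat_lit 190))) (.leaf (nat_lit 0))) (.leaf (nat_lit 0))) (.leaf (nat_lit 0))) (.leaf (nat_lit 0))) (.leaf (nat_lit 0))) (.leaf (nat_lit 0))) (.leaf (nat_lit 0))) (.leaf (nat_lit 0))) (.leaf (nat_lit 0))) (.leaf (nat_lit 0)))) (.leaf (nat_lit 0))) (.leaf (nat_lit 0))) (.leaf (nat_lit 0))) (.leaf (nat_lit 0))) (.leaf (nat_lit 0))) (.leaf (nat_lit 0))) (.leaf (nat_lit 0))) (.leaf (nat_lit 0))) (.leaf (nat_lit 0))) (.leaf (nat_lit 0))) (.leaf (nat_lit 0))) (.leaf (nat_lit 0))) (.leaf (nat_lit 0))) (.leaf (nat_lit 0))) (.leaf (nat_lit 0))) (.leaf (nat_lit 0))) (.leaf (nat_lit 0))) (.leaf (nat_lit 0))) (.leaf (nat_lit 0))) (.leaf (nat_lit 0))) (.leaf (nat_lit 0))) (.leaf (nat_lit 0))) (.leaf (nat_lit 0))) (.leaf (nat_lit 0))) (.leaf (nat_lit 0))) (.leaf (nat_lit 0))) (.leaf (nat_lit 0))) (.leaf (nat_lit 0))) (.leaf (nat_lit 0))) (.leaf (nat_lit 0))) (.leaf (nat_lit 0)))) (.node (.node (.node (.node (.node (.node (.node (.node (.node (.node (.node (.node (.node (.node (.node (.node (.node (.node (.node (.node (.node (.node (.node (.node (.node (.node (.node (.node (.node (.node (.node (.node (.node (.leaf (nat_lit 0)) (.node (.node (.node (.node (.node (.node (.node (.node (.node (.node (.node (.leaf (nat_lit 184)) (.leaf (nat_lit 52))) (.leaf (nat_lit 0))) (.leaf (nat_lit 0))) (.leaf (nat_lit 0))) (.leaf (nat_lit 0))) (.leaf (nat_lit 0))) (.leaf (nat_lit 0))) (.leaf (nat_lit 0))) (.leaf (nat_lit 0))) (.leaf (nat_lit 0))) (.leaf (nat_lit 0)))) (.leaf (nat_lit 0))) (.leaf (nat_lit 0))) (.leaf (nat_lit 0))) (.leaf (nat_lit 0))) (.leaf (nat_lit 0))) (.leaf (nat_lit 0))) (.leaf (nat_lit 0))) (.leaf (nat_lit 0))) (.leaf (nat_lit 0))) (.leaf (nat_lit 0))) (.leaf (nat_lit 0))) (.leaf (nat_lit 0))) (.leaf (nat_lit 0))) (.leaf (nat_lit 0))) (.leaf (nat_lit 0))) (.leaf (nat_lit 0))) (.leaf (nat_lit 0))) (.leaf (nat_lit 0))) (.leaf (nat_lit 0))) (.leaf (nat_lit 0))) (.leaf (nat_lit 0))) (.leaf (nat_lit 0))) (.leaf (nat_lit 0))) (.leaf (nat_lit 0))) (.leaf (nat_lit 0))) (.leaf (nat_lit 0))) (.leaf (nat_lit 0))) (.leaf (nat_lit 0))) (.leaf (nat_lit 0))) (.leaf (nat_lit 0))) (.leaf (nat_lit 0))) (.leaf (nat_lit 0)))) (.leaf (nat_lit 0))) (.leaf (nat_lit 0))) (.leaf (nat_lit 0))) (.leaf (nat_lit 0))) (.leaf (nat_lit 0))) (.leaf (nat_lit 0))) (.leaf (nat_lit 0))) (.leaf (nat_lit 0))) (.leaf (nat_lit 0)))) (.leaf (nat_lit 0))) (.leaf (nat_lit 0))) (.leaf (nat_lit 0))) (.leaf (nat_lit 0))) (.leaf (nat_lit 0))) (.leaf (nat_lit 0))) (.leaf (nat_lit 0))) (.leaf (nat_lit 0))) (.leaf (nat_lit 0))) (.leaf (nat_lit 0))) (.leaf (nat_lit 0))) (.leaf (nat_lit 0))) (.leaf (nat_lit 0))) (.leaf (nat_lit 0))) (.leaf (nat_lit 0))) (.leaf (nat_lit 0))) (.leaf (nat_lit 0))) (.leaf (nat_lit 0))) (.leaf (nat_lit 0))) (.leaf (nat_lit 0))) (.leaf (nat_lit 0))) (.leaf (nat_lit 0)))) (.leaf (nat_lit 0))) (.leaf (nat_lit 0))) (.leaf (nat_lit 0))) (.leaf (nat_lit 0))) (.leaf (nat_lit 0))) (.leaf (nat_lit 0))) (.leaf (nat_lit 0))) (.leaf (nat_lit 0))) (.leaf (nat_lit 0))) (.leaf (nat_lit 0))) (.leaf (nat_lit 0))) (.leaf (nat_lit 0))) (.leaf (nat_lit 0))) (.leaf (nat_lit 0))) (.leaf (nat_lit 0))) (.leaf (nat_lit 0))) (.leaf (nat_lit 0))) (.leaf (nat_lit 0))) (.leaf (nat_lit 0))) (.leaf (nat_lit 0))) (.node (.node (.node (.node (.node (.node (.node (.node (.node (.node (.node (.node (.node (.node (.node (.node (.node (.node (.node (.node (.node (.node (.node (.node (.node (.node (.node (.node (.node (.node (.node (.node (.node (.leaf (nat_lit 0)) (.node (.node (.node (.node (.node (.node (.node (.node (.node (.node (.node (.node (.node (.node (.node (.node (.node (.node (.node (.node (.node (.node (.node (.node (.node (.node (.node (.node (.node (.node (.node (.node (.leaf (nat_lit 62)) (.leaf (nat_lit 146))) (.leaf (nat_lit 0))) (.leaf (nat_lit 0))) (.leaf (nat_lit 0))) (.leaf (nat_lit 0))) (.leaf (nat_lit 0))) (.leaf (nat_lit 0))) (.leaf (nat_lit 0))) (.leaf (nat_lit 0))) (.leaf (nat_lit 0))) (.leaf (nat_lit 148))) (.leaf (nat_lit 66))) (.leaf (nat_lit 0))) (.leaf (nat_lit 0))) (.leaf (nat_lit 0))) (.leaf (nat_lit 0))) (.leaf (nat_lit 0))) (.leaf (nat_lit 0))) (.leaf (nat_lit 0))) (.leaf (nat_lit 0))) (.leaf (nat_lit 0))) (.leaf (nat_lit 0))) (.leaf (nat_lit 0))) (.leaf (nat_lit 0))) (.leaf (nat_lit 0))) (.leaf (nat_lit 0))) (.leaf (nat_lit 0))) (.leaf (nat_lit 0))) (.leaf (nat_lit 0))) (.leaf (nat_lit 0))) (.leaf (nat_lit 0))) (.leaf (nat_lit 0)))) (.leaf (nat_lit 0))) (.leaf (nat_lit 0))) (.leaf (nat_lit 0))) (.leaf (nat_lit 0))) (.leaf (nat_lit 0))) (.leaf (nat_lit 0))) (.leaf (nat_lit 0))) (.leaf (nat_lit 0))) (.leaf (nat_lit 0))) (.leaf (nat_lit 0))) (.leaf (nat_lit 0))) (.leaf (nat_lit 0))) (.leaf (nat_lit 0))) (.leaf (nat_lit 0))) (.leaf (nat_lit 0))) (.leaf (nat_lit 0))) (.leaf (nat_lit 0))) (.leaf (nat_lit 0))) (.leaf (nat_lit 0))) (.leaf (nat_lit 0))) (.leaf (nat_lit 0))) (.leaf (nat_lit 0))) (.leaf (nat_lit 0))) (.leaf (nat_lit 0))) (.leaf (nat_lit 0))) (.leaf (nat_lit 0))) (.leaf (nat_lit 0))) (.leaf (nat_lit 0))) (.leaf (nat_lit 0))) (.leaf (nat_lit 0))) (.leaf (nat_lit 0))) (.leaf (nat_lit 0)))) (.node (.node (.node (.node (.node (.node (.node (.node (.node (.node (.node (.node (.node (.node (.node (.node (.node (.node (.node (.node (.node (.node (.node (.node (.node (.node (.node (.node (.node (.node (.node (.node (.node (.leaf (nat_lit 0)) (.node (.node (.node (.node (.node (.node (.node (.node (.node (.node (.node (.node (.node (.node (.node (.node (.node (.node (.node (.node (.node (.node (.node (.node (.node (.node (.node (.node (.node (.node (.node (.node (.node (.leaf (nat_lit 88)) (.leaf (nat_lit 105))) (.leaf (nat_lit 0))) (.leaf (nat_lit 0))) (.leaf (nat_lit 0))) (.leaf (nat_lit 0))) (.leaf (nat_lit 0))) (.leaf (nat_lit 0))) (.leaf (nat_lit 0))) (.leaf (nat_lit 0))) (.leaf (nat_lit 0))) (.leaf (nat_lit 82))) (.leaf (nat_lit 30))) (.leaf (nat_lit 0))) (.leaf (nat_lit 0))) (.leaf (nat_lit 0))) (.leaf (nat_lit 0))) (.leaf (nat_lit 0))) (.leaf (nat_lit 0))) (.leaf (nat_lit 0))) (.leaf (nat_lit 0))) (.leaf (nat_lit 0))) (.leaf (nat_lit 0))) (.leaf (nat_lit 0))) (.leaf (nat_lit 0))) (.leaf (nat_lit 0))) (.leaf (nat_lit 0))) (.leaf (nat_lit 0))) (.leaf (nat_lit 0))) (.leaf (nat_lit 0))) (.leaf (nat_lit 0))) (.leaf (nat_lit 0))) (.leaf (nat_lit 0))) (.leaf (nat_lit 0)))) (.leaf (nat_lit 0))) (.leaf (nat_lit 0))) (.leaf (nat_lit 0))) (.leaf (nat_lit 0))) (.leaf (nat_lit 0))) (.leaf (nat_lit 0))) (.leaf (nat_lit 0))) (.leaf (nat_lit 0))) (.leaf (nat_lit 0))) (.leaf (nat_lit 0))) (.leaf (nat_lit 0))) (.leaf (nat_lit 0))) (.leaf (nat_lit 0))) (.leaf (nat_lit 0))) (.leaf (nat_lit 0))) (.leaf (nat_lit 0))) (.leaf (nat_lit 0))) (.leaf (nat_lit 0))) (.leaf (nat_lit 0))) (.leaf (nat_lit 0))) (.leaf (nat_lit 0))) (.leaf (nat_lit 0))) (.leaf (nat_lit 0))) (.leaf (nat_lit 0))) (.leaf (nat_lit 0))) (.leaf (nat_lit 0))) (.leaf (nat_lit 0))) (.leaf (nat_lit 0))) (.leaf (nat_lit 0))) (.leaf (nat_lit 0))) (.leaf (nat_lit 0))) (.leaf (nat_lit 0)))) (.leaf (nat_lit 0))) (.leaf (nat_lit 0))) (.leaf (nat_lit 0))) (.leaf (nat_lit 0))) (.leaf (nat_lit 0))) (.leaf (nat_lit 0))) (.leaf (nat_lit 0))) (.leaf (nat_lit 0))) (.leaf (nat_lit 0)))) (.node (.node (.node (.node (.node (.node (.node (.node (.node (.node (.node (.node (.node (.node (.node (.node (.node (.node (.node (.node (.node (.node (.node (.node (.node (.node (.node (.node (.node (.node (.node (.node (.node (.node (.leaf (nat_lit 0)) (.node (.node (.node (.node (.node (.node (.node (.node (.node (.node (.node (.node (.node (.node (.node (.node (.node (.node (.node (.node (.node (.node (.leaf (nat_lit 0)) (.node (.node (.node (.node (.node (.node (.node (.node (.node (.node (.node (.leaf (nat_lit 0)) (.node (.node (.node (.node (.node (.node (.node (.node (.node (.node (.node (.node (.node (.node (.node (.node (.node (.node (.node (.node (.node (.node (.node (.node (.node (.node (.node (.node (.node (.node (.node (.node (.node (.leaf (nat_lit 0)) (.node (.node (.node (.node (.node (.node (.node (.node (.node (.node (.leaf (nat_lit 69)) (.leaf (nat_lit 106))) (.leaf (nat_lit 0))) (.leaf (nat_lit 0))) (.leaf (nat_lit 0))) (.leaf (nat_lit 0))) (.leaf (nat_lit 0))) (.leaf (nat_lit 0))) (.leaf (nat_lit 0))) (.leaf (nat_lit 0))) (.leaf (nat_lit 0)))) (.node (.node (.node (.node (.node (.node (.node (.node (.node (.node (.node (.leaf (nat_lit 4)) (.leaf (nat_lit 189))) (.leaf (nat_lit 0))) (.leaf (nat_lit 0))) (.leaf (nat_lit 0))) (.leaf (nat_lit 0))) (.leaf (nat_lit 0))) (.leaf (nat_lit 0))) (.leaf (nat_lit 0))) (.leaf (nat_lit 0))) (.leaf (nat_lit 0))) (.leaf (nat_lit 0)))) (.leaf (nat_lit 0))) (.leaf (nat_lit 0))) (.leaf (nat_lit 0))) (.leaf (nat_lit 0))) (.leaf (nat_lit 0))) (.leaf (nat_lit 0))) (.leaf (nat_lit 0))) (.leaf (nat_lit 0))) (.leaf (nat_lit 0))) (.leaf (nat_lit 0))) (.leaf (nat_lit 0))) (.leaf (nat_lit 0))) (.leaf (nat_lit 0))) (.leaf (nat_lit 0))) (.leaf (nat_lit 0))) (.leaf (nat_lit 0))) (.leaf (nat_lit 0))) (.leaf (nat_lit 0))) (.leaf (nat_lit 0))) (.leaf (nat_lit 0))) (.leaf (nat_lit 0))) (.leaf (nat_lit 0))) (.leaf (nat_lit 0))) (.leaf (nat_lit 0))) (.leaf (nat_lit 0))) (.leaf (nat_lit 0))) (.leaf (nat_lit 0))) (.leaf (nat_lit 0))) (.leaf (nat_lit 0))) (.leaf (nat_lit 0))) (.leaf (nat_lit 0)))) (.leaf (nat_lit 0))) (.leaf (nat_lit 0))) (.leaf (nat_lit 0))) (.leaf (nat_lit 0))) (.leaf (nat_lit 0))) (.leaf (nat_lit 0))) (.leaf (nat_lit 0))) (.leaf (nat_lit 0))) (.leaf (nat_lit 0))) (.leaf (nat_lit 0)))) (.leaf (nat_lit 0))) (.leaf (nat_lit 0))) (.leaf (nat_lit 0))) (.leaf (nat_lit 0))) (.leaf (nat_lit 0))) (.leaf (nat_lit 0))) (.leaf (nat_lit 0))) (.leaf (nat_lit 0))) (.leaf (nat_lit 0))) (.leaf (nat_lit 0))) (.leaf (nat_lit 0))) (.leaf (nat_lit 0))) (.leaf (nat_lit 0))) (.leaf (nat_lit 0))) (.leaf (nat_lit 0))) (.leaf (nat_lit 0))) (.leaf (nat_lit 0))) (.leaf (nat_lit 0))) (.leaf (nat_lit 0))) (.leaf (nat_lit 0))) (.leaf (nat_lit 0)))) (.node (.node (.node (.node (.node (.node (.node (.node (.node (.node (.node (.node (.node (.node (.node (.node (.node (.node (.node (.node (.node (.node (.leaf (nat_lit 0)) (.node (.node (.node (.node (.node (.node (.node (.node (.node (.node (.node (.node (.leaf (nat_lit 0)) (.node (.node (.node (.node (.node (.node (.node (.node (.node (.node (.node (.node (.node (.node (.node (.node (.node (.node (.node (.node (.node (.node (.node (.node (.node (.node (.node (.node (.node (.node (.node (.node (.leaf (nat_lit 172)) (.leaf (nat_lit 34))) (.leaf (nat_lit 0))) (.leaf (nat_lit 0))) (.leaf (nat_lit 0))) (.leaf (nat_lit 0))) (.leaf (nat_lit 0))) (.leaf (nat_lit 0))) (.leaf (nat_lit 0))) (.leaf (nat_lit 0))) (.leaf (nat_lit 0))) (.leaf (nat_lit 0))) (.leaf (nat_lit 0))) (.leaf (nat_lit 0))) (.leaf (nat_lit 0))) (.leaf (nat_lit 0))) (.leaf (nat_lit 0))) (.leaf (nat_lit 0))) (.leaf (nat_lit 0))) (.leaf (nat_lit 0))) (.leaf (nat_lit 0))) (.leaf (nat_lit 0))) (.leaf (nat_lit 0))) (.leaf (nat_lit 0))) (.leaf (nat_lit 0))) (.leaf (nat_lit 0))) (.leaf (nat_lit 0))) (.leaf (nat_lit 0))) (.leaf (nat_lit 0))) (.leaf (nat_lit 0))) (.leaf (nat_lit 0))) (.leaf (nat_lit 0))) (.leaf (nat_lit 0)))) (.node (.node (.node (.node (.node (.node (.node (.node (.node (.node (.node (.node (.node (.node (.node (.node (.node (.node (.node (.node (.node (.node (.node (.node (.node (.node (.node (.node (.node (.node (.node (.node (.node (.leaf (nat_lit 23)) (.leaf (nat_lit 186))) (.leaf (nat_lit 0))) (.leaf (nat_lit 0))) (.leaf (nat_lit 0))) (.leaf (nat_lit 0))) (.leaf (nat_lit 0))) (.leaf (nat_lit 0))) (.leaf (nat_lit 0))) (.leaf (nat_lit 0))) (.leaf (nat_lit 0))) (.leaf (nat_lit 0))) (.leaf (nat_lit 0))) (.leaf (nat_lit 0))) (.leaf (nat_lit 0))) (.leaf (nat_lit 0))) (.leaf (nat_lit 0))) (.leaf (nat_lit 0))) (.leaf (nat_lit 0))) (.leaf (nat_lit 0))) (.leaf (nat_lit 0))) (.leaf (nat_lit 0))) (.leaf (nat_lit 0))) (.leaf (nat_lit 0))) (.leaf (nat_lit 0))) (.leaf (nat_lit 0))) (.leaf (nat_lit 0))) (.leaf (nat_lit 0))) (.leaf (nat_lit 0))) (.leaf (nat_lit 0))) (.leaf (nat_lit 0))) (.leaf (nat_lit 0))) (.leaf (nat_lit 0))) (.leaf (nat_lit 0)))) (.leaf (nat_lit 0))) (.leaf (nat_lit 0))) (.leaf (nat_lit 0))) (.leaf (nat_lit 0))) (.leaf (nat_lit 0))) (.leaf (nat_lit 0))) (.leaf (nat_lit 0))) (.leaf (nat_lit 0))) (.leaf (nat_lit 0))) (.leaf (nat_lit 0)))) (.leaf (nat_lit 0))) (.leaf (nat_lit 0))) (.leaf (nat_lit 0))) (.leaf (nat_lit 0))) (.leaf (nat_lit 0))) (.leaf (nat_lit 0))) (.leaf (nat_lit 0))) (.leaf (nat_lit 0))) (.leaf (nat_lit 0))) (.leaf (nat_lit 0))) (.leaf (nat_lit 0))) (.leaf (nat_lit 0))) (.leaf (nat_lit 0))) (.leaf (nat_lit 0))) (.leaf (nat_lit 0))) (.leaf (nat_lit 0))) (.leaf (nat_lit 0))) (.leaf (nat_lit 0))) (.leaf (nat_lit 0))) (.leaf (nat_lit 0))) (.leaf (nat_lit 0)))) (.leaf (nat_lit 0))) (.leaf (nat_lit 0))) (.leaf (nat_lit 0))) (.leaf (nat_lit 0))) (.leaf (nat_lit 0))) (.leaf (nat_lit 0))) (.leaf (nat_lit 0))) (.leaf (nat_lit 0))) (.leaf (nat_lit 0))) (.leaf (nat_lit 0))) (.leaf (nat_lit 0))) (.leaf (nat_lit 0))) (.leaf (nat_lit 0))) (.leaf (nat_lit 0))) (.leaf (nat_lit 0))) (.leaf (nat_lit 0))) (.leaf (nat_lit 0))) (.leaf (nat_lit 0))) (.leaf (nat_lit 0))) (.leaf (nat_lit 0))) (.leaf (nat_lit 0))) (.leaf (nat_lit 0))) (.leaf (nat_lit 0))) (.leaf (nat_lit 0))) (.leaf (nat_lit 0))) (.leaf (nat_lit 0))) (.leaf (nat_lit 0))) (.leaf (nat_lit 0))) (.leaf (nat_lit 0))) (.leaf (nat_lit 0))) (.leaf (nat_lit 0))) (.leaf (nat_lit 0)))) (.leaf (nat_lit 0))) (.leaf (nat_lit 0))) (.leaf (nat_lit 0))) (.leaf (nat_lit 0))) (.leaf (nat_lit 0))) (.leaf (nat_lit 0))) (.leaf (nat_lit 0))) (.leaf (nat_lit 0))) (.leaf (nat_lit 0)))) (.node (.node (.node (.node (.node (.node (.node (.node (.node (.node (.node (.node (.node (.node (.node (.node (.node (.node (.node (.node (.node (.node (.node (.node (.node (.node (.node (.node (.node (.node (.node (.node (.node (.node (.leaf (nat_lit 0)) (.node (.node (.node (.node (.node (.node (.node (.node (.node (.node (.node (.node (.node (.node (.node (.node (.node (.node (.node (.node (.node (.leaf (nat_lit 0)) (.node (.node (.node (.node (.node (.node (.node (.node (.node (.node (.node (.node (.leaf (nat_lit 0)) (.node (.node (.node (.node (.node (.node (.node (.node (.node (.node (.node (.node (.node (.node (.node (.node (.node (.node (.node (.node (.node (.leaf (nat_lit 136)) (.leaf (nat_lit 107))) (.leaf (nat_lit 0))) (.leaf (nat_lit 0))) (.leaf (nat_lit 0))) (.leaf (nat_lit 0))) (.leaf (nat_lit 0))) (.leaf (nat_lit 0))) (.leaf (nat_lit 0))) (.leaf (nat_lit 0))) (.leaf (nat_lit 0))) (.leaf (nat_lit 162))) (.leaf (nat_lit 84))) (.leaf (nat_lit 0))) (.leaf (nat_lit 0))) (.leaf (nat_lit 0))) (.leaf (nat_lit 0))) (.leaf (nat_lit 0))) (.leaf (nat_lit 0))) (.leaf (nat_lit 0))) (.leaf (nat_lit 0))) (.leaf (nat_lit 0)))) (.leaf (nat_lit 0))) (.leaf (nat_lit 0))) (.leaf (nat_lit 0))) (.leaf (nat_lit 0))) (.leaf (nat_lit 0))) (.leaf (nat_lit 0))) (.leaf (nat_lit 0))) (.leaf (nat_lit 0))) (.leaf (nat_lit 0))) (.leaf (nat_lit 0))) (.leaf (nat_lit 0)))) (.leaf (nat_lit 0))) (.leaf (nat_lit 0))) (.leaf (nat_lit 0))) (.leaf (nat_lit 0))) (.leaf (nat_lit 0))) (.leaf (nat_lit 0))) (.leaf (nat_lit 0))) (.leaf (nat_lit 0))) (.leaf (nat_lit 0))) (.leaf (nat_lit 0))) (.leaf (nat_lit 0))) (.leaf (nat_lit 0))) (.leaf (nat_lit 0))) (.leaf (nat_lit 0))) (.leaf (nat_lit 0))) (.leaf (nat_lit 0))) (.leaf (nat_lit 0))) (.leaf (nat_lit 0))) (.leaf (nat_lit 0))) (.leaf (nat_lit 0)))) (.node (.node (.node (.node (.node (.node (.node (.node (.node (.node (.node (.node (.node (.node (.node (.node (.node (.node (.node (.node (.node (.node (.node (.leaf (nat_lit 0)) (.node (.node (.node (.node (.node (.node (.node (.node (.node (.node (.node (.leaf (nat_lit 0)) (.node (.node (.node (.node (.node (.node (.node (.node (.node (.node (.node (.node (.node (.node (.node (.node (.node (.node (.node (.node (.node (.leaf (nat_lit 137)) (.leaf (nat_lit 108))) (.leaf (nat_lit 0))) (.leaf (nat_lit 0))) (.leaf (nat_lit 0))) (.leaf (nat_lit 0))) (.leaf (nat_lit 0))) (.leaf (nat_lit 0))) (.leaf (nat_lit 0))) (.leaf (nat_lit 0))) (.leaf (nat_lit 0))) (.leaf (nat_lit 92))) (.leaf (nat_lit 40))) (.leaf (nat_lit 0))) (.leaf (nat_lit 0))) (.leaf (nat_lit 0))) (.leaf (nat_lit 0))) (.leaf (nat_lit 0))) (.leaf (nat_lit 0))) (.leaf (nat_lit 0))) (.leaf (nat_lit 0))) (.leaf (nat_lit 0)))) (.leaf (nat_lit 0))) (.leaf (nat_lit 0))) (.leaf (nat_lit 0))) (.leaf (nat_lit 0))) (.leaf (nat_lit 0))) (.leaf (nat_lit 0))) (.leaf (nat_lit 0))) (.leaf (nat_lit 0))) (.leaf (nat_lit 0))) (.leaf (nat_lit 0)))) (.leaf (nat_lit 0))) (.leaf (nat_lit 0))) (.leaf (nat_lit 0))) (.leaf (nat_lit 0))) (.leaf (nat_lit 0))) (.leaf (nat_lit 0))) (.leaf (nat_lit 0))) (.leaf (nat_lit 0))) (.leaf (nat_lit 0))) (.leaf (nat_lit 0))) (.leaf (nat_lit 0))) (.leaf (nat_lit 0))) (.leaf (nat_lit 0))) (.leaf (nat_lit 0))) (.leaf (nat_lit 0))) (.leaf (nat_lit 0))) (.leaf (nat_lit 0))) (.leaf (nat_lit 0))) (.leaf (nat_lit 0))) (.leaf (nat_lit 0))) (.leaf (nat_lit 0))) (.leaf (nat_lit 0)))) (.leaf (nat_lit 0))) (.leaf (nat_lit 0))) (.leaf (nat_lit 0))) (.leaf (nat_lit 0))) (.leaf (nat_lit 0))) (.leaf (nat_lit 0))) (.leaf (nat_lit 0))) (.leaf (nat_lit 0))) (.leaf (nat_lit 0))) (.leaf (nat_lit 0))) (.node (.node (.node (.node (.node (.node (.node (.node (.node (.node (.node (.leaf (nat_lit 0)) (.node (.node (.node (.node (.node (.node (.node (.node (.node (.node (.node (.node (.leaf (nat_lit 0)) (.node (.node (.node (.node (.node (.node (.node (.node (.node (.node (.node (.node (.node (.node (.node (.node (.node (.node (.node (.node (.node (.node (.node (.node (.node (.node (.node (.node (.node (.node (.node (.node (.node (.node (.node (.node (.node (.node (.node (.node (.node (.node (.node (.leaf (nat_lit 160)) (.leaf (nat_lit 183))) (.leaf (nat_lit 0))) (.leaf (nat_lit 0))) (.leaf (nat_lit 0))) (.leaf (nat_lit 0))) (.leaf (nat_lit 0))) (.leaf (nat_lit 0))) (.leaf (nat_lit 0))) (.leaf (nat_lit 0))) (.leaf (nat_lit 0))) (.leaf (nat_lit 169))) (.leaf (nat_lit 94))) (.leaf (nat_lit 0))) (.leaf (nat_lit 0))) (.leaf (nat_lit 0))) (.leaf (nat_lit 0))) (.leaf (nat_lit 0))) (.leaf (nat_lit 0))) (.leaf (nat_lit 0))) (.leaf (nat_lit 0))) (.leaf (nat_lit 0))) (.leaf (nat_lit 0))) (.leaf (nat_lit 0))) (.leaf (nat_lit 0))) (.leaf (nat_lit 0))) (.leaf (nat_lit 0))) (.leaf (nat_lit 0))) (.leaf (nat_lit 0))) (.leaf (nat_lit 0))) (.leaf (nat_lit 0))) (.leaf (nat_lit 0))) (.leaf (nat_lit 0))) (.leaf (nat_lit 0))) (.leaf (nat_lit 0))) (.leaf (nat_lit 0))) (.leaf (nat_lit 0))) (.leaf (nat_lit 0))) (.leaf (nat_lit 0))) (.leaf (nat_lit 0))) (.leaf (nat_lit 0))) (.leaf (nat_lit 0))) (.leaf (nat_lit 0))) (.leaf (nat_lit 0)))) (.leaf (nat_lit 0))) (.leaf (nat_lit 0))) (.leaf (nat_lit 0))) (.leaf (nat_lit 0))) (.leaf (nat_lit 0))) (.leaf (nat_lit 0))) (.leaf (nat_lit 0))) (.leaf (nat_lit 0))) (.leaf (nat_lit 0))) (.leaf (nat_lit 0))) (.leaf (nat_lit 0)))) (.leaf (nat_lit 0))) (.leaf (nat_lit 0))) (.leaf (nat_lit 0))) (.leaf (nat_lit 0))) (.leaf (nat_lit 0))) (.leaf (nat_lit 0))) (.leaf (nat_lit 0))) (.leaf (nat_lit 0))) (.leaf (nat_lit 0))) (.leaf (nat_lit 0)))) (.leaf (nat_lit 0))) (.leaf (nat_lit 0))) (.leaf (nat_lit 0))) (.leaf (nat_lit 0))) (.leaf (nat_lit 0))) (.leaf (nat_lit 0))) (.leaf (nat_lit 0))) (.leaf (nat_lit 0))) (.leaf (nat_lit 0))) (.node (.node (.node (.node (.node (.node (.node (.node (.node (.node (.node (.node (.node (.node (.node (.node (.node (.node (.node (.node (.node (.node (.node (.node (.node (.node (.node (.node (.node (.node (.node (.node (.node (.leaf (nat_lit 0)) (.node (.node (.node (.node (.node (.node (.node (.node (.node (.node (.node (.node (.node (.node (.node (.node (.node (.node (.node (.node (.node (.node (.leaf (nat_lit 0)) (.node (.node (.node (.node (.node (.node (.node (.node (.node (.node (.node (.leaf (nat_lit 0)) (.node (.node (.node (.node (.node (.node (.node (.node (.node (.node (.node (.node (.node (.node (.node (.node (.node (.node (.node (.node (.node (.node (.node (.node (.node (.node (.node (.node (.node (.node (.node (.node (.leaf (nat_lit 76)) (.leaf (nat_lit 104))) (.leaf (nat_lit 0))) (.leaf (nat_lit 0))) (.leaf (nat_lit 0))) (.leaf (nat_lit 0))) (.leaf (nat_lit 0))) (.leaf (nat_lit 0))) (.leaf (nat_lit 0))) (.leaf (nat_lit 0))) (.leaf (nat_lit 0))) (.leaf (nat_lit 0))) (.leaf (nat_lit 0))) (.leaf (nat_lit 0))) (.leaf (nat_lit 0))) (.leaf (nat_lit 0))) (.leaf (nat_lit 0))) (.leaf (nat_lit 0))) (.leaf (nat_lit 0))) (.leaf (nat_lit 0))) (.leaf (nat_lit 0))) (.leaf (nat_lit 0))) (.leaf (nat_lit 0))) (.leaf (nat_lit 0))) (.leaf (nat_lit 0))) (.leaf (nat_lit 0))) (.leaf (nat_lit 0))) (.leaf (nat_lit 0))) (.leaf (nat_lit 0))) (.leaf (nat_lit 0))) (.leaf (nat_lit 0))) (.leaf (nat_lit 0))) (.leaf (nat_lit 0)))) (.node (.node (.node (.node (.node (.node (.node (.node (.node (.node (.node (.node (.node (.node (.node (.node (.node (.node (.node (.node (.node (.node (.node (.node (.node (.node (.node (.node (.node (.node (.node (.node (.node (.leaf (nat_lit 134)) (.leaf (nat_lit 8))) (.leaf (nat_lit 0))) (.leaf (nat_lit 0))) (.leaf (nat_lit 0))) (.leaf (nat_lit 0))) (.leaf (nat_lit 0))) (.leaf (nat_lit 0))) (.leaf (nat_lit 0))) (.leaf (nat_lit 0))) (.leaf (nat_lit 0))) (.leaf (nat_lit 0))) (.leaf (nat_lit 0))) (.leaf (nat_lit 0))) (.leaf (nat_lit 0))) (.leaf (nat_lit 0))) (.leaf (nat_lit 0))) (.leaf (nat_lit 0))) (.leaf (nat_lit 0))) (.leaf (nat_lit 0))) (.leaf (nat_lit 0))) (.leaf (nat_lit 0))) (.leaf (nat_lit 0))) (.leaf (nat_lit 0))) (.leaf (nat_lit 0))) (.leaf (nat_lit 0))) (.leaf (nat_lit 0))) (.leaf (nat_lit 0))) (.leaf (nat_lit 0))) (.leaf (nat_lit 0))) (.leaf (nat_lit 0))) (.leaf (nat_lit 0))) (.leaf (nat_lit 0))) (.leaf (nat_lit 0)))) (.leaf (nat_lit 0))) (.leaf (nat_lit 0))) (.leaf (nat_lit 0))) (.leaf (nat_lit 0))) (.leaf (nat_lit 0))) (.leaf (nat_lit 0))) (.leaf (nat_lit 0))) (.leaf (nat_lit 0))) (.leaf (nat_lit 0)))) (.leaf (nat_lit 0))) (.leaf (nat_lit 0))) (.leaf (nat_lit 0))) (.leaf (nat_lit 0))) (.leaf (nat_lit 0))) (.leaf (nat_lit 0))) (.leaf (nat_lit 0))) (.leaf (nat_lit 0))) (.leaf (nat_lit 0))) (.leaf (nat_lit 0))) (.leaf (nat_lit 0))) (.leaf (nat_lit 0))) (.leaf (nat_lit 0))) (.leaf (nat_lit 0))) (.leaf (nat_lit 0))) (.leaf (nat_lit 0))) (.leaf (nat_lit 0))) (.leaf (nat_lit 0))) (.leaf (nat_lit 0))) (.leaf (nat_lit 0))) (.leaf (nat_lit 0)))) (.node (.node (.node (.node (.node (.node (.node (.node (.node (.node (.node (.node (.node (.node (.node (.node (.node (.node (.node (.node (.node (.node (.leaf (nat_lit 0)) (.node (.node (.node (.node (.node (.node (.node (.node (.node (.node (.node (.leaf (nat_lit 0)) (.node (.node (.node (.node (.node (.node (.node (.node (.node (.node (.node (.node (.node (.node (.node (.node (.node (.node (.node (.node (.node (.node (.node (.node (.node (.node (.node (.node (.node (.node (.node (.node (.node (.node (.leaf (nat_lit 0)) (.node (.node (.node (.node (.node (.node (.node (.node (.node (.node (.leaf (nat_lit 89)) (.leaf (nat_lit 135))) (.leaf (nat_lit 0))) (.leaf (nat_lit 0))) (.leaf (nat_lit 0))) (.leaf (nat_lit 0))) (.leaf (nat_lit 0))) (.leaf (nat_lit 0))) (.leaf (nat_lit 0))) (.leaf (nat_lit 0))) (.leaf (nat_lit 0)))) (.node (.node (.node (.node (.node (.node (.node (.node (.node (.node (.node (.leaf (nat_lit 181)) (.leaf (nat_lit 14))) (.leaf (nat_lit 0))) (.leaf (nat_lit 0))) (.leaf (nat_lit 0))) (.leaf (nat_lit 0))) (.leaf (nat_lit 0))) (.leaf (nat_lit 0))) (.leaf (nat_lit 0))) (.leaf (nat_lit 0))) (.leaf (nat_lit 0))) (.leaf (nat_lit 0)))) (.leaf (nat_lit 0))) (.leaf (nat_lit 0))) (.leaf (nat_lit 0))) (.leaf (nat_lit 0))) (.leaf (nat_lit 0))) (.leaf (nat_lit 0))) (.leaf (nat_lit 0))) (.leaf (nat_lit 0))) (.leaf (nat_lit 0))) (.leaf (nat_lit 0))) (.leaf (nat_lit 0))) (.leaf (nat_lit 0))) (.leaf (nat_lit 0))) (.leaf (nat_lit 0))) (.leaf (nat_lit 0))) (.leaf (nat_lit 0))) (.leaf (nat_lit 0))) (.leaf (nat_lit 0))) (.leaf (nat_lit 0))) (.leaf (nat_lit 0))) (.leaf (nat_lit 0))) (.leaf (nat_lit 0))) (.leaf (nat_lit 0))) (.leaf (nat_lit 0))) (.leaf (nat_lit 0))) (.leaf (nat_lit 0))) (.leaf (nat_lit 0))) (.leaf (nat_lit 0))) (.leaf (nat_lit 0))) (.leaf (nat_lit 0))) (.leaf (nat_lit 0))) (.leaf (nat_lit 0)))) (.leaf (nat_lit 0))) (.leaf (nat_lit 0))) (.leaf (nat_lit 0))) (.leaf (nat_lit 0))) (.leaf (nat_lit 0))) (.leaf (nat_lit 0))) (.leaf (nat_lit 0))) (.leaf (nat_lit 0))) (.leaf (nat_lit 0))) (.leaf (nat_lit 0)))) (.leaf (nat_lit 0))) (.leaf (nat_lit 0))) (.leaf (nat_lit 0))) (.leaf (nat_lit 0))) (.leaf (nat_lit 0))) (.leaf (nat_lit 0))) (.leaf (nat_lit 0))) (.leaf (nat_lit 0))) (.leaf (nat_lit 0))) (.leaf (nat_lit 0))) (.leaf (nat_lit 0))) (.leaf (nat_lit 0))) (.leaf (nat_lit 0))) (.leaf (nat_lit 0))) (.leaf (nat_lit 0))) (.leaf (nat_lit 0))) (.leaf (nat_lit 0))) (.leaf (nat_lit 0))) (.leaf (nat_lit 0))) (.leaf (nat_lit 0))) (.leaf (nat_lit 0)))) (.leaf (nat_lit 0))) (.leaf (nat_lit 0))) (.leaf (nat_lit 0))) (.leaf (nat_lit 0))) (.leaf (nat_lit 0))) (.leaf (nat_lit 0))) (.leaf (nat_lit 0))) (.leaf (nat_lit 0))) (.leaf (nat_lit 0))) (.leaf (nat_lit 0))) (.leaf (nat_lit 0))) (.leaf (nat_lit 0))) (.leaf (nat_lit 0))) (.leaf (nat_lit 0))) (.leaf (nat_lit 0))) (.leaf (nat_lit 0))) (.leaf (nat_lit 0))) (.leaf (nat_lit 0))) (.leaf (nat_lit 0))) (.leaf (nat_lit 0))) (.leaf (nat_lit 0))) (.leaf (nat_lit 0))) (.leaf (nat_lit 0))) (.leaf (nat_lit 0))) (.leaf (nat_lit 0))) (.leaf (nat_lit 0))) (.leaf (nat_lit 0))) (.leaf (nat_lit 0))) (.leaf (nat_lit 0))) (.leaf (nat_lit 0))) (.leaf (nat_lit 0)))) (.node (.node (.node (.node (.node (.node (.node (.node (.node (.node (.node (.node (.node (.node (.node (.node (.node (.node (.node (.node (.node (.node (.node (.node (.node (.node (.node (.node (.node (.node (.node (.node (.node (.node (.leaf (nat_lit 0)) (.node (.node (.node (.node (.node (.node (.node (.node (.node (.node (.node (.node (.node (.node (.node (.node (.node (.node (.node (.node (.node (.leaf (nat_lit 0)) (.node (.node (.node (.node (.node (.node (.node (.node (.node (.node (.node (.node (.leaf (nat_lit 0)) (.node (.node (.node (.node (.node (.node (.node (.node (.node (.node (.node (.node (.node (.node (.node (.node (.node (.node (.node (.node (.node (.node (.node (.node (.node (.node (.node (.node (.node (.node (.node (.node (.node (.leaf (nat_lit 0)) (.node (.node (.node (.node (.node (.node (.node (.node (.node (.node (.leaf (nat_lit 171)) (.leaf (nat_lit 71))) (.leaf (nat_lit 0))) (.leaf (nat_lit 0))) (.leaf (nat_lit 0))) (.leaf (nat_lit 0))) (.leaf (nat_lit 0))) (.leaf (nat_lit 0))) (.leaf (nat_lit 0))) (.leaf (nat_lit 0))) (.leaf (nat_lit 0)))) (.leaf (nat_lit 0))) (.leaf (nat_lit 0))) (.leaf (nat_lit 0))) (.leaf (nat_lit 0))) (.leaf (nat_lit 0))) (.leaf (nat_lit 0))) (.leaf (nat_lit 0))) (.leaf (nat_lit 0))) (.leaf (nat_lit 0))) (.leaf (nat_lit 0))) (.leaf (nat_lit 0))) (.leaf (nat_lit 0))) (.leaf (nat_lit 0))) (.leaf (nat_lit 0))) (.leaf (nat_lit 0))) (.leaf (nat_lit 0))) (.leaf (nat_lit 0))) (.leaf (nat_lit 0))) (.leaf (nat_lit 0))) (.leaf (nat_lit 0))) (.leaf (nat_lit 0))) (.leaf (nat_lit 0))) (.leaf (nat_lit 0))) (.leaf (nat_lit 0))) (.leaf (nat_lit 0))) (.leaf (nat_lit 0))) (.leaf (nat_lit 0))) (.leaf (nat_lit 0))) (.leaf (nat_lit 0))) (.leaf (nat_lit 0))) (.leaf (nat_lit 0))) (.leaf (nat_lit 0)))) (.node (.node (.node (.node (.node (.node (.node (.node (.node (.node (.node (.node (.node (.node (.node (.node (.node (.node (.node (.node (.node (.node (.node (.node (.node (.node (.node (.node (.node (.node (.node (.node (.node (.node (.leaf (nat_lit 0)) (.node (.node (.node (.node (.node (.node (.node (.node (.node (.node (.leaf (nat_lit 17)) (.leaf (nat_lit 157))) (.leaf (nat_lit 0))) (.leaf (nat_lit 0))) (.leaf (nat_lit 0))) (.leaf (nat_lit 0))) (.leaf (nat_lit 0))) (.leaf (nat_lit 0))) (.leaf (nat_lit 0))) (.leaf (nat_lit 0))) (.leaf (nat_lit 0)))) (.leaf (nat_lit 0))) (.leaf (nat_lit 0))) (.leaf (nat_lit 0))) (.leaf (nat_lit 0))) (.leaf (nat_lit 0))) (.leaf (nat_lit 0))) (.leaf (nat_lit 0))) (.leaf (nat_lit 0))) (.leaf (nat_lit 0))) (.leaf (nat_lit 0))) (.leaf (nat_lit 0))) (.leaf (nat_lit 0))) (.leaf (nat_lit 0))) (.leaf (nat_lit 0))) (.leaf (nat_lit 0))) (.leaf (nat_lit 0))) (.leaf (nat_lit 0))) (.leaf (nat_lit 0))) (.leaf (nat_lit 0))) (.leaf (nat_lit 0))) (.leaf (nat_lit 0))) (.leaf (nat_lit 0))) (.leaf (nat_lit 0))) (.leaf (nat_lit 0))) (.leaf (nat_lit 0))) (.leaf (nat_lit 0))) (.leaf (nat_lit 0))) (.leaf (nat_lit 0))) (.leaf (nat_lit 0))) (.leaf (nat_lit 0))) (.leaf (nat_lit 0))) (.leaf (nat_lit 0))) (.leaf (nat_lit 0)))) (.leaf (nat_lit 0))) (.leaf (nat_lit 0))) (.leaf (nat_lit 0))) (.leaf (nat_lit 0))) (.leaf (nat_lit 0))) (.leaf (nat_lit 0))) (.leaf (nat_lit 0))) (.leaf (nat_lit 0))) (.leaf (nat_lit 0))) (.leaf (nat_lit 0)))) (.leaf (nat_lit 0))) (.leaf (nat_lit 0))) (.leaf (nat_lit 0))) (.leaf (nat_lit 0))) (.leaf (nat_lit 0))) (.leaf (nat_lit 0))) (.leaf (nat_lit 0))) (.leaf (nat_lit 0))) (.leaf (nat_lit 0))) (.leaf (nat_lit 0))) (.leaf (nat_lit 0))) (.leaf (nat_lit 0))) (.leaf (nat_lit 0))) (.leaf (nat_lit 0))) (.leaf (nat_lit 0))) (.leaf (nat_lit 0))) (.leaf (nat_lit 0))) (.leaf (nat_lit 0))) (.leaf (nat_lit 0))) (.leaf (nat_lit 0)))) (.leaf (nat_lit 0))) (.leaf (nat_lit 0))) (.leaf (nat_lit 0))) (.leaf (nat_lit 0))) (.leaf (nat_lit 0))) (.leaf (nat_lit 0))) (.leaf (nat_lit 0))) (.leaf (nat_lit 0))) (.leaf (nat_lit 0))) (.leaf (nat_lit 0))) (.leaf (nat_lit 0))) (.leaf (nat_lit 0))) (.leaf (nat_lit 0))) (.leaf (nat_lit 0))) (.leaf (nat_lit 0))) (.leaf (nat_lit 0))) (.leaf (nat_lit 0))) (.leaf (nat_lit 0))) (.leaf (nat_lit 0))) (.leaf (nat_lit 0))) (.leaf (nat_lit 0))) (.node (.node (.node (.node (.node (.node (.node (.node (.node (.node (.node (.node (.node (.node (.node (.node (.node (.node (.node (.node (.node (.node (.node (.node (.node (.node (.node (.node (.node (.node (.node (.node (.node (.leaf (nat_lit 0)) (.node (.node (.node (.node (.node (.node (.node (.node (.node (.node (.node (.node (.node (.node (.node (.node (.node (.node (.node (.node (.node (.node (.node (.node (.node (.node (.node (.node (.node (.node (.node (.node (.leaf (nat_lit 158)) (.leaf (nat_lit 174))) (.leaf (nat_lit 0))) (.leaf (nat_lit 0))) (.leaf (nat_lit 0))) (.leaf (nat_lit 0))) (.leaf (nat_lit 0))) (.leaf (nat_lit 0))) (.leaf (nat_lit 0))) (.leaf (nat_lit 0))) (.leaf (nat_lit 0))) (.leaf (nat_lit 37))) (.leaf (nat_lit 11))) (.leaf (nat_lit 0))) (.leaf (nat_lit 0))) (.leaf (nat_lit 0))) (.leaf (nat_lit 0))) (.leaf (nat_lit 0))) (.leaf (nat_lit 0))) (.leaf (nat_lit 0))) (.leaf (nat_lit 0))) (.leaf (nat_lit 0))) (.leaf (nat_lit 0))) (.leaf (nat_lit 0))) (.leaf (nat_lit 0))) (.leaf (nat_lit 0))) (.leaf (nat_lit 0))) (.leaf (nat_lit 0))) (.leaf (nat_lit 0))) (.leaf (nat_lit 0))) (.leaf (nat_lit 0))) (.leaf (nat_lit 0))) (.leaf (nat_lit 0)))) (.leaf (nat_lit 0))) (.leaf (nat_lit 0))) (.leaf (nat_lit 0))) (.leaf (nat_lit 0))) (.leaf (nat_lit 0))) (.leaf (nat_lit 0))) (.leaf (nat_lit 0))) (.leaf (nat_lit 0))) (.leaf (nat_lit 0))) (.leaf (nat_lit 0))) (.leaf (nat_lit 0))) (.leaf (nat_lit 0))) (.leaf (nat_lit 0))) (.leaf (nat_lit 0))) (.leaf (nat_lit 0))) (.leaf (nat_lit 0))) (.leaf (nat_lit 0))) (.leaf (nat_lit 0))) (.leaf (nat_lit 0))) (.leaf (nat_lit 0))) (.leaf (nat_lit 0))) (.leaf (nat_lit 0))) (.leaf (nat_lit 0))) (.leaf (nat_lit 0))) (.leaf (nat_lit 0))) (.leaf (nat_lit 0))) (.leaf (nat_lit 0))) (.leaf (nat_lit 0))) (.leaf (nat_lit 0))) (.leaf (nat_lit 0))) (.leaf (nat_lit 0))) (.leaf (nat_lit 0)))) (.node (.node (.node (.node (.node (.node (.node (.node (.node (.node (.node (.node (.node (.node (.node (.node (.node (.node (.node (.node (.node (.node (.node (.node (.node (.node (.node (.node (.node (.node (.node (.node (.node (.leaf (nat_lit 0)) (.node (.node (.node (.node (.node (.node (.node (.node (.node (.node (.node (.node (.node (.node (.node (.node (.node (.node (.node (.node (.node (.node (.node (.node (.node (.node (.node (.node (.node (.node (.node (.node (.node (.leaf (nat_lit 130)) (.leaf (nat_lit 173))) (.leaf (nat_lit 0))) (.leaf (nat_lit 0))) (.leaf (nat_lit 0))) (.leaf (nat_lit 0))) (.leaf (nat_lit 0))) (.leaf (nat_lit 0))) (.leaf (nat_lit 0))) (.leaf (nat_lit 0))) (.leaf (nat_lit 0))) (.leaf (nat_lit 80))) (.leaf (nat_lit 27))) (.leaf (nat_lit 0))) (.leaf (nat_lit 0))) (.leaf (nat_lit 0))) (.leaf (nat_lit 0))) (.leaf (nat_lit 0))) (.leaf (nat_lit 0))) (.leaf (nat_lit 0))) (.leaf (nat_lit 0))) (.leaf (nat_lit 0))) (.leaf (nat_lit 0))) (.leaf (nat_lit 0))) (.leaf (nat_lit 0))) (.leaf (nat_lit 0))) (.leaf (nat_lit 0))) (.leaf (nat_lit 0))) (.leaf (nat_lit 0))) (.leaf (nat_lit 0))) (.leaf (nat_lit 0))) (.leaf (nat_lit 0))) (.leaf (nat_lit 0))) (.leaf (nat_lit 0)))) (.leaf (nat_lit 0))) (.leaf (nat_lit 0))) (.leaf (nat_lit 0))) (.leaf (nat_lit 0))) (.leaf (nat_lit 0))) (.leaf (nat_lit 0))) (.leaf (nat_lit 0))) (.leaf (nat_lit 0))) (.leaf (nat_lit 0))) (.leaf (nat_lit 0))) (.leaf (nat_lit 0))) (.leaf (nat_lit 0))) (.leaf (nat_lit 0))) (.leaf (nat_lit 0))) (.leaf (nat_lit 0))) (.leaf (nat_lit 0))) (.leaf (nat_lit 0))) (.leaf (nat_lit 0))) (.leaf (nat_lit 0))) (.leaf (nat_lit 0))) (.leaf (nat_lit 0))) (.leaf (nat_lit 0))) (.leaf (nat_lit 0))) (.leaf (nat_lit 0))) (.leaf (nat_lit 0))) (.leaf (nat_lit 0))) (.leaf (nat_lit 0))) (.leaf (nat_lit 0))) (.leaf (nat_lit 0))) (.leaf (nat_lit 0))) (.leaf (nat_lit 0))) (.leaf (nat_lit 0)))) (.leaf (nat_lit 0))) (.leaf (nat_lit 0))) (.leaf (nat_lit 0))) (.leaf (nat_lit 0))) (.leaf (nat_lit 0))) (.leaf (nat_lit 0))) (.leaf (nat_lit 0))) (.leaf (nat_lit 0))) (.leaf (nat_lit 0))) (.leaf (nat_lit 0)))) (.leaf (nat_lit 0))) (.leaf (nat_lit 0))) (.leaf (nat_lit 0))) (.leaf (nat_lit 0))) (.leaf (nat_lit 0))) (.leaf (nat_lit 0))) (.leaf (nat_lit 0))) (.leaf (nat_lit 0))) (.leaf (nat_lit 0))) (.leaf (nat_lit 0)))) (.leaf (nat_lit 0))) (.leaf (nat_lit 0))) (.leaf (nat_lit 0))) (.leaf (nat_lit 0))) (.leaf (nat_lit 0))) (.leaf (nat_lit 0))) (.leaf (nat_lit 0))) (.leaf (nat_lit 0))) (.leaf (nat_lit 0))) (.node (.node (.node (.node (.node (.node (.node (.node (.node (.node (.node (.node (.node (.node (.node (.node (.node (.node (.node (.node (.node (.node (.node (.node (.node (.node (.node (.node (.node (.node (.node (.node (.node (.node (.node (.node (.node (.node (.node (.node (.node (.node (.node (.node (.node (.node (.node (.node (.node (.node (.node (.node (.node (.node (.node (.node (.node (.node (.node (.node (.node (.node (.node (.node (.node (.node (.node (.node (.node (.node (.node (.node (.node (.node (.node (.node (.node (.node (.node (.node (.node (.node (.node (.node (.node (.node (.node (.node (.node (.node (.node (.node (.node (.node (.node (.node (.node (.node (.node (.node (.node (.node (.node (.node (.node (.node (.node (.node (.node (.node (.node (.node (.node (.node (.node (.node (.node (.node (.node (.node (.node (.node (.node (.node (.node (.node (.node (.node (.node (.node (.node (.node (.node (.node (.node (.node (.node (.node (.node (.node (.node (.node (.node (.leaf (nat_lit 41)) (.leaf (nat_lit 170))) (.leaf (nat_lit 0))) (.leaf (nat_lit 0))) (.leaf (nat_lit 0))) (.leaf (nat_lit 0))) (.leaf (nat_lit 0))) (.leaf (nat_lit 0))) (.leaf (nat_lit 0))) (.leaf (nat_lit 0))) (.leaf (nat_lit 0))) (.leaf (nat_lit 0))) (.leaf (nat_lit 0))) (.leaf (nat_lit 0))) (.leaf (nat_lit 0))) (.leaf (nat_lit 0))) (.leaf (nat_lit 0))) (.leaf (nat_lit 0))) (.leaf (nat_lit 0))) (.leaf (nat_lit 0))) (.leaf (nat_lit 0))) (.leaf (nat_lit 0))) (.leaf (nat_lit 0))) (.leaf (nat_lit 0))) (.leaf (nat_lit 0))) (.leaf (nat_lit 0))) (.leaf (nat_lit 0))) (.leaf (nat_lit 0))) (.leaf (nat_lit 0))) (.leaf (nat_lit 0))) (.leaf (nat_lit 0))) (.leaf (nat_lit 0))) (.leaf (nat_lit 0))) (.leaf (nat_lit 0))) (.leaf (nat_lit 0))) (.leaf (nat_lit 3))) (.leaf (nat_lit 0))) (.leaf (nat_lit 0))) (.leaf (nat_lit 0))) (.leaf (nat_lit 0))) (.leaf (nat_lit 0))) (.leaf (nat_lit 0))) (.leaf (nat_lit 0))) (.leaf (nat_lit 0))) (.leaf (nat_lit 0))) (.leaf (nat_lit 68))) (.leaf (nat_lit 0))) (.leaf (nat_lit 0))) (.leaf (nat_lit 0))) (.leaf (nat_lit 0))) (.leaf (nat_lit 0))) (.leaf (nat_lit 0))) (.leaf (nat_lit 0))) (.leaf (nat_lit 0))) (.leaf (nat_lit 0))) (.leaf (nat_lit 0))) (.leaf (nat_lit 0))) (.leaf (nat_lit 0))) (.leaf (nat_lit 0))) (.leaf (nat_lit 0))) (.leaf (nat_lit 0))) (.leaf (nat_lit 0))) (.leaf (nat_lit 0))) (.leaf (nat_lit 0))) (.leaf (nat_lit 0))) (.leaf (nat_lit 0))) (.leaf (nat_lit 0))) (.leaf (nat_lit 0))) (.leaf (nat_lit 0))) (.leaf (nat_lit 0))) (.leaf (nat_lit 0))) (.leaf (nat_lit 0))) (.leaf (nat_lit 0))) (.leaf (nat_lit 0))) (.leaf (nat_lit 0))) (.leaf (nat_lit 0))) (.leaf (nat_lit 0))) (.leaf (nat_lit 0))) (.leaf (nat_lit 0))) (.leaf (nat_lit 0))) (.leaf (nat_lit 0))) (.leaf (nat_lit 0))) (.leaf (nat_lit 0))) (.leaf (nat_lit 0))) (.leaf (nat_lit 0))) (.leaf (nat_lit 0))) (.leaf (nat_lit 0))) (.leaf (nat_lit 0))) (.leaf (nat_lit 0))) (.leaf (nat_lit 0))) (.leaf (nat_lit 0))) (.leaf (nat_lit 0))) (.leaf (nat_lit 0))) (.leaf (nat_lit 0))) (.leaf (nat_lit 0))) (.leaf (nat_lit 0))) (.leaf (nat_lit 0))) (.leaf (nat_lit 0))) (.leaf (nat_lit 0))) (.leaf (nat_lit 0))) (.node (.node (.node (.node (.node (.node (.node (.node (.node (.node (.node (.leaf (nat_lit 0)) (.node (.node (.node (.node (.node (.node (.node (.node (.node (.node (.node (.node (.node (.node (.node (.node (.node (.node (.node (.node (.node (.node (.leaf (nat_lit 0)) (.node (.node (.node (.node (.node (.node (.node (.node (.node (.node (.node (.node (.node (.node (.node (.node (.node (.node (.node (.node (.node (.node (.leaf (nat_lit 0)) (.node (.node (.node (.node (.node (.node (.node (.node (.node (.node (.leaf (nat_lit 0)) (.node (.node (.node (.node (.node (.node (.node (.node (.node (.node (.node (.leaf (nat_lit 126)) (.leaf (nat_lit 57))) (.leaf (nat_lit 0))) (.leaf (nat_lit 0))) (.leaf (nat_lit 0))) (.leaf (nat_lit 0))) (.leaf (nat_lit 0))) (.leaf (nat_lit 0))) (.leaf (nat_lit 0))) (.leaf (nat_lit 0))) (.leaf (nat_lit 0))) (.leaf (nat_lit 0)))) (.leaf (nat_lit 0))) (.leaf (nat_lit 0))) (.leaf (nat_lit 0))) (.leaf (nat_lit 0))) (.leaf (nat_lit 0))) (.leaf (nat_lit 0))) (.leaf (nat_lit 0))) (.leaf (nat_lit 0))) (.leaf (nat_lit 0)))) (.leaf (nat_lit 0))) (.leaf (nat_lit 0))) (.leaf (nat_lit 0))) (.leaf (nat_lit 0))) (.leaf (nat_lit 0))) (.leaf (nat_lit 0))) (.leaf (nat_lit 0))) (.leaf (nat_lit 0))) (.leaf (nat_lit 0))) (.leaf (nat_lit 0))) (.node (.node (.node (.node (.node (.node (.node (.node (.node (.node (.node (.node (.node (.node (.node (.node (.node (.node (.node (.node (.node (.node (.node (.node (.node (.node (.node (.node (.node (.node (.node (.node (.node (.node (.node (.node (.node (.node (.node (.node (.node (.node (.node (.leaf (nat_lit 0)) (.node (.node (.node (.node (.node (.node (.node (.node (.node (.node (.node (.leaf (nat_lit 111)) (.leaf (nat_lit 167))) (.leaf (nat_lit 0))) (.leaf (nat_lit 0))) (.leaf (nat_lit 0))) (.leaf (nat_lit 0))) (.leaf (nat_lit 0))) (.leaf (nat_lit 0))) (.leaf (nat_lit 0))) (.leaf (nat_lit 0))) (.leaf (nat_lit 0))) (.leaf (nat_lit 0)))) (.leaf (nat_lit 0))) (.leaf (nat_lit 0))) (.leaf (nat_lit 0))) (.leaf (nat_lit 0))) (.leaf (nat_lit 0))) (.leaf (nat_lit 0))) (.leaf (nat_lit 0))) (.leaf (nat_lit 0))) (.leaf (nat_lit 0))) (.leaf (nat_lit 0))) (.leaf (nat_lit 0))) (.leaf (nat_lit 0))) (.leaf (nat_lit 0))) (.leaf (nat_lit 0))) (.leaf (nat_lit 0))) (.leaf (nat_lit 0))) (.leaf (nat_lit 0))) (.leaf (nat_lit 0))) (.leaf (nat_lit 0))) (.leaf (nat_lit 0))) (.leaf (nat_lit 0))) (.leaf (nat_lit 0))) (.leaf (nat_lit 0))) (.leaf (nat_lit 0))) (.leaf (nat_lit 0))) (.leaf (nat_lit 0))) (.leaf (nat_lit 0))) (.leaf (nat_lit 0))) (.leaf (nat_lit 0))) (.leaf (nat_lit 0))) (.leaf (nat_lit 0))) (.leaf (nat_lit 0))) (.leaf (nat_lit 0))) (.leaf (nat_lit 0))) (.leaf (nat_lit 0))) (.leaf (nat_lit 0))) (.leaf (nat_lit 0))) (.leaf (nat_lit 0))) (.leaf (nat_lit 0))) (.leaf (nat_lit 0))) (.leaf (nat_lit 0))) (.leaf (nat_lit 0)))) (.leaf (nat_lit 0))) (.leaf (nat_lit 0))) (.leaf (nat_lit 0))) (.leaf (nat_lit 0))) (.leaf (nat_lit 0))) (.leaf (nat_lit 0))) (.leaf (nat_lit 0))) (.leaf (nat_lit 0))) (.leaf (nat_lit 0))) (.leaf (nat_lit 0)))) (.leaf (nat_lit 0))) (.leaf (nat_lit 0))) (.leaf (nat_lit 0))) (.leaf (nat_lit 0))) (.leaf (nat_lit 0))) (.leaf (nat_lit 0))) (.leaf (nat_lit 0))) (.leaf (nat_lit 0))) (.leaf (nat_lit 0))) (.leaf (nat_lit 0))) (.leaf (nat_lit 0))) (.leaf (nat_lit 0))) (.leaf (nat_lit 0))) (.leaf (nat_lit 0))) (.leaf (nat_lit 0))) (.leaf (nat_lit 0))) (.leaf (nat_lit 0))) (.leaf (nat_lit 0))) (.leaf (nat_lit 0))) (.leaf (nat_lit 0))) (.leaf (nat_lit 0)))) (.leaf (nat_lit 0))) (.leaf (nat_lit 0))) (.leaf (nat_lit 0))) (.leaf (nat_lit 0))) (.leaf (nat_lit 0))) (.leaf (nat_lit 0))) (.leaf (nat_lit 0))) (.leaf (nat_lit 0))) (.leaf (nat_lit 0))) (.leaf (nat_lit 0)))) (.leaf (nat_lit 0))) (.leaf (nat_lit 0))) (.leaf (nat_lit 0))) (.leaf (nat_lit 0))) (.leaf (nat_lit 0))) (.leaf (nat_lit 0))) (.leaf (nat_lit 0))) (.leaf (nat_lit 0))) (.leaf (nat_lit 0))) (.leaf (nat_lit 0))) (.leaf (nat_lit 0))) (.leaf (nat_lit 0))) (.leaf (nat_lit 0))) (.leaf (nat_lit 0))) (.leaf (nat_lit 0))) (.leaf (nat_lit 0))) (.leaf (nat_lit 0))) (.leaf (nat_lit 0))) (.leaf (nat_lit 0))) (.leaf (nat_lit 0))) (.leaf (nat_lit 0))) (.node (.node (.node (.node (.node (.node (.node (.node (.node (.node (.node (.node (.node (.node (.node (.node (.node (.node (.node (.node (.node (.node (.node (.node (.node (.node (.node (.node (.node (.node (.node (.node (.node (.node (.node (.node (.node (.node (.node (.node (.node (.node (.node (.node (.leaf (nat_lit 0)) (.node (.node (.node (.node (.node (.node (.node (.node (.node (.node (.leaf (nat_lit 0)) (.node (.node (.node (.node (.node (.node (.node (.node (.node (.node (.node (.node (.node (.node (.node (.node (.node (.node (.node (.node (.node (.node (.node (.leaf (nat_lit 0)) (.node (.node (.node (.node (.node (.node (.node (.node (.node (.node (.node (.node (.node (.node (.node (.node (.node (.node (.node (.node (.node (.leaf (nat_lit 180)) (.leaf (nat_lit 101))) (.leaf (nat_lit 0))) (.leaf (nat_lit 0))) (.leaf (nat_lit 0))) (.leaf (nat_lit 0))) (.leaf (nat_lit 0))) (.leaf (nat_lit 0))) (.leaf (nat_lit 0))) (.leaf (nat_lit 0))) (.leaf (nat_lit 0))) (.leaf (nat_lit 0))) (.leaf (nat_lit 0))) (.leaf (nat_lit 0))) (.leaf (nat_lit 0))) (.leaf (nat_lit 0))) (.leaf (nat_lit 0))) (.leaf (nat_lit 0))) (.leaf (nat_lit 0))) (.leaf (nat_lit 0))) (.leaf (nat_lit 0))) (.leaf (nat_lit 0)))) (.leaf (nat_lit 0))) (.leaf (nat_lit 0))) (.leaf (nat_lit 0))) (.leaf (nat_lit 0))) (.leaf (nat_lit 0))) (.leaf (nat_lit 0))) (.leaf (nat_lit 0))) (.leaf (nat_lit 0))) (.leaf (nat_lit 0))) (.leaf (nat_lit 0))) (.leaf (nat_lit 0))) (.node (.node (.node (.node (.node (.node (.node (.node (.node (.node (.node (.node (.node (.node (.node (.node (.node (.node (.node (.node (.node (.node (.leaf (nat_lit 97)) (.leaf (nat_lit 125))) (.leaf (nat_lit 0))) (.leaf (nat_lit 0))) (.leaf (nat_lit 0))) (.leaf (nat_lit 0))) (.leaf (nat_lit 0))) (.leaf (nat_lit 0))) (.leaf (nat_lit 0))) (.leaf (nat_lit 0))) (.leaf (nat_lit 0))) (.leaf (nat_lit 0))) (.leaf (nat_lit 0))) (.leaf (nat_lit 0))) (.leaf (nat_lit 0))) (.leaf (nat_lit 0))) (.leaf (nat_lit 0))) (.leaf (nat_lit 0))) (.leaf (nat_lit 0))) (.leaf (nat_lit 0))) (.leaf (nat_lit 0))) (.leaf (nat_lit 0))) (.leaf (nat_lit 0)))) (.leaf (nat_lit 0))) (.leaf (nat_lit 0))) (.leaf (nat_lit 0))) (.leaf (nat_lit 0))) (.leaf (nat_lit 0))) (.leaf (nat_lit 0))) (.leaf (nat_lit 0))) (.leaf (nat_lit 0))) (.leaf (nat_lit 0))) (.leaf (nat_lit 0)))) (.leaf (nat_lit 0))) (.leaf (nat_lit 0))) (.leaf (nat_lit 0))) (.leaf (nat_lit 0))) (.leaf (nat_lit 0))) (.leaf (nat_lit 0))) (.leaf (nat_lit 0))) (.leaf (nat_lit 0))) (.leaf (nat_lit 0)))) (.leaf (nat_lit 0))) (.leaf (nat_lit 0))) (.leaf (nat_lit 0))) (.leaf (nat_lit 0))) (.leaf (nat_lit 0))) (.leaf (nat_lit 0))) (.leaf (nat_lit 0))) (.leaf (nat_lit 0))) (.leaf (nat_lit 0))) (.leaf (nat_lit 0))) (.leaf (nat_lit 0))) (.leaf (nat_lit 0))) (.leaf (nat_lit 0))) (.leaf (nat_lit 0))) (.leaf (nat_lit 0))) (.leaf (nat_lit 0))) (.leaf (nat_lit 0))) (.leaf (nat_lit 0))) (.leaf (nat_lit 0))) (.leaf (nat_lit 0))) (.leaf (nat_lit 0))) (.leaf (nat_lit 0))) (.leaf (nat_lit 0))) (.leaf (nat_lit 0))) (.leaf (nat_lit 0))) (.leaf (nat_lit 0))) (.leaf (nat_lit 0))) (.leaf (nat_lit 0))) (.leaf (nat_lit 0))) (.leaf (nat_lit 0))) (.leaf (nat_lit 0))) (.leaf (nat_lit 0))) (.leaf (nat_lit 0))) (.node (.node (.node (.node (.node (.node (.node (.node (.node (.node (.node (.node (.node (.node (.node (.node (.node (.node (.node (.node (.node (.node (.leaf (nat_lit 0)) (.node (.node (.node (.node (.node (.node (.node (.node (.node (.node (.node (.node (.node (.node (.node (.node (.node (.node (.node (.node (.node (.node (.node (.node (.node (.node (.node (.node (.node (.node (.node (.node (.node (.node (.node (.node (.node (.node (.node (.node (.node (.node (.node (.node (.node (.leaf (nat_lit 0)) (.node (.node (.node (.node (.node (.node (.node (.node (.node (.node (.node (.node (.node (.node (.node (.node (.node (.node (.node (.node (.node (.node (.node (.node (.node (.node (.node (.node (.node (.node (.node (.node (.leaf (nat_lit 129)) (.leaf (nat_lit 182))) (.leaf (nat_lit 0))) (.leaf (nat_lit 0))) (.leaf (nat_lit 0))) (.leaf (nat_lit 0))) (.leaf (nat_lit 0))) (.leaf (nat_lit 0))) (.leaf (nat_lit 0))) (.leaf (nat_lit 0))) (.leaf (nat_lit 0))) (.leaf (nat_lit 0))) (.leaf (nat_lit 0))) (.leaf (nat_lit 0))) (.leaf (nat_lit 0))) (.leaf (nat_lit 0))) (.leaf (nat_lit 0))) (.leaf (nat_lit 0))) (.leaf (nat_lit 0))) (.leaf (nat_lit 0))) (.leaf (nat_lit 0))) (.leaf (nat_lit 0))) (.leaf (nat_lit 0))) (.leaf (nat_lit 0))) (.leaf (nat_lit 0))) (.leaf (nat_lit 0))) (.leaf (nat_lit 0))) (.leaf (nat_lit 0))) (.leaf (nat_lit 0))) (.leaf (nat_lit 0))) (.leaf (nat_lit 0))) (.leaf (nat_lit 0))) (.leaf (nat_lit 0)))) (.leaf (nat_lit 0))) (.leaf (nat_lit 0))) (.leaf (nat_lit 0))) (.leaf (nat_lit 0))) (.leaf (nat_lit 0))) (.leaf (nat_lit 0))) (.leaf (nat_lit 0))) (.leaf (nat_lit 0))) (.leaf (nat_lit 0))) (.leaf (nat_lit 0))) (.leaf (nat_lit 0))) (.node (.node (.node (.node (.node (.node (.node (.node (.node (.node (.node (.node (.node (.node (.node (.node (.node (.node (.node (.node (.node (.node (.leaf (nat_lit 120)) (.leaf (nat_lit 64))) (.leaf (nat_lit 0))) (.leaf (nat_lit 0))) (.leaf (nat_lit 0))) (.leaf (nat_lit 0))) (.leaf (nat_lit 0))) (.leaf (nat_lit 0))) (.leaf (nat_lit 0))) (.leaf (nat_lit 0))) (.leaf (nat_lit 0))) (.leaf (nat_lit 0))) (.leaf (nat_lit 0))) (.leaf (nat_lit 0))) (.leaf (nat_lit 0))) (.leaf (nat_lit 0))) (.leaf (nat_lit 0))) (.leaf (nat_lit 0))) (.leaf (nat_lit 0))) (.leaf (nat_lit 0))) (.leaf (nat_lit 0))) (.leaf (nat_lit 0))) (.leaf (nat_lit 0)))) (.leaf (nat_lit 0))) (.leaf (nat_lit 0))) (.leaf (nat_lit 0))) (.leaf (nat_lit 0))) (.leaf (nat_lit 0))) (.leaf (nat_lit 0))) (.leaf (nat_lit 0))) (.leaf (nat_lit 0))) (.leaf (nat_lit 0))) (.leaf (nat_lit 0))) (.leaf (nat_lit 0))) (.leaf (nat_lit 0))) (.leaf (nat_lit 0))) (.leaf (nat_lit 0))) (.leaf (nat_lit 0))) (.leaf (nat_lit 0))) (.leaf (nat_lit 0))) (.leaf (nat_lit 0))) (.leaf (nat_lit 0))) (.leaf (nat_lit 0))) (.leaf (nat_lit 0))) (.leaf (nat_lit 0))) (.leaf (nat_lit 0))) (.leaf (nat_lit 0))) (.leaf (nat_lit 0))) (.leaf (nat_lit 0))) (.leaf (nat_lit 0))) (.leaf (nat_lit 0))) (.leaf (nat_lit 0))) (.leaf (nat_lit 0))) (.leaf (nat_lit 0))) (.leaf (nat_lit 0)))) (.leaf (nat_lit 0))) (.leaf (nat_lit 0))) (.leaf (nat_lit 0))) (.leaf (nat_lit 0))) (.leaf (nat_lit 0))) (.leaf (nat_lit 0))) (.leaf (nat_lit 0))) (.leaf (nat_lit 0))) (.leaf (nat_lit 0))) (.leaf (nat_lit 0))) (.leaf (nat_lit 0))) (.leaf (nat_lit 0))) (.leaf (nat_lit 0))) (.leaf (nat_lit 0))) (.leaf (nat_lit 0))) (.leaf (nat_lit 0))) (.leaf (nat_lit 0))) (.leaf (nat_lit 0))) (.leaf (nat_lit 0))) (.leaf (nat_lit 0))) (.leaf (nat_lit 0)))) (.leaf (nat_lit 0))) (.leaf (nat_lit 0))) (.leaf (nat_lit 0))) (.leaf (nat_lit 0))) (.leaf (nat_lit 0))) (.leaf (nat_lit 0))) (.leaf (nat_lit 0))) (.leaf (nat_lit 0))) (.leaf (nat_lit 0)))) (.node (.node (.node (.node (.node (.node (.node (.node (.node (.node (.node (.node (.node (.node (.node (.node (.node (.node (.node (.node (.node (.node (.node (.node (.node (.node (.node (.node (.node (.node (.node (.node (.node (.node (.node (.node (.node (.node (.node (.node (.node (.node (.node (.node (.node (.leaf (nat_lit 0)) (.node (.node (.node (.node (.node (.node (.node (.node (.node (.node (.node (.leaf (nat_lit 0)) (.node (.node (.node (.node (.node (.node (.node (.node (.node (.node (.node (.node (.node (.node (.node (.node (.node (.node (.node (.node (.node (.node (.leaf (nat_lit 0)) (.node (.node (.node (.node (.node (.node (.node (.node (.node (.node (.node (.node (.node (.node (.node (.node (.node (.node (.node (.node (.node (.leaf (nat_lit 55)) (.leaf (nat_lit 20))) (.leaf (nat_lit 0))) (.leaf (nat_lit 0))) (.leaf (nat_lit 0))) (.leaf (nat_lit 0))) (.leaf (nat_lit 0))) (.leaf (nat_lit 0))) (.leaf (nat_lit 0))) (.leaf (nat_lit 0))) (.leaf (nat_lit 0))) (.leaf (nat_lit 0))) (.leaf (nat_lit 0))) (.leaf (nat_lit 0))) (.leaf (nat_lit 0))) (.leaf (nat_lit 0))) (.leaf (nat_lit 0))) (.leaf (nat_lit 0))) (.leaf (nat_lit 0))) (.leaf (nat_lit 0))) (.leaf (nat_lit 0))) (.leaf (nat_lit 0)))) (.leaf (nat_lit 0))) (.leaf (nat_lit 0))) (.leaf (nat_lit 0))) (.leaf (nat_lit 0))) (.leaf (nat_lit 0))) (.leaf (nat_lit 0))) (.leaf (nat_lit 0))) (.leaf (nat_lit 0))) (.leaf (nat_lit 0))) (.leaf (nat_lit 0))) (.node (.node (.node (.node (.node (.node (.node (.node (.node (.node (.node (.node (.node (.node (.node (.node (.node (.node (.node (.node (.node (.leaf (nat_lit 73)) (.leaf (nat_lit 132))) (.leaf (nat_lit 0))) (.leaf (nat_lit 0))) (.leaf (nat_lit 0))) (.leaf (nat_lit 0))) (.leaf (nat_lit 0))) (.leaf (nat_lit 0))) (.leaf (nat_lit 0))) (.leaf (nat_lit 0))) (.leaf (nat_lit 0))) (.leaf (nat_lit 0))) (.leaf (nat_lit 0))) (.leaf (nat_lit 0))) (.leaf (nat_lit 0))) (.leaf (nat_lit 0))) (.leaf (nat_lit 0))) (.leaf (nat_lit 0))) (.leaf (nat_lit 0))) (.leaf (nat_lit 0))) (.leaf (nat_lit 0))) (.leaf (nat_lit 0)))) (.leaf (nat_lit 0))) (.leaf (nat_lit 0))) (.leaf (nat_lit 0))) (.leaf (nat_lit 0))) (.leaf (nat_lit 0))) (.leaf (nat_lit 0))) (.leaf (nat_lit 0))) (.leaf (nat_lit 0))) (.leaf (nat_lit 0))) (.leaf (nat_lit 0)))) (.leaf (nat_lit 0))) (.leaf (nat_lit 0))) (.leaf (nat_lit 0))) (.leaf (nat_lit 0))) (.leaf (nat_lit 0))) (.leaf (nat_lit 0))) (.leaf (nat_lit 0))) (.leaf (nat_lit 0))) (.leaf (nat_lit 0))) (.leaf (nat_lit 0)))) (.leaf (nat_lit 0))) (.leaf (nat_lit 0))) (.leaf (nat_lit 0))) (.leaf (nat_lit 0))) (.leaf (nat_lit 0))) (.leaf (nat_lit 0))) (.leaf (nat_lit 0))) (.leaf (nat_lit 0))) (.leaf (nat_lit 0))) (.leaf (nat_lit 0))) (.leaf (nat_lit 0))) (.leaf (nat_lit 0))) (.leaf (nat_lit 0))) (.leaf (nat_lit 0))) (.leaf (nat_lit 0))) (.leaf (nat_lit 0))) (.leaf (nat_lit 0))) (.leaf (nat_lit 0))) (.leaf (nat_lit 0))) (.leaf (nat_lit 0))) (.leaf (nat_lit 0))) (.leaf (nat_lit 0))) (.leaf (nat_lit 0))) (.leaf (nat_lit 0))) (.leaf (nat_lit 0))) (.leaf (nat_lit 0))) (.leaf (nat_lit 0))) (.leaf (nat_lit 0))) (.leaf (nat_lit 0))) (.leaf (nat_lit 0))) (.leaf (nat_lit 0))) (.leaf (nat_lit 0))) (.leaf (nat_lit 0))) (.leaf (nat_lit 0))) (.leaf (nat_lit 0))) (.leaf (nat_lit 0))) (.leaf (nat_lit 0))) (.leaf (nat_lit 0))) (.leaf (nat_lit 0))) (.leaf (nat_lit 0))) (.leaf (nat_lit 0))) (.leaf (nat_lit 0))) (.leaf (nat_lit 0))) (.leaf (nat_lit 0)))) (.leaf (nat_lit 0))) (.leaf (nat_lit 0))) (.leaf (nat_lit 0))) (.leaf (nat_lit 0))) (.leaf (nat_lit 0))) (.leaf (nat_lit 0))) (.leaf (nat_lit 0))) (.leaf (nat_lit 0))) (.leaf (nat_lit 0))) (.node (.node (.node (.node (.node (.node (.node (.node (.node (.node (.node (.node (.node (.node (.node (.node (.node (.node (.node (.node (.node (.node (.node (.node (.node (.node (.node (.node (.node (.node (.node (.node (.node (.node (.node (.node (.node (.node (.node (.node (.node (.node (.node (.node (.leaf (nat_lit 0)) (.node (.node (.node (.node (.node (.node (.node (.node (.node (.node (.leaf (nat_lit 0)) (.node (.node (.node (.node (.node (.node (.node (.node (.node (.node (.node (.node (.node (.node (.node (.node (.node (.node (.node (.node (.node (.node (.node (.node (.node (.node (.node (.node (.node (.node (.node (.node (.node (.node (.node (.node (.node (.node (.node (.node (.node (.node (.node (.node (.leaf (nat_lit 0)) (.node (.node (.node (.node (.node (.node (.node (.node (.node (.node (.node (.leaf (nat_lit 185)) (.leaf (nat_lit 140))) (.leaf (nat_lit 0))) (.leaf (nat_lit 0))) (.leaf (nat_lit 0))) (.leaf (nat_lit 0))) (.leaf (nat_lit 0))) (.leaf (nat_lit 0))) (.leaf (nat_lit 0))) (.leaf (nat_lit 0))) (.leaf (nat_lit 0))) (.leaf (nat_lit 0)))) (.leaf (nat_lit 0))) (.leaf (nat_lit 0))) (.leaf (nat_lit 0))) (.leaf (nat_lit 0))) (.leaf (nat_lit 0))) (.leaf (nat_lit 0))) (.leaf (nat_lit 0))) (.leaf (nat_lit 0))) (.leaf (nat_lit 0))) (.leaf (nat_lit 0))) (.leaf (nat_lit 0))) (.leaf (nat_lit 0))) (.leaf (nat_lit 0))) (.leaf (nat_lit 0))) (.leaf (nat_lit 0))) (.leaf (nat_lit 0))) (.leaf (nat_lit 0))) (.leaf (nat_lit 0))) (.leaf (nat_lit 0))) (.leaf (nat_lit 0))) (.node (.node (.node (.node (.node (.node (.node (.node (.node (.node (.leaf (nat_lit 6)) (.leaf (nat_lit 22))) (.leaf (nat_lit 0))) (.leaf (nat_lit 0))) (.leaf (nat_lit 0))) (.leaf (nat_lit 0))) (.leaf (nat_lit 0))) (.leaf (nat_lit 0))) (.leaf (nat_lit 0))) (.leaf (nat_lit 0))) (.leaf (nat_lit 0)))) (.leaf (nat_lit 0))) (.leaf (nat_lit 0))) (.leaf (nat_lit 0))) (.leaf (nat_lit 0))) (.leaf (nat_lit 0))) (.leaf (nat_lit 0))) (.leaf (nat_lit 0))) (.leaf (nat_lit 0))) (.leaf (nat_lit 0))) (.leaf (nat_lit 0))) (.leaf (nat_lit 0))) (.leaf (nat_lit 0))) (.leaf (nat_lit 0))) (.leaf (nat_lit 0))) (.leaf (nat_lit 0))) (.leaf (nat_lit 0))) (.leaf (nat_lit 0))) (.leaf (nat_lit 0))) (.leaf (nat_lit 0))) (.leaf (nat_lit 0))) (.leaf (nat_lit 0))) (.leaf (nat_lit 0)))) (.leaf (nat_lit 0))) (.leaf (nat_lit 0))) (.leaf (nat_lit 0))) (.leaf (nat_lit 0))) (.leaf (nat_lit 0))) (.leaf (nat_lit 0))) (.leaf (nat_lit 0))) (.leaf (nat_lit 0))) (.leaf (nat_lit 0)))) (.leaf (nat_lit 0))) (.leaf (nat_lit 0))) (.leaf (nat_lit 0))) (.leaf (nat_lit 0))) (.leaf (nat_lit 0))) (.leaf (nat_lit 0))) (.leaf (nat_lit 0))) (.leaf (nat_lit 0))) (.leaf (nat_lit 0))) (.leaf (nat_lit 0))) (.leaf (nat_lit 0))) (.leaf (nat_lit 0))) (.leaf (nat_lit 0))) (.leaf (nat_lit 0))) (.leaf (nat_lit 0))) (.leaf (nat_lit 0))) (.leaf (nat_lit 0))) (.leaf (nat_lit 0))) (.leaf (nat_lit 0))) (.leaf (nat_lit 0))) (.leaf (nat_lit 0))) (.leaf (nat_lit 0))) (.leaf (nat_lit 0))) (.leaf (nat_lit 0))) (.leaf (nat_lit 0))) (.leaf (nat_lit 0))) (.leaf (nat_lit 0))) (.leaf (nat_lit 0))) (.leaf (nat_lit 0))) (.leaf (nat_lit 0))) (.leaf (nat_lit 0))) (.leaf (nat_lit 0))) (.leaf (nat_lit 0))) (.node (.node (.node (.node (.node (.node (.node (.node (.node (.node (.node (.node (.node (.node (.node (.node (.node (.node (.node (.node (.node (.node (.leaf (nat_lit 0)) (.node (.node (.node (.node (.node (.node (.node (.node (.node (.node (.node (.node (.node (.node (.node (.node (.node (.node (.node (.node (.node (.node (.node (.node (.node (.node (.node (.node (.node (.node (.node (.node (.node (.node (.node (.node (.node (.node (.node (.node (.node (.node (.node (.node (.node (.node (.node (.node (.node (.node (.node (.node (.node (.node (.node (.node (.node (.node (.node (.node (.node (.node (.node (.node (.node (.node (.node (.node (.node (.node (.node (.node (.node (.node (.node (.node (.node (.leaf (nat_lit 143)) (.leaf (nat_lit 96))) (.leaf (nat_lit 0))) (.leaf (nat_lit 0))) (.leaf (nat_lit 0))) (.leaf (nat_lit 0))) (.leaf (nat_lit 0))) (.leaf (nat_lit 0))) (.leaf (nat_lit 0))) (.leaf (nat_lit 0))) (.leaf (nat_lit 0))) (.leaf (nat_lit 0))) (.leaf (nat_lit 0))) (.leaf (nat_lit 0))) (.leaf (nat_lit 0))) (.leaf (nat_lit 0))) (.leaf (nat_lit 0))) (.leaf (nat_lit 0))) (.leaf (nat_lit 0))) (.leaf (nat_lit 0))) (.leaf (nat_lit 0))) (.leaf (nat_lit 0))) (.leaf (nat_lit 0))) (.leaf (nat_lit 0))) (.leaf (nat_lit 0))) (.leaf (nat_lit 0))) (.leaf (nat_lit 0))) (.leaf (nat_lit 0))) (.leaf (nat_lit 0))) (.leaf (nat_lit 0))) (.leaf (nat_lit 0))) (.leaf (nat_lit 0))) (.leaf (nat_lit 0))) (.node (.node (.node (.node (.node (.node (.node (.node (.node (.node (.leaf (nat_lit 24)) (.leaf (nat_lit 63))) (.leaf (nat_lit 0))) (.leaf (nat_lit 0))) (.leaf (nat_lit 0))) (.leaf (nat_lit 0))) (.leaf (nat_lit 0))) (.leaf (nat_lit 0))) (.leaf (nat_lit 0))) (.leaf (nat_lit 0))) (.leaf (nat_lit 0)))) (.leaf (nat_lit 0))) (.leaf (nat_lit 0))) (.leaf (nat_lit 0))) (.leaf (nat_lit 0))) (.leaf (nat_lit 0))) (.leaf (nat_lit 0))) (.leaf (nat_lit 0))) (.leaf (nat_lit 0))) (.leaf (nat_lit 0))) (.leaf (nat_lit 0))) (.leaf (nat_lit 0))) (.leaf (nat_lit 0))) (.leaf (nat_lit 0))) (.leaf (nat_lit 0))) (.leaf (nat_lit 0))) (.leaf (nat_lit 0))) (.leaf (nat_lit 0))) (.leaf (nat_lit 0))) (.leaf (nat_lit 0))) (.leaf (nat_lit 0))) (.leaf (nat_lit 0))) (.leaf (nat_lit 0))) (.leaf (nat_lit 0))) (.leaf (nat_lit 0))) (.leaf (nat_lit 0))) (.leaf (nat_lit 0))) (.leaf (nat_lit 0))) (.leaf (nat_lit 0))) (.leaf (nat_lit 0))) (.leaf (nat_lit 0))) (.leaf (nat_lit 0))) (.leaf (nat_lit 0))) (.leaf (nat_lit 0))) (.leaf (nat_lit 0))) (.leaf (nat_lit 0))) (.leaf (nat_lit 0))) (.leaf (nat_lit 0))) (.leaf (nat_lit 0))) (.leaf (nat_lit 0))) (.leaf (nat_lit 0))) (.leaf (nat_lit 0))) (.leaf (nat_lit 0))) (.leaf (nat_lit 0))) (.leaf (nat_lit 0)))) (.leaf (nat_lit 0))) (.leaf (nat_lit 0))) (.leaf (nat_lit 0))) (.leaf (nat_lit 0))) (.leaf (nat_lit 0))) (.leaf (nat_lit 0))) (.leaf (nat_lit 0))) (.leaf (nat_lit 0))) (.leaf (nat_lit 0))) (.leaf (nat_lit 0))) (.leaf (nat_lit 0))) (.leaf (nat_lit 0))) (.leaf (nat_lit 0))) (.leaf (nat_lit 0))) (.leaf (nat_lit 0))) (.leaf (nat_lit 0))) (.leaf (nat_lit 0))) (.leaf (nat_lit 0))) (.leaf (nat_lit 0))) (.leaf (nat_lit 0))) (.leaf (nat_lit 0)))) (.leaf (nat_lit 0))) (.leaf (nat_lit 0))) (.leaf (nat_lit 0))) (.leaf (nat_lit 0))) (.leaf (nat_lit 0))) (.leaf (nat_lit 0))) (.leaf (nat_lit 0))) (.leaf (nat_lit 0))) (.leaf (nat_lit 0)))) (.node (.node (.node (.node (.node (.node (.node (.node (.node (.node (.node (.node (.node (.node (.node (.node (.node (.node (.node (.node (.node (.node (.node (.node (.node (.node (.node (.node (.node (.node (.node (.node (.node (.node (.node (.node (.node (.node (.node (.node (.node (.node (.node (.node (.leaf (nat_lit 0)) (.node (.node (.node (.node (.node (.node (.node (.node (.node (.node (.node (.leaf (nat_lit 0)) (.node (.node (.node (.node (.node (.node (.node (.node (.node (.node (.node (.node (.node (.node (.node (.node (.node (.node (.node (.node (.node (.node (.node (.node (.node (.node (.node (.node (.node (.node (.node (.node (.node (.node (.node (.node (.node (.node (.node (.node (.node (.node (.node (.node (.leaf (nat_lit 0)) (.node (.node (.node (.node (.node (.node (.node (.node (.node (.node (.node (.leaf (nat_lit 117)) (.leaf (nat_lit 100))) (.leaf (nat_lit 0))) (.leaf (nat_lit 0))) (.leaf (nat_lit 0))) (.leaf (nat_lit 0))) (.leaf (nat_lit 0))) (.leaf (nat_lit 0))) (.leaf (nat_lit 0))) (.leaf (nat_lit 0))) (.leaf (nat_lit 0))) (.leaf (nat_lit 0)))) (.leaf (nat_lit 0))) (.leaf (nat_lit 0))) (.leaf (nat_lit 0))) (.leaf (nat_lit 0))) (.leaf (nat_lit 0))) (.leaf (nat_lit 0))) (.leaf (nat_lit 0))) (.leaf (nat_lit 0))) (.leaf (nat_lit 0))) (.leaf (nat_lit 0))) (.leaf (nat_lit 0))) (.leaf (nat_lit 0))) (.leaf (nat_lit 0))) (.leaf (nat_lit 0))) (.leaf (nat_lit 0))) (.leaf (nat_lit 0))) (.leaf (nat_lit 0))) (.leaf (nat_lit 0))) (.leaf (nat_lit 0))) (.leaf (nat_lit 0))) (.leaf (nat_lit 0))) (.node (.node (.node (.node (.node (.node (.node (.node (.node (.node (.node (.leaf (nat_lit 18)) (.leaf (nat_lit 53))) (.leaf (nat_lit 0))) (.leaf (nat_lit 0))) (.leaf (nat_lit 0))) (.leaf (nat_lit 0))) (.leaf (nat_lit 0))) (.leaf (nat_lit 0))) (.leaf (nat_lit 0))) (.leaf (nat_lit 0))) (.leaf (nat_lit 0))) (.leaf (nat_lit 0)))) (.leaf (nat_lit 0))) (.leaf (nat_lit 0))) (.leaf (nat_lit 0))) (.leaf (nat_lit 0))) (.leaf (nat_lit 0))) (.leaf (nat_lit 0))) (.leaf (nat_lit 0))) (.leaf (nat_lit 0))) (.leaf (nat_lit 0))) (.leaf (nat_lit 0))) (.leaf (nat_lit 0))) (.leaf (nat_lit 0))) (.leaf (nat_lit 0))) (.leaf (nat_lit 0))) (.leaf (nat_lit 0))) (.leaf (nat_lit 0))) (.leaf (nat_lit 0))) (.leaf (nat_lit 0))) (.leaf (nat_lit 0))) (.leaf (nat_lit 0))) (.leaf (nat_lit 0)))) (.leaf (nat_lit 0))) (.leaf (nat_lit 0))) (.leaf (nat_lit 0))) (.leaf (nat_lit 0))) (.leaf (nat_lit 0))) (.leaf (nat_lit 0))) (.leaf (nat_lit 0))) (.leaf (nat_lit 0))) (.leaf (nat_lit 0))) (.leaf (nat_lit 0)))) (.leaf (nat_lit 0))) (.leaf (nat_lit 0))) (.leaf (nat_lit 0))) (.leaf (nat_lit 0))) (.leaf (nat_lit 0))) (.leaf (nat_lit 0))) (.leaf (nat_lit 0))) (.leaf (nat_lit 0))) (.leaf (nat_lit 0))) (.leaf (nat_lit 0))) (.leaf (nat_lit 0))) (.leaf (nat_lit 0))) (.leaf (nat_lit 0))) (.leaf (nat_lit 0))) (.leaf (nat_lit 0))) (.leaf (nat_lit 0))) (.leaf (nat_lit 0))) (.leaf (nat_lit 0))) (.leaf (nat_lit 0))) (.leaf (nat_lit 0))) (.node (.node (.node (.node (.node (.node (.node (.node (.node (.node (.node (.node (.node (.node (.node (.node (.node (.node (.node (.node (.node (.node (.node (.node (.node (.node (.node (.node (.node (.node (.node (.node (.node (.node (.node (.node (.node (.node (.node (.node (.node (.node (.node (.leaf (nat_lit 0)) (.node (.node (.node (.node (.node (.node (.node (.node (.node (.node (.node (.node (.node (.node (.node (.node (.node (.node (.node (.node (.node (.node (.node (.node (.node (.node (.node (.node (.node (.node (.node (.node (.node (.leaf (nat_lit 0)) (.node (.node (.node (.node (.node (.node (.node (.node (.node (.node (.node (.node (.node (.node (.node (.node (.node (.node (.node (.node (.node (.node (.leaf (nat_lit 61)) (.leaf (nat_lit 145))) (.leaf (nat_lit 0))) (.leaf (nat_lit 0))) (.leaf (nat_lit 0))) (.leaf (nat_lit 0))) (.leaf (nat_lit 0))) (.leaf (nat_lit 0))) (.leaf (nat_lit 0))) (.leaf (nat_lit 0))) (.leaf (nat_lit 0))) (.leaf (nat_lit 0))) (.leaf (nat_lit 0))) (.leaf (nat_lit 0))) (.leaf (nat_lit 0))) (.leaf (nat_lit 0))) (.leaf (nat_lit 0))) (.leaf (nat_lit 0))) (.leaf (nat_lit 0))) (.leaf (nat_lit 0))) (.leaf (nat_lit 0))) (.leaf (nat_lit 0))) (.leaf (nat_lit 0)))) (.leaf (nat_lit 0))) (.leaf (nat_lit 0))) (.leaf (nat_lit 0))) (.leaf (nat_lit 0))) (.leaf (nat_lit 0))) (.leaf (nat_lit 0))) (.leaf (nat_lit 0))) (.leaf (nat_lit 0))) (.leaf (nat_lit 0))) (.leaf (nat_lit 0))) (.leaf (nat_lit 0))) (.leaf (nat_lit 0))) (.leaf (nat_lit 0))) (.leaf (nat_lit 0))) (.leaf (nat_lit 0))) (.leaf (nat_lit 0))) (.leaf (nat_lit 0))) (.leaf (nat_lit 0))) (.leaf (nat_lit 0))) (.leaf (nat_lit 0))) (.leaf (nat_lit 0))) (.node (.node (.node (.node (.node (.node (.node (.node (.node (.node (.node (.leaf (nat_lit 25)) (.leaf (nat_lit 151))) (.leaf (nat_lit 0))) (.leaf (nat_lit 0))) (.leaf (nat_lit 0))) (.leaf (nat_lit 0))) (.leaf (nat_lit 0))) (.leaf (nat_lit 0))) (.leaf (nat_lit 0))) (.leaf (nat_lit 0))) (.leaf (nat_lit 0))) (.leaf (nat_lit 0)))) (.leaf (nat_lit 0))) (.leaf (nat_lit 0))) (.leaf (nat_lit 0))) (.leaf (nat_lit 0))) (.leaf (nat_lit 0))) (.leaf (nat_lit 0))) (.leaf (nat_lit 0))) (.leaf (nat_lit 0))) (.leaf (nat_lit 0))) (.leaf (nat_lit 0)))) (.leaf (nat_lit 0))) (.leaf (nat_lit 0))) (.leaf (nat_lit 0))) (.leaf (nat_lit 0))) (.leaf (nat_lit 0))) (.leaf (nat_lit 0))) (.leaf (nat_lit 0))) (.leaf (nat_lit 0))) (.leaf (nat_lit 0))) (.leaf (nat_lit 0))) (.leaf (nat_lit 0))) (.leaf (nat_lit 0))) (.leaf (nat_lit 0))) (.leaf (nat_lit 0))) (.leaf (nat_lit 0))) (.leaf (nat_lit 0))) (.leaf (nat_lit 0))) (.leaf (nat_lit 0))) (.leaf (nat_lit 0))) (.leaf (nat_lit 0))) (.leaf (nat_lit 0))) (.leaf (nat_lit 0))) (.leaf (nat_lit 0))) (.leaf (nat_lit 0))) (.leaf (nat_lit 0))) (.leaf (nat_lit 0))) (.leaf (nat_lit 0))) (.leaf (nat_lit 0))) (.leaf (nat_lit 0))) (.leaf (nat_lit 0))) (.leaf (nat_lit 0))) (.leaf (nat_lit 0))) (.leaf (nat_lit 0))) (.leaf (nat_lit 0))) (.leaf (nat_lit 0))) (.leaf (nat_lit 0))) (.leaf (nat_lit 0))) (.leaf (nat_lit 0))) (.leaf (nat_lit 0))) (.leaf (nat_lit 0))) (.leaf (nat_lit 0))) (.leaf (nat_lit 0)))) (.leaf (nat_lit 0))) (.leaf (nat_lit 0))) (.leaf (nat_lit 0))) (.leaf (nat_lit 0))) (.leaf (nat_lit 0))) (.leaf (nat_lit 0))) (.leaf (nat_lit 0))) (.leaf (nat_lit 0))) (.leaf (nat_lit 0))) (.leaf (nat_lit 0))) (.leaf (nat_lit 0))) (.leaf (nat_lit 0))) (.leaf (nat_lit 0))) (.leaf (nat_lit 0))) (.leaf (nat_lit 0))) (.leaf (nat_lit 0))) (.leaf (nat_lit 0))) (.leaf (nat_lit 0))) (.leaf (nat_lit 0))) (.leaf (nat_lit 0))) (.leaf (nat_lit 0))) (.leaf (nat_lit 0)))) (.leaf (nat_lit 0))) (.leaf (nat_lit 0))) (.leaf (nat_lit 0))) (.leaf (nat_lit 0))) (.leaf (nat_lit 0))) (.leaf (nat_lit 0))) (.leaf (nat_lit 0))) (.leaf (nat_lit 0))) (.leaf (nat_lit 0)))) (.node (.node (.node (.node (.node (.node (.node (.node (.node (.node (.node (.node (.node (.node (.node (.node (.node (.node (.node (.node (.node (.node (.node (.node (.node (.node (.node (.node (.node (.node (.node (.node (.node (.node (.node (.node (.node (.node (.node (.node (.node (.node (.node (.node (.node (.node (.node (.node (.node (.node (.node (.node (.node (.node (.node (.node (.node (.node (.node (.node (.node (.node (.node (.node (.node (.node (.node (.node (.node (.node (.node (.node (.node (.node (.node (.node (.node (.node (.node (.node (.node (.node (.node (.node (.node (.node (.node (.node (.node (.node (.node (.node (.node (.node (.node (.node (.node (.node (.node (.node (.node (.node (.node (.node (.node (.node (.node (.node (.node (.node (.node (.node (.node (.node (.node (.node (.node (.node (.node (.node (.node (.node (.node (.node (.node (.node (.node (.node (.node (.node (.node (.node (.node (.node (.node (.node (.node (.node (.node (.node (.node (.node (.node (.leaf (nat_lit 155)) (.leaf (nat_lit 50))) (.leaf (nat_lit 0))) (.leaf (nat_lit 0))) (.leaf (nat_lit 0))) (.leaf (nat_lit 0))) (.leaf (nat_lit 0))) (.leaf (nat_lit 0))) (.leaf (nat_lit 0))) (.leaf (nat_lit 0))) (.leaf (nat_lit 0))) (.leaf (nat_lit 0))) (.leaf (nat_lit 0))) (.leaf (nat_lit 0))) (.leaf (nat_lit 0))) (.leaf (nat_lit 0))) (.leaf (nat_lit 0))) (.leaf (nat_lit 0))) (.leaf (nat_lit 0))) (.leaf (nat_lit 0))) (.leaf (nat_lit 0))) (.leaf (nat_lit 0))) (.leaf (nat_lit 0))) (.leaf (nat_lit 0))) (.leaf (nat_lit 0))) (.leaf (nat_lit 0))) (.leaf (nat_lit 0))) (.leaf (nat_lit 0))) (.leaf (nat_lit 0))) (.leaf (nat_lit 0))) (.leaf (nat_lit 0))) (.leaf (nat_lit 0))) (.leaf (nat_lit 0))) (.leaf (nat_lit 29))) (.leaf (nat_lit 0))) (.leaf (nat_lit 0))) (.leaf (nat_lit 0))) (.leaf (nat_lit 0))) (.leaf (nat_lit 0))) (.leaf (nat_lit 0))) (.leaf (nat_lit 0))) (.leaf (nat_lit 0))) (.leaf (nat_lit 0))) (.leaf (nat_lit 0))) (.leaf (nat_lit 0))) (.leaf (nat_lit 0))) (.leaf (nat_lit 0))) (.leaf (nat_lit 0))) (.leaf (nat_lit 0))) (.leaf (nat_lit 0))) (.leaf (nat_lit 0))) (.leaf (nat_lit 0))) (.leaf (nat_lit 0))) (.leaf (nat_lit 0))) (.leaf (nat_lit 0))) (.leaf (nat_lit 0))) (.leaf (nat_lit 0))) (.leaf (nat_lit 0))) (.leaf (nat_lit 0))) (.leaf (nat_lit 0))) (.leaf (nat_lit 0))) (.leaf (nat_lit 0))) (.leaf (nat_lit 0))) (.leaf (nat_lit 0))) (.leaf (nat_lit 0))) (.leaf (nat_lit 0))) (.leaf (nat_lit 0))) (.leaf (nat_lit 0))) (.leaf (nat_lit 0))) (.leaf (nat_lit 0))) (.leaf (nat_lit 0))) (.leaf (nat_lit 0))) (.leaf (nat_lit 0))) (.leaf (nat_lit 0))) (.leaf (nat_lit 0))) (.leaf (nat_lit 0))) (.leaf (nat_lit 0))) (.leaf (nat_lit 0))) (.leaf (nat_lit 0))) (.leaf (nat_lit 0))) (.leaf (nat_lit 0))) (.leaf (nat_lit 0))) (.leaf (nat_lit 0))) (.leaf (nat_lit 0))) (.leaf (nat_lit 0))) (.leaf (nat_lit 0))) (.leaf (nat_lit 0))) (.leaf (nat_lit 0))) (.leaf (nat_lit 0))) (.leaf (nat_lit 0))) (.leaf (nat_lit 0))) (.leaf (nat_lit 0))) (.leaf (nat_lit 0))) (.leaf (nat_lit 0))) (.leaf (nat_lit 0))) (.leaf (nat_lit 0))) (.leaf (nat_lit 0))) (.leaf (nat_lit 0))) (.leaf (nat_lit 0))) (.leaf (nat_lit 0))) (.node (.node (.node (.node (.node (.node (.node (.node (.node (.node (.node (.leaf (nat_lit 0)) (.node (.node (.node (.node (.node (.node (.node (.node (.node (.node (.node (.node (.node (.node (.node (.node (.node (.node (.node (.node (.node (.node (.leaf (nat_lit 0)) (.node (.node (.node (.node (.node (.node (.node (.node (.node (.node (.node (.node (.node (.node (.node (.node (.node (.node (.node (.node (.node (.node (.leaf (nat_lit 0)) (.node (.node (.node (.node (.node (.node (.node (.node (.node (.node (.node (.node (.leaf (nat_lit 0)) (.node (.node (.node (.node (.node (.node (.node (.node (.node (.node (.leaf (nat_lit 188)) (.leaf (nat_lit 144))) (.leaf (nat_lit 0))) (.leaf (nat_lit 0))) (.leaf (nat_lit 0))) (.leaf (nat_lit 0))) (.leaf (nat_lit 0))) (.leaf (nat_lit 0))) (.leaf (nat_lit 0))) (.leaf (nat_lit 0))) (.leaf (nat_lit 0)))) (.leaf (nat_lit 0))) (.leaf (nat_lit 0))) (.leaf (nat_lit 0))) (.leaf (nat_lit 0))) (.leaf (nat_lit 0))) (.leaf (nat_lit 0))) (.leaf (nat_lit 0))) (.leaf (nat_lit 0))) (.leaf (nat_lit 0))) (.leaf (nat_lit 0))) (.leaf (nat_lit 0)))) (.leaf (nat_lit 0))) (.leaf (nat_lit 0))) (.leaf (nat_lit 0))) (.leaf (nat_lit 0))) (.leaf (nat_lit 0))) (.leaf (nat_lit 0))) (.leaf (nat_lit 0))) (.leaf (nat_lit 0))) (.leaf (nat_lit 0))) (.leaf (nat_lit 0))) (.node (.node (.node (.node (.node (.node (.node (.node (.node (.node (.node (.node (.node (.node (.node (.node (.node (.node (.node (.node (.node (.node (.node (.node (.node (.node (.node (.node (.node (.node (.node (.node (.node (.node (.node (.node (.node (.node (.node (.node (.node (.node (.node (.node (.node (.leaf (nat_lit 0)) (.node (.node (.node (.node (.node (.node (.node (.node (.node (.node (.leaf (nat_lit 118)) (.leaf (nat_lit 99))) (.leaf (nat_lit 0))) (.leaf (nat_lit 0))) (.leaf (nat_lit 0))) (.leaf (nat_lit 0))) (.leaf (nat_lit 0))) (.leaf (nat_lit 0))) (.leaf (nat_lit 0))) (.leaf (nat_lit 0))) (.leaf (nat_lit 0)))) (.leaf (nat_lit 0))) (.leaf (nat_lit 0))) (.leaf (nat_lit 0))) (.leaf (nat_lit 0))) (.leaf (nat_lit 0))) (.leaf (nat_lit 0))) (.leaf (nat_lit 0))) (.leaf (nat_lit 0))) (.leaf (nat_lit 0))) (.leaf (nat_lit 0))) (.leaf (nat_lit 0))) (.leaf (nat_lit 0))) (.leaf (nat_lit 0))) (.leaf (nat_lit 0))) (.leaf (nat_lit 0))) (.leaf (nat_lit 0))) (.leaf (nat_lit 0))) (.leaf (nat_lit 0))) (.leaf (nat_lit 0))) (.leaf (nat_lit 0))) (.leaf (nat_lit 0))) (.leaf (nat_lit 0))) (.leaf (nat_lit 0))) (.leaf (nat_lit 0))) (.leaf (nat_lit 0))) (.leaf (nat_lit 0))) (.leaf (nat_lit 0))) (.leaf (nat_lit 0))) (.leaf (nat_lit 0))) (.leaf (nat_lit 0))) (.leaf (nat_lit 0))) (.leaf (nat_lit 0))) (.leaf (nat_lit 0))) (.leaf (nat_lit 0))) (.leaf (nat_lit 0))) (.leaf (nat_lit 0))) (.leaf (nat_lit 0))) (.leaf (nat_lit 0))) (.leaf (nat_lit 0))) (.leaf (nat_lit 0))) (.leaf (nat_lit 0))) (.leaf (nat_lit 0))) (.leaf (nat_lit 0))) (.leaf (nat_lit 0)))) (.leaf (nat_lit 0))) (.leaf (nat_lit 0))) (.leaf (nat_lit 0))) (.leaf (nat_lit 0))) (.leaf (nat_lit 0))) (.leaf (nat_lit 0))) (.leaf (nat_lit 0))) (.leaf (nat_lit 0))) (.leaf (nat_lit 0))) (.leaf (nat_lit 0)))) (.leaf (nat_lit 0))) (.leaf (nat_lit 0))) (.leaf (nat_lit 0))) (.leaf (nat_lit 0))) (.leaf (nat_lit 0))) (.leaf (nat_lit 0))) (.leaf (nat_lit 0))) (.leaf (nat_lit 0))) (.leaf (nat_lit 0))) (.leaf (nat_lit 0))) (.leaf (nat_lit 0))) (.leaf (nat_lit 0))) (.leaf (nat_lit 0))) (.leaf (nat_lit 0))) (.leaf (nat_lit 0))) (.leaf (nat_lit 0))) (.leaf (nat_lit 0))) (.leaf (nat_lit 0))) (.leaf (nat_lit 0))) (.leaf (nat_lit 0))) (.leaf (nat_lit 0)))) (.leaf (nat_lit 0))) (.leaf (nat_lit 0))) (.leaf (nat_lit 0))) (.leaf (nat_lit 0))) (.leaf (nat_lit 0))) (.leaf (nat_lit 0))) (.leaf (nat_lit 0))) (.leaf (nat_lit 0))) (.leaf (nat_lit 0))) (.leaf (nat_lit 0)))) (.leaf (nat_lit 0))) (.leaf (nat_lit 0))) (.leaf (nat_lit 0))) (.leaf (nat_lit 0))) (.leaf (nat_lit 0))) (.leaf (nat_lit 0))) (.leaf (nat_lit 0))) (.leaf (nat_lit 0))) (.leaf (nat_lit 0))) (.leaf (nat_lit 0))) (.leaf (nat_lit 0))) (.leaf (nat_lit 0))) (.leaf (nat_lit 0))) (.leaf (nat_lit 0))) (.leaf (nat_lit 0))) (.leaf (nat_lit 0))) (.leaf (nat_lit 0))) (.leaf (nat_lit 0))) (.leaf (nat_lit 0))) (.leaf (nat_lit 0))) (.node (.node (.node (.node (.node (.node (.node (.node (.node (.node (.node (.node (.node (.node (.node (.node (.node (.node (.node (.node (.node (.node (.node (.node (.node (.node (.node (.node (.node (.node (.node (.node (.node (.node (.node (.node (.node (.node (.node (.node (.node (.node (.node (.leaf (nat_lit 0)) (.node (.node (.node (.node (.node (.node (.node (.node (.node (.node (.node (.leaf (nat_lit 0)) (.node (.node (.node (.node (.node (.node (.node (.node (.node (.node (.node (.node (.node (.node (.node (.node (.node (.node (.node (.node (.node (.node (.leaf (nat_lit 0)) (.node (.node (.node (.node (.node (.node (.node (.node (.node (.node (.node (.node (.node (.node (.node (.node (.node (.node (.node (.node (.node (.node (.leaf (nat_lit 115)) (.leaf (nat_lit 49))) (.leaf (nat_lit 0))) (.leaf (nat_lit 0))) (.leaf (nat_lit 0))) (.leaf (nat_lit 0))) (.leaf (nat_lit 0))) (.leaf (nat_lit 0))) (.leaf (nat_lit 0))) (.leaf (nat_lit 0))) (.leaf (nat_lit 0))) (.leaf (nat_lit 0))) (.leaf (nat_lit 0))) (.leaf (nat_lit 0))) (.leaf (nat_lit 0))) (.leaf (nat_lit 0))) (.leaf (nat_lit 0))) (.leaf (nat_lit 0))) (.leaf (nat_lit 0))) (.leaf (nat_lit 0))) (.leaf (nat_lit 0))) (.leaf (nat_lit 0))) (.leaf (nat_lit 0)))) (.leaf (nat_lit 0))) (.leaf (nat_lit 0))) (.leaf (nat_lit 0))) (.leaf (nat_lit 0))) (.leaf (nat_lit 0))) (.leaf (nat_lit 0))) (.leaf (nat_lit 0))) (.leaf (nat_lit 0))) (.leaf (nat_lit 0))) (.leaf (nat_lit 0))) (.node (.node (.node (.node (.node (.node (.node (.node (.node (.node (.node (.node (.node (.node (.node (.node (.node (.node (.node (.node (.node (.node (.leaf (nat_lit 32)) (.leaf (nat_lit 75))) (.leaf (nat_lit 0))) (.leaf (nat_lit 0))) (.leaf (nat_lit 0))) (.leaf (nat_lit 0))) (.leaf (nat_lit 0))) (.leaf (nat_lit 0))) (.leaf (nat_lit 0))) (.leaf (nat_lit 0))) (.leaf (nat_lit 0))) (.leaf (nat_lit 0))) (.leaf (nat_lit 0))) (.leaf (nat_lit 0))) (.leaf (nat_lit 0))) (.leaf (nat_lit 0))) (.leaf (nat_lit 0))) (.leaf (nat_lit 0))) (.leaf (nat_lit 0))) (.leaf (nat_lit 0))) (.leaf (nat_lit 0))) (.leaf (nat_lit 0))) (.leaf (nat_lit 0)))) (.leaf (nat_lit 0))) (.leaf (nat_lit 0))) (.leaf (nat_lit 0))) (.leaf (nat_lit 0))) (.leaf (nat_lit 0))) (.leaf (nat_lit 0))) (.leaf (nat_lit 0))) (.leaf (nat_lit 0))) (.leaf (nat_lit 0))) (.leaf (nat_lit 0)))) (.leaf (nat_lit 0))) (.leaf (nat_lit 0))) (.leaf (nat_lit 0))) (.leaf (nat_lit 0))) (.leaf (nat_lit 0))) (.leaf (nat_lit 0))) (.leaf (nat_lit 0))) (.leaf (nat_lit 0))) (.leaf (nat_lit 0))) (.leaf (nat_lit 0)))) (.leaf (nat_lit 0))) (.leaf (nat_lit 0))) (.leaf (nat_lit 0))) (.leaf (nat_lit 0))) (.leaf (nat_lit 0))) (.leaf (nat_lit 0))) (.leaf (nat_lit 0))) (.leaf (nat_lit 0))) (.leaf (nat_lit 0))) (.leaf (nat_lit 0))) (.leaf (nat_lit 0))) (.leaf (nat_lit 0))) (.leaf (nat_lit 0))) (.leaf (nat_lit 0))) (.leaf (nat_lit 0))) (.leaf (nat_lit 0))) (.leaf (nat_lit 0))) (.leaf (nat_lit 0))) (.leaf (nat_lit 0))) (.leaf (nat_lit 0))) (.leaf (nat_lit 0))) (.leaf (nat_lit 0))) (.leaf (nat_lit 0))) (.leaf (nat_lit 0))) (.leaf (nat_lit 0))) (.leaf (nat_lit 0))) (.leaf (nat_lit 0))) (.leaf (nat_lit 0))) (.leaf (nat_lit 0))) (.leaf (nat_lit 0))) (.leaf (nat_lit 0))) (.leaf (nat_lit 0))) (.leaf (nat_lit 0))) (.leaf (nat_lit 0))) (.leaf (nat_lit 0))) (.leaf (nat_lit 0))) (.leaf (nat_lit 0))) (.leaf (nat_lit 0))) (.leaf (nat_lit 0))) (.leaf (nat_lit 0))) (.leaf (nat_lit 0))) (.leaf (nat_lit 0)))) (.node (.node (.node (.node (.node (.node (.node (.node (.node (.node (.node (.node (.node (.node (.node (.node (.node (.node (.node (.node (.node (.node (.node (.node (.node (.node (.node (.node (.node (.node (.node (.node (.node (.node (.node (.node (.node (.node (.node (.node (.node (.node (.node (.node (.leaf (nat_lit 0)) (.node (.node (.node (.node (.node (.node (.node (.node (.node (.node (.node (.node (.leaf (nat_lit 0)) (.node (.node (.node (.node (.node (.node (.node (.node (.node (.node (.node (.node (.node (.node (.node (.node (.node (.node (.node (.node (.node (.leaf (nat_lit 0)) (.node (.node (.node (.node (.node (.node (.node (.node (.node (.node (.node (.node (.node (.node (.node (.node (.node (.node (.node (.node (.node (.node (.leaf (nat_lit 113)) (.leaf (nat_lit 46))) (.leaf (nat_lit 0))) (.leaf (nat_lit 0))) (.leaf (nat_lit 0))) (.leaf (nat_lit 0))) (.leaf (nat_lit 0))) (.leaf (nat_lit 0))) (.leaf (nat_lit 0))) (.leaf (nat_lit 0))) (.leaf (nat_lit 0))) (.leaf (nat_lit 0))) (.leaf (nat_lit 0))) (.leaf (nat_lit 0))) (.leaf (nat_lit 0))) (.leaf (nat_lit 0))) (.leaf (nat_lit 0))) (.leaf (nat_lit 0))) (.leaf (nat_lit 0))) (.leaf (nat_lit 0))) (.leaf (nat_lit 0))) (.leaf (nat_lit 0))) (.leaf (nat_lit 0)))) (.leaf (nat_lit 0))) (.leaf (nat_lit 0))) (.leaf (nat_lit 0))) (.leaf (nat_lit 0))) (.leaf (nat_lit 0))) (.leaf (nat_lit 0))) (.leaf (nat_lit 0))) (.leaf (nat_lit 0))) (.leaf (nat_lit 0))) (.node (.node (.node (.node (.node (.node (.node (.node (.node (.node (.node (.node (.node (.node (.node (.node (.node (.node (.node (.node (.node (.leaf (nat_lit 72)) (.leaf (nat_lit 141))) (.leaf (nat_lit 0))) (.leaf (nat_lit 0))) (.leaf (nat_lit 0))) (.leaf (nat_lit 0))) (.leaf (nat_lit 0))) (.leaf (nat_lit 0))) (.leaf (nat_lit 0))) (.leaf (nat_lit 0))) (.leaf (nat_lit 0))) (.leaf (nat_lit 0))) (.leaf (nat_lit 0))) (.leaf (nat_lit 0))) (.leaf (nat_lit 0))) (.leaf (nat_lit 0))) (.leaf (nat_lit 0))) (.leaf (nat_lit 0))) (.leaf (nat_lit 0))) (.leaf (nat_lit 0))) (.leaf (nat_lit 0))) (.leaf (nat_lit 0)))) (.leaf (nat_lit 0))) (.leaf (nat_lit 0))) (.leaf (nat_lit 0))) (.leaf (nat_lit 0))) (.leaf (nat_lit 0))) (.leaf (nat_lit 0))) (.leaf (nat_lit 0))) (.leaf (nat_lit 0))) (.leaf (nat_lit 0))) (.leaf (nat_lit 0)))) (.leaf (nat_lit 0))) (.leaf (nat_lit 0))) (.leaf (nat_lit 0))) (.leaf (nat_lit 0))) (.leaf (nat_lit 0))) (.leaf (nat_lit 0))) (.leaf (nat_lit 0))) (.leaf (nat_lit 0))) (.leaf (nat_lit 0))) (.leaf (nat_lit 0))) (.leaf (nat_lit 0)))) (.leaf (nat_lit 0))) (.leaf (nat_lit 0))) (.leaf (nat_lit 0))) (.leaf (nat_lit 0))) (.leaf (nat_lit 0))) (.leaf (nat_lit 0))) (.leaf (nat_lit 0))) (.leaf (nat_lit 0))) (.leaf (nat_lit 0))) (.leaf (nat_lit 0))) (.leaf (nat_lit 0))) (.leaf (nat_lit 0))) (.leaf (nat_lit 0))) (.leaf (nat_lit 0))) (.leaf (nat_lit 0))) (.leaf (nat_lit 0))) (.leaf (nat_lit 0))) (.leaf (nat_lit 0))) (.leaf (nat_lit 0))) (.leaf (nat_lit 0))) (.leaf (nat_lit 0))) (.leaf (nat_lit 0))) (.leaf (nat_lit 0))) (.leaf (nat_lit 0))) (.leaf (nat_lit 0))) (.leaf (nat_lit 0))) (.leaf (nat_lit 0))) (.leaf (nat_lit 0))) (.leaf (nat_lit 0))) (.leaf (nat_lit 0))) (.leaf (nat_lit 0))) (.node (.node (.node (.node (.node (.node (.node (.node (.node (.node (.node (.node (.node (.node (.node (.node (.node (.node (.node (.node (.node (.node (.leaf (nat_lit 0)) (.node (.node (.node (.node (.node (.node (.node (.node (.node (.node (.node (.node (.node (.node (.node (.node (.node (.node (.node (.node (.node (.node (.node (.node (.node (.node (.node (.node (.node (.node (.node (.node (.node (.node (.node (.node (.node (.node (.node (.node (.node (.node (.node (.leaf (nat_lit 0)) (.node (.node (.node (.node (.node (.node (.node (.node (.node (.node (.node (.node (.node (.node (.node (.node (.node (.node (.node (.node (.node (.node (.node (.node (.node (.node (.node (.node (.node (.node (.node (.node (.node (.leaf (nat_lit 59)) (.leaf (nat_lit 127))) (.leaf (nat_lit 0))) (.leaf (nat_lit 0))) (.leaf (nat_lit 0))) (.leaf (nat_lit 0))) (.leaf (nat_lit 0))) (.leaf (nat_lit 0))) (.leaf (nat_lit 0))) (.leaf (nat_lit 0))) (.leaf (nat_lit 0))) (.leaf (nat_lit 0))) (.leaf (nat_lit 0))) (.leaf (nat_lit 0))) (.leaf (nat_lit 0))) (.leaf (nat_lit 0))) (.leaf (nat_lit 0))) (.leaf (nat_lit 0))) (.leaf (nat_lit 0))) (.leaf (nat_lit 0))) (.leaf (nat_lit 0))) (.leaf (nat_lit 0))) (.leaf (nat_lit 0))) (.leaf (nat_lit 0))) (.leaf (nat_lit 0))) (.leaf (nat_lit 0))) (.leaf (nat_lit 0))) (.leaf (nat_lit 0))) (.leaf (nat_lit 0))) (.leaf (nat_lit 0))) (.leaf (nat_lit 0))) (.leaf (nat_lit 0))) (.leaf (nat_lit 0))) (.leaf (nat_lit 0)))) (.leaf (nat_lit 0))) (.leaf (nat_lit 0))) (.leaf (nat_lit 0))) (.leaf (nat_lit 0))) (.leaf (nat_lit 0))) (.leaf (nat_lit 0))) (.leaf (nat_lit 0))) (.leaf (nat_lit 0))) (.leaf (nat_lit 0))) (.node (.node (.node (.node (.node (.node (.node (.node (.node (.node (.node (.node (.node (.node (.node (.node (.node (.node (.node (.node (.node (.leaf (nat_lit 78)) (.leaf (nat_lit 124))) (.leaf (nat_lit 0))) (.leaf (nat_lit 0))) (.leaf (nat_lit 0))) (.leaf (nat_lit 0))) (.leaf (nat_lit 0))) (.leaf (nat_lit 0))) (.leaf (nat_lit 0))) (.leaf (nat_lit 0))) (.leaf (nat_lit 0))) (.leaf (nat_lit 0))) (.leaf (nat_lit 0))) (.leaf (nat_lit 0))) (.leaf (nat_lit 0))) (.leaf (nat_lit 0))) (.leaf (nat_lit 0))) (.leaf (nat_lit 0))) (.leaf (nat_lit 0))) (.leaf (nat_lit 0))) (.leaf (nat_lit 0))) (.leaf (nat_lit 0)))) (.leaf (nat_lit 0))) (.leaf (nat_lit 0))) (.leaf (nat_lit 0))) (.leaf (nat_lit 0))) (.leaf (nat_lit 0))) (.leaf (nat_lit 0))) (.leaf (nat_lit 0))) (.leaf (nat_lit 0))) (.leaf (nat_lit 0))) (.leaf (nat_lit 0))) (.leaf (nat_lit 0))) (.leaf (nat_lit 0))) (.leaf (nat_lit 0))) (.leaf (nat_lit 0))) (.leaf (nat_lit 0))) (.leaf (nat_lit 0))) (.leaf (nat_lit 0))) (.leaf (nat_lit 0))) (.leaf (nat_lit 0))) (.leaf (nat_lit 0))) (.leaf (nat_lit 0))) (.leaf (nat_lit 0))) (.leaf (nat_lit 0))) (.leaf (nat_lit 0))) (.leaf (nat_lit 0))) (.leaf (nat_lit 0))) (.leaf (nat_lit 0))) (.leaf (nat_lit 0))) (.leaf (nat_lit 0))) (.leaf (nat_lit 0))) (.leaf (nat_lit 0))) (.leaf (nat_lit 0)))) (.leaf (nat_lit 0))) (.leaf (nat_lit 0))) (.leaf (nat_lit 0))) (.leaf (nat_lit 0))) (.leaf (nat_lit 0))) (.leaf (nat_lit 0))) (.leaf (nat_lit 0))) (.leaf (nat_lit 0))) (.leaf (nat_lit 0))) (.leaf (nat_lit 0))) (.leaf (nat_lit 0))) (.leaf (nat_lit 0))) (.leaf (nat_lit 0))) (.leaf (nat_lit 0))) (.leaf (nat_lit 0))) (.leaf (nat_lit 0))) (.leaf (nat_lit 0))) (.leaf (nat_lit 0))) (.leaf (nat_lit 0))) (.leaf (nat_lit 0))) (.leaf (nat_lit 0)))) (.leaf (nat_lit 0))) (.leaf (nat_lit 0))) (.leaf (nat_lit 0))) (.leaf (nat_lit 0))) (.leaf (nat_lit 0))) (.leaf (nat_lit 0))) (.leaf (nat_lit 0))) (.leaf (nat_lit 0))) (.leaf (nat_lit 0))) (.leaf (nat_lit 0))) (.leaf (nat_lit 0)))) (.leaf (nat_lit 0))) (.leaf (nat_lit 0))) (.leaf (nat_lit 0))) (.leaf (nat_lit 0))) (.leaf (nat_lit 0))) (.leaf (nat_lit 0))) (.leaf (nat_lit 0))) (.leaf (nat_lit 0))) (.leaf (nat_lit 0))) (.node (.node (.node (.node (.node (.node (.node (.node (.node (.node (.node (.node (.node (.node (.node (.node (.node (.node (.node (.node (.node (.node (.node (.node (.node (.node (.node (.node (.node (.node (.node (.node (.node (.node (.node (.node (.node (.node (.node (.node (.node (.node (.node (.node (.leaf (nat_lit 0)) (.node (.node (.node (.node (.node (.node (.node (.node (.node (.node (.node (.leaf (nat_lit 0)) (.node (.node (.node (.node (.node (.node (.node (.node (.node (.node (.node (.node (.node (.node (.node (.node (.node (.node (.node (.node (.node (.node (.node (.node (.node (.node (.node (.node (.node (.node (.node (.node (.node (.node (.node (.node (.node (.node (.node (.node (.node (.node (.node (.node (.leaf (nat_lit 0)) (.node (.node (.node (.node (.node (.node (.node (.node (.node (.node (.leaf (nat_lit 112)) (.leaf (nat_lit 45))) (.leaf (nat_lit 0))) (.leaf (nat_lit 0))) (.leaf (nat_lit 0))) (.leaf (nat_lit 0))) (.leaf (nat_lit 0))) (.leaf (nat_lit 0))) (.leaf (nat_lit 0))) (.leaf (nat_lit 0))) (.leaf (nat_lit 0)))) (.leaf (nat_lit 0))) (.leaf (nat_lit 0))) (.leaf (nat_lit 0))) (.leaf (nat_lit 0))) (.leaf (nat_lit 0))) (.leaf (nat_lit 0))) (.leaf (nat_lit 0))) (.leaf (nat_lit 0))) (.leaf (nat_lit 0))) (.leaf (nat_lit 0))) (.leaf (nat_lit 0))) (.leaf (nat_lit 0))) (.leaf (nat_lit 0))) (.leaf (nat_lit 0))) (.leaf (nat_lit 0))) (.leaf (nat_lit 0))) (.leaf (nat_lit 0))) (.leaf (nat_lit 0))) (.leaf (nat_lit 0))) (.leaf (nat_lit 0))) (.leaf (nat_lit 0))) (.node (.node (.node (.node (.node (.node (.node (.node (.node (.node (.leaf (nat_lit 47)) (.leaf (nat_lit 114))) (.leaf (nat_lit 0))) (.leaf (nat_lit 0))) (.leaf (nat_lit 0))) (.leaf (nat_lit 0))) (.leaf (nat_lit 0))) (.leaf (nat_lit 0))) (.leaf (nat_lit 0))) (.leaf (nat_lit 0))) (.leaf (nat_lit 0)))) (.leaf (nat_lit 0))) (.leaf (nat_lit 0))) (.leaf (nat_lit 0))) (.leaf (nat_lit 0))) (.leaf (nat_lit 0))) (.leaf (nat_lit 0))) (.leaf (nat_lit 0))) (.leaf (nat_lit 0))) (.leaf (nat_lit 0))) (.leaf (nat_lit 0))) (.leaf (nat_lit 0))) (.leaf (nat_lit 0))) (.leaf (nat_lit 0))) (.leaf (nat_lit 0))) (.leaf (nat_lit 0))) (.leaf (nat_lit 0))) (.leaf (nat_lit 0))) (.leaf (nat_lit 0))) (.leaf (nat_lit 0))) (.leaf (nat_lit 0))) (.leaf (nat_lit 0)))) (.leaf (nat_lit 0))) (.leaf (nat_lit 0))) (.leaf (nat_lit 0))) (.leaf (nat_lit 0))) (.leaf (nat_lit 0))) (.leaf (nat_lit 0))) (.leaf (nat_lit 0))) (.leaf (nat_lit 0))) (.leaf (nat_lit 0))) (.leaf (nat_lit 0)))) (.leaf (nat_lit 0))) (.leaf (nat_lit 0))) (.leaf (nat_lit 0))) (.leaf (nat_lit 0))) (.leaf (nat_lit 0))) (.leaf (nat_lit 0))) (.leaf (nat_lit 0))) (.leaf (nat_lit 0))) (.leaf (nat_lit 0))) (.leaf (nat_lit 0))) (.leaf (nat_lit 0))) (.leaf (nat_lit 0))) (.leaf (nat_lit 0))) (.leaf (nat_lit 0))) (.leaf (nat_lit 0))) (.leaf (nat_lit 0))) (.leaf (nat_lit 0))) (.leaf (nat_lit 0))) (.leaf (nat_lit 0))) (.leaf (nat_lit 0))) (.leaf (nat_lit 0))) (.leaf (nat_lit 0))) (.node (.node (.node (.node (.node (.node (.node (.node (.node (.node (.node (.node (.node (.node (.node (.node (.node (.node (.node (.node (.node (.node (.node (.node (.node (.node (.node (.node (.node (.node (.node (.node (.node (.node (.node (.node (.node (.node (.node (.node (.node (.node (.node (.node (.node (.leaf (nat_lit 0)) (.node (.node (.node (.node (.node (.node (.node (.node (.node (.node (.node (.node (.node (.node (.node (.node (.node (.node (.node (.node (.node (.node (.node (.node (.node (.node (.node (.node (.node (.node (.node (.node (.node (.leaf (nat_lit 0)) (.node (.node (.node (.node (.node (.node (.node (.node (.node (.node (.node (.node (.node (.node (.node (.node (.node (.node (.node (.node (.node (.leaf (nat_lit 128)) (.leaf (nat_lit 58))) (.leaf (nat_lit 0))) (.leaf (nat_lit 0))) (.leaf (nat_lit 0))) (.leaf (nat_lit 0))) (.leaf (nat_lit 0))) (.leaf (nat_lit 0))) (.leaf (nat_lit 0))) (.leaf (nat_lit 0))) (.leaf (nat_lit 0))) (.leaf (nat_lit 0))) (.leaf (nat_lit 0))) (.leaf (nat_lit 0))) (.leaf (nat_lit 0))) (.leaf (nat_lit 0))) (.leaf (nat_lit 0))) (.leaf (nat_lit 0))) (.leaf (nat_lit 0))) (.leaf (nat_lit 0))) (.leaf (nat_lit 0))) (.leaf (nat_lit 0)))) (.leaf (nat_lit 0))) (.leaf (nat_lit 0))) (.leaf (nat_lit 0))) (.leaf (nat_lit 0))) (.leaf (nat_lit 0))) (.leaf (nat_lit 0))) (.leaf (nat_lit 0))) (.leaf (nat_lit 0))) (.leaf (nat_lit 0))) (.leaf (nat_lit 0))) (.leaf (nat_lit 0))) (.leaf (nat_lit 0))) (.leaf (nat_lit 0))) (.leaf (nat_lit 0))) (.leaf (nat_lit 0))) (.leaf (nat_lit 0))) (.leaf (nat_lit 0))) (.leaf (nat_lit 0))) (.leaf (nat_lit 0))) (.leaf (nat_lit 0))) (.leaf (nat_lit 0))) (.node (.node (.node (.node (.node (.node (.node (.node (.node (.node (.leaf (nat_lit 159)) (.leaf (nat_lit 123))) (.leaf (nat_lit 0))) (.leaf (nat_lit 0))) (.leaf (nat_lit 0))) (.leaf (nat_lit 0))) (.leaf (nat_lit 0))) (.leaf (nat_lit 0))) (.leaf (nat_lit 0))) (.leaf (nat_lit 0))) (.leaf (nat_lit 0)))) (.leaf (nat_lit 0))) (.leaf (nat_lit 0))) (.leaf (nat_lit 0))) (.leaf (nat_lit 0))) (.leaf (nat_lit 0))) (.leaf (nat_lit 0))) (.leaf (nat_lit 0))) (.leaf (nat_lit 0))) (.leaf (nat_lit 0))) (.leaf (nat_lit 0)))) (.leaf (nat_lit 0))) (.leaf (nat_lit 0))) (.leaf (nat_lit 0))) (.leaf (nat_lit 0))) (.leaf (nat_lit 0))) (.leaf (nat_lit 0))) (.leaf (nat_lit 0))) (.leaf (nat_lit 0))) (.leaf (nat_lit 0))) (.leaf (nat_lit 0))) (.leaf (nat_lit 0))) (.leaf (nat_lit 0))) (.leaf (nat_lit 0))) (.leaf (nat_lit 0))) (.leaf (nat_lit 0))) (.leaf (nat_lit 0))) (.leaf (nat_lit 0))) (.leaf (nat_lit 0))) (.leaf (nat_lit 0))) (.leaf (nat_lit 0))) (.leaf (nat_lit 0))) (.leaf (nat_lit 0))) (.leaf (nat_lit 0))) (.leaf (nat_lit 0))) (.leaf (nat_lit 0))) (.leaf (nat_lit 0))) (.leaf (nat_lit 0))) (.leaf (nat_lit 0))) (.leaf (nat_lit 0))) (.leaf (nat_lit 0))) (.leaf (nat_lit 0))) (.leaf (nat_lit 0))) (.leaf (nat_lit 0))) (.leaf (nat_lit 0))) (.leaf (nat_lit 0))) (.leaf (nat_lit 0))) (.leaf (nat_lit 0))) (.leaf (nat_lit 0))) (.leaf (nat_lit 0))) (.leaf (nat_lit 0))) (.leaf (nat_lit 0))) (.leaf (nat_lit 0))) (.leaf (nat_lit 0))) (.leaf (nat_lit 0)))) (.leaf (nat_lit 0))) (.leaf (nat_lit 0))) (.leaf (nat_lit 0))) (.leaf (nat_lit 0))) (.leaf (nat_lit 0))) (.leaf (nat_lit 0))) (.leaf (nat_lit 0))) (.leaf (nat_lit 0))) (.leaf (nat_lit 0))) (.leaf (nat_lit 0))) (.leaf (nat_lit 0))) (.leaf (nat_lit 0))) (.leaf (nat_lit 0))) (.leaf (nat_lit 0))) (.leaf (nat_lit 0))) (.leaf (nat_lit 0))) (.leaf (nat_lit 0))) (.leaf (nat_lit 0))) (.leaf (nat_lit 0))) (.leaf (nat_lit 0)))) (.node (.node (.node (.node (.node (.node (.node (.node (.node (.node (.node (.node (.node (.node (.node (.node (.node (.node (.node (.node (.node (.node (.node (.node (.node (.node (.node (.node (.node (.node (.node (.node (.node (.node (.node (.node (.node (.node (.node (.node (.node (.node (.node (.node (.leaf (nat_lit 0)) (.node (.node (.node (.node (.node (.node (.node (.node (.node (.node (.node (.node (.leaf (nat_lit 0)) (.node (.node (.node (.node (.node (.node (.node (.node (.node (.node (.node (.node (.node (.node (.node (.node (.node (.node (.node (.node (.node (.node (.node (.node (.node (.node (.node (.node (.node (.node (.node (.node (.node (.node (.node (.node (.node (.node (.node (.node (.node (.node (.node (.node (.leaf (nat_lit 0)) (.node (.node (.node (.node (.node (.node (.node (.node (.node (.node (.leaf (nat_lit 142)) (.leaf (nat_lit 74))) (.leaf (nat_lit 0))) (.leaf (nat_lit 0))) (.leaf (nat_lit 0))) (.leaf (nat_lit 0))) (.leaf (nat_lit 0))) (.leaf (nat_lit 0))) (.leaf (nat_lit 0))) (.leaf (nat_lit 0))) (.leaf (nat_lit 0)))) (.leaf (nat_lit 0))) (.leaf (nat_lit 0))) (.leaf (nat_lit 0))) (.leaf (nat_lit 0))) (.leaf (nat_lit 0))) (.leaf (nat_lit 0))) (.leaf (nat_lit 0))) (.leaf (nat_lit 0))) (.leaf (nat_lit 0))) (.leaf (nat_lit 0))) (.leaf (nat_lit 0))) (.leaf (nat_lit 0))) (.leaf (nat_lit 0))) (.leaf (nat_lit 0))) (.leaf (nat_lit 0))) (.leaf (nat_lit 0))) (.leaf (nat_lit 0))) (.leaf (nat_lit 0))) (.leaf (nat_lit 0))) (.leaf (nat_lit 0))) (.leaf (nat_lit 0))) (.leaf (nat_lit 0))) (.node (.node (.node (.node (.node (.node (.node (.node (.node (.node (.node (.leaf (nat_lit 19)) (.leaf (nat_lit 54))) (.leaf (nat_lit 0))) (.leaf (nat_lit 0))) (.leaf (nat_lit 0))) (.leaf (nat_lit 0))) (.leaf (nat_lit 0))) (.leaf (nat_lit 0))) (.leaf (nat_lit 0))) (.leaf (nat_lit 0))) (.leaf (nat_lit 0))) (.leaf (nat_lit 0)))) (.leaf (nat_lit 0))) (.leaf (nat_lit 0))) (.leaf (nat_lit 0))) (.leaf (nat_lit 0))) (.leaf (nat_lit 0))) (.leaf (nat_lit 0))) (.leaf (nat_lit 0))) (.leaf (nat_lit 0))) (.leaf (nat_lit 0))) (.leaf (nat_lit 0))) (.leaf (nat_lit 0))) (.leaf (nat_lit 0))) (.leaf (nat_lit 0))) (.leaf (nat_lit 0))) (.leaf (nat_lit 0))) (.leaf (nat_lit 0))) (.leaf (nat_lit 0))) (.leaf (nat_lit 0))) (.leaf (nat_lit 0))) (.leaf (nat_lit 0)))) (.leaf (nat_lit 0))) (.leaf (nat_lit 0))) (.leaf (nat_lit 0))) (.leaf (nat_lit 0))) (.leaf (nat_lit 0))) (.leaf (nat_lit 0))) (.leaf (nat_lit 0))) (.leaf (nat_lit 0))) (.leaf (nat_lit 0))) (.leaf (nat_lit 0))) (.leaf (nat_lit 0)))) (.leaf (nat_lit 0))) (.leaf (nat_lit 0))) (.leaf (nat_lit 0))) (.leaf (nat_lit 0))) (.leaf (nat_lit 0))) (.leaf (nat_lit 0))) (.leaf (nat_lit 0))) (.leaf (nat_lit 0))) (.leaf (nat_lit 0))) (.leaf (nat_lit 0))) (.leaf (nat_lit 0))) (.leaf (nat_lit 0))) (.leaf (nat_lit 0))) (.leaf (nat_lit 0))) (.leaf (nat_lit 0))) (.leaf (nat_lit 0))) (.leaf (nat_lit 0))) (.leaf (nat_lit 0))) (.leaf (nat_lit 0))) (.leaf (nat_lit 0))) (.leaf (nat_lit 0))) (.leaf (nat_lit 0))) (.leaf (nat_lit 0))) (.leaf (nat_lit 0))) (.leaf (nat_lit 0))) (.leaf (nat_lit 0))) (.leaf (nat_lit 0))) (.leaf (nat_lit 0))) (.leaf (nat_lit 0))) (.leaf (nat_lit 0))) (.leaf (nat_lit 0))) (.node (.node (.node (.node (.node (.node (.node (.node (.node (.node (.node (.node (.node (.node (.node (.node (.node (.node (.node (.node (.node (.node (.leaf (nat_lit 0)) (.node (.node (.node (.node (.node (.node (.node (.node (.node (.node (.node (.node (.node (.node (.node (.node (.node (.node (.node (.node (.node (.node (.node (.node (.node (.node (.node (.node (.node (.node (.node (.node (.node (.node (.node (.node (.node (.node (.node (.node (.node (.node (.node (.node (.node (.node (.node (.node (.node (.node (.node (.node (.node (.node (.node (.node (.node (.node (.node (.node (.node (.node (.node (.node (.node (.node (.node (.node (.node (.node (.node (.node (.node (.node (.node (.node (.leaf (nat_lit 56)) (.leaf (nat_lit 60))) (.leaf (nat_lit 0))) (.leaf (nat_lit 0))) (.leaf (nat_lit 0))) (.leaf (nat_lit 0))) (.leaf (nat_lit 0))) (.leaf (nat_lit 0))) (.leaf (nat_lit 0))) (.leaf (nat_lit 0))) (.leaf (nat_lit 0))) (.leaf (nat_lit 0))) (.leaf (nat_lit 0))) (.leaf (nat_lit 0))) (.leaf (nat_lit 0))) (.leaf (nat_lit 0))) (.leaf (nat_lit 0))) (.leaf (nat_lit 0))) (.leaf (nat_lit 0))) (.leaf (nat_lit 0))) (.leaf (nat_lit 0))) (.leaf (nat_lit 0))) (.leaf (nat_lit 0))) (.leaf (nat_lit 0))) (.leaf (nat_lit 0))) (.leaf (nat_lit 0))) (.leaf (nat_lit 0))) (.leaf (nat_lit 0))) (.leaf (nat_lit 0))) (.leaf (nat_lit 0))) (.leaf (nat_lit 0))) (.leaf (nat_lit 0))) (.leaf (nat_lit 0))) (.leaf (nat_lit 0))) (.node (.node (.node (.node (.node (.node (.node (.node (.node (.node (.node (.leaf (nat_lit 77)) (.leaf (nat_lit 147))) (.leaf (nat_lit 0))) (.leaf (nat_lit 0))) (.leaf (nat_lit 0))) (.leaf (nat_lit 0))) (.leaf (nat_lit 0))) (.leaf (nat_lit 0))) (.leaf (nat_lit 0))) (.leaf (nat_lit 0))) (.leaf (nat_lit 0))) (.leaf (nat_lit 0)))) (.leaf (nat_lit 0))) (.leaf (nat_lit 0))) (.leaf (nat_lit 0))) (.leaf (nat_lit 0))) (.leaf (nat_lit 0))) (.leaf (nat_lit 0))) (.leaf (nat_lit 0))) (.leaf (nat_lit 0))) (.leaf (nat_lit 0))) (.leaf (nat_lit 0))) (.leaf (nat_lit 0))) (.leaf (nat_lit 0))) (.leaf (nat_lit 0))) (.leaf (nat_lit 0))) (.leaf (nat_lit 0))) (.leaf (nat_lit 0))) (.leaf (nat_lit 0))) (.leaf (nat_lit 0))) (.leaf (nat_lit 0))) (.leaf (nat_lit 0))) (.leaf (nat_lit 0))) (.leaf (nat_lit 0))) (.leaf (nat_lit 0))) (.leaf (nat_lit 0))) (.leaf (nat_lit 0))) (.leaf (nat_lit 0))) (.leaf (nat_lit 0))) (.leaf (nat_lit 0))) (.leaf (nat_lit 0))) (.leaf (nat_lit 0))) (.leaf (nat_lit 0))) (.leaf (nat_lit 0))) (.leaf (nat_lit 0))) (.leaf (nat_lit 0))) (.leaf (nat_lit 0))) (.leaf (nat_lit 0))) (.leaf (nat_lit 0))) (.leaf (nat_lit 0))) (.leaf (nat_lit 0))) (.leaf (nat_lit 0))) (.leaf (nat_lit 0))) (.leaf (nat_lit 0)))) (.leaf (nat_lit 0))) (.leaf (nat_lit 0))) (.leaf (nat_lit 0))) (.leaf (nat_lit 0))) (.leaf (nat_lit 0))) (.leaf (nat_lit 0))) (.leaf (nat_lit 0))) (.leaf (nat_lit 0))) (.leaf (nat_lit 0))) (.leaf (nat_lit 0))) (.leaf (nat_lit 0))) (.leaf (nat_lit 0))) (.leaf (nat_lit 0))) (.leaf (nat_lit 0))) (.leaf (nat_lit 0))) (.leaf (nat_lit 0))) (.leaf (nat_lit 0))) (.leaf (nat_lit 0))) (.leaf (nat_lit 0))) (.leaf (nat_lit 0))) (.leaf (nat_lit 0)))) (.leaf (nat_lit 0))) (.leaf (nat_lit 0))) (.leaf (nat_lit 0))) (.leaf (nat_lit 0))) (.leaf (nat_lit 0))) (.leaf (nat_lit 0))) (.leaf (nat_lit 0))) (.leaf (nat_lit 0))) (.leaf (nat_lit 0))) (.leaf (nat_lit 0))) (.leaf (nat_lit 0)))) (.leaf (nat_lit 0))) (.leaf (nat_lit 0))) (.leaf (nat_lit 0))) (.leaf (nat_lit 0))) (.leaf (nat_lit 0))) (.leaf (nat_lit 0))) (.leaf (nat_lit 0))) (.leaf (nat_lit 0))) (.leaf (nat_lit 0))) (.leaf (nat_lit 0))))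

noncomputable def lvB : List (ℕ × NT) := [(nat_lit 192, tB)]

theorem gen7 : MM.gen 7 s7 = P8 := ltab.gen_eq (by norm_num) (by decide +kernel)

theorem s7_mem (a : ℕ) (ha : a < 7) : MM.Mem P8 (s7.get a) :=
  ltab.mem_gens lval0 (by norm_num) (Ws := [[2], [4], [6], [8], [10], [12], [14]]) (by decide)
    (by decide +kernel) a ha

theorem s7i_mem (a : ℕ) (ha : a < 7) : MM.Mem P8 (s7i.get a) :=
  ltab.mem_gens lval0 (by norm_num) (Ws := [[3], [5], [7], [9], [11], [13], [15]]) (by decide)
    (by decide +kernel) a ha

theorem s4_mem (a : ℕ) (ha : a < 4) : MM.Mem P8 (s4.get a) :=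
  ltab.mem_gens lval0 (by norm_num) (Ws := [wA, wW, wX, wU]) (by decide) (by decide +kernel) a ha

theorem treeB : allLt 192 (MM.treeF 4 s4 tB pB) = true := by decide +kernel

theorem treeT : allLt 210 (MM.treeF 7 s7 tT pT) = true := by decide +kernel

/-- the centralizer of the four-group -/
noncomputable abbrev Q8 : Subgroup K8 := MM.gen 4 s4

theorem Q8_le : Q8 ≤ P8 := Model.gen_le s4_mem

theorem chainB : MM.Chain Q8 lvB :=
  Model.chain_cons (by norm_num) (Model.valid_of_mem s4_mem) MM.chain_bot bot_le (by norm_num)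
    treeB (H := hB) (by decide +kernel)

theorem chainT : MM.Chain P8 ((210, tT) :: lvB) :=
  gen7 ▸ Model.chain_cons (by norm_num) (Model.valid_of_mem s7_mem) chainB (gen7 ▸ Q8_le)
    (by norm_num) treeT (H := hT) (by decide +kernel)

theorem tT_mem : ∀ j, j < 210 → MM.Mem P8 (tT.get j) :=
  Model.mem_of_treeF (by norm_num) s7_mem treeT

theorem tB_mem : ∀ j, j < 192 → MM.Mem Q8 (tB.get j) :=
  Model.mem_of_treeF (by norm_num) (fun _ ha => (Model.valid_of_mem s4_mem).mem_gen ha) treeB

theorem elt_lvB {b : ℕ} (hb : b < 192) : MM.elt lvB b = tB.get b := by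
  obtain ⟨x, -, hx⟩ := tB_mem b hb
  change MM.mul (tB.get (b % 192)) MM.one = _
  rw [Nat.mod_eq_of_lt hb, ← hx, ← MM.enc_one, ← MM.enc_mul, mul_one]

theorem enc_U : MM.enc (wval lval wU) = tD.get 0 :=
  (ltab.enc_wval (by decide)).trans (by decide +kernel)

theorem tD_eq : ∀ j, j < 210 → ∃ x, MM.enc x = tT.get j ∧
    MM.enc (x * wval lval wU * x⁻¹) = tD.get j :=
  Model.enc_conj_of_conjF (by norm_num) (Model.inv_of_check (Model.valid_of_mem s7_mem) s7i_mem
    (by decide +kernel)) treeT (by rw [enc_U]; decide +kernel)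

theorem iD_ok : allLt 210 (fun j => Nat.beq (iD.get (tD.get j)) j) = true := by decide +kernel

theorem Q8_cent : Q8 ≤ centralizer {wval lval wU} :=
  Model.gen_le_centralizer _ MM.cmMul_iff (by rw [enc_U]; decide +kernel)

theorem card_P8 : Nat.card P8 = 40320 := by
  rw [Model.card_eq_of_conj (by norm_num) chainT chainB Q8_le tT_mem Q8_cent tD_eq iD_ok,
    chainB.card_eq (n := 192) (by decide +kernel) (I := iB) (by decide +kernel)]

theorem exists_TB {x : K8} (hx : x ∈ P8) :
    ∃ j, j < 210 ∧ ∃ b, b < 192 ∧ MM.enc x = MM.mul (tT.get j) (tB.get b) := by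
  obtain ⟨h, hh, e⟩ := chainT.2 x hx
  have h1 : h / 210 < 192 := by
    change h < 210 * (192 * 1) at hh
    omega
  exact ⟨_, Nat.mod_lt h (by norm_num), _, h1, by rw [e, Model.elt_cons, elt_lvB h1]⟩

theorem exists_B {x : K8} (hx : x ∈ P8) (h : x * wval lval wU = wval lval wU * x) :
    ∃ b, b < 192 ∧ MM.enc x = tB.get b := by
  obtain ⟨j, hj, b, hb, e⟩ := exists_TB hx
  obtain ⟨x1, e1, e2⟩ := tD_eq j hj
  obtain ⟨x2, h2, e3⟩ := tB_mem b hb
  rw [← e1, ← e3, ← MM.enc_mul] at e
  have h3 : wval lval wU * x2 = x2 * wval lval wU := mem_centralizer_iff.1 (Q8_cent h2) _ rfl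
  have h4 : x1 * wval lval wU * x1⁻¹ = wval lval wU := by
    rw [MM.enc_inj e, mul_assoc, ← h3, ← mul_assoc, ← mul_assoc, mul_left_inj] at h
    rw [h, mul_inv_cancel_right]
  rw [h4, enc_U] at e2
  have h5 : j = 0 := by
    rw [← Nat.eq_of_beq_eq_true (allLt_iff.1 iD_ok j hj), ← e2]
    exact Nat.eq_of_beq_eq_true (allLt_iff.1 iD_ok 0 (by norm_num))
  rw [h5, Model.get_zero_of_treeF (by norm_num) treeT, ← MM.enc_one] at e1
  exact ⟨b, hb, by rw [e, MM.enc_inj e1, one_mul, e3]⟩

noncomputable def dR : NT := (.node (.node (.node (.node (.leaf (nat_lit 0)) (.leaf (nat_lit 44))) (.leaf (nat_lit 9))) (.node (.leaf (nat_lit 5)) (.leaf (nat_lit 36)))) (.node (.node (.leaf (nat_lit 1)) (.leaf (nat_lit 10))) (.node (.leaf (nat_lit 8)) (.leaf (nat_lit 42)))))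

noncomputable def dO : NT := (.node (.node (.node (.node (.node (.node (.node (.node (.leaf (nat_lit 0)) (.leaf (nat_lit 2))) (.node (.leaf (nat_lit 5)) (.leaf (nat_lit 4)))) (.node (.node (.leaf (nat_lit 3)) (.leaf (nat_lit 5))) (.leaf (nat_lit 2)))) (.node (.node (.node (.leaf (nat_lit 4)) (.leaf (nat_lit 2))) (.node (.leaf (nat_lit 4)) (.leaf (nat_lit 3)))) (.node (.node (.leaf (nat_lit 1)) (.leaf (nat_lit 4))) (.leaf (nat_lit 1))))) (.node (.node (.node (.node (.leaf (nat_lit 0)) (.leaf (nat_lit 4))) (.node (.leaf (nat_lit 4)) (.leaf (nat_lit 3)))) (.node (.node (.leaf (nat_lit 1)) (.leaf (nat_lit 2))) (.leaf (nat_lit 4)))) (.node (.node (.node (.leaf (nat_lit 4)) (.leaf (nat_lit 4))) (.leaf (nat_lit 3))) (.node (.node (.leaf (nat_lit 4)) (.leaf (nat_lit 3))) (.leaf (nat_lit 4)))))) (.node (.node (.node (.node (.node (.leaf (nat_lit 3)) (.leaf (nat_lit 2))) (.node (.leaf (nat_lit 3)) (.leaf (nat_lit 4)))) (.node (.node (.leaf (nat_lit 0)) (.leaf (nat_lit 4))) (.leaf (nat_lit 5)))) (.node (.node (.node (.leaf (nat_lit 4)) (.leaf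 (nat_lit 1))) (.leaf (nat_lit 5))) (.node (.node (.leaf (nat_lit 2)) (.leaf (nat_lit 2))) (.leaf (nat_lit 4))))) (.node (.node (.node (.node (.leaf (nat_lit 3)) (.leaf (nat_lit 4))) (.node (.leaf (nat_lit 2)) (.leaf (nat_lit 2)))) (.node (.node (.leaf (nat_lit 0)) (.leaf (nat_lit 3))) (.leaf (nat_lit 3)))) (.node (.node (.node (.leaf (nat_lit 2)) (.leaf (nat_lit 4))) (.leaf (nat_lit 5))) (.node (.node (.leaf (nat_lit 2)) (.leaf (nat_lit 3))) (.leaf (nat_lit 4))))))) (.node (.node (.node (.node (.node (.node (.leaf (nat_lit 3)) (.leaf (nat_lit 1))) (.node (.leaf (nat_lit 3)) (.leaf (nat_lit 4)))) (.node (.node (.leaf (nat_lit 3)) (.leaf (nat_lit 3))) (.leaf (nat_lit 2)))) (.node (.node (.node (.leaf (nat_lit 2)) (.leaf (nat_lit 5))) (.leaf (nat_lit 3))) (.node (.node (.leaf (nat_lit 1)) (.leaf (nat_lit 4))) (.leaf (nat_lit 3))))) (.node (.node (.node (.node (.leaf (nat_lit 0)) (.leaf (nat_lit 4))) (.node (.leaf (nat_lit 3)) (.leaf (nat_lit 1)))) (.node (.node (.leaf (nat_lit 0)) (.leaf (nat_lit 3))) (.leaf (nat_lit 2)))) (.node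 (.node (.node (.leaf (nat_lit 4)) (.leaf (nat_lit 4))) (.leaf (nat_lit 3))) (.node (.node (.leaf (nat_lit 2)) (.leaf (nat_lit 3))) (.leaf (nat_lit 4)))))) (.node (.node (.node (.node (.node (.leaf (nat_lit 2)) (.leaf (nat_lit 2))) (.node (.leaf (nat_lit 3)) (.leaf (nat_lit 3)))) (.node (.node (.leaf (nat_lit 4)) (.leaf (nat_lit 3))) (.leaf (nat_lit 2)))) (.node (.node (.node (.leaf (nat_lit 4)) (.leaf (nat_lit 3))) (.leaf (nat_lit 2))) (.node (.node (.leaf (nat_lit 3)) (.leaf (nat_lit 3))) (.leaf (nat_lit 2))))) (.node (.node (.node (.node (.leaf (nat_lit 2)) (.leaf (nat_lit 4))) (.node (.leaf (nat_lit 2)) (.leaf (nat_lit 1)))) (.node (.node (.leaf (nat_lit 2)) (.leaf (nat_lit 2))) (.leaf (nat_lit 5)))) (.node (.node (.node (.leaf (nat_lit 2)) (.leaf (nat_lit 2))) (.leaf (nat_lit 2))) (.node (.node (.leaf (nat_lit 2)) (.leaf (nat_lit 4))) (.leaf (nat_lit 4)))))))) (.node (.node (.node (.node (.node (.node (.node (.leaf (nat_lit 0)) (.leaf (nat_lit 3))) (.node (.leaf (nat_lit 3)) (.leaf (nat_lit 2)))) (.node (.node (.leaf (nat_lit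 2)) (.leaf (nat_lit 3))) (.leaf (nat_lit 3)))) (.node (.node (.node (.leaf (nat_lit 4)) (.leaf (nat_lit 4))) (.node (.leaf (nat_lit 3)) (.leaf (nat_lit 3)))) (.node (.node (.leaf (nat_lit 5)) (.leaf (nat_lit 1))) (.leaf (nat_lit 3))))) (.node (.node (.node (.node (.leaf (nat_lit 0)) (.leaf (nat_lit 1))) (.node (.leaf (nat_lit 5)) (.leaf (nat_lit 1)))) (.node (.node (.leaf (nat_lit 1)) (.leaf (nat_lit 3))) (.leaf (nat_lit 1)))) (.node (.node (.node (.leaf (nat_lit 3)) (.leaf (nat_lit 5))) (.leaf (nat_lit 1))) (.node (.node (.leaf (nat_lit 2)) (.leaf (nat_lit 3))) (.leaf (nat_lit 1)))))) (.node (.node (.node (.node (.node (.leaf (nat_lit 0)) (.leaf (nat_lit 3))) (.node (.leaf (nat_lit 3)) (.leaf (nat_lit 2)))) (.node (.node (.leaf (nat_lit 4)) (.leaf (nat_lit 4))) (.leaf (nat_lit 2)))) (.node (.node (.node (.leaf (nat_lit 1)) (.leaf (nat_lit 3))) (.leaf (nat_lit 3))) (.node (.node (.leaf (nat_lit 3)) (.leaf (nat_lit 4))) (.leaf (nat_lit 4))))) (.node (.node (.node (.node (.leaf (nat_lit 3)) (.leaf (nat_lit 1))) (.node (.leaf (nat_lit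 4)) (.leaf (nat_lit 1)))) (.node (.node (.leaf (nat_lit 5)) (.leaf (nat_lit 2))) (.leaf (nat_lit 3)))) (.node (.node (.node (.leaf (nat_lit 4)) (.leaf (nat_lit 4))) (.leaf (nat_lit 2))) (.node (.node (.leaf (nat_lit 3)) (.leaf (nat_lit 2))) (.leaf (nat_lit 4))))))) (.node (.node (.node (.node (.node (.node (.leaf (nat_lit 2)) (.leaf (nat_lit 3))) (.node (.leaf (nat_lit 3)) (.leaf (nat_lit 3)))) (.node (.node (.leaf (nat_lit 3)) (.leaf (nat_lit 2))) (.leaf (nat_lit 2)))) (.node (.node (.node (.leaf (nat_lit 4)) (.leaf (nat_lit 2))) (.leaf (nat_lit 2))) (.node (.node (.leaf (nat_lit 5)) (.leaf (nat_lit 3))) (.leaf (nat_lit 4))))) (.node (.node (.node (.node (.leaf (nat_lit 1)) (.leaf (nat_lit 1))) (.node (.leaf (nat_lit 3)) (.leaf (nat_lit 3)))) (.node (.node (.leaf (nat_lit 5)) (.leaf (nat_lit 4))) (.leaf (nat_lit 3)))) (.node (.node (.node (.leaf (nat_lit 3)) (.leaf (nat_lit 3))) (.leaf (nat_lit 3))) (.node (.node (.leaf (nat_lit 2)) (.leaf (nat_lit 1))) (.leaf (nat_lit 4)))))) (.node (.node (.node (.node (.node (.leaf (nat_lit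 1)) (.leaf (nat_lit 2))) (.node (.leaf (nat_lit 1)) (.leaf (nat_lit 3)))) (.node (.node (.leaf (nat_lit 4)) (.leaf (nat_lit 3))) (.leaf (nat_lit 4)))) (.node (.node (.node (.leaf (nat_lit 5)) (.leaf (nat_lit 2))) (.leaf (nat_lit 2))) (.node (.node (.leaf (nat_lit 4)) (.leaf (nat_lit 3))) (.leaf (nat_lit 3))))) (.node (.node (.node (.node (.leaf (nat_lit 3)) (.leaf (nat_lit 1))) (.node (.leaf (nat_lit 3)) (.leaf (nat_lit 2)))) (.node (.node (.leaf (nat_lit 2)) (.leaf (nat_lit 5))) (.leaf (nat_lit 3)))) (.node (.node (.node (.leaf (nat_lit 3)) (.leaf (nat_lit 3))) (.leaf (nat_lit 5))) (.node (.node (.leaf (nat_lit 5)) (.leaf (nat_lit 3))) (.leaf (nat_lit 2)))))))))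

noncomputable def dD : NT := (.node (.node (.node (.node (.node (.node (.node (.node (.leaf (nat_lit 0)) (.leaf (nat_lit 651896))) (.node (.leaf (nat_lit 1147994)) (.leaf (nat_lit 312637)))) (.node (.node (.leaf (nat_lit 607610)) (.leaf (nat_lit 1018277))) (.leaf (nat_lit 1180117)))) (.node (.node (.node (.leaf (nat_lit 249142)) (.leaf (nat_lit 127695))) (.node (.leaf (nat_lit 1382723)) (.leaf (nat_lit 172606)))) (.node (.node (.leaf (nat_lit 848312)) (.leaf (nat_lit 972349))) (.leaf (nat_lit 54530))))) (.node (.node (.node (.node (.leaf (nat_lit 3)) (.leaf (nat_lit 457126))) (.node (.leaf (nat_lit 2851)) (.leaf (nat_lit 172552)))) (.node (.node (.leaf (nat_lit 778862)) (.leaf (nat_lit 781891))) (.leaf (nat_lit 1341296)))) (.node (.node (.node (.leaf (nat_lit 1182422)) (.leaf (nat_lit 383979))) (.leaf (nat_lit 750338))) (.node (.node (.leaf (nat_lit 429838)) (.leaf (nat_lit 300913))) (.leaf (nat_lit 1140451)))))) (.node (.node (.node (.node (.node (.leaf (nat_lit 923356)) (.leaf (nat_lit 753447))) (.node (.leaf (nat_lit 960770))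 (.leaf (nat_lit 453091)))) (.node (.node (.leaf (nat_lit 6)) (.leaf (nat_lit 338048))) (.leaf (nat_lit 1396043)))) (.node (.node (.node (.leaf (nat_lit 53825)) (.leaf (nat_lit 757519))) (.leaf (nat_lit 1108303))) (.node (.node (.leaf (nat_lit 609884)) (.leaf (nat_lit 97473))) (.leaf (nat_lit 1280620))))) (.node (.node (.node (.node (.leaf (nat_lit 812495)) (.leaf (nat_lit 149657))) (.node (.leaf (nat_lit 111175)) (.leaf (nat_lit 624622)))) (.node (.node (.leaf (nat_lit 8)) (.leaf (nat_lit 562822))) (.leaf (nat_lit 545402)))) (.node (.node (.node (.leaf (nat_lit 757477)) (.leaf (nat_lit 1080205))) (.leaf (nat_lit 761623))) (.node (.node (.leaf (nat_lit 999424)) (.leaf (nat_lit 1430900))) (.leaf (nat_lit 994309))))))) (.node (.node (.node (.node (.node (.node (.leaf (nat_lit 1066492)) (.leaf (nat_lit 1088968))) (.node (.leaf (nat_lit 809929)) (.leaf (nat_lit 1152058)))) (.node (.node (.leaf (nat_lit 609050)) (.leaf (nat_lit 130409))) (.leaf (nat_lit 41840)))) (.node (.node (.node (.leaf (nat_lit 612218)) (.leaf (nat_lit 1003832)))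 (.leaf (nat_lit 10693))) (.node (.node (.leaf (nat_lit 1239895)) (.leaf (nat_lit 14336))) (.leaf (nat_lit 718705))))) (.node (.node (.node (.node (.leaf (nat_lit 5)) (.leaf (nat_lit 308258))) (.node (.leaf (nat_lit 763348)) (.leaf (nat_lit 1020946)))) (.node (.node (.leaf (nat_lit 7)) (.leaf (nat_lit 1158370))) (.leaf (nat_lit 859462)))) (.node (.node (.node (.leaf (nat_lit 1005241)) (.leaf (nat_lit 879190))) (.leaf (nat_lit 219763))) (.node (.node (.leaf (nat_lit 783364)) (.leaf (nat_lit 871487))) (.leaf (nat_lit 954763)))))) (.node (.node (.node (.node (.node (.leaf (nat_lit 1005320)) (.leaf (nat_lit 1120634))) (.node (.leaf (nat_lit 449200)) (.leaf (nat_lit 626170)))) (.node (.node (.leaf (nat_lit 139033)) (.leaf (nat_lit 74523))) (.leaf (nat_lit 198388)))) (.node (.node (.node (.leaf (nat_lit 45831)) (.leaf (nat_lit 275705))) (.leaf (nat_lit 64547))) (.node (.node (.leaf (nat_lit 1306213)) (.leaf (nat_lit 208754))) (.leaf (nat_lit 1150580))))) (.node (.node (.node (.node (.leaf (nat_lit 840961)) (.leaf (nat_lit 974302))) (.node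 (.leaf (nat_lit 1218611)) (.leaf (nat_lit 219440)))) (.node (.node (.leaf (nat_lit 25909)) (.leaf (nat_lit 619636))) (.leaf (nat_lit 716983)))) (.node (.node (.node (.leaf (nat_lit 1428662)) (.leaf (nat_lit 719963))) (.leaf (nat_lit 272926))) (.node (.node (.leaf (nat_lit 434158)) (.leaf (nat_lit 581467))) (.leaf (nat_lit 732391)))))))) (.node (.node (.node (.node (.node (.node (.node (.leaf (nat_lit 1)) (.leaf (nat_lit 709135))) (.node (.leaf (nat_lit 726274)) (.leaf (nat_lit 619769)))) (.node (.node (.leaf (nat_lit 681869)) (.leaf (nat_lit 1131272))) (.leaf (nat_lit 224125)))) (.node (.node (.node (.leaf (nat_lit 120424)) (.leaf (nat_lit 1169036))) (.node (.leaf (nat_lit 340096)) (.leaf (nat_lit 1170481)))) (.node (.node (.leaf (nat_lit 979460)) (.leaf (nat_lit 1013405))) (.leaf (nat_lit 817507))))) (.node (.node (.node (.node (.leaf (nat_lit 4)) (.leaf (nat_lit 1225094))) (.node (.leaf (nat_lit 1312306)) (.leaf (nat_lit 302737)))) (.node (.node (.leaf (nat_lit 325126)) (.leaf (nat_lit 115307))) (.leaf (nat_lit 477826)))) (.node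 (.node (.node (.leaf (nat_lit 262346)) (.leaf (nat_lit 503107))) (.leaf (nat_lit 198088))) (.node (.node (.leaf (nat_lit 939185)) (.leaf (nat_lit 781432))) (.leaf (nat_lit 680609)))))) (.node (.node (.node (.node (.node (.leaf (nat_lit 2)) (.leaf (nat_lit 1015118))) (.node (.leaf (nat_lit 412865)) (.leaf (nat_lit 105725)))) (.node (.node (.leaf (nat_lit 9973)) (.leaf (nat_lit 1124693))) (.leaf (nat_lit 1426642)))) (.node (.node (.node (.leaf (nat_lit 1164277)) (.leaf (nat_lit 1048174))) (.leaf (nat_lit 1067060))) (.node (.node (.leaf (nat_lit 1076923)) (.leaf (nat_lit 1273283))) (.leaf (nat_lit 1160981))))) (.node (.node (.node (.node (.leaf (nat_lit 844365)) (.leaf (nat_lit 394721))) (.node (.leaf (nat_lit 433360)) (.leaf (nat_lit 816671)))) (.node (.node (.leaf (nat_lit 497843)) (.leaf (nat_lit 1141240))) (.leaf (nat_lit 1230595)))) (.node (.node (.node (.leaf (nat_lit 127840)) (.leaf (nat_lit 596149))) (.leaf (nat_lit 904993))) (.node (.node (.leaf (nat_lit 1273435)) (.leaf (nat_lit 482666))) (.leaf (nat_lit 992870))))))) (.node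 (.node (.node (.node (.node (.node (.leaf (nat_lit 1202824)) (.leaf (nat_lit 319639))) (.node (.leaf (nat_lit 124345)) (.leaf (nat_lit 750550)))) (.node (.node (.leaf (nat_lit 642845)) (.leaf (nat_lit 1018384))) (.leaf (nat_lit 371882)))) (.node (.node (.node (.leaf (nat_lit 997258)) (.leaf (nat_lit 1352057))) (.leaf (nat_lit 572111))) (.node (.node (.leaf (nat_lit 184048)) (.leaf (nat_lit 606463))) (.leaf (nat_lit 500911))))) (.node (.node (.node (.node (.leaf (nat_lit 476635)) (.leaf (nat_lit 1240149))) (.node (.leaf (nat_lit 500840)) (.leaf (nat_lit 165028)))) (.node (.node (.leaf (nat_lit 1222846)) (.leaf (nat_lit 179747))) (.leaf (nat_lit 1259567)))) (.node (.node (.node (.leaf (nat_lit 450795)) (.leaf (nat_lit 1192370))) (.leaf (nat_lit 273178))) (.node (.node (.leaf (nat_lit 1075015)) (.leaf (nat_lit 1119171))) (.leaf (nat_lit 441215)))))) (.node (.node (.node (.node (.node (.leaf (nat_lit 294904)) (.leaf (nat_lit 746035))) (.node (.leaf (nat_lit 432539)) (.leaf (nat_lit 611077)))) (.node (.node (.leaf (nat_lit 478216))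 (.leaf (nat_lit 1246649))) (.leaf (nat_lit 380492)))) (.node (.node (.node (.leaf (nat_lit 129235)) (.leaf (nat_lit 1078457))) (.leaf (nat_lit 220015))) (.node (.node (.leaf (nat_lit 500078)) (.leaf (nat_lit 700387))) (.leaf (nat_lit 11096))))) (.node (.node (.node (.node (.leaf (nat_lit 1411601)) (.leaf (nat_lit 1014577))) (.node (.leaf (nat_lit 720961)) (.leaf (nat_lit 110533)))) (.node (.node (.leaf (nat_lit 685111)) (.leaf (nat_lit 828205))) (.leaf (nat_lit 577972)))) (.node (.node (.node (.leaf (nat_lit 85988)) (.leaf (nat_lit 307173))) (.leaf (nat_lit 177623))) (.node (.node (.leaf (nat_lit 926054)) (.leaf (nat_lit 848821))) (.leaf (nat_lit 307502)))))))))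

noncomputable def invF (c : ℕ) : Bool := CfsgH8.frcA c fun c =>
  bimp (MM.o2 c) (bor (Nat.beq c MM.one) (bor (Nat.beq c (lT.get 2))
    (band (Nat.ble (iD.get c) 209) (Nat.beq (tD.get (iD.get c)) c))))

theorem invF_ok {c b : ℕ} (hc : c < 9) (hb : b < 192) :
    invF (MM.mul (tT.get (dR.get c)) (tB.get b)) = true :=
  have h1 : allLt 9 (fun c => allLt 192 fun b => invF (MM.mul (tT.get (dR.get c)) (tB.get b))) =
      true := by decide +kernel
  allLt_iff.1 (allLt_iff.1 h1 c hc) b hb

theorem invol {x : K8} (hx : x ∈ P8) (h : x * x = 1) :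
    x = 1 ∨ x = lval 1 ∨ ∃ g ∈ P8, g * wval lval wU * g⁻¹ = x := by
  obtain ⟨k, hk, c, hc, b, hb, e⟩ := Model.conj_of_dcF chainT chainB (by norm_num) tT_mem
    (by norm_num) (fun _ ha => (Model.valid_of_mem s4_mem).mem_gen ha) (n := 9) (by norm_num)
    (reps := dR) (ord := dO) (D := dD) (by decide +kernel) x hx
  have hb' : b < 192 := hb
  have h2 := invF_ok hc hb'
  rw [← elt_lvB hb', ← e, invF, CfsgDC.frcA_eq, bimp_iff, bor_iff, bor_iff, band_iff] at h2
  have h3 : MM.enc (lval 1) = lT.get 2 := ltab 2 (by norm_num)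
  have h0 : k⁻¹ * x * k * (k⁻¹ * x * k) = 1 :=
    calc _ = k⁻¹ * (x * x) * k := by group
      _ = 1 := by rw [h]; group
  rcases h2 (by
    rw [Model.o2, ← MM.enc_mul, h0, MM.enc_one]
    exact Nat.beq_refl _) with h4 | h4 | ⟨h4, h5⟩
  · left
    have := MM.enc_inj ((Nat.eq_of_beq_eq_true h4).trans MM.enc_one.symm)
    calc x = k * (k⁻¹ * x * k) * k⁻¹ := by group
      _ = 1 := by rw [this]; group
  · right; left
    have h6 := MM.enc_inj ((Nat.eq_of_beq_eq_true h4).trans h3.symm)
    have h7 : P8 ≤ centralizer {lval 1} :=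
      gen7 ▸ Model.gen_le_centralizer _ MM.cmMul_iff (by rw [h3]; decide +kernel)
    calc x = k * (k⁻¹ * x * k) * k⁻¹ := by group
      _ = _ := by
        rw [h6, ← mem_centralizer_iff.1 (h7 (Q8_le hk)) _ rfl, mul_inv_cancel_right]
  · right; right
    have h6 : iD.get (MM.enc (k⁻¹ * x * k)) < 210 := by
      have := Nat.le_of_ble_eq_true h4
      omega
    obtain ⟨g, e1, e2⟩ := tD_eq _ h6
    refine ⟨k * g, mul_mem (Q8_le hk) (Model.mem_of_Mem (M := MM) (by rw [e1]; exact tT_mem _ h6)), ?_⟩
    have := MM.enc_inj (e2.trans (Nat.eq_of_beq_eq_true h5))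
    calc _ = k * (g * wval lval wU * g⁻¹) * k⁻¹ := by group
      _ = x := by rw [this]; group

end CfsgMcL
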