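import Cfsg.Agent.H4.Lch4
import Cfsg.Agent.H8.M24Nse
import Cfsg.Agent.FT.Main
import Cfsg.Agent.SZ.ZS_fin

set_option autoImplicit false
set_option maxRecDepth 100000

/-! Elements of order 11 of the McLaughlin group, and its recognition from the centralizer of an
involution. -/

namespace CfsgLch

open Cfsg CfsgH3.TC CfsgH9 CfsgH9.Golay CfsgWitt CfsgMcL Spor Subgroup CfsgFT CfsgH5 MulAction

/-- multiplication by two -/
def dbl : Equiv.Perm GolayPt := ptE.symm.permCongr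
  ⟨![1, 3, 4, 5, 7, 9, 10, 0, 2, 6, 8, 11, 14, 16, 20, 22, 12, 13, 15, 17, 18, 19, 21, 23],
    ![7, 0, 8, 1, 2, 3, 9, 4, 10, 5, 6, 11, 16, 17, 12, 18, 13, 19, 20, 21, 14, 22, 15, 23],
    by decide +kernel, by decide +kernel⟩

theorem dbl_mem : dbl ∈ M24 := mem_M24_of_le fun _ => act_mem_of_basis (act_basis_mem
  [2, 2056, 2064, 2080, 2176, 512, 3072, 2049, 4, 64, 256, 2048] (by decide +kernel))

theorem dbl_fix {v : leechLattice} (h : ∀ p, v.1 (dbl⁻¹ p) = v.1 p) :
    (pc ⟨dbl, dbl_mem⟩).1 v = v := Subtype.ext (funext h)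

/-- an element of order 11 -/
def x11 : McL := ⟨(pc ⟨dbl, dbl_mem⟩).1, ⟨(pc _).2, dbl_fix (by decide +kernel)⟩,
  dbl_fix (by decide +kernel)⟩

theorem x11_pow (k : ℕ) (v : leechLattice) (p : GolayPt) :
    ((x11 ^ k).1 v).1 p = v.1 ((dbl⁻¹ ^ k) p) := by
  induction k generalizing p with
  | zero => rfl
  | succ k ih => rw [pow_succ', pow_succ]; exact ih _

theorem order_x11 : orderOf x11 = 11 :=
  haveI : Fact (Nat.Prime 11) := ⟨by norm_num⟩
  orderOf_eq_prime (Subtype.ext (Equiv.ext fun v => Subtype.ext (funext fun p => by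
    rw [x11_pow, (by decide +kernel : ∀ p, (dbl⁻¹ ^ 11) p = p)]; rfl))) fun h => by
    have := x11_pow 1 (e8 (some 1)) (some 1)
    rw [pow_one, h] at this
    revert this
    decide +kernel

theorem fix_of_comm {g : McL} (h : Commute x11 g) : g.1 leechU' = leechU' := by
  obtain ⟨h1, h2, h3⟩ := orbit_cond g
  have h4 : ∀ k p, (g.1 leechU').1 ((dbl⁻¹ ^ k) p) = (g.1 leechU').1 p := fun k p => by
    have h5 : (x11 ^ k).1 leechU' = leechU' :=
      (stabilizer McL leechU').pow_mem (x := x11) (dbl_fix (by decide +kernel)) k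
    rw [← x11_pow]
    change ((x11 ^ k * g).1 leechU').1 p = _
    rw [(h.pow_left k).eq]
    exact congrArg (fun v => (g.1 v).1 p) h5
  refine Subtype.ext ?_
  generalize (g.1 leechU').1 = w at *
  have h5 : ∀ p : GolayPt, ∃ k, k < 11 ∧ (dbl⁻¹ ^ k) p = if p = none then none else
      if p = some 0 then some 0 else if (ix p).val < 11 then some 1 else some 5 := by decide +kernel
  have h6 : ∀ f : ℤ → ℤ, ∑ p, f (w p) =
      f (w none) + f (w (some 0)) + 11 * f (w (some 1)) + 11 * f (w (some 5)) := fun f => by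
    have e : ∀ p, f (w p) = (if p = none then f (w none) else 0) +
        (if p = some 0 then f (w (some 0)) else 0) +
        (if (ix p).val < 11 then 1 else 0) * f (w (some 1)) +
        (if 11 < (ix p).val ∧ (ix p).val < 23 then 1 else 0) * f (w (some 5)) := fun p => by
      obtain ⟨k, -, e⟩ := h5 p
      have e1 : p = none ↔ (ix p).val = 23 := ix_eq.symm
      have e2 : p = some 0 ↔ (ix p).val = 11 := ix_eq.symm
      have e3 := (ix p).2
      rw [← h4 k, e]
      simp only [e1, e2]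
      split_ifs <;> omega
    rw [Finset.sum_congr rfl fun p _ => e p, Finset.sum_add_distrib, Finset.sum_add_distrib,
      Finset.sum_add_distrib, sum_delta, sum_delta, ← Finset.sum_mul, ← Finset.sum_mul,
      show ∑ p, (if (ix p).val < 11 then 1 else 0 : ℤ) = 11 by decide +kernel,
      show ∑ p, (if 11 < (ix p).val ∧ (ix p).val < 23 then 1 else 0 : ℤ) = 11 by decide +kernel]
  have h7 := h6 id
  have h8 := (h6 (· ^ 2)).symm.trans h1
  simp only [id] at h7
  have h9 : w (some 1) = 0 ∧ w (some 5) = 0 ∧ w none = 4 ∧ w (some 0) = -4 := by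
    rw [h7] at h3
    generalize w none = a, w (some 0) = b, w (some 1) = c, w (some 5) = d at h2 h3 h8
    obtain rfl : b = -a := by omega
    have k1 := abs_le_of_sq_le_sq' (a := a) (b := 4) (by nlinarith) (by norm_num)
    have k2 := abs_le_of_sq_le_sq' (a := c) (b := 2) (by nlinarith) (by norm_num)
    have k3 := abs_le_of_sq_le_sq' (a := d) (b := 2) (by nlinarith) (by norm_num)
    obtain ⟨k1, k1'⟩ := k1
    obtain ⟨k2, k2'⟩ := k2
    obtain ⟨k3, k3'⟩ := k3
    interval_cases c <;> interval_cases d <;> interval_cases a <;> omega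
  funext p
  obtain ⟨k, -, e⟩ := h5 p
  rw [← h4 k, e]
  change _ = vecU' p
  unfold vecU'
  split_ifs <;> omega

instance fact11 : Fact (Nat.Prime 11) := ⟨by norm_num⟩

/-- No element of order `11 p`. -/
def No11 (G : Type*) [Group G] : Prop :=
  ∀ x y : G, orderOf x = 11 → (orderOf y).Prime → Commute x y → orderOf y = 11

theorem no11 : No11 McL := by
  have key : ∀ y : McL, (orderOf y).Prime → Commute x11 y → orderOf y = 11 := fun y hp h => by
    by_contra hn
    obtain ⟨f, hf⟩ := exists_stab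
    have h1 := h.orderOf_mul_eq_mul_orderOf_of_coprime (by
      rw [order_x11]; exact (Nat.coprime_primes fact11.out hp).2 (Ne.symm hn))
    have h2 : orderOf (f ⟨x11 * y, fix_of_comm ((Commute.refl _).mul_right h)⟩) =
        11 * orderOf y := by
      rw [orderOf_injective f hf, ← Subgroup.orderOf_coe, ← order_x11, ← h1]
    have h3 : 0 < CfsgH8.nord Spor.M22 (11 * orderOf y) :=
      haveI : Nonempty {g : Spor.M22 // orderOf g = 11 * orderOf y} := ⟨⟨_, h2⟩⟩
      Nat.card_pos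
    rw [CfsgH8.M24.nord22] at h3
    have := hp.two_le
    split_ifs at h3
    · rw [show orderOf y = 2 by omega] at h3
      exact absurd h3 (by decide)
    · omega
  intro x y hx hp h
  obtain ⟨P, hP⟩ := (IsPGroup.of_card (p := 11) (n := 1) ((Nat.card_zpowers x).trans hx)).exists_le_sylow
  obtain ⟨Q, hQ⟩ := (IsPGroup.of_card (p := 11) (n := 1)
    ((Nat.card_zpowers x11).trans order_x11)).exists_le_sylow
  obtain ⟨g, rfl⟩ := exists_smul_eq McL Q P
  have h1 : Nat.card Q = 11 := by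
    rw [Q.card_eq_multiplicity, card_McL]; decide +kernel
  have h2 : zpowers (g⁻¹ * x * g) ≤ Q := zpowers_le.2 (by
    have := hP (mem_zpowers x)
    rw [Sylow.coe_subgroup_smul, mem_pointwise_smul_iff_inv_smul_mem] at this
    simpa using this)
  have h3 : ∀ z, orderOf (g⁻¹ * z * g) = orderOf z := fun z => by
    simpa using orderOf_injective (MulAut.conj g⁻¹).toMonoidHom (MulAut.conj g⁻¹).injective z
  obtain ⟨k, hk⟩ := (eq_of_le_of_card_ge h2 (by rw [h1, Nat.card_zpowers, h3, hx])).ge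
    (hQ (mem_zpowers x11))
  rw [← h3] at hp ⊢
  refine key _ hp (hk ▸ Commute.zpow_left ?_ k)
  simpa using h.map (MulAut.conj g⁻¹)

section

variable {G : Type*} [Group G] [Finite G]

theorem No11.sub (h : No11 G) (H : Subgroup G) : No11 H := fun x y hx hp e => by
  rw [← Subgroup.orderOf_coe] at hx hp ⊢
  exact h _ _ hx hp (e.map H.subtype)

theorem No11.normal (h : No11 G) (P : Subgroup G) [P.Normal] (h1 : Nat.card P = 11) :
    ¬ 25 ∣ Nat.card G := fun h2 => by
  haveI := isCyclic_of_prime_card h1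
  have h3 := card_subgroup_dvd_card (MulAut.conjNormal (H := P)).range
  rw [IsCyclic.card_mulAut, h1, ← index_ker, show Nat.totient 11 = 5 * 2 by decide] at h3
  rw [← (MulAut.conjNormal (H := P)).ker.card_mul_index] at h2
  have h4 : 5 ∣ Nat.card (MulAut.conjNormal (H := P)).ker :=
    Nat.Coprime.dvd_of_dvd_mul_right (k := 5) (n := 2) (by norm_num) (Nat.dvd_of_mul_dvd_mul_left
      (by norm_num : 0 < 5) ((h2.trans (Nat.mul_dvd_mul_left _ h3)).trans (dvd_of_eq (by ring))))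
  haveI : Fact (Nat.Prime 5) := ⟨by norm_num⟩
  obtain ⟨y, hy⟩ := exists_prime_orderOf_dvd_card' 5 h4
  obtain ⟨x, hx⟩ := exists_prime_orderOf_dvd_card' 11 h1.symm.dvd
  rw [← Subgroup.orderOf_coe] at hx hy
  have h5 := congrArg (fun f : MulAut P => (f x : G)) (MonoidHom.mem_ker.1 y.2)
  have := h x y hx (by rw [hy]; norm_num) (mul_inv_eq_iff_eq_mul.1 h5).symm
  omega

theorem No11.odd (h : No11 G) (hG : Nat.card G = 898128000) {D : Subgroup G}
    (h1 : Odd (Nat.card D)) : ¬ 275 ∣ Nat.card D := fun h2 => by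
  obtain ⟨H, hH⟩ := exists_hall {5, 11} (feit_thompson D h1)
  have h3 : 275 ∣ Nat.card H := hH.dvd_card h2 fun p hp e => by
    rcases (Nat.Prime.dvd_mul hp).1 (show p ∣ 5 ^ 2 * 11 from e) with e | e
    · exact Or.inl ((Nat.prime_dvd_prime_iff_eq hp (by norm_num)).1 (hp.dvd_of_dvd_pow e))
    · exact Or.inr ((Nat.prime_dvd_prime_iff_eq hp (by norm_num)).1 e)
  have h4 : Nat.card H ∣ 1375 := Nat.Coprime.dvd_of_dvd_mul_right (n := 653184)
    (Nat.coprime_of_dvd fun p hp e => by rcases hH.piG p hp e with rfl | rfl <;> norm_num)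
    ((card_subgroup_dvd_card H).trans (dvd_of_eq hG))
  obtain ⟨P⟩ : Nonempty (Sylow 11 H) := inferInstance
  have h5 : Nat.card H = 275 ∨ Nat.card H = 1375 :=
    (by decide +kernel : ∀ d ∈ Nat.divisors 1375, 275 ∣ d → d = 275 ∨ d = 1375) _
      (Nat.mem_divisors.2 ⟨h4, by norm_num⟩) h3
  have h6 : Nat.card P = 11 := by
    rw [P.card_eq_multiplicity]
    rcases h5 with e | e <;> rw [e] <;> decide +kernel
  have h7 : Nat.card (Sylow 11 H) ∣ 125 := P.card_dvd_index.trans (by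
    have := P.1.card_mul_index
    rw [h6] at this
    exact Nat.dvd_of_mul_dvd_mul_left (by norm_num : 0 < 11) (this ▸ h4))
  haveI : Subsingleton (Sylow 11 H) := (Nat.card_eq_one_iff_unique.1
    ((by decide +kernel : ∀ d ∈ Nat.divisors 125, d ≡ 1 [MOD 11] → d = 1) _
      (Nat.mem_divisors.2 ⟨h7, by norm_num⟩) (card_sylow_modEq_one 11 H))).1
  haveI := P.normal_of_subsingleton
  exact (h.sub H).normal P h6 (dvd_trans (by norm_num) h3)

theorem No11.eq_bot (h : No11 G) (hG : Nat.card G = 898128000) (K : Subgroup G) [K.Normal]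
    (h1 : Nat.card K ∣ 22275) : K = ⊥ := by
  by_contra hn
  obtain ⟨X, hX, p, hp, ⟨h2, h3, -⟩, h4⟩ := exists_minNrm_elAb hn (Nrm.of_normal ⊤ K)
    (feit_thompson K (Odd.of_dvd_nat (by decide) h1))
  haveI := h3.normal_of_top
  haveI := Fact.mk hp
  obtain ⟨k, hk⟩ := IsPGroup.iff_card.1 h4.isPGroup
  have h5 := (card_dvd_of_le hX).trans h1
  have h6 : Nat.card X ≠ 1 := fun e => h2 (card_eq_one.1 e)
  by_cases h7 : p = 11
  · refine h.normal X ?_ (by rw [hG]; norm_num)
    rw [hk, h7] at h5 h6 ⊢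
    rcases k with _ | _ | k
    · exact absurd rfl h6
    · rfl
    · exact absurd ((pow_dvd_pow 11 (by omega : 2 ≤ k + 1 + 1)).trans h5) (by norm_num)
  obtain ⟨x, hx⟩ := exists_prime_orderOf_dvd_card' (G := G) 11 (by rw [hG]; norm_num)
  letI := MulAction.compHom X ((MulAut.conjNormal (H := X)).comp (zpowers x).subtype)
  have h8 := (IsPGroup.of_card (p := 11) (n := 1)
    ((Nat.card_zpowers x).trans hx)).card_modEq_card_fixedPoints X
  have h9 : fixedPoints (zpowers x) X = {1} := Set.eq_singleton_iff_unique_mem.2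
    ⟨fun a => map_one (MulAut.conjNormal (a : G)), fun y hy => by
      by_contra hy1
      have e1 : orderOf (y : G) = p := orderOf_eq_prime (h4.2 _ y.2) (fun e => hy1 (Subtype.ext e))
      exact h7 (e1 ▸ h x y hx (e1 ▸ hp)
        (mul_inv_eq_iff_eq_mul.1 (congrArg Subtype.val (hy ⟨x, mem_zpowers x⟩))))⟩
  rw [h9, Nat.card_coe_set_eq, Set.ncard_singleton] at h8
  have h10 := (by decide +kernel : ∀ d ∈ Nat.divisors 22275, d ≡ 1 [MOD 11] → d ≠ 1 → 3 ∣ d ∧ 5 ∣ d)
    _ (Nat.mem_divisors.2 ⟨h5, by norm_num⟩) h8 h6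
  rw [hk] at h10
  have e1 := (Nat.prime_dvd_prime_iff_eq Nat.prime_three hp).1
    (Nat.prime_three.dvd_of_dvd_pow h10.1)
  have e2 := (Nat.prime_dvd_prime_iff_eq Nat.prime_five hp).1 (Nat.prime_five.dvd_of_dvd_pow h10.2)
  omega

/-- A strongly embedded subgroup has a subgroup of odd order transitive on its involutions. -/
theorem exists_odd_trans {H : Subgroup G} {t : G} (ht : t ∈ H) (t1 : t ≠ 1) (t2 : t * t = 1)
    (h1 : ∀ s ∈ H, s ≠ 1 → s * s = 1 → ∃ k ∈ H, k * t * k⁻¹ = s) (h2 : centralizer {t} ≤ H)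
    (h3 : H ≠ ⊤) : ∃ D ≤ H, Odd (Nat.card D) ∧ (centralizer {t}).relIndex H ∣ Nat.card D := by
  have cj1 : ∀ g s : G, s ≠ 1 → g * s * g⁻¹ ≠ 1 := fun g s h e => h (by simpa using e)
  have key : ∀ g, ∀ s ∈ H, s ≠ 1 → s * s = 1 → g * s * g⁻¹ ∈ H → g ∈ H := fun g s a b c d => by
    obtain ⟨k, hk, rfl⟩ := h1 s a b c
    obtain ⟨l, hl, e⟩ := h1 _ d (cj1 _ _ b) (CfsgSZ.conj_mul_self c g)
    have : l⁻¹ * g * k ∈ H := h2 (mem_centralizer_singleton_iff.2 (by
      calc _ = l⁻¹ * (g * (k * t * k⁻¹) * g⁻¹) * g * k := by group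
        _ = _ := by rw [← e]; group))
    simpa [mul_assoc] using mul_mem (mul_mem hl this) (inv_mem hk)
  obtain ⟨g, hg⟩ : ∃ g, g ∉ H := not_forall.1 (mt (eq_top_iff' H).2 h3)
  have w1 : g * t * g⁻¹ ∉ H := mt (key g t ht t1 t2) hg
  have w2 := CfsgSZ.conj_mul_self t2 g
  generalize g * t * g⁻¹ = w at w1 w2
  have h4 : ∀ s ∈ H, s ≠ 1 → s * s = 1 → ∃ j, j * j = 1 ∧ j * s * j⁻¹ = w := fun s a b c => by
    obtain ⟨k, hk⟩ := CfsgSZ.invol_conj_of_odd w2 c fun h => by
      obtain ⟨z, hz⟩ := exists_prime_orderOf_dvd_card' 2 (h.trans (Nat.card_zpowers _).symm.dvd)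
      obtain ⟨k, e⟩ := (mem_powers_iff_mem_zpowers.2 z.2 :)
      rw [← Subgroup.orderOf_coe, orderOf_eq_prime_iff, pow_two, ← e] at hz
      obtain ⟨e1, e2⟩ := CfsgSZ.invol_conj_pow w2 c k
      rw [inv_eq_of_mul_eq_one_right hz.1] at e1 e2
      exact w1 (key w _ (key _ s a b c (by rwa [← e1, mul_inv_cancel_right])) hz.2 hz.1
        (by rw [e2, mul_inv_cancel_right]; exact key _ s a b c (by rwa [← e1, mul_inv_cancel_right])))
    refine ⟨(w * s) ^ k * s, ?_, Eq.trans (by group) hk⟩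
    rw [mul_assoc, ← mul_assoc s, (CfsgSZ.invol_conj_pow w2 c k).1, mul_assoc, c]
    group
  obtain ⟨j, j1, j2⟩ := h4 t ht t1 t2
  refine ⟨H ⊓ H.comap (MulAut.conj j).toMonoidHom, inf_le_left, Nat.not_even_iff_odd.1 fun e => ?_,
    ?_⟩
  · obtain ⟨a, ha⟩ := exists_prime_orderOf_dvd_card' 2 e.two_dvd
    rw [← Subgroup.orderOf_coe, orderOf_eq_prime_iff, pow_two] at ha
    have := key j a a.2.1 ha.2 ha.1 a.2.2
    exact w1 (j2 ▸ mul_mem (mul_mem this ht) (inv_mem this))
  have h5 : ∀ L : Subgroup G, (centralizer {t}).relIndex L =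
      (orbit L ((1 : G) : G ⧸ centralizer {t})).ncard := fun L => by
    rw [← index_stabilizer, relIndex]
    congr 1
    ext x
    exact (SetLike.ext_iff.1 (stabilizer_quotient (centralizer {t})) x.1).symm
  refine (dvd_of_eq ?_).trans (relIndex_dvd_card (centralizer {t}) _)
  rw [h5, h5]
  congr 1
  refine Set.Subset.antisymm ?_ fun _ ⟨a, e⟩ => ⟨⟨a, a.2.1⟩, e⟩
  rintro _ ⟨⟨k, hk⟩, rfl⟩
  have k1 := mul_mem (mul_mem hk ht) (inv_mem hk)
  obtain ⟨i, i1, i2⟩ := h4 _ k1 (cj1 k t t1) (CfsgSZ.conj_mul_self t2 k)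
  have k2 : i * j * t * (i * j)⁻¹ = k * t * k⁻¹ :=
    calc _ = i * (j * t * j⁻¹) * i⁻¹ := by group
      _ = i * i * (k * t * k⁻¹) * (i * i)⁻¹ := by rw [j2, ← i2]; group
      _ = _ := by rw [i1]; group
  have k3 := key _ t ht t1 t2 (k2 ▸ k1)
  refine ⟨⟨i * j, k3, ?_⟩, QuotientGroup.eq.2 (mem_centralizer_singleton_iff.2 ?_)⟩
  · change j * (i * j) * j⁻¹ ∈ H
    rw [← inv_mem_iff, show (j * (i * j) * j⁻¹)⁻¹ = i⁻¹ * j⁻¹ by group,
      inv_eq_of_mul_eq_one_right i1, inv_eq_of_mul_eq_one_right j1]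
    exact k3
  · change (i * j * 1)⁻¹ * (k * 1) * t = t * ((i * j * 1)⁻¹ * (k * 1))
    calc _ = (i * j)⁻¹ * (k * t * k⁻¹) * k := by group
      _ = _ := by rw [← k2]; group

theorem equiv_of_y {val : ℕ → G} {ψ : P8 →* G} (h : Set8 val ψ) (hR : RelsHold val R7) {y : G}
    (hy : YR val y ∧ (y * wval val wM1) ^ 3 = 1 ∧ (y * wval val wM2) ^ 3 = 1) :
    Nonempty (G ≃* McL) := by
  let v : ℕ → G := fun a => if a = 8 then y else val a
  have v0 : v 0 = 1 := h.wm.g0
  have v1 : ∀ a, 1 ≤ a → a ≤ 7 → MonoidHom.id G (v a) = val a := fun a _ _ => if_neg (by omega)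
  have v2 : ∀ w, (∀ c ∈ w, c < 2 * 7 + 2) → wval v w = wval val w := fun w hw =>
    map_wval_eq v0 h.wm.g0 v1 hw
  obtain ⟨φ, hφ⟩ := exists_hom v0 (RelsHold.append (fun w hw => (v2 w
    ((by decide : ∀ w ∈ R7, ∀ c ∈ w, c < 2 * 7 + 2) w hw)).trans (hR w hw)) (relsY_iff.2 (by
      obtain ⟨⟨⟨a, b, c, d⟩, e, f⟩, g⟩ := hy
      refine ⟨⟨⟨?_, ?_, ?_, ?_⟩, e, ?_⟩, ?_⟩ <;> simp (disch := decide) only [v2] <;> assumption)))
  have h1 : (gcl mval 7).map φ = centralizer {val 1} := by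
    rw [range_eq_gcl hφ (by norm_num), gcl_congr (val := v) v1, ← h.wm.range, h.rng]
  have h2 : Nat.card (centralizer ({val 1} : Set G)) = 40320 := by
    rw [← h.rng, ← Nat.card_congr (MonoidHom.ofInjective h.inj).toEquiv, card_P8]
  have h3 : centralizer {val 1} ≤ φ.range := h1 ▸ map_le_range _ _
  have h4 : Function.Injective φ := (MonoidHom.ker_eq_bot_iff φ).1 (no11.eq_bot card_McL _ (by
    have e := φ.ker.card_mul_index
    rw [index_ker, card_McL] at e
    exact Nat.dvd_of_mul_dvd_mul_right (by norm_num : 0 < 40320)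
      ((Nat.mul_dvd_mul_left _ (h2 ▸ card_dvd_of_le h3)).trans (dvd_of_eq e))))
  have h5 : Nat.card φ.range = 898128000 := by
    rw [← Nat.card_congr (MonoidHom.ofInjective h4).toEquiv, card_McL]
  have h6 : val 1 ∈ φ.range := h3 (mem_centralizer_singleton_iff.2 rfl)
  have h7 : φ.range = ⊤ := by
    by_contra hn
    obtain ⟨D, d1, d2, d3⟩ := exists_odd_trans h6 h.t_ne h.tt (by
      rintro _ ⟨s, rfl⟩ s1 s2
      have e1 : (gcl mval 7).index = 22275 := by
        have := (gcl mval 7).card_mul_index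
        rw [← card_map_of_injective h4, h1, h2, card_McL] at this
        omega
      obtain ⟨q, hq⟩ := (IsPGroup.of_card (p := 2) (n := 1) ((Nat.card_zpowers s).trans
        (orderOf_eq_prime (p := 2) (h4 (by rw [pow_two, map_mul, s2, map_one])) fun e =>
          s1 (by rw [e, map_one])))).nonempty_fixed_point_of_prime_not_dvd_card (McL ⧸ gcl mval 7)
        (by rw [← index_eq_card, e1]; norm_num)
      obtain ⟨g, rfl⟩ := QuotientGroup.mk_surjective q
      have e2 : φ (g⁻¹ * (s * g)) ∈ centralizer {val 1} :=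
        h1 ▸ mem_map_of_mem φ (QuotientGroup.eq.1 (hq ⟨s, mem_zpowers s⟩).symm)
      have e3 : φ s = φ g * φ (g⁻¹ * (s * g)) * (φ g)⁻¹ := by simp [mul_assoc]
      rcases h.invol (mem_centralizer_singleton_iff.1 e2) (by
        simp only [map_mul, map_inv]
        calc _ = (φ g)⁻¹ * (φ s * φ s) * φ g := by group
          _ = _ := by rw [s2]; group) with e | e | ⟨k, k1, k2⟩
      · exact absurd (by rw [e3, e]; group) s1
      · exact ⟨φ g, ⟨g, rfl⟩, by rw [e3, e]⟩
      · have y1 : y ∈ φ.range := ⟨_, hφ 8 (by norm_num) le_rfl⟩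
        refine ⟨φ g * k * y, mul_mem (mul_mem ⟨g, rfl⟩
          (h3 (mem_centralizer_singleton_iff.2 k1))) y1, ?_⟩
        rw [e3, ← k2, eq_mul_inv_of_mul_eq hy.1.yu]
        group) h3 hn
    rw [relIndex_eq_of_mul h3 (n := 22275) (by rw [h2, h5])] at d3
    have e := card_map_of_injective (K := D.comap φ) h4
    rw [map_comap_eq_self d1] at e
    exact no11.odd card_McL (D := D.comap φ) (e ▸ d2) (e ▸ dvd_trans (by norm_num) d3)
  exact ⟨(MulEquiv.ofBijective φ ⟨h4, MonoidHom.range_eq_top.1 h7⟩).symm⟩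

theorem recog {t : G} (ht : t ≠ 1) (h2 : t * t = 1)
    (hcov : IsNonsplitDoubleCover (centralizer ({t} : Set G)) (alternatingGroup (Fin 8))) :
    centralizer ({t} : Set G) ⊔ oddCore G = ⊤ ∨ Nonempty (G ≃* McL) := by
  obtain ⟨val, ψ, rfl, hR, h⟩ := exists_set8 ht hcov
  refine or_iff_not_imp_right.2 fun hn => eq_top_iff.2 ?_
  rw [← CfsgSZ.zstar (H := ⊤) trivial ht h2 fun g _ e => by_contra fun e' =>
    let ⟨_, hy⟩ := h.exists_y e e'; hn (equiv_of_y h hR hy), sup_comm]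
  refine sup_le_sup inf_le_right (le_sSup ⟨(nrm_Opi _ _).normal_of_top, ?_⟩)
  exact ((Nat.Prime.coprime_iff_not_dvd Nat.prime_two).2
    ((piG_compl_single Nat.prime_two).1 (piG_Opi {2}ᶜ (⊤ : Subgroup G)))).symm

end

end CfsgLch
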