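import Cfsg.Agent.H8.N15N
import Cfsg.Agent.H4.N15S
import Cfsg.Agent.H4.B1d

/-! S3615: the moment inequality. -/

set_option autoImplicit false
set_option linter.unusedSectionVars false

namespace CfsgN15

open Finset Cfsg CfsgL CfsgH4 CfsgH5 CfsgH6 CfsgH8 CfsgFT CfsgB0 Subgroup MulAction

universe u v

theorem ineqM {q c e : ℤ} (hq : 17 ≤ q) (hc : 0 ≤ c) (h1 : c ≤ e) (h2 : e ≤ 2 * q + 1)
    (h3 : 0 ≤ c ^ 2 - 4 * c + e) : 4 * ((e - c) * c * (c - 1)) + 8 * (c * (c - 1) * (c - 3)) ≤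
      (q - 1) * ((c ^ 2 - 4 * c + e) * c) := by
  obtain rfl | rfl | rfl | h : c = 0 ∨ c = 1 ∨ c = 2 ∨ 3 ≤ c := by omega
  · simp
  · nlinarith
  · nlinarith
  have a0 : 8 * (c - 1) * (c - 3) ≤ (q - 1) * (c * (c - 3)) := by
    have : 0 ≤ (c - 3) * ((q - 1) * c - 8 * (c - 1)) := mul_nonneg (by omega) (by nlinarith)
    nlinarith
  have a1 : 0 ≤ (q - 5) * c ^ 2 - (12 * q - 28) * c + 2 * q ^ 2 + 7 * q - 21 := by
    obtain ⟨k, rfl⟩ : ∃ k, q = 17 + k := ⟨q - 17, by ring⟩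
    have hk : 0 ≤ k := by omega
    have : 0 ≤ 4 * (12 + k) * ((17 + k - 5) * c ^ 2 - (12 * (17 + k) - 28) * c +
        2 * (17 + k) ^ 2 + 7 * (17 + k) - 21) := by
      have : 0 ≤ (2 * (12 + k) * c - (176 + 12 * k)) ^ 2 + (1472 + 2080 * k + 252 * k ^ 2 + 8 * k ^ 3) := by
        positivity
      linarith
    exact nonneg_of_mul_nonneg_right (by linarith) (by linarith : 0 < 4 * (12 + k))
  have a2 : 4 * ((e - c) * (c - 1)) + 8 * ((c - 1) * (c - 3)) ≤ (q - 1) * (c ^ 2 - 4 * c + e) := by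
    rcases le_total (4 * (c - 1)) (q - 1) with g | g
    · have := mul_nonneg (sub_nonneg.2 h1) (sub_nonneg.2 g)
      nlinarith
    · have := mul_nonneg (sub_nonneg.2 h2) (sub_nonneg.2 g)
      nlinarith
  have := mul_le_mul_of_nonneg_right a2 hc
  linarith

variable {G : Type u} {Ω : Type v} [Group G] [Finite G] [MulAction G Ω] [FaithfulSMul G Ω]
  [Fintype Ω] [DecidableEq Ω] {p q : ℕ} [Fact p.Prime] [Fact q.Prime] {c : Coord G Ω p} {y : G}
  {s : (ZMod p)ˣ}

theorem al_eq (g : G) : 2 * al G Ω g =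
    (((fx Ω g : ℤ) ^ 2 - 4 * fx Ω g + fx Ω (g ^ 2) : ℤ) : ℂ) := by
  simp only [al, s2, chi1, Pi.sub_apply]
  push_cast
  ring

theorem fx_le_pow (g : G) (n : ℕ) : fx Ω g ≤ fx Ω (g ^ n) :=
  Nat.card_mono (Set.toFinite _) fun x hx => (stabilizer G x).pow_mem hx n

theorem fx_le (g : G) : fx Ω g ≤ Fintype.card Ω := by have := fx_supp (Ω := Ω) g; omega

theorem fx_sq {g : G} (h : Odd (orderOf g)) : fx Ω (g ^ 2) = fx Ω g := by
  obtain ⟨k, hk⟩ := h
  have := fx_le_pow (Ω := Ω) (g ^ 2) (k + 1)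
  rw [← pow_mul, show 2 * (k + 1) = orderOf g + 1 by omega, pow_succ g (orderOf g), pow_orderOf_eq_one,
    one_mul] at this
  exact this.antisymm (fx_le_pow g 2)

theorem fx_conj {g k : G} (h : IsConj g k) : fx Ω g = fx Ω k := by
  obtain ⟨a, rfl⟩ := isConj_iff.1 h
  exact Nat.card_congr ((MulAction.toPerm a).subtypeEquiv fun x => by simp [mul_smul])

namespace NS

variable (h : NS q c y s)
include h

theorem card_Opc : Nat.card (Opc q (C1 y)) = 1 := by
  have := h.py.card_C1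
  rw [h.cy, h.py.card_zp] at this
  rw [h.cy]
  exact Nat.eq_of_mul_eq_mul_right h.hq.pos (this.trans (one_mul _).symm)

theorem fx_sing {g : G} (hg : q ∣ orderOf g) : fx Ω g = 1 ∧ fx Ω (g ^ 2) = 1 := by
  have h1 := h.py.order_dvd h.card_Opc hg
  obtain ⟨i, i0, hi⟩ := h.py.conj_pw h1
  rw [fx_sq (h1 ▸ h.hq.odd_of_ne_two (by have := h.q3; omega)), and_self, ← fx_conj hi, h.fx_y i0]

theorem nord_mul : nord G q * q = h.py.U.index * Nat.card G := by
  have h1 := h.py.card_mul_index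
  have h2 := card_mul_relIndex (X := C1 y) (Y := N (zpowers y)) (h.cy ▸ le_normalizer)
  rw [h.py.card_U, h.cy, h.py.card_zp] at h2
  rw [h.py.nord_eq, ← (N (zpowers y)).card_mul_index, ← h2, show q - 1 = _ from
    Nat.sub_eq_of_eq_add h1.symm]
  ring

theorem exists_ord (h3 : KTrans G Ω 3) {r : ℕ} (hr : r.Prime) (hd : r ∣ p - 2) :
    ∃ g : G, orderOf g = r := by
  haveI := Fact.mk hr
  refine exists_prime_orderOf_dvd_card' r (hd.trans ?_)
  haveI := h3.isMultiplyPretransitive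
  have h7 := h.le_card (k := 3) (by norm_num)
  obtain ⟨f⟩ : Nonempty (Fin 3 ↪ Ω) := Function.Embedding.nonempty_of_card_le (by simpa using h7)
  have := index_dvd_card (stabilizer G f)
  rw [index_stabilizer_of_transitive, Nat.card_eq_fintype_card, Fintype.card_embedding_eq,
    Fintype.card_fin, c.card_eq, Nat.descFactorial_succ] at this
  exact (dvd_mul_right _ _).trans this

theorem notM [Fintype G] (h5 : 5 ≤ q) (h3 : KTrans G Ω 3) (ht : 2 ≤ h.py.U.index)
    (hdiv : ∀ g : G, ¬ q ∣ orderOf g → ∃ k : ℤ, al G Ω g = h.py.U.index * k)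
    (hα : ∑ g : G, al G Ω g * fx Ω g = 0) {s' : ℕ} (hs : s' ≤ 2)
    (hE : ∑ g : G, ((fx Ω (g ^ 2) : ℂ) - fx Ω g) * fx Ω g * (fx Ω g - 1) =
      (h.py.U.index - s' + 1) * Nat.card G) : False := by
  classical
  have hp := h.hp
  have hΩ := c.card_eq
  have ti : h.py.U.index ∣ q - 1 := ⟨Nat.card h.py.U, by have := h.py.card_mul_index; rw [mul_comm]; omega⟩
  have nm := h.nord_mul
  generalize h.py.U.index = t at *
  have dv : ∀ g : G, ¬ q ∣ orderOf g →
      ∃ k : ℤ, (fx Ω g : ℤ) ^ 2 - 4 * fx Ω g + fx Ω (g ^ 2) = 2 * (t * k) := fun g hg => by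
    obtain ⟨k, hk⟩ := hdiv g hg
    have := al_eq (Ω := Ω) g
    rw [hk] at this
    exact ⟨k, by exact_mod_cast this.symm⟩
  have sm : ∀ r : ℕ, r.Prime → r ≠ 2 → r ≠ q → r ∣ p - 2 → r + 3 ≤ p → ∃ n : ℕ, ∃ k : ℤ, n % r = p % r ∧
      n + r ≠ p ∧ n < p ∧ (n : ℤ) ^ 2 - 4 * n + n = 2 * (t * k) := fun r hr r2 rq hd r3 => by
    obtain ⟨g, hg⟩ := h.exists_ord h3 hr hd
    obtain ⟨k, hk⟩ := dv g (hg ▸ mt (Nat.prime_dvd_prime_iff_eq h.hq hr).1 rq.symm)
    rw [fx_sq (hg ▸ hr.odd_of_ne_two r2)] at hk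
    refine ⟨_, k, hΩ ▸ fx_modEq hr (hg ▸ pow_orderOf_eq_one g), hg ▸ h.nocyc g (hg ▸ hr) (hg ▸ r3),
      ?_, hk⟩
    have h1 := fx_supp (Ω := Ω) g
    have h2 : (toPermHom G Ω g).support.card ≠ 0 := by
      rw [Ne, card_eq_zero, Equiv.Perm.support_eq_empty_iff, map_eq_one_iff _ toPerm_injective]
      rintro rfl
      rw [orderOf_one] at hg
      exact hr.one_lt.ne hg
    omega
  have pp : (2 * q + 1).Prime := hp ▸ Fact.out
  have q17 : 17 ≤ q := by
    by_contra hlt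
    have hq := h.hq
    have tl := Nat.le_of_dvd (by omega) ti
    obtain rfl | rfl : q = 5 ∨ q = 11 := by
      have : q < 17 := by omega
      interval_cases q <;> simp_all (config := {decide := true})
    · obtain ⟨n, k, a1, a2, a3, a4⟩ := sm 3 (by norm_num) (by norm_num) (by norm_num)
        (by rw [hp]; norm_num) (by omega)
      obtain rfl | rfl : n = 2 ∨ n = 5 := by omega
      all_goals interval_cases t <;> omega
    · obtain ⟨n, k, a1, a2, a3, a4⟩ := sm 7 (by norm_num) (by norm_num) (by norm_num)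
        (by rw [hp]; norm_num) (by omega)
      obtain rfl | rfl : n = 2 ∨ n = 9 := by omega
      all_goals interval_cases t <;> omega
  let A : G → ℤ := fun g => ((fx Ω g : ℤ) ^ 2 - 4 * fx Ω g + fx Ω (g ^ 2)) * fx Ω g
  let B : G → ℤ := fun g => ((fx Ω (g ^ 2) : ℤ) - fx Ω g) * fx Ω g * (fx Ω g - 1)
  let D : G → ℤ := fun g => (fx Ω g : ℤ) * (fx Ω g - 1) * (fx Ω g - 3)
  have sA : ∑ g, A g = 0 := by
    have : ((∑ g, A g : ℤ) : ℂ) = 2 * ∑ g : G, al G Ω g * fx Ω g := by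
      rw [mul_sum, Int.cast_sum]
      exact sum_congr rfl fun g _ => by rw [← mul_assoc, al_eq]; simp [A]
    rw [hα, mul_zero] at this
    exact_mod_cast this
  have sB : ∑ g, B g = (t - s' + 1) * Nat.card G := by
    simp only [B]
    exact_mod_cast hE
  have sD : ∑ g, D g = 0 := by
    have m3 := congrArg (Nat.cast : ℕ → ℤ) (mom_of h3 (h.le_card (by norm_num)))
    have m2 := congrArg (Nat.cast : ℕ → ℤ) (mom_of (h3.mono (by norm_num : 2 ≤ 3))
      (h.le_card (by norm_num)))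
    rw [Nat.cast_sum] at m3 m2
    rw [← sub_self (Nat.card G : ℤ)]
    nth_rw 1 [← m3]
    rw [← m2, ← sum_sub_distrib]
    refine sum_congr rfl fun g _ => ?_
    simp only [D, desc_cast, Nat.descFactorial_zero]
    push_cast
    ring
  have sS : ∑ g : G, (if q ∣ orderOf g then (1 : ℤ) else 0) = nord G q := by
    rw [sum_boole, nord, Nat.card_eq_fintype_card, Fintype.card_subtype]
    congr 2
    ext g
    simpa using ⟨h.py.order_dvd h.card_Opc, fun e => e ▸ dvd_rfl⟩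
  have key : ∑ g, (4 * B g + 8 * D g) ≤
      ∑ g, (q - 1 : ℤ) * (A g + 2 * if q ∣ orderOf g then (1 : ℤ) else 0) := by
    refine sum_le_sum fun g _ => ?_
    split_ifs with hg
    · simp only [A, B, D, h.fx_sing hg]
      norm_num
    · obtain ⟨k, hk⟩ := dv g hg
      have a1 : (fx Ω g : ℤ) ≤ fx Ω (g ^ 2) := by exact_mod_cast fx_le_pow g 2
      have a2 : (fx Ω (g ^ 2) : ℤ) ≤ 2 * q + 1 := by
        have := fx_le (Ω := Ω) (g ^ 2)
        omega
      rw [mul_zero, add_zero]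
      refine ineqM (by omega) (by omega) a1 a2 ?_
      by_contra hlt
      have a3 : -2 ≤ (fx Ω g : ℤ) ^ 2 - 3 * fx Ω g := by
        rcases le_total (fx Ω g : ℤ) 1 with a | a
        · nlinarith
        · rcases a.eq_or_lt with a | a
          · rw [← a]; norm_num
          · nlinarith
      have a4 : (2 : ℤ) ≤ t := by exact_mod_cast ht
      have a5 : k ≤ -1 := by
        by_contra a
        have := mul_nonneg (by omega : (0 : ℤ) ≤ t) (by omega : 0 ≤ k)
        omega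
      nlinarith
  rw [sum_add_distrib, ← mul_sum, ← mul_sum, ← mul_sum, sum_add_distrib, ← mul_sum, sA, sB, sD,
    sS] at key
  have n0 : (0 : ℤ) < Nat.card G := by exact_mod_cast Nat.card_pos
  have nm' : (nord G q : ℤ) * q = t * Nat.card G := by exact_mod_cast nm
  have a4 : (2 : ℤ) ≤ t := by exact_mod_cast ht
  have a5 : (s' : ℤ) ≤ 2 := by exact_mod_cast hs
  have a6 : (0 : ℤ) < nord G q := by
    by_contra a
    have : (nord G q : ℤ) = 0 := by omega
    rw [this, zero_mul] at nm'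
    nlinarith
  nlinarith

end NS

end CfsgN15
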