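import Cfsg.Agent.H4.OA5
import Cfsg.Agent.H8.OB1
import Cfsg.Agent.H5.OA1

/-!
Components with trivial intersections, case II.
-/

set_option autoImplicit false

namespace CfsgOA

open MulAction Subgroup CfsgQR

universe u
variable {G : Type u} {Ω : Type*} [Group G] [MulAction G Ω] [Finite G]
  {C : Ω → Set (Subgroup G)}

open CfsgH5 CfsgH6 CfsgFT CfsgSZ in
theorem q4_tlem {U : Subgroup G} (hs : IsSimpleGroup U) (nc : NC U) {k g : G} (k2 : k * k = 1)
    (k1 : k ≠ 1) (hn : cg k U = U)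
    (uniq : ∀ q ∈ U, q * q = 1 → q * k = k * q → q = 1 ∨ q = g) :
    ∃ t ∈ U, t * k * t⁻¹ = k * g := by
  by_contra hno
  push Not at hno
  have ki : k⁻¹ = k := inv_eq_of_mul_eq_one_right k2
  have nk : ∀ u ∈ U, k * u * k ∈ U := fun u hu => by
    have : k * u * k⁻¹ ∈ cg k U := ob_mem_cg hu k
    rwa [hn, ki] at this
  let H : Subgroup G :=
    { carrier := {h | h ∈ U ∨ h * k ∈ U}
      mul_mem' := by
        rintro a b (ha | ha) (hb | hb)
        · exact Or.inl (U.mul_mem ha hb)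
        · exact Or.inr (by rw [mul_assoc]; exact U.mul_mem ha hb)
        · refine Or.inr ?_
          have := U.mul_mem ha (nk b hb)
          rwa [show a * k * (k * b * k) = a * (k * k) * b * k by group, k2, mul_one] at this
        · refine Or.inl ?_
          have := U.mul_mem ha (nk _ hb)
          rwa [show a * k * (k * (b * k) * k) = a * (k * k) * b * (k * k) by group, k2, mul_one,
            mul_one] at this
      one_mem' := Or.inl U.one_mem
      inv_mem' := by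
        rintro a (ha | ha)
        · exact Or.inl (U.inv_mem ha)
        · refine Or.inr ?_
          have := nk _ (U.inv_mem ha)
          rwa [mul_inv_rev, mul_inv_cancel_left] at this }
  have kH : k ∈ H := Or.inr (by rw [k2]; exact U.one_mem)
  have iso : ∀ u ∈ U, Commute k (u * k * u⁻¹) → u * k * u⁻¹ = k := fun u hu c => by
    have hq : k * (u * k * u⁻¹) ∈ U := by
      have := U.mul_mem (nk u hu) (U.inv_mem hu)
      rwa [show k * u * k * u⁻¹ = k * (u * k * u⁻¹) by group] at this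
    have e2 := conj_sq k2 u
    generalize hv : u * k * u⁻¹ = v at *
    rcases uniq _ hq (by
      calc k * v * (k * v) = k * (v * k) * v := by group
        _ = 1 := by rw [← c.eq, ← mul_assoc, k2, one_mul, e2]) (by rw [mul_assoc, c.eq]) with e | e
    · rw [← ki, eq_inv_of_mul_eq_one_right e]
    · exact absurd (by rw [hv, ← e, ← mul_assoc, k2, one_mul]) (hno u hu)
  have hz := zstar kH k1 k2 (by
    rintro h (hh | hh) c
    · exact iso h hh c
    · have e : h * k * h⁻¹ = h * k * k * (h * k)⁻¹ := by group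
      rw [e] at c ⊢
      exact iso _ hh c)
  obtain ⟨s, sU, s2, s1⟩ := ob_inv hs nc
  have cen : ∀ u ∈ U, u * k = k * u := by
    rcases simp_dich hs (Opc 2 H ⊓ U) inf_le_right (fun t ht o ho =>
      ⟨nrm_Opc 2 H t (Or.inl ht) o ho.1, U.mul_mem (U.mul_mem ht ho.2) (U.inv_mem ht)⟩) with e | e
    · intro u hu
      have uH : u ∈ H := Or.inl hu
      rw [← hz] at uH
      obtain ⟨o, ho, d, hd, rfl⟩ := (mem_sup_nrm' (Y := H ⊓ C1 k)
        fun a ha b hb => nrm_Opc 2 _ a ha.1 b hb).1 uH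
      have dt := mem_C1_iff_conj.1 hd.2
      have h1 : o * d * k * (o * d)⁻¹ * k⁻¹ = o * (k * o⁻¹ * k⁻¹) := by
        calc _ = o * (d * k * d⁻¹) * o⁻¹ * k⁻¹ := by group
          _ = _ := by rw [dt]; group
      have h2 : o * d * k * (o * d)⁻¹ * k⁻¹ ∈ Opc 2 H ⊓ U :=
        ⟨h1 ▸ (Opc 2 H).mul_mem ho (nrm_Opc 2 _ k kH _ ((Opc 2 H).inv_mem ho)), by
          have := U.mul_mem hu (nk _ (U.inv_mem hu))
          rw [show o * d * (k * (o * d)⁻¹ * k) = o * d * k * (o * d)⁻¹ * k by group] at this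
          rw [ki]
          exact this⟩
      rw [e, mem_bot] at h2
      calc o * d * k = o * d * k * (o * d)⁻¹ * k⁻¹ * (k * (o * d)) := by group
        _ = _ := by rw [h2, one_mul]
    · exfalso
      have hs' : s ∈ Opc 2 H := (e.ge sU).1
      haveI := Fact.mk Nat.prime_two
      refine not_dvd_card_Opc Nat.prime_two H ?_
      have h5 := (Opc 2 H).orderOf_dvd_natCard hs'
      rwa [orderOf_eq_prime (show s ^ 2 = 1 by rw [pow_two, s2]) s1] at h5
  obtain ⟨w, wU, w2, w1, ws, -⟩ := ob_four hs nc sU s2 s1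
  exact ws (((uniq w wU w2 (cen w wU)).resolve_left w1).trans
    ((uniq s sU s2 (cen s sU)).resolve_left s1).symm)

omit [Finite G] in
theorem q4_strip {k c : G} (k2 : k * k = 1) (h : c * (k * c * k⁻¹) = k * c * k⁻¹ * c) :
    c * (k * c * k⁻¹) * k = k * (c * (k * c * k⁻¹)) := by
  have ki : k⁻¹ = k := inv_eq_of_mul_eq_one_right k2
  calc c * (k * c * k⁻¹) * k = k * (k * c * k⁻¹ * c) := by
        rw [ki]
        calc c * (k * c * k) * k = c * k * c * (k * k) := by group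
          _ = (k * k) * c * k * c := by rw [k2]; group
          _ = _ := by group
    _ = _ := by rw [h]

omit [Finite G] in
theorem q4_comm {L U : Subgroup G} {k : G}
    (hc : ∀ a ∈ U, ∀ b ∈ U, k * a * k⁻¹ * b = b * (k * a * k⁻¹))
    (h : ∀ a ∈ U, k * a * k⁻¹ * a⁻¹ ∈ L) {a b : G} (ha : a ∈ U) (hb : b ∈ U) :
    a * b * a⁻¹ * b⁻¹ ∈ L := by
  have := L.mul_mem (L.inv_mem (h _ (U.mul_mem ha hb))) (L.mul_mem (h a ha) (h b hb))
  have e1 := hc b hb a⁻¹ (U.inv_mem ha)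
  have e : (k * (a * b) * k⁻¹ * (a * b)⁻¹)⁻¹ * (k * a * k⁻¹ * a⁻¹ * (k * b * k⁻¹ * b⁻¹)) =
      a * b * a⁻¹ * b⁻¹ := by
    calc _ = a * b * (k * b * k⁻¹)⁻¹ * (a⁻¹ * (k * b * k⁻¹)) * b⁻¹ := by group
      _ = _ := by rw [← e1]; group
  rwa [e] at this

/-- A component moved by an involution meets the stabiliser trivially. -/
theorem CF.q4_moved (hC : CF C) (ti : CTI C) {x y : Ω} (xy : x ≠ y) {T U : Subgroup G}
    (hT : T ∈ C x) {k : G} (hk : k ∈ T) (k2 : k * k = 1) (ky : k • y = y) (hU : U ∈ C y)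
    (mv : cg k U ≠ U) : ∀ c ∈ U, c • x = x → c = 1 := by
  have k1 : k ≠ 1 := fun e => mv (by rw [e, cg_one])
  have hc : ∀ a ∈ U, ∀ b ∈ U, k * a * k⁻¹ * b = b * (k * a * k⁻¹) := fun a ha b hb =>
    hC.comm y _ (hC.cj' ky hU) U hU mv _ (ob_mem_cg ha k) b hb
  rcases simp_dich (hC.simple y U hU) (U ⊓ stabilizer G x) inf_le_left (fun t ht c hc' =>
    ⟨U.mul_mem (U.mul_mem ht hc'.1) (U.inv_mem ht), by
      have h1 : t * (k * t * k⁻¹) ∈ stabilizer G x :=
        hC.cen ti hT hk k1 (q4_strip k2 (hc t ht t ht).symm)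
      have := (stabilizer G x).mul_mem ((stabilizer G x).mul_mem h1 hc'.2)
        ((stabilizer G x).inv_mem h1)
      rwa [mul_assoc t, hc t ht c hc'.1,
        show t * (c * (k * t * k⁻¹)) * (t * (k * t * k⁻¹))⁻¹ = t * c * t⁻¹ by group] at this⟩)
    with e | e
  · intro c hc cx
    have : c ∈ U ⊓ stabilizer G x := ⟨hc, cx⟩
    rwa [e, mem_bot] at this
  exfalso
  have fx : ∀ u ∈ U, u • x = x := fun u hu => (e.ge hu).2
  let L : Subgroup G :=
    { carrier := {g | ∀ V ∈ C x, cg g V = V}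
      mul_mem' := fun {a b} ha hb V hV => by rw [← cg_cg, hb V hV, ha V hV]
      one_mem' := fun V _ => cg_one V
      inv_mem' := fun {a} ha V hV => by
        conv_lhs => rw [← ha V hV]
        rw [cg_cg, inv_mul_cancel, cg_one] }
  have h1 : ∀ a ∈ U, k * a * k⁻¹ * a⁻¹ ∈ L := fun a ha => by
    rw [show k * a * k⁻¹ * a⁻¹ = k * (a * k⁻¹ * a⁻¹) by group]
    exact L.mul_mem (fun V hV => hC.cg_eq hT hV hk) fun V hV =>
      hC.cg_eq (hC.cj' (fx a ha) hT) hV (ob_mem_cg (T.inv_mem hk) a)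
  obtain ⟨a, ha, b, hb, ab⟩ := hC.nc y U hU
  have ab1 : a * b * a⁻¹ * b⁻¹ ≠ 1 := fun e => ab (by
    calc a * b = a * b * a⁻¹ * b⁻¹ * (b * a) := by group
      _ = _ := by rw [e, one_mul])
  have abU : a * b * a⁻¹ * b⁻¹ ∈ U :=
    U.mul_mem (U.mul_mem (U.mul_mem ha hb) (U.inv_mem ha)) (U.inv_mem hb)
  rcases simp_dich (hC.simple y U hU) (U ⊓ L) inf_le_left (fun t ht c hc' =>
    ⟨U.mul_mem (U.mul_mem ht hc'.1) (U.inv_mem ht), fun V hV => by
      have h2 : cg t⁻¹ V ∈ C x := hC.cj' (fx _ (U.inv_mem ht)) hV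
      rw [← cg_cg, ← cg_cg, hc'.2 _ h2, cg_cg, mul_inv_cancel, cg_one]⟩) with e' | e'
  · have : a * b * a⁻¹ * b⁻¹ ∈ U ⊓ L := ⟨abU, q4_comm hc h1 ha hb⟩
    rw [e', mem_bot] at this
    exact ab1 this
  · have h2 : ∀ a ∈ U, k * a * k⁻¹ * a⁻¹ ∈ T := fun a ha => by
      rw [show k * a * k⁻¹ * a⁻¹ = k * (a * k⁻¹ * a⁻¹) by group]
      refine T.mul_mem hk ?_
      have := ob_mem_cg (T.inv_mem hk) a
      rwa [(e'.ge ha).2 T hT] at this
    have : a * b * a⁻¹ * b⁻¹ ∈ T ⊓ U := ⟨q4_comm hc h2 ha hb, abU⟩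
    rw [ti x y xy T hT U hU, mem_bot] at this
    exact ab1 this

theorem CF.q4_mvd (hC : CF C) (ti : CTI C) {u v : Ω} {W V : Subgroup G} (hW : W ∈ C u) {j : G}
    (hj : j ∈ W) (j2 : j * j = 1) (j1 : j ≠ 1) (hV : V ∈ C v)
    (od : ∀ c ∈ V, c • u = u → c = 1) : cg j V ≠ V := fun e => by
  have ns : CfsgO5.NS V := ⟨hC.simple v V hV, fun c => by
    obtain ⟨a, ha, b, hb, ab⟩ := hC.nc v V hV
    exact ab (congrArg Subtype.val (c.1.1 ⟨a, ha⟩ ⟨b, hb⟩))⟩
  obtain ⟨d, hd, -, d1, c⟩ := CfsgO5.cent_inv ns.even j2 (mem_normalizer_iff.2 fun n => by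
    constructor
    · intro hn
      have := ob_mem_cg hn j
      rwa [e] at this
    · intro hn
      have h2 : j * n * j⁻¹ ∈ cg j V := e.symm ▸ hn
      simpa [mem_cg, mul_assoc] using h2)
  exact d1 (od d hd (hC.cen ti hW hj j1 c.symm))

theorem CF.q4_uniq (hC : CF C) (ti : CTI C) {u v : Ω} (uv : u ≠ v) {W V : Subgroup G}
    (hW : W ∈ C u) (hV : V ∈ C v) (od : ∀ c ∈ V, c • u = u → c = 1) {j i : G}
    (hj : j ∈ W) (j2 : j * j = 1) (j1 : j ≠ 1) (jv : j • v = v)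
    (hi : i ∈ W) (i2 : i * i = 1) (i1 : i ≠ 1) (iv : i • v = v) : j = i := by
  by_contra ne
  have mj := hC.q4_mvd ti hW hj j2 j1 hV od
  have mi := hC.q4_mvd ti hW hi i2 i1 hV od
  have Vj := hC.cj' jv hV
  have Vi := hC.cj' iv hV
  have sj : ∀ a ∈ V, a * (j * a * j⁻¹) ∈ stabilizer G u := fun a ha =>
    hC.cen ti hW hj j1 (q4_strip j2 (hC.comm v _ Vj V hV mj _ (ob_mem_cg ha j) a ha).symm)
  have si : ∀ a ∈ V, a * (i * a * i⁻¹) ∈ stabilizer G u := fun a ha =>
    hC.cen ti hW hi i1 (q4_strip i2 (hC.comm v _ Vi V hV mi _ (ob_mem_cg ha i) a ha).symm)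
  obtain ⟨a, ha, b, hb, ab⟩ := hC.nc v V hV
  by_cases e : cg j V = cg i V
  · have m2 : cg j (cg j V) ≠ cg j V := by
      rw [cg_cg, j2, cg_one]; exact mj.symm
    have h1 := hC.q4_moved ti uv hW hj j2 jv Vj m2 ((j * a * j⁻¹)⁻¹ * (i * a * i⁻¹))
      ((cg j V).mul_mem ((cg j V).inv_mem (ob_mem_cg ha j)) (e ▸ ob_mem_cg ha i)) (by
        have := (stabilizer G u).mul_mem ((stabilizer G u).inv_mem (sj a ha)) (si a ha)
        rwa [show (a * (j * a * j⁻¹))⁻¹ * (a * (i * a * i⁻¹)) = (j * a * j⁻¹)⁻¹ * (i * a * i⁻¹) by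
          group] at this)
    have h2 := inv_mul_eq_one.1 h1
    have := od a ha (hC.cen ti hW (W.mul_mem (W.inv_mem hj) hi)
      (fun h => ne (inv_mul_eq_one.1 h)) (by
        calc a * (j⁻¹ * i) = j⁻¹ * (j * a * j⁻¹) * i := by group
          _ = j⁻¹ * i * a := by rw [h2]; group))
    exact ab (by rw [this, one_mul, mul_one])
  · have c1 := hC.comm v _ Vj V hV mj _ (ob_mem_cg ha j) b hb
    have c2 := hC.comm v _ Vi V hV mi _ (ob_mem_cg hb i) a ha
    have c3 := hC.comm v _ Vj _ Vi e _ (ob_mem_cg ha j) _ (ob_mem_cg hb i)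
    have c4 := hC.comm v _ Vi V hV mi _ (ob_mem_cg hb i) _
      (V.mul_mem (V.mul_mem (V.mul_mem ha hb) (V.inv_mem ha)) (V.inv_mem hb))
    have h1 := sj a ha
    have h2 := si b hb
    generalize j * a * j⁻¹ = p at *
    generalize i * b * i⁻¹ = q at *
    have h3 := (stabilizer G u).mul_mem ((stabilizer G u).mul_mem h1 h2)
      ((stabilizer G u).inv_mem ((stabilizer G u).mul_mem h2 h1))
    have e3 : a * p * (b * q) * (b * q * (a * p))⁻¹ = a * b * a⁻¹ * b⁻¹ := by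
      calc a * p * (b * q) * (b * q * (a * p))⁻¹
          = a * (p * b) * q * (b * (q * a) * p)⁻¹ := by group
        _ = a * b * (p * q) * (b * a * (q * p))⁻¹ := by rw [c1, c2]; group
        _ = _ := by rw [c3]; group
    rw [e3] at h3
    have := od _ (V.mul_mem (V.mul_mem (V.mul_mem ha hb) (V.inv_mem ha)) (V.inv_mem hb)) h3
    exact ab (by
      calc a * b = a * b * a⁻¹ * b⁻¹ * (b * a) := by group
        _ = _ := by rw [this, one_mul])

theorem CF.q4_caseII (two : Two G Ω) (hC : CF C) (ti : CTI C) {x y : Ω} (xy : x ≠ y)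
    {T U : Subgroup G} (hT : T ∈ C x) {k : G} (hk : k ∈ T) (k2 : k * k = 1) (ky : k • y = y)
    (hU : U ∈ C y) (mv : cg k U ≠ U) : False := by
  have k1 : k ≠ 1 := fun e => mv (by rw [e, cg_one])
  have od : ∀ u v, u ≠ v → ∃ V ∈ C v, ∀ c ∈ V, c • u = u → c = 1 := fun u v uv => by
    obtain ⟨g, rfl, rfl⟩ := two x y u v xy uv
    refine ⟨_, hC.cj g y U hU, fun c hc cu => ?_⟩
    have := hC.q4_moved ti xy hT hk k2 ky hU mv _ (mem_cg.1 hc) (by
      rw [mul_smul, mul_smul, cu, inv_smul_smul])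
    calc c = g * (g⁻¹ * c * g) * g⁻¹ := by group
      _ = 1 := by rw [this]; group
  obtain ⟨g, gx, gy⟩ := two x y y x xy xy.symm
  have hU' := hC.cj' gx hT
  have hc := ob_mem_cg hk g
  have c2 := conj_sq k2 g
  have c1 := ob_cj1 (g := g) k1
  have cx : (g * k * g⁻¹) • x = x := gy ▸ conj_fix ky g
  generalize g * k * g⁻¹ = c at *
  generalize cg g T = V at *
  obtain ⟨M, hM, oM⟩ := od y x xy.symm
  have mM := hC.q4_mvd ti hU' hc c2 c1 hM oM
  have hM1 := hC.cj' cx hM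
  have cy : c • y = y := hC.fix y V hU' c hc
  obtain ⟨a, ha, a2, a1⟩ := ob_inv (hC.simple x M hM) (hC.nc x M hM)
  have ay : y ≠ a • y := fun e => a1 (oM a ha e.symm)
  have ha' := ob_mem_cg ha c
  have wc := q4_strip c2 (hC.comm x _ hM1 M hM mM _ ha' a ha).symm
  have ai : a⁻¹ = a := inv_eq_of_mul_eq_one_right a2
  have ci : c⁻¹ = c := inv_eq_of_mul_eq_one_right c2
  have ek : a * c * a⁻¹ = a * (c * a * c⁻¹) * c := by rw [ai]; group
  have hVa := hC.cj a y V hU'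
  have hk0 := ob_mem_cg hc a
  have k01 := ob_cj1 (g := a) c1
  have wy := hC.cen ti hU' hc c1 wc
  have wV : cg (a * (c * a * c⁻¹)) V = V :=
    hC.ob_eq hU' (hC.cj' wy hU') hc c1 (by
      have := ob_mem_cg hc (a * (c * a * c⁻¹))
      rwa [wc, mul_inv_cancel_right] at this)
  obtain ⟨V1, hV1, oV1⟩ := od y (a • y) ay
  obtain ⟨t, ht, et⟩ := q4_tlem (hC.simple y V hU') (hC.nc y V hU') (g := c) (conj_sq c2 a) k01
    (by rw [ek, ← cg_cg, hC.cg_eq hU' hU' hc, wV]) fun q hq q2 qc => by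
      by_cases q1 : q = 1
      · exact Or.inl q1
      · exact Or.inr (hC.q4_uniq ti ay hU' hV1 oV1 hq q2 q1 (hC.cen ti hVa hk0 k01 qc) hc c2 c1
          (hC.cen ti hVa hk0 k01 (by rw [ek, ← mul_assoc, wc, mul_assoc, wc])))
  have hw := ob_mem_cg hk0 t
  have w1 := ob_cj1 (g := t) k01
  have hW := hC.cj t _ _ hVa
  rw [et, ek, mul_assoc _ c c, c2, mul_one] at hw w1
  by_cases e : x = t • a • y
  · rw [← e] at hW
    exact a1 (hC.ob_supp2 hM hM1 hW mM.symm ha ha' (ob_cj1 a1) hw)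
  have TM : T ≠ M := fun e => k1 (oM k (e ▸ hk) ky)
  have TM1 : T ≠ cg c M := fun e => by
    have := oM _ (mem_cg.1 (e ▸ hk)) (by
      rw [mul_smul, mul_smul, cy, ky, inv_smul_eq_iff, cy])
    exact k1 (by
      calc k = c * (c⁻¹ * k * c) * c⁻¹ := by group
        _ = 1 := by rw [this]; group)
  have fz : ∀ s ∈ T, s • t • a • y = t • a • y := fun s hs =>
    hC.cen ti hW hw w1 (by
      rw [← mul_assoc, hC.comm x T hT M hM TM s hs a ha, mul_assoc,
        hC.comm x T hT _ hM1 TM1 s hs _ ha', ← mul_assoc])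
  obtain ⟨V2, hV2, oV2⟩ := od x _ e
  obtain ⟨s, hs, s2, s1, sk, -⟩ := ob_four (hC.simple x T hT) (hC.nc x T hT) hk k2 k1
  exact sk (hC.q4_uniq ti e hT hV2 oV2 hs s2 s1 (fz s hs) hk k2 k1 (fz k hk))

/-- Components at different points cannot all meet trivially. -/
theorem CF.beta [FaithfulSMul G Ω] [Nontrivial Ω] (two : Two G Ω) (hC : CF C) (ti : CTI C) :
    False := by
  refine hC.caseI two ti ?_ fun x y xy T hT k hk k2 ky U hU => ?_
  · by_contra h
    push Not at h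
    exact hC.sA fun x T hT t ht t2 t1 y e => by
      by_contra n
      exact h x T hT t ht t2 t1 y n e
  · by_contra mv
    exact hC.q4_caseII two ti xy hT hk k2 ky hU mv

end CfsgOA
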