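import Mathlib

set_option autoImplicit false

open Matrix

namespace CfsgH4

section SL2

variable {K : Type*} [Field K]

/-- upper unitriangular matrix -/
def uu (t : K) : SpecialLinearGroup (Fin 2) K := ⟨!![1, t; 0, 1], by simp [det_fin_two]⟩

/-- lower unitriangular matrix -/
def ll (t : K) : SpecialLinearGroup (Fin 2) K := ⟨!![1, 0; t, 1], by simp [det_fin_two]⟩

theorem uu_val (t : K) : (uu t).1 = !![1, t; 0, 1] := rfl
theorem ll_val (t : K) : (ll t).1 = !![1, 0; t, 1] := rfl

theorem sl_ext {ι : Type*} [Fintype ι] [DecidableEq ι] {a b : SpecialLinearGroup ι K}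
    (h : (a : Matrix ι ι K) = b) : a = b := Subtype.ext h

theorem uu_add (s t : K) : uu (s + t) = uu s * uu t := by
  apply sl_ext
  rw [Matrix.SpecialLinearGroup.coe_mul, uu_val, uu_val, uu_val]
  ext i j; fin_cases i <;> fin_cases j <;> simp [add_comm]

theorem ll_add (s t : K) : ll (s + t) = ll s * ll t := by
  apply sl_ext
  rw [Matrix.SpecialLinearGroup.coe_mul, ll_val, ll_val, ll_val]
  ext i j; fin_cases i <;> fin_cases j <;> simp

theorem uu_zero : uu (0 : K) = 1 := by
  apply sl_ext
  rw [uu_val]; ext i j; fin_cases i <;> fin_cases j <;> simp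

theorem ll_zero : ll (0 : K) = 1 := by
  apply sl_ext
  rw [ll_val]; ext i j; fin_cases i <;> fin_cases j <;> simp

theorem uu_pow (t : K) (n : ℕ) : uu t ^ n = uu (n * t) := by
  induction n with
  | zero => simp [uu_zero]
  | succ n ih => rw [pow_succ, ih, ← uu_add]; congr 1; push_cast; ring

theorem ll_pow (t : K) (n : ℕ) : ll t ^ n = ll (n * t) := by
  induction n with
  | zero => simp [ll_zero]
  | succ n ih => rw [pow_succ, ih, ← ll_add]; congr 1; push_cast; ring

theorem uu_ll_ne : uu (1 : K) * ll 1 ≠ ll 1 * uu 1 := by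
  intro h
  have := congrArg (fun g : SpecialLinearGroup (Fin 2) K => g.1 0 0) h
  simp [uu_val, ll_val] at this

theorem sl2_induction {p : SpecialLinearGroup (Fin 2) K → Prop} (hu : ∀ t, p (uu t))
    (hl : ∀ t, p (ll t)) (hmul : ∀ a b, p a → p b → p (a * b)) (g : SpecialLinearGroup (Fin 2) K) :
    p g := by
  have key : ∀ g : SpecialLinearGroup (Fin 2) K, g.1 1 0 ≠ 0 → p g := by
    intro g hg
    have hdet := g.2
    rw [det_fin_two] at hdet
    have : g = uu ((g.1 0 0 - 1) / g.1 1 0) * ll (g.1 1 0) * uu ((g.1 1 1 - 1) / g.1 1 0) := by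
      apply sl_ext
      rw [Matrix.SpecialLinearGroup.coe_mul, Matrix.SpecialLinearGroup.coe_mul, uu_val, uu_val, ll_val]
      ext i j; fin_cases i <;> fin_cases j <;> simp <;> field_simp
      · ring
      · linear_combination -hdet
      · ring
    rw [this]
    exact hmul _ _ (hmul _ _ (hu _) (hl _)) (hu _)
  by_cases hg : g.1 1 0 = 0
  · have hdet := g.2
    rw [det_fin_two, hg] at hdet
    have h0 : g.1 0 0 ≠ 0 := by intro h; simp [h] at hdet
    have : g = ll (-1) * (ll 1 * g) := by rw [← mul_assoc, ← ll_add]; simp [ll_zero]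
    rw [this]
    refine hmul _ _ (hl _) (key _ ?_)
    simp [ll_val, Matrix.mul_apply, Fin.sum_univ_two, hg, h0]
  · exact key g hg

end SL2

section Nil

variable {F : Type*} [Field F]

theorem sq_eq_zero_of_pow_two {X : Matrix (Fin 2) (Fin 2) F} {n : ℕ} (h : X ^ n = 0) :
    X * X = 0 := by
  rcases n with _ | n
  · simp at h
  have hdet : X.det = 0 := by
    have := congrArg det h
    rw [det_pow, det_zero] at this
    exact pow_eq_zero_iff (by omega) |>.1 this
  have h1 : X * X = X.trace • X := by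
    rw [det_fin_two] at hdet
    ext i j; fin_cases i <;> fin_cases j <;> simp [Matrix.mul_apply, Fin.sum_univ_two, trace_fin_two]
    · linear_combination -hdet
    · ring
    · ring
    · linear_combination -hdet
  have h2 : ∀ m : ℕ, X ^ (m + 1) = X.trace ^ m • X := by
    intro m
    induction m with
    | zero => simp
    | succ m ih => rw [pow_succ, ih, smul_mul_assoc, h1, smul_smul, pow_succ]
  rw [h2] at h
  rcases smul_eq_zero.1 h with h | h
  · rw [h1, pow_eq_zero_iff' |>.1 h |>.1, zero_smul]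
  · simp [h]

theorem unip_sq (p : ℕ) [Fact p.Prime] [CharP F p] {A : Matrix (Fin 2) (Fin 2) F}
    (h : A ^ p = 1) : (A - 1) * (A - 1) = 0 := by
  apply sq_eq_zero_of_pow_two (n := p)
  rw [sub_pow_char_of_commute _ (Commute.one_right A), h, one_pow, sub_self]

theorem exists_basis_nil {X Y : Matrix (Fin 2) (Fin 2) F} (hX : X * X = 0) (hY : Y * Y = 0)
    (hXY : X * Y ≠ Y * X) : ∃ (M N : Matrix (Fin 2) (Fin 2) F) (τ : F), M * N = 1 ∧ N * M = 1 ∧
      τ ≠ 0 ∧ N * X * M = !![0, τ; 0, 0] ∧ N * Y * M = !![0, 0; 1, 0] := by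
  have nil : ∀ X : Matrix (Fin 2) (Fin 2) F, X * X = 0 →
      X 1 1 = - X 0 0 ∧ X 0 0 ^ 2 + X 0 1 * X 1 0 = 0 := by
    intro X hX
    have h00 := congrFun (congrFun hX 0) 0
    have h01 := congrFun (congrFun hX 0) 1
    have h10 := congrFun (congrFun hX 1) 0
    have h11 := congrFun (congrFun hX 1) 1
    simp [Matrix.mul_apply, Fin.sum_univ_two] at h00 h01 h10 h11
    refine ⟨?_, by linear_combination h00⟩
    have : (X 0 0 + X 1 1) ^ 3 = 0 := by
      linear_combination (X 0 0 + 3 * X 1 1) * h00 + (X 1 1 + 3 * X 0 0) * h11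
        - 4 * X 1 0 * h01
    have := pow_eq_zero_iff (by norm_num) |>.1 this
    linear_combination this
  obtain ⟨x1, x2⟩ := nil X hX
  obtain ⟨y1, y2⟩ := nil Y hY
  set τ := 2 * X 0 0 * Y 0 0 + X 0 1 * Y 1 0 + X 1 0 * Y 0 1 with hτ
  have hτ0 : τ ≠ 0 := by
    intro h0
    rw [h0] at hτ
    apply hXY
    have e1 : X 0 0 * Y 0 1 - X 0 1 * Y 0 0 = 0 := by
      apply pow_eq_zero_iff (two_ne_zero) |>.1
      linear_combination Y 0 1 ^ 2 * x2 + X 0 1 ^ 2 * y2 + X 0 1 * Y 0 1 * hτ
    have e2 : X 0 0 * Y 1 0 - X 1 0 * Y 0 0 = 0 := by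
      apply pow_eq_zero_iff (two_ne_zero) |>.1
      linear_combination Y 1 0 ^ 2 * x2 + X 1 0 ^ 2 * y2 + X 1 0 * Y 1 0 * hτ
    have e3 : X 0 0 * Y 0 0 + X 0 1 * Y 1 0 = 0 := by
      apply pow_eq_zero_iff (two_ne_zero) |>.1
      linear_combination Y 0 0 ^ 2 * x2 - X 0 1 * X 1 0 * y2 - X 0 1 * Y 1 0 * hτ
    have e4 : X 0 0 * Y 0 0 + X 1 0 * Y 0 1 = 0 := by linear_combination -hτ - e3
    ext i j; fin_cases i <;> fin_cases j <;> simp [Matrix.mul_apply, Fin.sum_univ_two, x1, y1]
    · linear_combination e3 - e4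
    · linear_combination 2 * e1
    · linear_combination -2 * e2
    · linear_combination e4 - e3
  have hX0 : X ≠ 0 := by rintro rfl; simp at hXY
  obtain ⟨j, hj⟩ : ∃ j, X 0 j ≠ 0 ∨ X 1 j ≠ 0 := by
    by_contra! h
    apply hX0
    ext i j; fin_cases i
    · exact (h j).1
    · exact (h j).2
  have k0 : X 0 0 * X 0 j + X 0 1 * X 1 j = 0 := by
    have := congrFun (congrFun hX 0) j
    simpa [Matrix.mul_apply, Fin.sum_univ_two] using this
  have k1 : X 1 0 * X 0 j - X 0 0 * X 1 j = 0 := by
    have := congrFun (congrFun hX 1) j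
    simp only [Matrix.mul_apply, Fin.sum_univ_two, x1, Matrix.zero_apply] at this
    linear_combination this
  generalize X 0 j = a at hj k0 k1
  generalize X 1 j = b at hj k0 k1
  let M : Matrix (Fin 2) (Fin 2) F := !![a, Y 0 0 * a + Y 0 1 * b; b, Y 1 0 * a - Y 0 0 * b]
  have hXM : X * M = M * !![0, τ; 0, 0] := by
    ext i j; fin_cases i <;> fin_cases j <;> simp [M, Matrix.mul_apply, Fin.sum_univ_two, x1, hτ]
    · linear_combination k0
    · linear_combination -Y 0 0 * k0 - Y 0 1 * k1
    · linear_combination k1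
    · linear_combination -Y 1 0 * k0 + Y 0 0 * k1
  have hYM : Y * M = M * !![0, 0; 1, 0] := by
    ext i j; fin_cases i <;> fin_cases j <;> simp [M, Matrix.mul_apply, Fin.sum_univ_two, y1]
    · linear_combination a * y2
    · ring
    · linear_combination b * y2
  have hdet : M.det ≠ 0 := by
    intro h
    simp only [M, det_fin_two_of] at h
    have e1 : τ * a * a = 0 := by
      linear_combination (X 0 1) * h + (Y 0 0 * a * 2 + Y 0 1 * b) * k0 + Y 0 1 * a * k1
    have e2 : τ * b * b = 0 := by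
      linear_combination (-X 1 0) * h + (Y 1 0 * b) * k0 + (Y 1 0 * a - 2 * Y 0 0 * b) * k1
    rcases hj with hj | hj
    · simp [hτ0, hj] at e1
    · simp [hτ0, hj] at e2
  have hu : IsUnit M.det := isUnit_iff_ne_zero.2 hdet
  refine ⟨M, M⁻¹, τ, mul_nonsing_inv _ hu, nonsing_inv_mul _ hu, hτ0, ?_, ?_⟩
  · rw [Matrix.mul_assoc, hXM, ← Matrix.mul_assoc, nonsing_inv_mul _ hu, Matrix.one_mul]
  · rw [Matrix.mul_assoc, hYM, ← Matrix.mul_assoc, nonsing_inv_mul _ hu, Matrix.one_mul]

theorem weyl_val {a b : F} (h : a * b = 1) :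
    !![1, a; 0, 1] * !![1, 0; -b, 1] * !![1, a; 0, 1] = !![0, a; -b, 0] := by
  ext i j; fin_cases i <;> fin_cases j <;> simp
  · linear_combination -h
  · left; linear_combination -h
  · linear_combination -h

end Nil

/-- Injective homomorphisms `SL₂(K) → GL₂(F)` in the same characteristic are semilinear. -/
theorem sl2_hom_classify {K F : Type*} [Field K] [Field F] (p : ℕ) [Fact p.Prime] [CharP K p]
    [CharP F p] (α : SpecialLinearGroup (Fin 2) K →* Matrix (Fin 2) (Fin 2) F)
    (hinj : Function.Injective α) :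
    ∃ (f : K →+* F) (M N : Matrix (Fin 2) (Fin 2) F), M * N = 1 ∧ N * M = 1 ∧
      ∀ g, α g = M * g.1.map f * N := by
  have hu : ∀ t, (α (uu t) - 1) * (α (uu t) - 1) = 0 := fun t => unip_sq p (by
    rw [← map_pow, uu_pow]; simp [uu_zero])
  have hl : ∀ t, (α (ll t) - 1) * (α (ll t) - 1) = 0 := fun t => unip_sq p (by
    rw [← map_pow, ll_pow]; simp [ll_zero])
  obtain ⟨M, N, τ, hMN, hNM, hτ, hX, hY⟩ := exists_basis_nil (hu 1) (hl 1) (by
    intro h
    apply uu_ll_ne (K := K)
    apply hinj
    rw [map_mul, map_mul]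
    have e : ∀ A B : Matrix (Fin 2) (Fin 2) F, A * B = (A - 1) * (B - 1) + A + B - 1 := by
      intro A B; noncomm_ring
    rw [e, h, e (α (ll 1))]; abel)
  let β : SpecialLinearGroup (Fin 2) K →* Matrix (Fin 2) (Fin 2) F :=
    { toFun := fun g => N * α g * M
      map_one' := by rw [map_one, Matrix.mul_one, hNM]
      map_mul' := fun a b => by
        rw [map_mul]
        simp only [Matrix.mul_assoc]
        rw [← Matrix.mul_assoc M N, hMN, Matrix.one_mul] }
  have hβ : ∀ g, β g = N * α g * M := fun g => rfl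
  have hβ' : ∀ g, N * (α g - 1) * M = β g - 1 := fun g => by
    rw [hβ, Matrix.mul_sub, Matrix.sub_mul, Matrix.mul_one, hNM]
  have hsq : ∀ g, (α g - 1) * (α g - 1) = 0 → (β g - 1) * (β g - 1) = 0 := by
    intro g hg
    rw [← hβ']
    simp only [Matrix.mul_assoc]
    rw [← Matrix.mul_assoc M N, hMN, Matrix.one_mul, ← Matrix.mul_assoc (α g - 1), hg]
    simp
  rw [hβ', sub_eq_iff_eq_add] at hX hY
  have hbu : ∀ t, β (uu t) = !![1, β (uu t) 0 1; 0, 1] := by
    intro t
    have h1 : β (uu t) * β (uu 1) = β (uu 1) * β (uu t) := by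
      rw [← map_mul, ← map_mul, ← uu_add, ← uu_add, add_comm]
    have h2 := hsq _ (hu t)
    rw [hX] at h1
    generalize β (uu t) = A at h1 h2
    have h00 := congrFun (congrFun h1 0) 0
    have h01 := congrFun (congrFun h1 0) 1
    have k00 := congrFun (congrFun h2 0) 0
    simp [Matrix.mul_apply, Fin.sum_univ_two, hτ] at h00 h01 k00
    rw [h00] at k00
    have e1 : A 0 0 = 1 := by simpa [sub_eq_zero] using k00
    have e2 : A 1 1 = 1 := by
      apply mul_left_cancel₀ hτ; linear_combination -h01 + τ * e1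
    ext i j; fin_cases i <;> fin_cases j <;> simp [h00, e1, e2]
  have hbl : ∀ t, β (ll t) = !![1, 0; β (ll t) 1 0, 1] := by
    intro t
    have h1 : β (ll t) * β (ll 1) = β (ll 1) * β (ll t) := by
      rw [← map_mul, ← map_mul, ← ll_add, ← ll_add, add_comm]
    have h2 := hsq _ (hl t)
    rw [hY] at h1
    generalize β (ll t) = A at h1 h2
    have h00 := congrFun (congrFun h1 0) 0
    have h10 := congrFun (congrFun h1 1) 0
    have k00 := congrFun (congrFun h2 0) 0
    simp [Matrix.mul_apply, Fin.sum_univ_two] at h00 h10 k00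
    rw [h00] at k00
    have e1 : A 0 0 = 1 := by simpa [sub_eq_zero] using k00
    have e2 : A 1 1 = 1 := by linear_combination h10 + e1
    ext i j; fin_cases i <;> fin_cases j <;> simp [h00, e1, e2]
  obtain ⟨f, hf⟩ : ∃ f : K → F, ∀ t, β (uu t) = !![1, f t; 0, 1] := ⟨_, hbu⟩
  obtain ⟨g, hg⟩ : ∃ g : K → F, ∀ t, β (ll t) = !![1, 0; g t, 1] := ⟨_, hbl⟩
  have fadd : ∀ s t, f (s + t) = f s + f t := by
    intro s t
    have := congrFun (congrFun (map_mul β (uu s) (uu t)) 0) 1
    rw [← uu_add, hf, hf, hf] at this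
    simpa [add_comm] using this
  have gadd : ∀ s t, g (s + t) = g s + g t := by
    intro s t
    have := congrFun (congrFun (map_mul β (ll s) (ll t)) 1) 0
    rw [← ll_add, hg, hg, hg] at this
    simpa using this
  have f0 : f 0 = 0 := by have := fadd 0 0; simpa using this
  have g0 : g 0 = 0 := by have := gadd 0 0; simpa using this
  have fneg : ∀ t, f (-t) = - f t := fun t => by
    have := fadd (-t) t; rw [neg_add_cancel, f0] at this; linear_combination -this
  have gneg : ∀ t, g (-t) = - g t := fun t => by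
    have := gadd (-t) t; rw [neg_add_cancel, g0] at this; linear_combination -this
  have f1 : f 1 = τ := by
    have := congrFun (congrFun ((hf 1).symm.trans hX) 0) 1
    simpa using this
  have g1 : g 1 = 1 := by
    have := congrFun (congrFun ((hg 1).symm.trans hY) 1) 0
    simpa using this
  -- Weyl elements
  have hw : ∀ t : K, t ≠ 0 → ∀ s, uu t * ll (-t⁻¹) * uu t * uu s =
      ll (-(s * t⁻¹ ^ 2)) * (uu t * ll (-t⁻¹) * uu t) := by
    intro t ht s
    apply sl_ext
    simp only [Matrix.SpecialLinearGroup.coe_mul, uu_val, ll_val]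
    rw [weyl_val (mul_inv_cancel₀ ht)]
    ext i j; fin_cases i <;> fin_cases j <;> simp
    field_simp
  have hw1 : ∀ t : K, t ≠ 0 → f t * g t⁻¹ = 1 := by
    intro t ht
    have := congrArg β (hw t ht 1)
    simp only [map_mul, hf, hg, gneg, f1, Matrix.mul_fin_two] at this
    have := congrFun (congrFun this 0) 1
    simp only [of_apply, cons_val', cons_val_one, cons_val_fin_one, cons_val_zero] at this
    apply mul_left_cancel₀ hτ
    linear_combination -this
  have hτ1 : τ = 1 := by have := hw1 1 one_ne_zero; rwa [inv_one, f1, g1, mul_one] at this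
  have hfg : ∀ s, g s = f s := by
    intro s
    have := congrArg β (hw 1 one_ne_zero s)
    simp only [map_mul, hf, hg, gneg, f1, inv_one, g1, hτ1, one_pow, mul_one,
      Matrix.mul_fin_two] at this
    have := congrFun (congrFun this 1) 1
    simp only [of_apply, cons_val', cons_val_one, cons_val_fin_one, cons_val_zero] at this
    linear_combination this
  have fmul : ∀ s t, f (s * t) = f s * f t := by
    intro s t
    by_cases hs : s = 0
    · simp [hs, f0]
    by_cases ht : t = 0
    · simp [ht, f0]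
    have e : uu s * ll (-s⁻¹) * uu s * (uu (-1) * ll 1 * uu (-1)) * (uu t * ll (-t⁻¹) * uu t) =
        uu (s * t) * ll (-(s * t)⁻¹) * uu (s * t) := by
      apply sl_ext
      simp only [Matrix.SpecialLinearGroup.coe_mul, uu_val, ll_val]
      rw [weyl_val (mul_inv_cancel₀ ht), weyl_val (mul_inv_cancel₀ hs),
        weyl_val (mul_inv_cancel₀ (mul_ne_zero hs ht))]
      ext i j; fin_cases i <;> fin_cases j <;> simp [mul_comm]
    have := congrArg β e
    simp only [map_mul, hf, hg, gneg, fneg, f1, g1, hτ1] at this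
    rw [weyl_val (hw1 s hs), weyl_val (hw1 t ht), weyl_val (hw1 _ (mul_ne_zero hs ht))] at this
    have := congrFun (congrFun this 0) 1
    simpa using this.symm
  let φ : K →+* F :=
    { toFun := f, map_one' := f1.trans hτ1, map_mul' := fmul, map_zero' := f0, map_add' := fadd }
  refine ⟨φ, M, N, hMN, hNM, fun x => ?_⟩
  have : β x = x.1.map φ := by
    induction x using sl2_induction with
    | hu t => rw [hf, uu_val]; ext i j; fin_cases i <;> fin_cases j <;> simp [φ, f0, f1, hτ1]
    | hl t => rw [hg, ll_val]; ext i j; fin_cases i <;> fin_cases j <;> simp [φ, f0, f1, hτ1, hfg]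
    | hmul a b ha hb => rw [map_mul, ha, hb, Matrix.SpecialLinearGroup.coe_mul, Matrix.map_mul]
  rw [← this, hβ]
  simp only [Matrix.mul_assoc]
  rw [hMN, Matrix.mul_one, ← Matrix.mul_assoc, hMN, Matrix.one_mul]

/-- a ring homomorphism from a subfield of a finite field extends to an automorphism -/
theorem exists_ringEquiv_extend {K F : Type*} [Field K] [Field F] [Finite F] (i f : K →+* F) :
    ∃ τ : F ≃+* F, ∀ x : K, τ (i x) = f x := by
  obtain ⟨p, hp⟩ := CharP.exists F
  haveI : Fact p.Prime := ⟨CharP.char_is_prime F p⟩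
  haveI : CharP K p := i.charP i.injective p
  letI : Algebra (ZMod p) F := ZMod.algebra _ _
  letI : Algebra (ZMod p) K := ZMod.algebra _ _
  letI : Algebra K F := i.toAlgebra
  haveI : IsScalarTower (ZMod p) K F := IsScalarTower.of_algebraMap_eq' (RingHom.ext_zmod _ _)
  let g : K →ₐ[ZMod p] F := ⟨f, fun r => by
    have := RingHom.ext_zmod (f.comp (algebraMap (ZMod p) K)) (algebraMap (ZMod p) F)
    exact congrArg (fun φ : ZMod p →+* F => φ r) this⟩
  let τ := g.liftNormal F
  refine ⟨RingEquiv.ofBijective τ.toRingHom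
    (Finite.injective_iff_bijective.1 τ.toRingHom.injective), fun x => ?_⟩
  exact g.liftNormal_commutes F x

end CfsgH4
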