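import Cfsg.Agent.H4.PhanInd
import Cfsg.Agent.H4.SL2Hom

set_option autoImplicit false

open Matrix

namespace CfsgH4

/-- finite Hermitian fields -/
class HermFin (F : Type*) [Field F] [StarRing F] : Prop extends HermField F where
  fin : Finite F
  comm : ∀ (τ : F ≃+* F) (x : F), τ (star x) = star (τ x)

section Lam

variable {F : Type*} [Field F] [StarRing F]

theorem exists_lam [HermField F] : ∃ l : F, l * star l = 1 ∧ l ≠ star l := by
  obtain ⟨x, hx, hx'⟩ : ∃ x : F, star x ≠ x ∧ star x ≠ -x := by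
    obtain ⟨x, hx⟩ := HermField.exists_ne (F := F)
    by_cases h : star x = -x
    · refine ⟨x + 1, by simpa using hx, ?_⟩
      intro h2
      rw [star_add, star_one, h] at h2
      apply hx
      rw [h]
      linear_combination (-x) * h2
    · exact ⟨x, hx, h⟩
  have h0 : x ≠ 0 := by rintro rfl; simp at hx
  have h1 : star x ≠ 0 := by simpa using h0
  refine ⟨star x / x, ?_, ?_⟩
  · rw [star_div₀, star_star]; field_simp
  · rw [star_div₀, star_star]
    intro h
    field_simp at h
    have : (star x - x) * (star x + x) = 0 := by linear_combination h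
    rcases mul_eq_zero.1 this with h | h
    · exact hx (by linear_combination h)
    · exact hx' (by linear_combination h)

theorem ne_one_of_ne_star {l : F} (h : l ≠ star l) : l ≠ 1 := by
  rintro rfl; simp at h

/-- the fixed field of the involution -/
def fixK (F : Type*) [Field F] [StarRing F] : Subfield F where
  carrier := {x | star x = x}
  mul_mem' := fun {a b} (ha : star a = a) (hb : star b = b) => by
    show star (a * b) = a * b
    rw [star_mul', ha, hb]
  one_mem' := star_one F
  add_mem' := fun {a b} (ha : star a = a) (hb : star b = b) => by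
    show star (a + b) = a + b
    rw [star_add, ha, hb]
  zero_mem' := star_zero F
  neg_mem' := fun {a} (ha : star a = a) => by
    show star (-a) = -a
    rw [star_neg, ha]
  inv_mem' := fun a (ha : star a = a) => by
    show star a⁻¹ = a⁻¹
    rw [star_inv₀, ha]

end Lam

section Sl

variable {ι κ F : Type*} [Fintype ι] [DecidableEq ι] [Fintype κ] [DecidableEq κ] [Field F]
  [StarRing F]

theorem Blk_entry {s : Set ι} {A : SUg ι F} (hA : A ∈ Blk F s) {i j : ι} (h : i ∉ s ∨ j ∉ s) :
    A.1 i j = if i = j then 1 else 0 := by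
  rw [← SUg.smul_ev]
  rcases h with h | h
  · rw [Blk_apply hA _ h, ev_apply]
  · rw [hA j h, ev_apply]

theorem mem_Blk_of_entry {s : Set ι} {A : SUg ι F}
    (h : ∀ i j, j ∉ s → A.1 i j = if i = j then 1 else 0) : A ∈ Blk F s := by
  intro j hj
  ext i
  rw [SUg.smul_ev, h i j hj, ev_apply]

theorem center_fix [HermField F] {A : SUg ι F} (hA : A ∈ Subgroup.center (SUg ι F)) {k l : ι}
    (hkl : k ≠ l) (h : A • ev F k = ev F k) : A = 1 := by
  apply SUg.ext_ev
  intro i
  obtain ⟨s, hs⟩ := trans1 (F := F) hkl (x := ev F i) (by simp)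
  rw [← hs, ← mul_smul, ← Subgroup.mem_center_iff.1 hA, mul_smul, h, one_smul]

/-- diagonal-times-field automorphisms of the unitary group -/
structure SLD (ι F : Type*) [Field F] [StarRing F] where
  d : ι → F
  hd : ∀ i, d i * star (d i) = 1
  τ : F ≃+* F
  hτ : ∀ x, τ (star x) = star (τ x)

namespace SLD

theorem map_mem (D : SLD ι F) (A : SUg ι F) :
    diagonal D.d * A.1.map D.τ * diagonal (star D.d) ∈ specialUnitaryGroup ι F := by
  have h1 : A.1.map D.τ ∈ unitaryGroup ι F := by
    rw [mem_unitaryGroup_iff, star_eq_conjTranspose,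
      ← conjTranspose_map _ (fun x => D.hτ x), ← Matrix.map_mul, ← star_eq_conjTranspose,
      mem_unitaryGroup_iff.1 A.2.1]
    simp
  refine ⟨mul_mem (mul_mem (diag_mem_unitary D.hd) h1) (diag_mem_unitary (fun i => by
    simpa [mul_comm] using D.hd i)), ?_⟩
  show det _ = 1
  have h2 : (A.1.map D.τ).det = 1 := by
    have := RingHom.map_det (D.τ : F →+* F) A.1
    rw [A.det, map_one] at this
    exact this.symm
  rw [det_mul, det_mul, h2, mul_one, ← det_mul, diagonal_mul_diagonal]
  simp [D.hd]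

/-- the automorphism -/
def hom (D : SLD ι F) : SUg ι F →* SUg ι F where
  toFun A := ⟨_, D.map_mem A⟩
  map_one' := by
    apply Subtype.ext
    simp [diagonal_mul_diagonal, D.hd]
  map_mul' A B := by
    apply Subtype.ext
    have h : diagonal (star D.d) * diagonal D.d = 1 := by
      simp [diagonal_mul_diagonal, mul_comm, D.hd]
    simp only [Submonoid.coe_mul, Matrix.map_mul, Matrix.mul_assoc]
    rw [← Matrix.mul_assoc (diagonal (star D.d)), h, Matrix.one_mul]

theorem hom_apply (D : SLD ι F) (A : SUg ι F) (i j : ι) :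
    (D.hom A).1 i j = D.d i * D.τ (A.1 i j) * star (D.d j) := by
  simp [hom]

/-- the inverse automorphism -/
def inv (D : SLD ι F) : SLD ι F where
  d := fun i => D.τ.symm (star (D.d i))
  hd := fun i => by
    apply D.τ.injective
    rw [map_mul, D.hτ]; simpa [mul_comm] using D.hd i
  τ := D.τ.symm
  hτ := fun x => by
    apply D.τ.injective
    rw [D.hτ]; simp

theorem hom_inv (D : SLD ι F) (A : SUg ι F) : D.hom (D.inv.hom A) = A := by
  apply Subtype.ext
  ext i j
  rw [hom_apply, hom_apply]
  simp only [inv, map_mul, D.hτ, RingEquiv.apply_symm_apply, star_star]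
  linear_combination (A.1 i j * (D.d j * star (D.d j))) * D.hd i + A.1 i j * D.hd j

theorem surjective (D : SLD ι F) : Function.Surjective D.hom := fun A => ⟨_, D.hom_inv A⟩

theorem injective (D : SLD ι F) : Function.Injective D.hom := by
  intro A B h
  apply Subtype.ext
  ext i j
  have := congrArg (fun X : SUg ι F => X.1 i j) h
  simp only [hom_apply] at this
  have hi : D.d i ≠ 0 := left_ne_zero_of_mul_eq_one (D.hd i)
  have hj : star (D.d j) ≠ 0 := right_ne_zero_of_mul_eq_one (D.hd j)
  exact D.τ.injective (mul_left_cancel₀ hi (mul_right_cancel₀ hj this))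

theorem mem_Blk (D : SLD ι F) {s : Set ι} {A : SUg ι F} (hA : A ∈ Blk F s) :
    D.hom A ∈ Blk F s := by
  apply mem_Blk_of_entry
  intro i j hj
  rw [hom_apply, Blk_entry hA (Or.inr hj)]
  split_ifs with h
  · subst h; simpa using D.hd i
  · simp

/-- restriction along an embedding -/
def res (D : SLD ι F) (f : κ → ι) : SLD κ F := ⟨D.d ∘ f, fun _ => D.hd _, D.τ, D.hτ⟩

theorem hom_ext (D : SLD ι F) (f : κ ↪ ι) (A : SUg κ F) :
    D.hom (ext f A) = ext f ((D.res f).hom A) := by
  obtain ⟨B, hB⟩ := exists_ext f (t := Set.range f) (fun _ h => h)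
    (D.mem_Blk (ext_mem_Blk' f (fun k => Set.mem_range_self k) A))
  rw [← hB]
  congr 1
  apply Subtype.ext
  ext i j
  rw [← ext_apply f, hB, hom_apply, hom_apply, ext_apply]
  rfl

/-- extension along an embedding -/
noncomputable def extend (D : SLD κ F) (f : κ ↪ ι) : SLD ι F :=
  ⟨Function.extend f D.d 1, fun i => by
    by_cases h : ∃ k, f k = i
    · obtain ⟨k, rfl⟩ := h
      rw [f.injective.extend_apply]; exact D.hd k
    · rw [Function.extend_apply' _ _ _ h]; simp, D.τ, D.hτ⟩

theorem extend_hom (D : SLD κ F) (f : κ ↪ ι) (A : SUg κ F) :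
    (D.extend f).hom (ext f A) = ext f (D.hom A) := by
  rw [hom_ext]
  congr 1
  apply Subtype.ext
  ext i j
  simp only [hom_apply, res, extend, Function.comp, f.injective.extend_apply]

/-- diagonal automorphisms -/
def dg (d : ι → F) (hd : ∀ i, d i * star (d i) = 1) : SLD ι F :=
  ⟨d, hd, RingEquiv.refl F, fun _ => rfl⟩

theorem conj_diag {δ : SUg ι F} {d : ι → F} (hd : ∀ i, d i * star (d i) = 1)
    (h : δ.1 = diagonal d) (A : SUg ι F) : δ * A * δ⁻¹ = (dg d hd).hom A := by
  apply Subtype.ext
  ext i j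
  rw [hom_apply, Submonoid.coe_mul, Submonoid.coe_mul, SUg.coe_inv, h, star_eq_conjTranspose,
    diagonal_conjTranspose]
  simp [dg]

end SLD

theorem range_comp_ext (D : SLD ι F) (f : κ ↪ ι) {G : Type*} [Group G] (ψ : SUg ι F →* G) :
    ((ψ.comp D.hom).comp (ext f)).range = (ψ.comp (ext f)).range := by
  ext x
  constructor
  · rintro ⟨A, rfl⟩
    exact ⟨(D.res f).hom A, by simp [D.hom_ext]⟩
  · rintro ⟨A, rfl⟩
    obtain ⟨B, rfl⟩ := (D.res f).surjective A
    exact ⟨B, by simp [D.hom_ext]⟩

end Sl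

section SU2

variable {F : Type*} [Field F] [StarRing F]

theorem su2_entries (g : SUg (Fin 2) F) : g.1 1 0 = - star (g.1 0 1) ∧ g.1 1 1 = star (g.1 0 0) ∧
    g.1 0 0 * star (g.1 0 0) + g.1 0 1 * star (g.1 0 1) = 1 := by
  have h1 := mem_unitaryGroup_iff.1 g.2.1
  have h2 := g.det
  rw [det_fin_two] at h2
  have h00 := congrFun (congrFun h1 0) 0
  have h10 := congrFun (congrFun h1 1) 0
  simp [Matrix.mul_apply, Fin.sum_univ_two] at h00 h10
  refine ⟨?_, ?_, h00⟩
  · linear_combination (-g.1 1 0) * h00 + g.1 0 0 * h10 - star (g.1 0 1) * h2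
  · linear_combination (-g.1 1 1) * h00 + g.1 0 1 * h10 + star (g.1 0 0) * h2

/-- the general element of `SU₂` -/
def su2 (a b : F) (h : a * star a + b * star b = 1) : SUg (Fin 2) F :=
  ⟨!![a, b; -star b, star a], by
    refine ⟨?_, ?_⟩
    · rw [SetLike.mem_coe, mem_unitaryGroup_iff]
      ext i j
      fin_cases i <;> fin_cases j <;> simp [Matrix.mul_apply, Fin.sum_univ_two]
      · exact h
      · ring
      · ring
      · linear_combination h
    · rw [SetLike.mem_coe, MonoidHom.mem_mker, coe_detMonoidHom]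
      simp [det_fin_two, h]⟩

theorem su2_val (a b : F) (h : a * star a + b * star b = 1) :
    (su2 a b h).1 = !![a, b; -star b, star a] := rfl

/-- diagonal elements of `SU₂` -/
def dg2 (l : F) (h : l * star l = 1) : SUg (Fin 2) F := su2 l 0 (by simpa using h)

theorem dg2_val (l : F) (h : l * star l = 1) : (dg2 l h).1 = diagonal ![l, star l] := by
  ext i j; fin_cases i <;> fin_cases j <;> simp [dg2, su2_val]

theorem su2_comm_of_diag {X Y : SUg (Fin 2) F} (hX : X.1 0 1 = 0) (hY : Y.1 0 1 = 0) :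
    X * Y = Y * X := by
  have h1 := (su2_entries X).1
  have h2 := (su2_entries Y).1
  apply Subtype.ext
  ext i j
  fin_cases i <;> fin_cases j <;>
    simp [Matrix.mul_apply, Fin.sum_univ_two, hX, hY, h1, h2, mul_comm]

variable [HermField F]

theorem exists_sl2_model : ∃ (P Q : Matrix (Fin 2) (Fin 2) F), P * Q = 1 ∧ Q * P = 1 ∧
    ∃ e : Matrix.SpecialLinearGroup (Fin 2) (fixK F) ≃* SUg (Fin 2) F,
      ∀ g, (e g).1 = P * g.1.map (fixK F).subtype * Q := by
  obtain ⟨j, hj0, hj⟩ := exists_skew (F := F)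
  obtain ⟨ε, hε⟩ := HermField.norm_surj (-1 : F) (by simp)
  obtain ⟨l, hl, hl1⟩ := exists_norm_one_ne (F := F)
  have h1 : 1 - l ≠ 0 := sub_ne_zero.2 hl1.symm
  have h2 : 1 - star l ≠ 0 := by
    intro h; apply h1; have := congrArg star h; simpa using this
  let P : Matrix (Fin 2) (Fin 2) F := !![1, j / (1 - l); ε, j / (1 - l) * (l * ε)]
  let J : Matrix (Fin 2) (Fin 2) F := !![0, j; -j, 0]
  let J' : Matrix (Fin 2) (Fin 2) F := !![0, -j⁻¹; j⁻¹, 0]
  have hJ : J' * J = 1 := by
    ext a b; fin_cases a <;> fin_cases b <;> simp [J, J', hj0]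
  have hP : star P * P = J := by
    ext a b
    fin_cases a <;> fin_cases b <;> simp [P, J, Matrix.mul_apply, Fin.sum_univ_two, hj]
    · linear_combination hε
    · field_simp; linear_combination l * hε
    · field_simp; linear_combination (- star l) * hε
    · field_simp; linear_combination (-j ^ 2 * l * star l) * hε + j ^ 2 * hl
  have hQP : J' * star P * P = 1 := by rw [Matrix.mul_assoc, hP, hJ]
  have hPQ : P * (J' * star P) = 1 := mul_eq_one_comm.1 hQP
  generalize J' * star P = Q at hQP hPQ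
  have hQJ : star Q * J * Q = 1 := by
    rw [← hP, ← Matrix.mul_assoc, ← star_mul, hPQ, star_one, Matrix.one_mul, hPQ]
  have hdet : P.det * Q.det = 1 := by rw [← det_mul, hPQ, det_one]
  have key : ∀ g : Matrix.SpecialLinearGroup (Fin 2) (fixK F),
      star (g.1.map (fixK F).subtype) * J * g.1.map (fixK F).subtype = J := by
    intro g
    have hd := congrArg (fixK F).subtype g.2
    rw [det_fin_two] at hd
    simp only [map_sub, map_mul, map_one, Subfield.coe_subtype] at hd
    have hs : ∀ a b, star ((g.1 a b : fixK F) : F) = g.1 a b := fun a b => (g.1 a b).2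
    ext a b
    fin_cases a <;> fin_cases b <;> simp [J, Matrix.mul_apply, Fin.sum_univ_two, hs]
    · ring
    · linear_combination j * hd
    · linear_combination -j * hd
    · ring
  let φ : Matrix.SpecialLinearGroup (Fin 2) (fixK F) →* SUg (Fin 2) F :=
    { toFun := fun g => ⟨P * g.1.map (fixK F).subtype * Q, by
        refine ⟨?_, ?_⟩
        · rw [SetLike.mem_coe, mem_unitaryGroup_iff', star_mul, star_mul]
          have := key g
          rw [← hP] at this
          calc _ = star Q * (star (g.1.map (fixK F).subtype) * (star P * P) *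
            g.1.map (fixK F).subtype) * Q := by simp only [Matrix.mul_assoc]
            _ = 1 := by rw [this, hP, hQJ]
        · rw [SetLike.mem_coe, MonoidHom.mem_mker, coe_detMonoidHom]
          have := RingHom.map_det (fixK F).subtype g.1
          rw [g.2, map_one] at this
          rw [det_mul, det_mul, RingHom.mapMatrix_apply] at *
          rw [← this, mul_one, hdet]⟩
      map_one' := by apply Subtype.ext; simp [hPQ]
      map_mul' := fun a b => by
        apply Subtype.ext
        simp only [Matrix.SpecialLinearGroup.coe_mul, Matrix.map_mul, Submonoid.coe_mul,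
          Matrix.mul_assoc]
        rw [← Matrix.mul_assoc Q P, hQP, Matrix.one_mul] }
  have hφ : ∀ g, (φ g).1 = P * g.1.map (fixK F).subtype * Q := fun g => rfl
  refine ⟨P, Q, hPQ, hQP, MulEquiv.ofBijective φ ⟨?_, ?_⟩, hφ⟩
  · intro a b h
    have := congrArg (fun X : SUg (Fin 2) F => Q * X.1 * P) h
    simp only [hφ, Matrix.mul_assoc, hQP, Matrix.mul_one] at this
    simp only [← Matrix.mul_assoc, hQP, Matrix.one_mul] at this
    apply sl_ext
    exact Matrix.map_injective (fixK F).subtype.injective this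
  · intro x
    obtain ⟨y, hy⟩ : ∃ y, y = Q * x.1 * P := ⟨_, rfl⟩
    have hx : x.1 = P * y * Q := by
      rw [hy]; simp only [Matrix.mul_assoc, hPQ, Matrix.mul_one]
      rw [← Matrix.mul_assoc, hPQ, Matrix.one_mul]
    have h3 : star y * J * y = J := by
      have := mem_unitaryGroup_iff'.1 x.2.1
      have hPy : P * y = x.1 * P := by
        rw [hy, ← Matrix.mul_assoc, ← Matrix.mul_assoc, hPQ, Matrix.one_mul]
      rw [← hP, ← Matrix.mul_assoc, ← star_mul, Matrix.mul_assoc, hPy, star_mul,
        Matrix.mul_assoc, ← Matrix.mul_assoc (star x.1), this, Matrix.one_mul]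
    have h4 : y.det = 1 := by
      rw [hy, det_mul, det_mul, x.det]; linear_combination hdet
    rw [det_fin_two] at h4
    have h00 := congrFun (congrFun h3 0) 0
    have h01 := congrFun (congrFun h3 0) 1
    have h10 := congrFun (congrFun h3 1) 0
    have h11 := congrFun (congrFun h3 1) 1
    simp [J, Matrix.mul_apply, Fin.sum_univ_two] at h00 h01 h10 h11
    have s00 : star (y 0 0) = y 0 0 := by
      apply mul_left_cancel₀ hj0
      linear_combination y 0 0 * h01 - y 0 1 * h00 - j * star (y 0 0) * h4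
    have s10 : star (y 1 0) = y 1 0 := by
      apply mul_left_cancel₀ hj0
      linear_combination y 1 0 * h01 - y 1 1 * h00 - j * star (y 1 0) * h4
    have s01 : star (y 0 1) = y 0 1 := by
      apply mul_left_cancel₀ hj0
      linear_combination y 0 0 * h11 - y 0 1 * h10 - j * star (y 0 1) * h4
    have s11 : star (y 1 1) = y 1 1 := by
      apply mul_left_cancel₀ hj0
      linear_combination y 1 0 * h11 - y 1 1 * h10 - j * star (y 1 1) * h4
    refine ⟨⟨!![⟨_, s00⟩, ⟨_, s01⟩; ⟨_, s10⟩, ⟨_, s11⟩], ?_⟩, ?_⟩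
    · rw [det_fin_two_of]
      apply Subtype.ext
      simpa using h4
    · apply Subtype.ext
      refine (hφ _).trans ?_
      rw [hx]
      congr 2
      ext a b
      fin_cases a <;> fin_cases b <;> simp

/-- `SU₂` is generated by two abelian subgroups of exponent `p`. -/
theorem su2_gen : ∃ a b : fixK F → SUg (Fin 2) F, (∀ s t, a (s + t) = a s * a t) ∧
    (∀ s t, b (s + t) = b s * b t) ∧ a 1 * b 1 ≠ b 1 * a 1 ∧
    ∀ p : SUg (Fin 2) F → Prop, (∀ t, p (a t)) → (∀ t, p (b t)) →
      (∀ x y, p x → p y → p (x * y)) → ∀ g, p g := by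
  obtain ⟨P, Q, -, -, e, -⟩ := exists_sl2_model (F := F)
  refine ⟨fun t => e (uu t), fun t => e (ll t), fun s t => by simp only [uu_add, map_mul],
    fun s t => by simp only [ll_add, map_mul], ?_, ?_⟩
  · intro h
    simp only [← map_mul] at h
    exact uu_ll_ne (e.injective h)
  · intro p ha hb hmul g
    obtain ⟨g, rfl⟩ := e.surjective g
    induction g using sl2_induction with
    | hu t => exact ha t
    | hl t => exact hb t
    | hmul x y hx hy => rw [map_mul]; exact hmul _ _ hx hy

end SU2

section Aut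

variable {F : Type*} [Field F] [StarRing F] [HermFin F]

theorem su2_hom (α : SUg (Fin 2) F →* SUg (Fin 2) F) (hinj : Function.Injective α) :
    ∃ (τ : F ≃+* F) (M N : Matrix (Fin 2) (Fin 2) F), M * N = 1 ∧ N * M = 1 ∧
      ∀ g, (α g).1 = M * g.1.map τ * N := by
  haveI : Finite F := HermFin.fin
  obtain ⟨p, hp⟩ := CharP.exists F
  haveI : Fact p.Prime := ⟨CharP.char_is_prime F p⟩
  obtain ⟨P, Q, hPQ, hQP, e, he⟩ := exists_sl2_model (F := F)
  obtain ⟨f, M, N, hMN, hNM, h⟩ := sl2_hom_classify p
    ((specialUnitaryGroup (Fin 2) F).subtype.comp (α.comp e.toMonoidHom))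
    (Subtype.val_injective.comp (hinj.comp e.injective))
  obtain ⟨τ, hτ⟩ := exists_ringEquiv_extend (fixK F).subtype f
  have h1 : P.map τ * Q.map τ = 1 := by rw [← Matrix.map_mul, hPQ]; simp
  have h2 : Q.map τ * P.map τ = 1 := by rw [← Matrix.map_mul, hQP]; simp
  refine ⟨τ, M * Q.map τ, P.map τ * N, ?_, ?_, ?_⟩
  · rw [Matrix.mul_assoc, ← Matrix.mul_assoc (Q.map τ), h2, Matrix.one_mul, hMN]
  · rw [Matrix.mul_assoc, ← Matrix.mul_assoc N, hNM, Matrix.one_mul, h1]
  · intro g
    obtain ⟨g, rfl⟩ := e.surjective g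
    have h3 : (g.1.map (fixK F).subtype).map τ = g.1.map f := by
      ext i j; exact hτ _
    rw [he, Matrix.map_mul, Matrix.map_mul, h3]
    simp only [Matrix.mul_assoc]
    rw [← Matrix.mul_assoc (Q.map τ), h2, Matrix.one_mul, ← Matrix.mul_assoc (Q.map τ), h2,
      Matrix.one_mul, ← Matrix.mul_assoc]
    exact h g

theorem su2_aut_diag (α : SUg (Fin 2) F →* SUg (Fin 2) F) (τ : F ≃+* F)
    (M N : Matrix (Fin 2) (Fin 2) F) (hMN : M * N = 1)
    (h : ∀ g, (α g).1 = M * g.1.map τ * N) (h01 : M 0 1 = 0) (h10 : M 1 0 = 0) :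
    ∃ D : SLD (Fin 2) F, ∀ g, α g = D.hom g := by
  have k00 := congrFun (congrFun hMN 0) 0
  have k01 := congrFun (congrFun hMN 0) 1
  have k10 := congrFun (congrFun hMN 1) 0
  have k11 := congrFun (congrFun hMN 1) 1
  simp [Matrix.mul_apply, Fin.sum_univ_two, h01, h10] at k00 k01 k10 k11
  have m0 : M 0 0 ≠ 0 := left_ne_zero_of_mul_eq_one k00
  have m1 : M 1 1 ≠ 0 := left_ne_zero_of_mul_eq_one k11
  have n01 : N 0 1 = 0 := k01.resolve_left m0
  have n10 : N 1 0 = 0 := k10.resolve_left m1
  have hμ : (M 0 0 * N 1 1) * star (M 0 0 * N 1 1) = 1 := by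
    have := (su2_entries (α (su2 0 1 (by simp)))).2.2
    rw [h] at this
    simpa [su2_val, Matrix.mul_apply, Fin.sum_univ_two, h01, h10, n01, n10] using this
  obtain ⟨μ, hμd⟩ : ∃ μ, μ = M 0 0 * N 1 1 := ⟨_, rfl⟩
  rw [← hμd] at hμ
  refine ⟨⟨![μ, 1], fun i => by fin_cases i <;> simp [hμ],
    τ, HermFin.comm τ⟩, fun g => ?_⟩
  apply Subtype.ext
  ext i j
  rw [SLD.hom_apply, h]
  fin_cases i <;> fin_cases j <;> simp [Matrix.mul_apply, Fin.sum_univ_two, h01, h10, n01, n10]
  · linear_combination τ (g.1 0 0) * k00 - τ (g.1 0 0) * hμ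
  · rw [hμd]; ring
  · linear_combination (- τ (g.1 1 0) * M 1 1 * N 0 0) * hμ
      + (τ (g.1 1 0) * star μ * M 1 1 * N 1 1) * k00 + (τ (g.1 1 0) * star μ) * k11
      + (τ (g.1 1 0) * star μ * M 1 1 * N 0 0) * hμd
  · linear_combination τ (g.1 1 1) * k11

theorem su2_aut (α : SUg (Fin 2) F →* SUg (Fin 2) F) (hinj : Function.Injective α)
    (hD : ∀ X : SUg (Fin 2) F, X.1 0 1 = 0 → (α X).1 0 1 = 0) :
    ∃ D : SLD (Fin 2) F, ∀ g, α g = D.hom g := by
  obtain ⟨τ, M, N, hMN, hNM, h⟩ := su2_hom α hinj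
  obtain ⟨l, hl, hl2⟩ := exists_lam (F := F)
  have hl' : τ.symm l * star (τ.symm l) = 1 := by
    apply τ.injective; rw [map_mul, HermFin.comm]; simpa using hl
  have h1 := hD (dg2 _ hl') (by simp [dg2_val])
  have h2 := (su2_entries (α (dg2 _ hl'))).1
  rw [h1] at h2
  have h3 : (α (dg2 _ hl')).1 * M = M * diagonal ![l, star l] := by
    rw [h, Matrix.mul_assoc, hNM, Matrix.mul_one, dg2_val]
    congr 1
    ext i j; fin_cases i <;> fin_cases j <;> simp [HermFin.comm]
  have hdet : M.det ≠ 0 := by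
    have := congrArg det hMN
    rw [det_mul, det_one] at this
    exact left_ne_zero_of_mul_eq_one this
  rw [det_fin_two] at hdet
  have k00 := congrFun (congrFun h3 0) 0
  have k01 := congrFun (congrFun h3 0) 1
  have k10 := congrFun (congrFun h3 1) 0
  have k11 := congrFun (congrFun h3 1) 1
  simp only [Matrix.mul_apply, Fin.sum_univ_two, h1, h2] at k00 k01 k10 k11
  simp at k00 k01 k10 k11
  have hl3 : l - star l ≠ 0 := sub_ne_zero.2 hl2
  have e0 : M 0 0 * M 0 1 = 0 := by
    apply mul_left_cancel₀ hl3; linear_combination M 0 0 * k01 - M 0 1 * k00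
  have e1 : M 1 0 * M 1 1 = 0 := by
    apply mul_left_cancel₀ hl3; linear_combination M 1 0 * k11 - M 1 1 * k10
  by_cases h0 : M 0 0 = 0
  · have m10 : M 1 0 ≠ 0 := by intro h'; simp [h0, h'] at hdet
    have m11 : M 1 1 = 0 := (mul_eq_zero.1 e1).resolve_left m10
    refine su2_aut_diag α (τ.trans starRingAut) (M * !![0, -1; 1, 0]) (!![0, 1; -1, 0] * N) ?_ ?_
      (by simp [Matrix.mul_apply, Fin.sum_univ_two, h0])
      (by simp [Matrix.mul_apply, Fin.sum_univ_two, m11])
    · rw [Matrix.mul_assoc, ← Matrix.mul_assoc _ _ N]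
      simp [← one_fin_two, hMN]
    · intro g
      rw [h]
      simp only [Matrix.mul_assoc]
      congr 1
      rw [← Matrix.mul_assoc, ← Matrix.mul_assoc]
      congr 1
      obtain ⟨g1, g2, -⟩ := su2_entries g
      ext i j
      fin_cases i <;> fin_cases j <;>
        simp [Matrix.mul_apply, Fin.sum_univ_two, g1, g2, HermFin.comm, vecMul, dotProduct]
  · have m01 : M 0 1 = 0 := (mul_eq_zero.1 e0).resolve_left h0
    have m11 : M 1 1 ≠ 0 := by intro h'; simp [m01, h'] at hdet
    exact su2_aut_diag α τ M N hMN h m01 ((mul_eq_zero.1 e1).resolve_right m11)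

end Aut

end CfsgH4
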