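import Mathlib

set_option autoImplicit false

namespace CfsgH4

/-- Data for the cocycle form of Tits' lemma: an arc-transitive graph action, a partial
homomorphism `φ` on the stabiliser of the base point and a value `ω` for an element `w0`
moving the base point to a neighbour. -/
structure TitsData (S X G : Type*) [Group S] [MulAction S X] [Group G] where
  adj : X → X → Prop
  x0 : X
  w0 : S
  φ : S → G
  ω : G
  adj_smul : ∀ (s : S) x y, adj x y → adj (s • x) (s • y)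
  trans : ∀ x y, adj x y → ∃ s : S, s • x0 = x
  adj0 : adj x0 (w0 • x0)
  nbr : ∀ y, adj x0 y → ∃ h : S, h • x0 = x0 ∧ h • w0 • x0 = y
  mul : ∀ a b : S, a • x0 = x0 → b • x0 = x0 → φ (a * b) = φ a * φ b
  compat : ∀ k : S, k • x0 = x0 → k • w0 • x0 = w0 • x0 → φ k * ω = ω * φ (w0⁻¹ * k * w0)

namespace TitsData

variable {S X G : Type*} [Group S] [MulAction S X] [Group G] (T : TitsData S X G)

theorem φ_one : T.φ 1 = 1 := by
  have := T.mul 1 1 (one_smul _ _) (one_smul _ _)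
  simpa using this

theorem φ_inv (a : S) (ha : a • T.x0 = T.x0) : T.φ a⁻¹ = (T.φ a)⁻¹ := by
  have h1 : a⁻¹ • T.x0 = T.x0 := by rw [inv_smul_eq_iff, ha]
  have := T.mul a⁻¹ a h1 ha
  rw [inv_mul_cancel, T.φ_one] at this
  exact eq_inv_of_mul_eq_one_left this.symm

open Classical in
/-- the extension of `φ` to the double coset `H w0 H` -/
noncomputable def θ (t : S) : G :=
  if h : ∃ h : S, h • T.x0 = T.x0 ∧ h • T.w0 • T.x0 = t • T.x0 then
    T.φ h.choose * T.ω * T.φ (T.w0⁻¹ * h.choose⁻¹ * t) else 1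

theorem θ_spec (h h' : S) (hh : h • T.x0 = T.x0) (hh' : h' • T.x0 = T.x0) :
    T.θ (h * T.w0 * h') = T.φ h * T.ω * T.φ h' := by
  have hex : ∃ k : S, k • T.x0 = T.x0 ∧ k • T.w0 • T.x0 = (h * T.w0 * h') • T.x0 :=
    ⟨h, hh, by rw [mul_smul, mul_smul, hh']⟩
  unfold θ
  rw [dif_pos hex]
  obtain ⟨hk1, hk2⟩ := hex.choose_spec
  generalize hex.choose = k at hk1 hk2
  rw [mul_smul, mul_smul, hh'] at hk2
  have hki : k⁻¹ • T.x0 = T.x0 := by rw [inv_smul_eq_iff, hk1]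
  have h1 : (k⁻¹ * h) • T.x0 = T.x0 := by rw [mul_smul, hh, hki]
  have h2 : (k⁻¹ * h) • T.w0 • T.x0 = T.w0 • T.x0 := by
    rw [mul_smul, ← hk2, inv_smul_smul]
  have h3 := T.compat _ h1 h2
  have h4 : (T.w0⁻¹ * (k⁻¹ * h) * T.w0) • T.x0 = T.x0 := by
    rw [mul_smul, mul_smul, h2, inv_smul_smul]
  have h5 : T.w0⁻¹ * k⁻¹ * (h * T.w0 * h') = (T.w0⁻¹ * (k⁻¹ * h) * T.w0) * h' := by group
  have h6 : h = k * (k⁻¹ * h) := by group
  rw [h5, T.mul _ _ h4 hh']
  conv_rhs => rw [h6, T.mul _ _ hk1 h1]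
  rw [mul_assoc (T.φ k) (T.φ _), h3]
  group

theorem θ_w0 : T.θ T.w0 = T.ω := by
  have := T.θ_spec 1 1 (one_smul _ _) (one_smul _ _)
  simpa [T.φ_one] using this

theorem exists_decomp (t : S) (ht : T.adj T.x0 (t • T.x0)) :
    ∃ h h' : S, h • T.x0 = T.x0 ∧ h' • T.x0 = T.x0 ∧ t = h * T.w0 * h' := by
  obtain ⟨h, hh, hh2⟩ := T.nbr _ ht
  refine ⟨h, T.w0⁻¹ * h⁻¹ * t, hh, ?_, by group⟩
  rw [mul_smul, mul_smul, ← hh2, inv_smul_smul, inv_smul_smul]

theorem θ_mul (t h h' : S) (ht : T.adj T.x0 (t • T.x0)) (hh : h • T.x0 = T.x0)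
    (hh' : h' • T.x0 = T.x0) : T.θ (h * t * h') = T.φ h * T.θ t * T.φ h' := by
  obtain ⟨k, k', hk, hk', rfl⟩ := T.exists_decomp t ht
  have e : h * (k * T.w0 * k') * h' = (h * k) * T.w0 * (k' * h') := by group
  rw [e, T.θ_spec _ _ (by rw [mul_smul, hk, hh]) (by rw [mul_smul, hh', hk']),
    T.θ_spec _ _ hk hk', T.mul _ _ hh hk, T.mul _ _ hk' hh']
  group

open Classical in
/-- a section of the orbit map -/
noncomputable def g (x : X) : S :=
  if x = T.x0 then 1 else if h : ∃ s : S, s • T.x0 = x then h.choose else 1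

theorem g_x0 : T.g T.x0 = 1 := by simp [g]

theorem g_smul (s : S) : T.g (s • T.x0) • T.x0 = s • T.x0 := by
  unfold g
  split_ifs with h1 h2
  · rw [h1, one_smul]
  · exact h2.choose_spec
  · exact absurd ⟨s, rfl⟩ h2

theorem trans' {x y : X} (h : T.adj x y) : ∃ s : S, s • T.x0 = y := by
  obtain ⟨s, rfl⟩ := T.trans x y h
  have := T.adj_smul s⁻¹ _ _ h
  rw [inv_smul_smul] at this
  obtain ⟨k, -, hk⟩ := T.nbr _ this
  exact ⟨s * k * T.w0, by rw [mul_smul, mul_smul, hk, smul_inv_smul]⟩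

/-- the cocycle on arcs -/
noncomputable def c (x y : X) : G := T.θ ((T.g x)⁻¹ * T.g y)

/-- correction factor -/
noncomputable def ρ (t : S) : G := T.φ ((T.g (t • T.x0))⁻¹ * t)

theorem ρ_fix (t : S) : ((T.g (t • T.x0))⁻¹ * t) • T.x0 = T.x0 := by
  rw [mul_smul, inv_smul_eq_iff, T.g_smul]

theorem ρ_one : T.ρ 1 = 1 := by simp [ρ, T.g_x0, T.φ_one]

theorem ρ_of_fix (t : S) (ht : t • T.x0 = T.x0) : T.ρ t = T.φ t := by
  simp [ρ, ht, T.g_x0]

theorem ρ_mul (t h : S) (hh : h • T.x0 = T.x0) : T.ρ (t * h) = T.ρ t * T.φ h := by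
  unfold ρ
  rw [mul_smul, hh, ← mul_assoc, T.mul _ _ (T.ρ_fix t) hh]

theorem c_eq (t t' : S) (h : T.adj (t • T.x0) (t' • T.x0)) :
    T.c (t • T.x0) (t' • T.x0) = T.ρ t * T.θ (t⁻¹ * t') * (T.ρ t')⁻¹ := by
  have h1 : T.adj T.x0 ((t⁻¹ * t') • T.x0) := by
    have := T.adj_smul t⁻¹ _ _ h
    rwa [inv_smul_smul, ← mul_smul] at this
  have h2 := T.ρ_fix t'
  have h3 : ((T.g (t' • T.x0))⁻¹ * t')⁻¹ • T.x0 = T.x0 := by rw [inv_smul_eq_iff, h2]
  have := T.θ_mul _ _ _ h1 (T.ρ_fix t) h3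
  unfold c ρ
  rw [← T.φ_inv _ h2, ← this]
  congr 1
  group

/-- Tits' lemma: a trivialisation of the cocycle gives a homomorphism. -/
theorem exists_hom (a : X → G) (ha0 : a T.x0 = 1)
    (ha : ∀ x y, T.adj x y → T.c x y = (a x)⁻¹ * a y)
    (hconn : ∀ s : S, Relation.ReflTransGen T.adj T.x0 (s • T.x0)) :
    ∃ Θ : S →* G, (∀ h : S, h • T.x0 = T.x0 → Θ h = T.φ h) ∧
      ∀ t : S, T.adj T.x0 (t • T.x0) → Θ t = T.θ t := by
  -- b t = a (t x0) ρ t
  let b : S → G := fun t => a (t • T.x0) * T.ρ t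
  have hb : ∀ t t' : S, T.adj (t • T.x0) (t' • T.x0) → (b t)⁻¹ * b t' = T.θ (t⁻¹ * t') := by
    intro t t' h
    have h1 := T.c_eq t t' h
    rw [ha _ _ h] at h1
    simp only [b]
    rw [mul_inv_rev, mul_assoc, ← mul_assoc (a _)⁻¹, h1]
    group
  have hbh : ∀ t h : S, h • T.x0 = T.x0 → b (t * h) = b t * T.φ h := by
    intro t h hh
    simp only [b]
    rw [mul_smul, hh, T.ρ_mul _ _ hh, mul_assoc]
  have hb1 : b 1 = 1 := by simp [b, ha0, T.ρ_one]
  have key : ∀ s : S, ∀ x, Relation.ReflTransGen T.adj T.x0 x → ∀ t : S, t • T.x0 = x →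
      b (s * t) = b s * b t := by
    intro s x hx
    induction hx with
    | refl =>
      intro t ht
      rw [hbh s t ht]
      have := hbh 1 t ht
      rw [one_mul, hb1, one_mul] at this
      rw [this]
    | tail _ hyz ih =>
      rename_i y z _
      intro t ht
      obtain ⟨u, hu⟩ := T.trans _ _ hyz
      have h1 := ih u hu
      have h2 := hb u t (by rw [hu, ht]; exact hyz)
      have h3 := hb (s * u) (s * t) (by
        rw [mul_smul, mul_smul, hu, ht]; exact T.adj_smul _ _ _ hyz)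
      have e : (s * u)⁻¹ * (s * t) = u⁻¹ * t := by group
      rw [e, ← h2, h1] at h3
      have : b (s * t) = b s * b u * ((b u)⁻¹ * b t) := by rw [← h3]; group
      rw [this]; group
  refine ⟨MonoidHom.mk' b (fun s t => key s _ (hconn t) t rfl), ?_, ?_⟩
  · intro h hh
    have := hbh 1 h hh
    rw [one_mul, hb1, one_mul] at this
    exact this
  · intro t ht
    have := hb 1 t (by rwa [one_smul])
    rw [hb1, inv_one, one_mul, inv_one, one_mul] at this
    exact this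

end TitsData

/-- Generation: a connected arc-transitive graph gives generation by the stabiliser and `w0`. -/
theorem mem_of_conn {S X : Type*} [Group S] [MulAction S X] (adj : X → X → Prop) (x0 : X)
    (L : Subgroup S) (adj_smul : ∀ (s : S) x y, adj x y → adj (s • x) (s • y))
    (hstab : ∀ h : S, h • x0 = x0 → h ∈ L)
    (hnbr : ∀ y, adj x0 y → ∃ l ∈ L, l • x0 = y)
    (s : S) (hs : Relation.ReflTransGen adj x0 (s • x0)) : s ∈ L := by
  have key : ∀ x, Relation.ReflTransGen adj x0 x → ∃ l ∈ L, l • x0 = x := by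
    intro x hx
    induction hx with
    | refl => exact ⟨1, L.one_mem, one_smul _ _⟩
    | tail _ hyz ih =>
      obtain ⟨l, hl, rfl⟩ := ih
      have := adj_smul l⁻¹ _ _ hyz
      rw [inv_smul_smul] at this
      obtain ⟨m, hm, hm2⟩ := hnbr _ this
      exact ⟨l * m, L.mul_mem hl hm, by rw [mul_smul, hm2, smul_inv_smul]⟩
  obtain ⟨l, hl, hl2⟩ := key _ hs
  have := hstab (l⁻¹ * s) (by rw [mul_smul, ← hl2, inv_smul_smul])
  have h2 := L.mul_mem hl this
  rwa [mul_inv_cancel_left] at h2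

end CfsgH4
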