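import Cfsg.Agent.H4.PhanSC
import Cfsg.Agent.H4.Tits

set_option autoImplicit false

open Matrix

namespace CfsgH4

section Emb

variable {ι κ μ F : Type*} [Fintype ι] [DecidableEq ι] [Fintype κ] [DecidableEq κ]
  [Fintype μ] [DecidableEq μ] [Field F] [StarRing F]

/-- the inclusion matrix of an embedding of index sets -/
def Pm (F : Type*) [Field F] (f : κ ↪ ι) : Matrix ι κ F :=
  Matrix.of fun i k => if i = f k then 1 else 0

omit [StarRing F] in
theorem Pm_transpose_mul (f : κ ↪ ι) : (Pm F f)ᵀ * Pm F f = 1 := by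
  ext k l
  simp [Pm, mul_apply, one_apply, eq_comm]

omit [Fintype ι] [Fintype κ] [DecidableEq κ] in
theorem Pm_conjTranspose (f : κ ↪ ι) : (Pm F f)ᴴ = (Pm F f)ᵀ := by
  ext k l
  simp [Pm, apply_ite star]

omit [Fintype ι] [Fintype κ] [DecidableEq κ] in
theorem Pm_transpose_conjTranspose (f : κ ↪ ι) : ((Pm F f)ᵀ)ᴴ = Pm F f := by
  rw [← Pm_conjTranspose, conjTranspose_conjTranspose]

omit [StarRing F] [Fintype ι] in
theorem Pm_mulVec_ev (f : κ ↪ ι) (k : κ) : Pm F f *ᵥ ev F k = ev F (f k) := by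
  ext i; simp [ev, Pm, Pi.single_apply]

omit [StarRing F] [Fintype ι] in
theorem Pm_mulVec_apply (f : κ ↪ ι) (v : κ → F) (k : κ) : (Pm F f *ᵥ v) (f k) = v k := by
  simp [Pm, mulVec, dotProduct]

omit [StarRing F] [Fintype ι] [DecidableEq κ] in
theorem Pm_mulVec_not (f : κ ↪ ι) (v : κ → F) {i : ι} (hi : i ∉ Set.range f) :
    (Pm F f *ᵥ v) i = 0 := by
  have : ∀ k, i ≠ f k := fun k h => hi ⟨k, h.symm⟩
  simp [Pm, mulVec, dotProduct, this]

omit [StarRing F] [Fintype κ] [DecidableEq κ] in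
theorem Pm_transpose_mulVec (f : κ ↪ ι) (v : ι → F) (k : κ) : ((Pm F f)ᵀ *ᵥ v) k = v (f k) := by
  simp [Pm, mulVec, dotProduct]

omit [StarRing F] [Fintype μ] [DecidableEq μ] [Fintype ι] in
theorem Pm_mul (f : μ ↪ κ) (g : κ ↪ ι) : Pm F g * Pm F f = Pm F (f.trans g) := by
  ext i k
  simp [Pm, mul_apply]

theorem hf_Pm (f : κ ↪ ι) (u v : κ → F) : hf (Pm F f *ᵥ u) (Pm F f *ᵥ v) = hf u v := by
  unfold hf
  rw [star_mulVec, Pm_conjTranspose, dotProduct_comm, dotProduct_mulVec, vecMul_vecMul,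
    Pm_transpose_mul, vecMul_one, dotProduct_comm]

omit [StarRing F] in
theorem Pm_Pmt (f : κ ↪ ι) {v : ι → F} (hv : ∀ i, i ∉ Set.range f → v i = 0) :
    Pm F f *ᵥ ((Pm F f)ᵀ *ᵥ v) = v := by
  ext i
  by_cases hi : i ∈ Set.range f
  · obtain ⟨k, rfl⟩ := hi
    rw [Pm_mulVec_apply, Pm_transpose_mulVec]
  · rw [Pm_mulVec_not f _ hi, hv i hi]

/-- extension of a matrix by the identity -/
def extM (f : κ ↪ ι) (A : Matrix κ κ F) : Matrix ι ι F := 1 + Pm F f * (A - 1) * (Pm F f)ᵀ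

omit [StarRing F] [Fintype ι] in
theorem extM_one (f : κ ↪ ι) : extM f (1 : Matrix κ κ F) = 1 := by simp [extM]

omit [StarRing F] in
theorem extM_mul (f : κ ↪ ι) (A B : Matrix κ κ F) : extM f (A * B) = extM f A * extM f B := by
  unfold extM
  have h : Pm F f * (A - 1) * (Pm F f)ᵀ * (Pm F f * (B - 1) * (Pm F f)ᵀ)
      = Pm F f * ((A - 1) * (B - 1)) * (Pm F f)ᵀ := by
    simp only [Matrix.mul_assoc]
    rw [← Matrix.mul_assoc (Pm F f)ᵀ (Pm F f), Pm_transpose_mul, Matrix.one_mul]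
  rw [add_mul, mul_add, mul_add, one_mul, one_mul, mul_one, h]
  have e : A * B - 1 = (B - 1) + ((A - 1) + (A - 1) * (B - 1)) := by noncomm_ring
  rw [e, Matrix.mul_add, Matrix.mul_add, Matrix.add_mul, Matrix.add_mul]
  abel

omit [Fintype ι] in
theorem extM_star (f : κ ↪ ι) (A : Matrix κ κ F) : star (extM f A) = extM f (star A) := by
  unfold extM
  rw [star_eq_conjTranspose, star_eq_conjTranspose, conjTranspose_add, conjTranspose_mul,
    conjTranspose_mul, Pm_conjTranspose, Pm_transpose_conjTranspose, conjTranspose_sub,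
    conjTranspose_one, conjTranspose_one, Matrix.mul_assoc]

omit [StarRing F] in
theorem extM_det (f : κ ↪ ι) (A : Matrix κ κ F) : (extM f A).det = A.det := by
  unfold extM
  rw [Matrix.mul_assoc, det_one_add_mul_comm, Matrix.mul_assoc, Pm_transpose_mul]
  simp

omit [StarRing F] in
theorem extM_mulVec (f : κ ↪ ι) (A : Matrix κ κ F) (v : κ → F) :
    extM f A *ᵥ (Pm F f *ᵥ v) = Pm F f *ᵥ (A *ᵥ v) := by
  unfold extM
  rw [mulVec_mulVec, Matrix.add_mul, Matrix.mul_assoc, Pm_transpose_mul, Matrix.mul_one,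
    Matrix.one_mul, Matrix.mul_sub, Matrix.mul_one, add_sub_cancel, mulVec_mulVec]

omit [StarRing F] in
theorem extM_ev_not (f : κ ↪ ι) (A : Matrix κ κ F) {i : ι} (hi : i ∉ Set.range f) :
    extM f A *ᵥ ev F i = ev F i := by
  have : (Pm F f)ᵀ *ᵥ ev F i = 0 := by
    ext k
    rw [Pm_transpose_mulVec, ev_ne (fun h => hi ⟨k, h⟩), Pi.zero_apply]
  unfold extM
  rw [add_mulVec, one_mulVec, ← mulVec_mulVec, this, mulVec_zero, add_zero]

/-- the block embedding of special unitary groups -/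
def ext (f : κ ↪ ι) : SUg κ F →* SUg ι F where
  toFun A := ⟨extM f A.1, by
    refine ⟨?_, ?_⟩
    · rw [SetLike.mem_coe, mem_unitaryGroup_iff, extM_star, ← extM_mul,
        mem_unitaryGroup_iff.1 A.2.1, extM_one]
    · show (extM f A.1).det = 1
      rw [extM_det, A.det]⟩
  map_one' := Subtype.ext (extM_one f)
  map_mul' A B := Subtype.ext (extM_mul f A.1 B.1)

theorem ext_val (f : κ ↪ ι) (A : SUg κ F) : (ext f A).1 = extM f A.1 := rfl

theorem ext_smul (f : κ ↪ ι) (A : SUg κ F) (v : κ → F) :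
    ext f A • (Pm F f *ᵥ v) = Pm F f *ᵥ (A • v) := extM_mulVec f A.1 v

theorem ext_ev (f : κ ↪ ι) (A : SUg κ F) (k : κ) :
    ext f A • ev F (f k) = Pm F f *ᵥ (A • ev F k) := by
  rw [← Pm_mulVec_ev, ext_smul]

theorem ext_ev_not (f : κ ↪ ι) (A : SUg κ F) {i : ι} (hi : i ∉ Set.range f) :
    ext f A • ev F i = ev F i := extM_ev_not f A.1 hi

theorem ext_apply (f : κ ↪ ι) (A : SUg κ F) (k l : κ) : (ext f A).1 (f k) (f l) = A.1 k l := by
  rw [← SUg.smul_ev, ext_ev, Pm_mulVec_apply, SUg.smul_ev]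

theorem ext_injective (f : κ ↪ ι) : Function.Injective (ext (F := F) f) := by
  intro A B h
  apply Subtype.ext
  ext k l
  rw [← ext_apply f, h, ext_apply]

theorem ext_ext (f : μ ↪ κ) (g : κ ↪ ι) (A : SUg μ F) :
    ext g (ext f A) = ext (f.trans g) A := by
  apply Subtype.ext
  simp only [ext_val, extM, add_sub_cancel_left, ← Pm_mul, transpose_mul, Matrix.mul_assoc]

theorem ext_mem_Blk (f : κ ↪ ι) {s : Set κ} {t : Set ι} (hst : ∀ k ∈ s, f k ∈ t) {A : SUg κ F}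
    (hA : A ∈ Blk F s) : ext f A ∈ Blk F t := by
  intro i hi
  by_cases h : i ∈ Set.range f
  · obtain ⟨k, rfl⟩ := h
    rw [ext_ev, hA k (fun hk => hi (hst k hk)), Pm_mulVec_ev]
  · exact ext_ev_not f A h

theorem ext_mem_Blk' (f : κ ↪ ι) {t : Set ι} (ht : ∀ k, f k ∈ t) (A : SUg κ F) :
    ext f A ∈ Blk F t :=
  ext_mem_Blk f (s := Set.univ) (fun k _ => ht k) (fun k hk => absurd (Set.mem_univ k) hk)

theorem mem_Blk_of_ext (f : κ ↪ ι) {s : Set κ} {t : Set ι} (hst : ∀ k, f k ∈ t → k ∈ s)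
    {A : SUg κ F} (hA : ext f A ∈ Blk F t) : A ∈ Blk F s := by
  intro k hk
  have := hA (f k) (fun h => hk (hst k h))
  ext l
  have h2 := congrFun this (f l)
  rw [ext_ev, Pm_mulVec_apply] at h2
  rw [h2, ev_apply, ev_apply]
  simp

theorem exists_ext (f : κ ↪ ι) {t : Set ι} (ht : ∀ i ∈ t, i ∈ Set.range f) {M : SUg ι F}
    (hM : M ∈ Blk F t) : ∃ A, ext f A = M := by
  have hM' : M ∈ Blk F (Set.range f) := Blk_mono ht hM
  set A : Matrix κ κ F := (Pm F f)ᵀ * M.1 * Pm F f with hA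
  have h1 : ∀ v, Pm F f *ᵥ (A *ᵥ v) = M • (Pm F f *ᵥ v) := by
    intro v
    rw [hA, ← mulVec_mulVec, ← mulVec_mulVec, Pm_Pmt, SUg.smul_def]
    intro i hi
    rw [← SUg.smul_def, Blk_apply hM' _ hi, Pm_mulVec_not f _ hi]
  have h2 : extM f A = M.1 := by
    ext i j
    rw [← mulVec_ev (extM f A), ← mulVec_ev M.1]
    by_cases hj : j ∈ Set.range f
    · obtain ⟨k, rfl⟩ := hj
      rw [← Pm_mulVec_ev, extM_mulVec, h1, SUg.smul_def]
    · rw [extM_ev_not f _ hj, ← SUg.smul_def, hM' j hj]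
  refine ⟨⟨A, ?_, ?_⟩, Subtype.ext h2⟩
  · apply mem_unitary_of_hf
    intro u v
    rw [← hf_Pm f, h1, h1, hf_SU, hf_Pm]
  · show A.det = 1
    rw [← extM_det f, h2, M.det]

end Emb

section Ext

variable {ι F G : Type*} [Fintype ι] [DecidableEq ι] [Field F] [StarRing F] [HermField F]
  [Group G]

/-- data for the extension step -/
structure ExtData (ι F G : Type*) [Fintype ι] [DecidableEq ι] [Field F] [StarRing F]
    [Group G] where
  i0 : ι
  i1 : ι
  i2 : ι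
  n : ι
  h01 : i0 ≠ i1
  h02 : i0 ≠ i2
  h12 : i1 ≠ i2
  h0n : i0 ≠ n
  h1n : i1 ≠ n
  h2n : i2 ≠ n
  φ : SUg ι F → G
  ψ : SUg ι F → G
  φ_mul : ∀ a b : SUg ι F, a • ev F i0 = ev F i0 → b • ev F i0 = ev F i0 → φ (a * b) = φ a * φ b
  ψ_mul : ∀ a b : SUg ι F, a • ev F n = ev F n → b • ev F n = ev F n → ψ (a * b) = ψ a * ψ b
  agree : ∀ a : SUg ι F, a • ev F i0 = ev F i0 → a • ev F n = ev F n → φ a = ψ a
  comm2 : ∀ a ∈ Blk F ({i0, i1} : Set ι), ∀ c ∈ Blk F ({i0, i1}ᶜ : Set ι), ψ a * φ c = φ c * ψ a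

namespace ExtData

variable (E : ExtData ι F G)

theorem exists_w0 : ∃ w ∈ Blk F ({E.i0, E.i1} : Set ι), w • ev F E.i0 = ev F E.i1 :=
  exists_block _ (by simp) (by simp) E.h01 (by simp) (fun i hi => ev_ne (by
    rintro rfl; simp at hi))

/-- the Weyl element -/
noncomputable def w0 : SUg ι F := E.exists_w0.choose

theorem w0_mem : E.w0 ∈ Blk F ({E.i0, E.i1} : Set ι) := E.exists_w0.choose_spec.1
theorem w0_smul : E.w0 • ev F E.i0 = ev F E.i1 := E.exists_w0.choose_spec.2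
theorem w0_n : E.w0 • ev F E.n = ev F E.n := E.w0_mem _ (by simp [E.h0n.symm, E.h1n.symm])

omit [HermField F] in
theorem ψ_one : E.ψ 1 = 1 := by
  have := E.ψ_mul 1 1 (one_smul _ _) (one_smul _ _)
  simpa using this

omit [HermField F] in
theorem ψ_inv (a : SUg ι F) (ha : a • ev F E.n = ev F E.n) : E.ψ a⁻¹ = (E.ψ a)⁻¹ := by
  have h1 : a⁻¹ • ev F E.n = ev F E.n := by rw [inv_smul_eq_iff, ha]
  have := E.ψ_mul a⁻¹ a h1 ha
  rw [inv_mul_cancel, E.ψ_one] at this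
  exact eq_inv_of_mul_eq_one_left this.symm

/-- the Tits data -/
noncomputable def tits : TitsData (SUg ι F) (ι → F) G where
  adj := adj
  x0 := ev F E.i0
  w0 := E.w0
  φ := E.φ
  ω := E.ψ E.w0
  adj_smul := fun s _ _ h => adj_smul s h
  trans := fun _ _ h => trans1 E.h01 h.1
  adj0 := by rw [E.w0_smul]; exact adj_ev E.h01
  nbr := by
    intro y hy
    obtain ⟨h, hh, hh2⟩ := exists_block ({E.i0}ᶜ : Set ι) (k := E.i1) (l := E.i2) E.h01.symm
      E.h02.symm E.h12 hy.2.1 (by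
        intro i hi
        simp only [Set.mem_compl_iff, Set.mem_singleton_iff, not_not] at hi
        subst hi
        rw [← hf_ev_right y, hy.perp'])
    exact ⟨h, mem_Blk_compl_single.1 hh, by rw [E.w0_smul, hh2]⟩
  mul := E.φ_mul
  compat := by
    intro k h1 h2
    rw [E.w0_smul] at h2
    have hk : k ∈ Blk F ({E.i0, E.i1}ᶜ : Set ι) := by
      intro i hi
      simp only [Set.mem_compl_iff, Set.mem_insert_iff, Set.mem_singleton_iff, not_not] at hi
      rcases hi with rfl | rfl <;> assumption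
    have := Blk_comm disjoint_compl_right E.w0_mem hk
    rw [mul_assoc, ← this, inv_mul_cancel_left, E.comm2 _ E.w0_mem _ hk]

theorem θ_eq (t : SUg ι F) (ht : t • ev F E.n = ev F E.n)
    (h : adj (ev F E.i0) (t • ev F E.i0)) : E.tits.θ t = E.ψ t := by
  obtain ⟨k, hk, hk2⟩ := exists_block ({E.i0, E.n}ᶜ : Set ι) (k := E.i1) (l := E.i2)
    (by simp [E.h01.symm, E.h1n]) (by simp [E.h02.symm, E.h2n]) E.h12 h.2.1 (by
      intro i hi
      simp only [Set.mem_compl_iff, Set.mem_insert_iff, Set.mem_singleton_iff, not_not] at hi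
      rcases hi with rfl | rfl
      · rw [← hf_ev_right (t • _), h.perp']
      · rw [Blk_apply (mem_Blk_compl_single.2 ht) _ (by simp), ev_ne E.h0n.symm])
  have hk0 := hk E.i0 (by simp)
  have hkn := hk E.n (by simp)
  have h1 : (E.w0⁻¹ * k⁻¹ * t) • ev F E.i0 = ev F E.i0 := by
    rw [mul_smul, mul_smul, ← hk2, inv_smul_smul, ← E.w0_smul, inv_smul_smul]
  have h2 : (E.w0⁻¹ * k⁻¹ * t) • ev F E.n = ev F E.n := by
    rw [mul_smul, mul_smul, ht, inv_smul_eq_iff, inv_smul_eq_iff, E.w0_n, hkn]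
  have e : t = k * E.w0 * (E.w0⁻¹ * k⁻¹ * t) := by group
  have := E.tits.θ_spec k _ hk0 h1
  generalize E.w0⁻¹ * k⁻¹ * t = k' at *
  subst e
  rw [E.ψ_mul _ _ (by rw [mul_smul, E.w0_n, hkn]) h2, E.ψ_mul _ _ hkn E.w0_n,
    ← E.agree _ hk0 hkn, ← E.agree _ h1 h2]
  exact this

theorem c_loc (s t t' : SUg ι F) (ht : t • ev F E.n = ev F E.n) (ht' : t' • ev F E.n = ev F E.n)
    (h : adj (t • ev F E.i0) (t' • ev F E.i0)) :
    E.tits.c (s • t • ev F E.i0) (s • t' • ev F E.i0) =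
      E.tits.ρ (s * t) * (E.ψ t)⁻¹ * E.ψ t' * (E.tits.ρ (s * t'))⁻¹ := by
  have h1 := E.tits.c_eq (s * t) (s * t') (by
    rw [mul_smul, mul_smul]; exact adj_smul s h)
  have e : (s * t)⁻¹ * (s * t') = t⁻¹ * t' := by group
  have hti : t⁻¹ • ev F E.n = ev F E.n := by rw [inv_smul_eq_iff, ht]
  rw [e, E.θ_eq _ (by rw [mul_smul, ht', hti]) (by
    have := adj_smul t⁻¹ h
    rwa [inv_smul_smul, ← mul_smul] at this), E.ψ_mul _ _ hti ht', E.ψ_inv _ ht,
    mul_smul, mul_smul] at h1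
  rw [mul_assoc _ _ (E.ψ t')]
  exact h1

theorem exists_t {m : ι} (h0 : E.i0 ≠ m) (hn : m ≠ E.n) :
    ∃ t : SUg ι F, t • ev F E.n = ev F E.n ∧ t • ev F E.i0 = ev F m := by
  obtain ⟨t, ht, ht2⟩ := exists_block ({E.n}ᶜ : Set ι) (k := E.i0) (l := m) E.h0n hn h0
    (y := ev F m) (by simp) (by
      intro i hi
      simp only [Set.mem_compl_iff, Set.mem_singleton_iff, not_not] at hi
      subst hi
      exact ev_ne hn.symm)
  exact ⟨t, mem_Blk_compl_single.1 ht, ht2⟩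

theorem sq_gen (s0 : Set ι) (h0 : E.i0 ∈ s0) {m : ι} (hm : m ∉ s0) (hn : E.n ∉ s0)
    (hmn : m ≠ E.n) (hcomm : ∀ a ∈ Blk F s0, ∀ c ∈ Blk F s0ᶜ, E.ψ a * E.φ c = E.φ c * E.ψ a)
    (s a : SUg ι F) (ha : a ∈ Blk F s0) {y : ι → F} (hy : hf y y = 1)
    (hy0 : ∀ i ∈ s0, y i = 0) :
    E.tits.c (s • ev F E.i0) (s • y) * E.tits.c (s • y) (s • a • ev F E.i0) =
      E.tits.ρ s * E.ψ a * (E.tits.ρ (s * a))⁻¹ := by
  have h0m : E.i0 ≠ m := by rintro rfl; exact hm h0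
  obtain ⟨k, hk, rfl⟩ := exists_block s0ᶜ hm hn hmn hy (by simpa using hy0)
  obtain ⟨t, htn, ht0⟩ := E.exists_t h0m hmn
  have hk0 : k • ev F E.i0 = ev F E.i0 := hk _ (by simpa using h0)
  have hki : k⁻¹ • ev F E.i0 = ev F E.i0 := by rw [inv_smul_eq_iff, hk0]
  have ham : a • ev F m = ev F m := ha m hm
  have han : a • ev F E.n = ev F E.n := ha _ hn
  have hti : t⁻¹ • ev F E.n = ev F E.n := by rw [inv_smul_eq_iff, htn]
  have hadj0 : adj (ev F E.i0) (t • ev F E.i0) := by rw [ht0]; exact adj_ev h0m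
  have hadj1 : adj (ev F E.i0) ((t⁻¹ * a) • ev F E.i0) := by
    have := adj_smul t⁻¹ (adj_smul a (adj_ev (F := F) h0m.symm))
    rwa [ham, ← ht0, inv_smul_smul, ← mul_smul] at this
  have hka : a * k = k * a := Blk_comm disjoint_compl_right ha hk
  have e1 := E.tits.c_eq s (s * k * t) (by
    show adj _ _
    have := adj_smul (s * k) hadj0
    rwa [mul_smul s k, hk0, ← mul_smul] at this)
  have e2 := E.tits.c_eq (s * k * t) (s * a) (by
    show adj _ _
    have := adj_smul (s * k * t) hadj1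
    rw [← mul_smul (s * k * t) (t⁻¹ * a), show s * k * t * (t⁻¹ * a) = s * a * k by
      rw [mul_assoc s a k, hka]; group, mul_smul (s * a) k, hk0] at this
    exact this)
  have f1 : s⁻¹ * (s * k * t) = k * t * 1 := by group
  have f2 : (s * k * t)⁻¹ * (s * a) = 1 * (t⁻¹ * a) * k⁻¹ := by
    rw [show (s * k * t)⁻¹ * (s * a) = t⁻¹ * k⁻¹ * (a * k) * k⁻¹ by group, hka]; group
  rw [f1, E.tits.θ_mul _ _ _ hadj0 hk0 (one_smul _ _), E.θ_eq _ htn hadj0] at e1
  rw [f2, E.tits.θ_mul _ _ _ hadj1 (one_smul _ _) hki, E.θ_eq _ (by rw [mul_smul, han, hti]) hadj1,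
    E.ψ_mul _ _ hti han, E.ψ_inv _ htn, E.tits.φ_inv _ hk0] at e2
  rw [E.tits.φ_one] at e1 e2
  have g1 : (s * k * t) • E.tits.x0 = s • k • ev F m := by
    show (s * k * t) • ev F E.i0 = _
    rw [mul_smul, mul_smul, ht0]
  have g2 : (s * a) • E.tits.x0 = s • a • ev F E.i0 := mul_smul _ _ _
  rw [g1] at e1 e2
  rw [g2] at e2
  have g3 : E.tits.φ k = E.φ k := rfl
  have g4 := hcomm a ha k hk
  erw [e1, e2]
  rw [g3]
  have : E.ψ a = E.φ k * E.ψ a * (E.φ k)⁻¹ := by rw [← g4]; group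
  conv_rhs => rw [this]
  group

omit [HermField F] in
include E in
theorem four_le : 4 ≤ Fintype.card ι := by
  have : ({E.i0, E.i1, E.i2, E.n} : Finset ι).card = 4 := by
    rw [Finset.card_insert_of_notMem (by simp [E.h01, E.h02, E.h0n]),
      Finset.card_insert_of_notMem (by simp [E.h12, E.h1n]), Finset.card_pair E.h2n]
  rw [← this]; exact Finset.card_le_univ _

theorem cocy : Cocy E.tits.c where
  inv := by
    intro x y h
    obtain ⟨s, rfl, rfl⟩ := trans2 E.h01 E.h02 E.h12 h.1 h.2.1 h.2.2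
    have h1 := E.c_loc s 1 E.w0 (one_smul _ _) E.w0_n (by
      rw [one_smul, E.w0_smul]; exact adj_ev E.h01)
    have h2 := E.c_loc s E.w0 1 E.w0_n (one_smul _ _) (by
      rw [one_smul, E.w0_smul]; exact adj_ev E.h01.symm)
    rw [one_smul, E.w0_smul] at h1 h2
    rw [h1, h2]; group
  tri := by
    intro x y z h1 h2 h3
    obtain ⟨s, rfl, rfl, rfl⟩ := trans3 E.h01 E.h02 E.h12 E.h0n E.h1n E.h2n h1.1 h1.2.1 h2.2.1
      h1.2.2 h3.2.2 h2.2.2
    obtain ⟨t, htn, ht0⟩ := E.exists_t E.h02 E.h2n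
    have e1 := E.c_loc s 1 E.w0 (one_smul _ _) E.w0_n (by
      rw [one_smul, E.w0_smul]; exact adj_ev E.h01)
    have e2 := E.c_loc s E.w0 t E.w0_n htn (by
      rw [ht0, E.w0_smul]; exact adj_ev E.h12)
    have e3 := E.c_loc s 1 t (one_smul _ _) htn (by
      rw [one_smul, ht0]; exact adj_ev E.h02)
    rw [one_smul, E.w0_smul] at e1
    rw [ht0, E.w0_smul] at e2
    rw [one_smul, ht0] at e3
    rw [e1, e2, e3]; group
  sq2 := by
    intro x u y y' α β h h1 h2 h3 h4 hx'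
    obtain ⟨s, rfl, rfl⟩ := trans2 E.h01 E.h02 E.h12 h.1 h.2.1 h.2.2
    rw [← SUg.smul_smul_comm, ← SUg.smul_smul_comm, ← SUg.smul_add'] at hx' ⊢
    rw [hf_SU] at hx'
    obtain ⟨a, ha, ha2⟩ := exists_block ({E.i0, E.i1} : Set ι) (by simp) (by simp) E.h01 hx' (by
      intro i hi
      simp only [Set.mem_insert_iff, Set.mem_singleton_iff, not_or] at hi
      simp [ev_ne hi.1, ev_ne hi.2])
    have key : ∀ y, adj (s • ev F E.i0) y → adj (s • ev F E.i1) y →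
        E.tits.c (s • ev F E.i0) y * E.tits.c y (s • a • ev F E.i0) =
          E.tits.ρ s * E.ψ a * (E.tits.ρ (s * a))⁻¹ := by
      intro y h1 h2
      have := E.sq_gen {E.i0, E.i1} (by simp) (m := E.i2) (by simp [E.h02.symm, E.h12.symm])
        (by simp [E.h0n.symm, E.h1n.symm]) E.h2n E.comm2 s a ha (y := s⁻¹ • y)
        (by rw [hf_SU, h1.2.1]) (by
          intro i hi
          simp only [Set.mem_insert_iff, Set.mem_singleton_iff] at hi
          rcases hi with rfl | rfl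
          · rw [← hf_ev_right (s⁻¹ • y), hf_SU', inv_inv, h1.perp']
          · rw [← hf_ev_right (s⁻¹ • y), hf_SU', inv_inv, h2.perp'])
      rwa [smul_inv_smul] at this
    rw [← ha2, key y h1 h2, key y' h3 h4]

theorem sq3 {m : ι} (h0m : E.i0 ≠ m) (h1m : E.i1 ≠ m) (h2m : E.i2 ≠ m) (hmn : m ≠ E.n)
    (hcomm : ∀ a ∈ Blk F ({E.i0, E.i1, E.i2} : Set ι),
      ∀ c ∈ Blk F ({E.i0, E.i1, E.i2}ᶜ : Set ι), E.ψ a * E.φ c = E.φ c * E.ψ a) :
    Sq3 E.tits.c := by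
  intro x u v y y' α β γ h h' h'' h1 h2 h3 h1' h2' h3' hx'
  obtain ⟨s, rfl, rfl, rfl⟩ := trans3 E.h01 E.h02 E.h12 E.h0n E.h1n E.h2n h.1 h.2.1 h'.2.1
      h.2.2 h'.2.2 h''.2.2
  rw [← SUg.smul_smul_comm, ← SUg.smul_smul_comm, ← SUg.smul_smul_comm, ← SUg.smul_add',
    ← SUg.smul_add'] at hx' ⊢
  rw [hf_SU] at hx'
  obtain ⟨a, ha, ha2⟩ := exists_block ({E.i0, E.i1, E.i2} : Set ι) (by simp) (by simp) E.h01 hx'
    (by
      intro i hi
      simp only [Set.mem_insert_iff, Set.mem_singleton_iff, not_or] at hi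
      simp [ev_ne hi.1, ev_ne hi.2.1, ev_ne hi.2.2])
  have key : ∀ y, adj (s • ev F E.i0) y → adj (s • ev F E.i1) y → adj (s • ev F E.i2) y →
      E.tits.c (s • ev F E.i0) y * E.tits.c y (s • a • ev F E.i0) =
        E.tits.ρ s * E.ψ a * (E.tits.ρ (s * a))⁻¹ := by
    intro y h1 h2 h3
    have := E.sq_gen {E.i0, E.i1, E.i2} (by simp) (m := m)
      (by simp [h0m.symm, h1m.symm, h2m.symm])
      (by simp [E.h0n.symm, E.h1n.symm, E.h2n.symm]) hmn hcomm s a ha (y := s⁻¹ • y)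
      (by rw [hf_SU, h1.2.1]) (by
        intro i hi
        simp only [Set.mem_insert_iff, Set.mem_singleton_iff] at hi
        rcases hi with rfl | rfl | rfl
        · rw [← hf_ev_right (s⁻¹ • y), hf_SU', inv_inv, h1.perp']
        · rw [← hf_ev_right (s⁻¹ • y), hf_SU', inv_inv, h2.perp']
        · rw [← hf_ev_right (s⁻¹ • y), hf_SU', inv_inv, h3.perp'])
    rwa [smul_inv_smul] at this
  rw [← ha2, key y h1 h2 h3, key y' h1' h2' h3']

/-- conclusion of the extension step -/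
def Concl : Prop := ∃ Θ : SUg ι F →* G,
  (∀ a : SUg ι F, a • ev F E.i0 = ev F E.i0 → Θ a = E.φ a) ∧
    ∀ t : SUg ι F, t • ev F E.n = ev F E.n → adj (ev F E.i0) (t • ev F E.i0) → Θ t = E.ψ t

theorem concl_of (a : (ι → F) → G) (ha0 : a (ev F E.i0) = 1)
    (ha : ∀ x y, adj x y → E.tits.c x y = (a x)⁻¹ * a y) : E.Concl := by
  obtain ⟨Θ, h1, h2⟩ := E.tits.exists_hom a ha0 ha (fun s => conn4 E.four_le
    (show hf (ev F E.i0) (ev F E.i0) = 1 by simp)
    (show hf (s • ev F E.i0) (s • ev F E.i0) = 1 by simp))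
  exact ⟨Θ, h1, fun t ht h => (h2 t h).trans (E.θ_eq t ht h)⟩

theorem concl4 (hB : Big3 F) : E.Concl := by
  obtain ⟨a, ha0, ha⟩ := E.cocy.triv4 hB E.four_le (x0 := ev F E.i0) (by simp)
  exact E.concl_of a ha0 ha

theorem concl5 {m : ι} (h0m : E.i0 ≠ m) (h1m : E.i1 ≠ m) (h2m : E.i2 ≠ m) (hmn : m ≠ E.n)
    (hcomm : ∀ a ∈ Blk F ({E.i0, E.i1, E.i2} : Set ι),
      ∀ c ∈ Blk F ({E.i0, E.i1, E.i2}ᶜ : Set ι), E.ψ a * E.φ c = E.φ c * E.ψ a) : E.Concl := by
  have h5 : 5 ≤ Fintype.card ι := by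
    have : ({E.i0, E.i1, E.i2, m, E.n} : Finset ι).card = 5 := by
      rw [Finset.card_insert_of_notMem (by simp [E.h01, E.h02, E.h0n, h0m]),
        Finset.card_insert_of_notMem (by simp [E.h12, E.h1n, h1m]),
        Finset.card_insert_of_notMem (by simp [E.h2n, h2m]), Finset.card_pair hmn]
    rw [← this]; exact Finset.card_le_univ _
  obtain ⟨a, ha0, ha⟩ := E.cocy.triv5 (E.sq3 h0m h1m h2m hmn hcomm) h5 (x0 := ev F E.i0) (by simp)
  exact E.concl_of a ha0 ha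

end ExtData

end Ext

end CfsgH4
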