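import Mathlib

set_option autoImplicit false

open Matrix

namespace CfsgH4

/-- fields with an involution of the second kind whose norm is onto the fixed field -/
class HermField (F : Type*) [Field F] [StarRing F] : Prop where
  norm_surj : ∀ a : F, star a = a → ∃ b : F, b * star b = a
  exists_ne : ∃ x : F, star x ≠ x

/-- the special unitary group -/
abbrev SUg (ι F : Type*) [Fintype ι] [DecidableEq ι] [Field F] [StarRing F] : Type _ :=
  ↥(Matrix.specialUnitaryGroup ι F)

section Form

variable {ι F : Type*} [Fintype ι] [Field F] [StarRing F]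

/-- the standard Hermitian form -/
def hf (u v : ι → F) : F := u ⬝ᵥ star v

theorem hf_def (u v : ι → F) : hf u v = ∑ i, u i * star (v i) := rfl

@[simp] theorem hf_add_left (u u' v : ι → F) : hf (u + u') v = hf u v + hf u' v := by
  simp [hf]
@[simp] theorem hf_add_right (u v v' : ι → F) : hf u (v + v') = hf u v + hf u v' := by
  simp [hf]
@[simp] theorem hf_sub_left (u u' v : ι → F) : hf (u - u') v = hf u v - hf u' v := by
  simp [hf]
@[simp] theorem hf_sub_right (u v v' : ι → F) : hf u (v - v') = hf u v - hf u v' := by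
  simp [hf]
@[simp] theorem hf_neg_left (u v : ι → F) : hf (-u) v = - hf u v := by
  simp [hf]
@[simp] theorem hf_neg_right (u v : ι → F) : hf u (-v) = - hf u v := by
  simp [hf]
@[simp] theorem hf_smul_left (a : F) (u v : ι → F) : hf (a • u) v = a * hf u v := by
  simp [hf]
@[simp] theorem hf_smul_right (a : F) (u v : ι → F) : hf u (a • v) = star a * hf u v := by
  simp [hf]
@[simp] theorem hf_zero_left (v : ι → F) : hf 0 v = 0 := by simp [hf]
@[simp] theorem hf_zero_right (v : ι → F) : hf v 0 = 0 := by simp [hf]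
@[simp] theorem star_hf (u v : ι → F) : star (hf u v) = hf v u := by
  simp [hf_def, star_sum, mul_comm]

theorem hf_symm {u v : ι → F} (h : hf u v = 0) : hf v u = 0 := by
  rw [← star_hf, h, star_zero]

theorem hf_ne_symm {u v : ι → F} (h : hf u v ≠ 0) : hf v u ≠ 0 := fun h' => h (hf_symm h')

theorem hf_mulVec (A : Matrix ι ι F) (u v : ι → F) : hf (A *ᵥ u) v = hf u (star A *ᵥ v) := by
  unfold hf
  rw [star_mulVec, star_eq_conjTranspose, conjTranspose_conjTranspose, dotProduct_comm,
    dotProduct_mulVec, dotProduct_comm]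

variable [DecidableEq ι]

/-- standard basis vector -/
def ev (F : Type*) [Field F] {ι : Type*} [DecidableEq ι] (k : ι) : ι → F := Pi.single k 1

omit [Fintype ι] [StarRing F] in
theorem ev_apply (k l : ι) : ev F k l = if l = k then 1 else 0 := by
  simp [ev, Pi.single_apply]

omit [Fintype ι] [StarRing F] in
@[simp] theorem ev_self (k : ι) : ev F k k = 1 := by simp [ev]

omit [Fintype ι] [StarRing F] in
theorem ev_ne {k l : ι} (h : l ≠ k) : ev F k l = 0 := by simp [ev_apply, h]

@[simp] theorem hf_ev_right (v : ι → F) (k : ι) : hf v (ev F k) = v k := by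
  simp [hf_def, ev_apply, apply_ite star]

@[simp] theorem hf_ev_left (v : ι → F) (k : ι) : hf (ev F k) v = star (v k) := by
  rw [← star_hf, hf_ev_right]

omit [StarRing F] in
theorem mulVec_ev (A : Matrix ι ι F) (k i : ι) : (A *ᵥ ev F k) i = A i k := by
  simp [ev]

omit [StarRing F] in
theorem eq_sum_ev (v : ι → F) : v = ∑ k, v k • ev F k := by
  ext i; simp [ev_apply, Finset.sum_apply]

theorem mem_unitary_of_hf {A : Matrix ι ι F}
    (h : ∀ u v, hf (A *ᵥ u) (A *ᵥ v) = hf u v) : A ∈ unitaryGroup ι F := by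
  rw [mem_unitaryGroup_iff']
  ext i j
  have := h (ev F i) (ev F j)
  rw [hf_mulVec, mulVec_mulVec, hf_ev_left, hf_ev_left, mulVec_ev] at this
  rw [star_injective this, ev_apply, one_apply]

theorem hf_unitary {A : Matrix ι ι F} (hA : A ∈ unitaryGroup ι F) (u v : ι → F) :
    hf (A *ᵥ u) (A *ᵥ v) = hf u v := by
  rw [hf_mulVec, mulVec_mulVec, mem_unitaryGroup_iff'.1 hA, one_mulVec]

theorem SUg.smul_def (s : SUg ι F) (v : ι → F) : s • v = s.1 *ᵥ v := rfl

@[simp] theorem hf_SU (s : SUg ι F) (u v : ι → F) : hf (s • u) (s • v) = hf u v :=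
  hf_unitary s.2.1 u v

theorem hf_SU' (s : SUg ι F) (u v : ι → F) : hf (s • u) v = hf u (s⁻¹ • v) := by
  rw [← hf_SU s u, smul_inv_smul]

theorem SUg.smul_smul_comm (s : SUg ι F) (a : F) (v : ι → F) : s • a • v = a • s • v :=
  mulVec_smul _ _ _

theorem SUg.smul_add' (s : SUg ι F) (u v : ι → F) : s • (u + v) = s • u + s • v :=
  mulVec_add _ _ _

theorem SUg.smul_sub' (s : SUg ι F) (u v : ι → F) : s • (u - v) = s • u - s • v :=
  mulVec_sub _ _ _

theorem SUg.ext_ev {s t : SUg ι F} (h : ∀ k : ι, s • ev F k = t • ev F k) : s = t := by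
  apply Subtype.ext
  ext i k
  have := congrFun (h k) i
  rwa [SUg.smul_def, SUg.smul_def, mulVec_ev, mulVec_ev] at this

theorem SUg.smul_ev (s : SUg ι F) (k i : ι) : (s • ev F k) i = s.1 i k := mulVec_ev _ _ _

theorem SUg.det (s : SUg ι F) : s.1.det = 1 := s.2.2

theorem SUg.coe_inv (s : SUg ι F) : (s⁻¹).1 = star s.1 := rfl

/-- the block subgroup on the coordinate set `s` -/
def Blk (F : Type*) [Field F] [StarRing F] (s : Set ι) : Subgroup (SUg ι F) where
  carrier := {A | ∀ k, k ∉ s → A • ev F k = ev F k}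
  one_mem' := fun k _ => one_smul _ _
  mul_mem' := fun {a b} ha hb k hk => by rw [mul_smul, hb k hk, ha k hk]
  inv_mem' := fun {a} ha k hk => by rw [inv_smul_eq_iff, ha k hk]

theorem mem_Blk {s : Set ι} {A : SUg ι F} :
    A ∈ Blk F s ↔ ∀ k, k ∉ s → A • ev F k = ev F k := Iff.rfl

theorem Blk_mono {s t : Set ι} (h : s ⊆ t) : Blk F s ≤ Blk F t :=
  fun _ hA k hk => hA k (fun h' => hk (h h'))

theorem mem_Blk_compl_single {k : ι} {A : SUg ι F} :
    A ∈ Blk F ({k}ᶜ : Set ι) ↔ A • ev F k = ev F k := by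
  simp [mem_Blk]

theorem Blk_apply {s : Set ι} {A : SUg ι F} (hA : A ∈ Blk F s) (v : ι → F) {k : ι}
    (hk : k ∉ s) : (A • v) k = v k := by
  rw [← hf_ev_right (A • v), ← hA k hk, hf_SU, hf_ev_right]

theorem Blk_fix {s : Set ι} {A : SUg ι F} (hA : A ∈ Blk F s) (v : ι → F)
    (hv : ∀ k ∈ s, v k = 0) : A • v = v := by
  conv_lhs => rw [eq_sum_ev v]
  conv_rhs => rw [eq_sum_ev v]
  rw [SUg.smul_def, mulVec_sum]
  refine Finset.sum_congr rfl fun k _ => ?_
  by_cases hk : k ∈ s
  · simp [hv k hk]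
  · rw [mulVec_smul, ← SUg.smul_def, hA k hk]

theorem Blk_comm {s t : Set ι} (hst : Disjoint s t) {A C : SUg ι F} (hA : A ∈ Blk F s)
    (hC : C ∈ Blk F t) : A * C = C * A := by
  apply SUg.ext_ev
  intro k
  rw [mul_smul, mul_smul]
  by_cases hs : k ∈ s
  · have ht : k ∉ t := Set.disjoint_left.1 hst hs
    rw [hC k ht, Blk_fix hC]
    intro l hl
    have hls : l ∉ s := Set.disjoint_right.1 hst hl
    rw [Blk_apply hA _ hls, ev_ne (by rintro rfl; exact ht hl)]
  · rw [hA k hs, Blk_fix hA]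
    intro l hl
    have hlt : l ∉ t := Set.disjoint_left.1 hst hl
    rw [Blk_apply hC _ hlt, ev_ne (by rintro rfl; exact hs hl)]

end Form

section Field

variable {F : Type*} [Field F] [StarRing F] [HermField F]

theorem exists_trace_ne : ∃ x : F, x + star x ≠ 0 := by
  by_contra! h
  obtain ⟨x, hx⟩ := HermField.exists_ne (F := F)
  have h1 := h 1
  rw [star_one] at h1
  have h2 := h x
  apply hx
  linear_combination h2 - x * h1

theorem exists_norm_one_ne : ∃ l : F, l * star l = 1 ∧ l ≠ 1 := by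
  obtain ⟨x, hx⟩ := HermField.exists_ne (F := F)
  have h0 : x ≠ 0 := by rintro rfl; simp at hx
  have h1 : star x ≠ 0 := by simpa using h0
  refine ⟨star x / x, ?_, ?_⟩
  · rw [star_div₀, star_star]; field_simp
  · intro h; apply hx; field_simp at h; exact h

theorem exists_skew : ∃ j : F, j ≠ 0 ∧ star j = - j := by
  obtain ⟨x, hx⟩ := HermField.exists_ne (F := F)
  refine ⟨star x - x, sub_ne_zero.2 hx, by simp⟩

variable {ι : Type*} [Fintype ι]

theorem exists_normalize {v : ι → F} (hv : hf v v ≠ 0) :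
    ∃ c : F, c ≠ 0 ∧ c * star c * hf v v = 1 := by
  obtain ⟨c, hc⟩ := HermField.norm_surj (hf v v)⁻¹ (by rw [star_inv₀, star_hf])
  refine ⟨c, ?_, by rw [hc, inv_mul_cancel₀ hv]⟩
  rintro rfl
  simp at hc
  exact hv (by simpa using hc.symm)

theorem exists_unit_smul {v : ι → F} (hv : hf v v ≠ 0) :
    ∃ c : F, c ≠ 0 ∧ hf (c • v) (c • v) = 1 := by
  obtain ⟨c, hc, h⟩ := exists_normalize hv
  exact ⟨c, hc, by rw [hf_smul_left, hf_smul_right, ← h]; ring⟩

theorem exists_unit_comb {p r : ι → F} (h : hf p r ≠ 0) :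
    ∃ a b : F, hf (a • p + b • r) (a • p + b • r) = 1 := by
  suffices ∃ a b : F, hf (a • p + b • r) (a • p + b • r) ≠ 0 by
    obtain ⟨a, b, hab⟩ := this
    obtain ⟨c, -, hc⟩ := exists_unit_smul hab
    exact ⟨c * a, c * b, by rwa [smul_add, smul_smul, smul_smul] at hc⟩
  by_cases hp : hf p p = 0
  · by_cases hr : hf r r = 0
    · obtain ⟨x, hx⟩ := exists_trace_ne (F := F)
      refine ⟨x / hf p r, 1, ?_⟩
      have h' := hf_ne_symm h
      simp only [one_smul, hf_add_left, hf_add_right, hf_smul_left, hf_smul_right, hp, hr,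
        star_div₀, star_hf]
      have e : star x / hf r p * (x / hf p r * 0) + x / hf p r * hf p r
          + (star x / hf r p * hf r p + 0) = x + star x := by field_simp; ring
      intro h0; apply hx; linear_combination h0 - e
    · exact ⟨0, 1, by simpa using hr⟩
  · exact ⟨1, 0, by simpa using hp⟩

end Field

section Trans

variable {ι F : Type*} [Fintype ι] [DecidableEq ι] [Field F] [StarRing F]

theorem diag_mem_unitary {d : ι → F} (hd : ∀ i, d i * star (d i) = 1) :
    diagonal d ∈ unitaryGroup ι F := by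
  rw [mem_unitaryGroup_iff, star_eq_conjTranspose, diagonal_conjTranspose, diagonal_mul_diagonal,
    ← diagonal_one]
  congr 1
  ext i
  exact hd i

theorem mulSingle_norm {k : ι} {a : F} (ha : a * star a = 1) (i : ι) :
    (Pi.mulSingle k a : ι → F) i * star ((Pi.mulSingle k a : ι → F) i) = 1 := by
  by_cases h : i = k
  · subst h; simpa using ha
  · simp [Pi.mulSingle_eq_of_ne h]

omit [StarRing F] in
theorem det_diag_mulSingle (k : ι) (a : F) :
    (diagonal (Pi.mulSingle k a : ι → F)).det = a := by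
  rw [det_diagonal, Finset.prod_pi_mulSingle' ]
  simp

omit [StarRing F] in
theorem diagonal_mulVec_ev (d : ι → F) (k : ι) : diagonal d *ᵥ ev F k = d k • ev F k := by
  ext i
  rw [mulVec_ev, Pi.smul_apply, ev_apply, diagonal_apply]
  split_ifs with h <;> simp [h]

/-- quasi-reflection matrix -/
def qrefl (d : ι → F) (c : F) : Matrix ι ι F := 1 - c • vecMulVec d (star d)

theorem qrefl_mulVec (d : ι → F) (c : F) (v : ι → F) :
    qrefl d c *ᵥ v = v - (c * hf v d) • d := by
  unfold qrefl hf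
  rw [sub_mulVec, one_mulVec, smul_mulVec, vecMulVec_mulVec, dotProduct_comm, mul_smul,
    op_smul_eq_smul]

theorem qrefl_mem {d : ι → F} {c : F} (h : c * star c * hf d d = c + star c) :
    qrefl d c ∈ unitaryGroup ι F := by
  apply mem_unitary_of_hf
  intro u v
  simp only [qrefl_mulVec, hf_sub_left, hf_sub_right, hf_smul_left, hf_smul_right, star_mul',
    star_hf]
  linear_combination (hf u d * hf d v) * h

variable [HermField F]

theorem exists_block (s : Set ι) {k l : ι} (hk : k ∈ s) (hl : l ∈ s) (hkl : k ≠ l)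
    {y : ι → F} (hy : hf y y = 1) (hs : ∀ i, i ∉ s → y i = 0) :
    ∃ A ∈ Blk F s, A • ev F k = y := by
  obtain ⟨a, ha, ha2⟩ : ∃ a : F, a * star a = 1 ∧ 1 - a * star (y k) ≠ 0 := by
    by_cases h : star (y k) = 1
    · obtain ⟨a, ha, ha1⟩ := exists_norm_one_ne (F := F)
      exact ⟨a, ha, by rw [h, mul_one]; exact sub_ne_zero.2 ha1.symm⟩
    · exact ⟨1, by simp, by rw [one_mul]; exact sub_ne_zero.2 (Ne.symm h)⟩
  have ha3 : 1 - star a * y k ≠ 0 := by
    intro h; apply ha2
    have := congrArg star h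
    simpa using this
  set d : ι → F := a • ev F k - y with hd
  set c : F := (1 - a * star (y k))⁻¹ with hc
  have hR : qrefl d c ∈ unitaryGroup ι F := by
    apply qrefl_mem
    have e : hf d d = (1 - a * star (y k)) + (1 - star a * y k) := by
      simp only [hd, hf_sub_left, hf_sub_right, hf_smul_left, hf_smul_right, hf_ev_left, hy]
      rw [hf_ev_right, ev_self, star_one]
      linear_combination ha
    simp only [e, hc, star_inv₀, star_sub, star_one, star_mul', star_star]
    field_simp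
    ring
  have hdet := det_of_mem_unitary hR
  set δ := (qrefl d c).det
  have hδ : δ * star δ = 1 := hdet.2
  have hb : (star a * star δ) * star (star a * star δ) = 1 := by
    simp only [star_mul', star_star]; linear_combination (δ * star δ) * ha + hδ
  let M : Matrix ι ι F := qrefl d c * diagonal (Pi.mulSingle k a) *
    diagonal (Pi.mulSingle l (star a * star δ))
  have hM : M ∈ specialUnitaryGroup ι F := by
    refine ⟨mul_mem (mul_mem hR (diag_mem_unitary (mulSingle_norm ha)))
      (diag_mem_unitary (mulSingle_norm hb)), ?_⟩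
    show M.det = 1
    simp only [M, det_mul, det_diag_mulSingle]
    linear_combination (δ * star δ) * ha + hδ
  refine ⟨⟨M, hM⟩, ?_, ?_⟩
  · intro i hi
    have hik : i ≠ k := by rintro rfl; exact hi hk
    have hil : i ≠ l := by rintro rfl; exact hi hl
    simp only [SUg.smul_def, M, ← mulVec_mulVec, diagonal_mulVec_ev, Pi.mulSingle_eq_of_ne hik,
      Pi.mulSingle_eq_of_ne hil, one_smul, qrefl_mulVec]
    simp [hd, hs i hi, ev_ne hik, ev_ne hik.symm]
  · simp only [SUg.smul_def, M, ← mulVec_mulVec, diagonal_mulVec_ev, Pi.mulSingle_eq_of_ne hkl,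
      Pi.mulSingle_eq_same, one_smul, qrefl_mulVec]
    have : c * hf (a • ev F k) d = 1 := by
      simp only [hd, hc, hf_sub_right, hf_smul_left, hf_smul_right, hf_ev_left, ev_self, star_one]
      field_simp
      linear_combination ha
    rw [this, hd]; simp

theorem trans1 {k l : ι} (hkl : k ≠ l) {x : ι → F} (hx : hf x x = 1) :
    ∃ s : SUg ι F, s • ev F k = x := by
  obtain ⟨A, -, hA⟩ := exists_block Set.univ (Set.mem_univ k) (Set.mem_univ l) hkl hx
    (by simp)
  exact ⟨A, hA⟩

theorem trans2 {k l m : ι} (hkl : k ≠ l) (hkm : k ≠ m) (hlm : l ≠ m) {x y : ι → F}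
    (hx : hf x x = 1) (hy : hf y y = 1) (hxy : hf x y = 0) :
    ∃ s : SUg ι F, s • ev F k = x ∧ s • ev F l = y := by
  obtain ⟨s, rfl⟩ := trans1 hkl hx
  obtain ⟨A, hA, hA2⟩ := exists_block ({k}ᶜ : Set ι) (k := l) (l := m) hkl.symm hkm.symm hlm
    (y := s⁻¹ • y) (by rw [hf_SU, hy]) (by
      intro i hi
      simp only [Set.mem_compl_iff, Set.mem_singleton_iff, not_not] at hi
      subst hi
      rw [← hf_ev_right (s⁻¹ • _), hf_SU', inv_inv, hf_symm hxy])
  refine ⟨s * A, ?_, ?_⟩
  · rw [mul_smul, mem_Blk_compl_single.1 hA]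
  · rw [mul_smul, hA2, smul_inv_smul]

theorem trans3 {k l m n : ι} (hkl : k ≠ l) (hkm : k ≠ m) (hlm : l ≠ m) (hkn : k ≠ n)
    (hln : l ≠ n) (hmn : m ≠ n) {x y z : ι → F}
    (hx : hf x x = 1) (hy : hf y y = 1) (hz : hf z z = 1) (hxy : hf x y = 0)
    (hxz : hf x z = 0) (hyz : hf y z = 0) :
    ∃ s : SUg ι F, s • ev F k = x ∧ s • ev F l = y ∧ s • ev F m = z := by
  obtain ⟨s, rfl, rfl⟩ := trans2 hkl hkm hlm hx hy hxy
  obtain ⟨A, hA, hA2⟩ := exists_block ({k, l}ᶜ : Set ι) (k := m) (l := n)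
    (by simp [hkm.symm, hlm.symm]) (by simp [hkn.symm, hln.symm]) hmn
    (y := s⁻¹ • z) (by rw [hf_SU, hz]) (by
      intro i hi
      simp only [Set.mem_compl_iff, Set.mem_insert_iff, Set.mem_singleton_iff, not_not] at hi
      rcases hi with rfl | rfl
      · rw [← hf_ev_right (s⁻¹ • _), hf_SU', inv_inv, hf_symm hxz]
      · rw [← hf_ev_right (s⁻¹ • _), hf_SU', inv_inv, hf_symm hyz])
  refine ⟨s * A, ?_, ?_, ?_⟩
  · rw [mul_smul, hA k (by simp)]
  · rw [mul_smul, hA l (by simp)]
  · rw [mul_smul, hA2, smul_inv_smul]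

/-- in three coordinates every vector has a unit vector perpendicular to it -/
theorem exists_unit_perp {k l m : ι} (hkl : k ≠ l) (hkm : k ≠ m) (hlm : l ≠ m) (v : ι → F) :
    ∃ z : ι → F, hf z z = 1 ∧ hf z v = 0 ∧ ∀ i, i ≠ k → i ≠ l → i ≠ m → z i = 0 := by
  by_cases hk : v k = 0
  · exact ⟨ev F k, by simp, by simp [hk], fun i h _ _ => ev_ne h⟩
  by_cases hm : v m = 0
  · exact ⟨ev F m, by simp, by simp [hm], fun i _ _ h => ev_ne h⟩
  obtain ⟨a, b, hab⟩ := exists_unit_comb (p := star (v l) • ev F k - star (v k) • ev F l)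
    (r := star (v m) • ev F l - star (v l) • ev F m) (by
      simp [ev_ne hkl, ev_ne hkm, ev_ne hlm, ev_ne hkl.symm, ev_ne hkm.symm, ev_ne hlm.symm, hk, hm])
  refine ⟨_, hab, ?_, ?_⟩
  · simp; ring
  · intro i h1 h2 h3
    simp [ev_ne h1, ev_ne h2, ev_ne h3]

end Trans

end CfsgH4
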