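import Cfsg.Agent.H4.PhanExt

set_option autoImplicit false

open Matrix

namespace CfsgH4

/-- the interval embedding -/
def sh {m n : ℕ} (a : ℕ) (h : a + m ≤ n) : Fin m ↪ Fin n :=
  ⟨fun i => ⟨a + i, by omega⟩, fun i j hij => by
    simp only [Fin.mk.injEq] at hij; ext; omega⟩

@[simp] theorem sh_val {m n : ℕ} (a : ℕ) (h : a + m ≤ n) (i : Fin m) :
    ((sh a h i : Fin n) : ℕ) = a + i := rfl

section Gen

variable {F : Type*} [Field F] [StarRing F]

theorem ext_sh_sh {k m n : ℕ} (a b : ℕ) (h : a + m ≤ n) (h' : b + k ≤ m) (A : SUg (Fin k) F) :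
    ext (sh a h) (ext (sh b h') A) = ext (sh (a + b) (by omega)) A := by
  rw [ext_ext]
  congr 2
  ext i
  simp [add_assoc]

theorem ext_sh_self {m : ℕ} (h : 0 + m ≤ m) (A : SUg (Fin m) F) : ext (sh 0 h) A = A := by
  apply Subtype.ext
  ext i j
  have := ext_apply (sh 0 h) A i j
  have e : ∀ i, sh 0 h i = i := fun i => by ext; simp
  rwa [e, e] at this

theorem exists_sh {m n : ℕ} (a : ℕ) (h : a + m ≤ n) {t : Set (Fin n)}
    (ht : ∀ i ∈ t, a ≤ i.val ∧ i.val < a + m) {M : SUg (Fin n) F} (hM : M ∈ Blk F t) :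
    ∃ A, ext (sh a h) A = M :=
  exists_ext _ (fun i hi => ⟨⟨i - a, by have := ht i hi; omega⟩, by
    have := ht i hi; ext; simp; omega⟩) hM

theorem ext_sh_fix {m n : ℕ} (a : ℕ) (h : a + m ≤ n) (A : SUg (Fin m) F) (i : Fin n)
    (hi : i.val < a ∨ a + m ≤ i.val) : ext (sh a h) A • ev F i = ev F i :=
  ext_ev_not _ _ (by rintro ⟨k, rfl⟩; simp at hi; omega)

variable [HermField F]

theorem gen_step {ι : Type*} [Fintype ι] [DecidableEq ι] {i0 i1 i2 : ι} (h01 : i0 ≠ i1)
    (h02 : i0 ≠ i2) (h12 : i1 ≠ i2)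
    (hconn : ∀ x y : ι → F, hf x x = 1 → hf y y = 1 → Relation.ReflTransGen adj x y)
    (L : Subgroup (SUg ι F)) (h0 : ∀ a : SUg ι F, a • ev F i0 = ev F i0 → a ∈ L)
    (h1 : ∃ w ∈ L, w • ev F i0 = ev F i1) : L = ⊤ := by
  rw [eq_top_iff]
  intro s _
  refine mem_of_conn adj (ev F i0) L (fun s _ _ h => adj_smul s h) h0 ?_ s
    (hconn _ _ (by simp) (by simp))
  intro y hy
  obtain ⟨w, hw, hw2⟩ := h1
  obtain ⟨h, hh, hh2⟩ := exists_block ({i0}ᶜ : Set ι) (k := i1) (l := i2) h01.symm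
    h02.symm h12 hy.2.1 (by
      intro i hi
      simp only [Set.mem_compl_iff, Set.mem_singleton_iff, not_not] at hi
      subst hi
      rw [← hf_ev_right y, hy.perp'])
  exact ⟨h * w, L.mul_mem (h0 _ (mem_Blk_compl_single.1 hh)) hw, by rw [mul_smul, hw2, hh2]⟩

theorem gen_fin {m : ℕ}
    (hconn : ∀ x y : Fin (m + 3) → F, hf x x = 1 → hf y y = 1 → Relation.ReflTransGen adj x y)
    (L : Subgroup (SUg (Fin (m + 3)) F))
    (h0 : ∀ A : SUg (Fin (m + 2)) F, ext (sh 1 (by omega)) A ∈ L)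
    (h1 : ∀ A : SUg (Fin 2) F, ext (sh 0 (by omega)) A ∈ L) : L = ⊤ := by
  refine gen_step (i0 := ⟨0, by omega⟩) (i1 := ⟨1, by omega⟩) (i2 := ⟨2, by omega⟩)
    (by simp) (by simp) (by simp) hconn L ?_ ?_
  · intro a ha
    obtain ⟨A, rfl⟩ := exists_sh (m := m + 2) 1 (by omega) (t := {⟨0, by omega⟩}ᶜ) (by
      intro i hi
      simp only [Set.mem_compl_iff, Set.mem_singleton_iff, Fin.ext_iff] at hi
      omega) (mem_Blk_compl_single.2 ha)
    exact h0 A
  · obtain ⟨w, hw, hw2⟩ := exists_block (F := F)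
      ({⟨0, by omega⟩, ⟨1, by omega⟩} : Set (Fin (m + 3))) (k := ⟨0, by omega⟩)
      (l := ⟨1, by omega⟩) (by simp) (by simp) (by simp) (y := ev F ⟨1, by omega⟩) (by simp)
      (fun i hi => ev_ne (by rintro rfl; simp at hi))
    obtain ⟨A, rfl⟩ := exists_sh (m := 2) 0 (by omega) (by
      intro i hi
      simp only [Set.mem_insert_iff, Set.mem_singleton_iff, Fin.ext_iff] at hi
      omega) hw
    exact ⟨_, h1 A, hw2⟩

theorem gen2 (hB : Big2 F) (m : ℕ) (L : Subgroup (SUg (Fin (m + 2)) F))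
    (h : ∀ b (hb : b + 2 ≤ m + 2) (A : SUg (Fin 2) F), ext (sh b hb) A ∈ L) : L = ⊤ := by
  induction m with
  | zero =>
    rw [eq_top_iff]
    intro s _
    have := h 0 (by omega) s
    rwa [ext_sh_self] at this
  | succ m ih =>
    refine gen_fin (fun x y hx hy => conn3 hB (by simp) hx hy) L ?_ (h 0 _)
    intro A
    have := ih (L.comap (ext (sh 1 (by omega)))) (by
      intro b hb B
      rw [Subgroup.mem_comap, ext_sh_sh]
      exact h _ _ _)
    exact (Subgroup.mem_comap).1 (this ▸ Subgroup.mem_top A)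

theorem gen23 (m : ℕ) (L : Subgroup (SUg (Fin (m + 2)) F))
    (h : ∀ b (hb : b + 2 ≤ m + 2) (A : SUg (Fin 2) F), ext (sh b hb) A ∈ L)
    (h' : ∀ b (hb : b + 3 ≤ m + 2) (A : SUg (Fin 3) F), ext (sh b hb) A ∈ L) : L = ⊤ := by
  induction m with
  | zero =>
    rw [eq_top_iff]
    intro s _
    have := h 0 (by omega) s
    rwa [ext_sh_self] at this
  | succ m ih =>
    rcases Nat.eq_zero_or_pos m with rfl | hm
    · rw [eq_top_iff]
      intro s _
      have := h' 0 (by omega) s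
      rwa [ext_sh_self] at this
    refine gen_fin (fun x y hx hy => conn4 (by simp; omega) hx hy) L ?_ (h 0 _)
    intro A
    have := ih (L.comap (ext (sh 1 (by omega)))) (by
      intro b hb B
      rw [Subgroup.mem_comap, ext_sh_sh]
      exact h _ _ _) (by
      intro b hb B
      rw [Subgroup.mem_comap, ext_sh_sh]
      exact h' _ _ _)
    exact (Subgroup.mem_comap).1 (this ▸ Subgroup.mem_top A)

end Gen

/-- a coherent Phan system -/
structure PhanSys (F G : Type*) [Field F] [StarRing F] [Group G] (d : ℕ) where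
  u : ℕ → SUg (Fin 2) F →* G
  v : ℕ → SUg (Fin 3) F →* G
  vu0 : ∀ a, a + 3 ≤ d → ∀ A, v a (ext (sh 0 (by omega)) A) = u a A
  vu1 : ∀ a, a + 3 ≤ d → ∀ A, v a (ext (sh 1 (by omega)) A) = u (a + 1) A
  uu : ∀ a b, a + 2 ≤ b → b + 2 ≤ d → ∀ A B, Commute (u a A) (u b B)
  uv : ∀ a b, a + 2 ≤ b → b + 3 ≤ d → ∀ A B, Commute (u a A) (v b B)
  vu : ∀ a b, a + 3 ≤ b → b + 2 ≤ d → ∀ A B, Commute (v a A) (u b B)
  vv : ∀ a b, a + 3 ≤ b → b + 3 ≤ d → ∀ A B, Commute (v a A) (v b B)

namespace PhanSys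

variable {F G : Type*} [Field F] [StarRing F] [Group G] {d : ℕ} (P : PhanSys F G d)

/-- `Θ` extends the system on the interval of length `m` starting at `a` -/
def Ext (a m : ℕ) (Θ : SUg (Fin m) F →* G) : Prop :=
  (∀ b (h : b + 2 ≤ m) A, Θ (ext (sh b h) A) = P.u (a + b) A) ∧
    ∀ b (h : b + 3 ≤ m) A, Θ (ext (sh b h) A) = P.v (a + b) A

theorem ext3 (a : ℕ) (h : a + 3 ≤ d) : P.Ext a 3 (P.v a) := by
  refine ⟨fun b hb A => ?_, fun b hb A => ?_⟩
  · obtain rfl | rfl : b = 0 ∨ b = 1 := by omega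
    · exact P.vu0 a h A
    · exact P.vu1 a h A
  · obtain rfl : b = 0 := by omega
    rw [ext_sh_self]; rfl

variable [HermField F]

theorem comm_of_ext {a m : ℕ} {Θ : SUg (Fin m) F →* G} (hΘ : P.Ext a m Θ) (c k : ℕ)
    (hc : c + (k + 2) ≤ m) (g : G)
    (h2 : ∀ b, a + c ≤ b → b + 2 ≤ a + m → ∀ A, Commute g (P.u b A))
    (h3 : ∀ b, a + c ≤ b → b + 3 ≤ a + m → ∀ A, Commute g (P.v b A)) (C : SUg (Fin (k + 2)) F) :
    Commute g (Θ (ext (sh c hc) C)) := by
  have := gen23 k ((Subgroup.centralizer {g}).comap (Θ.comp (ext (sh c hc)))) (by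
    intro b hb A
    rw [Subgroup.mem_comap, MonoidHom.comp_apply, ext_sh_sh, hΘ.1,
      Subgroup.mem_centralizer_singleton_iff]
    exact (h2 _ (by omega) (by omega) A).symm.eq) (by
    intro b hb A
    rw [Subgroup.mem_comap, MonoidHom.comp_apply, ext_sh_sh, hΘ.2,
      Subgroup.mem_centralizer_singleton_iff]
    exact (h3 _ (by omega) (by omega) A).symm.eq)
  have h := (Subgroup.mem_comap).1 (this ▸ Subgroup.mem_top C)
  rw [Subgroup.mem_centralizer_singleton_iff] at h
  exact Commute.symm h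

/-- the data for one extension step -/
noncomputable def extData {a k : ℕ} (had : a + (k + 4) ≤ d) {Ψ Φ : SUg (Fin (k + 3)) F →* G}
    (hΨ : P.Ext a (k + 3) Ψ) (hΦ : P.Ext (a + 1) (k + 3) Φ) : ExtData (Fin (k + 4)) F G where
  i0 := ⟨0, by omega⟩
  i1 := ⟨1, by omega⟩
  i2 := ⟨2, by omega⟩
  n := ⟨k + 3, by omega⟩
  h01 := by simp
  h02 := by simp
  h12 := by simp
  h0n := by simp
  h1n := by simp [Fin.ext_iff]
  h2n := by simp [Fin.ext_iff]
  φ := Function.extend (ext (sh 1 (by omega))) Φ 1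
  ψ := Function.extend (ext (sh 0 (by omega))) Ψ 1
  φ_mul := by
    intro x y hx hy
    have key : ∀ x : SUg (Fin (k + 4)) F, x • ev F (⟨0, by omega⟩ : Fin (k + 4)) =
        ev F ⟨0, by omega⟩ → ∃ A : SUg (Fin (k + 3)) F, ext (sh 1 (by omega)) A = x :=
      fun x hx => exists_sh 1 _ (t := {⟨0, by omega⟩}ᶜ) (by
        intro i hi
        simp only [Set.mem_compl_iff, Set.mem_singleton_iff, Fin.ext_iff] at hi
        omega) (mem_Blk_compl_single.2 hx)
    obtain ⟨A, rfl⟩ := key x hx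
    obtain ⟨B, rfl⟩ := key y hy
    rw [← map_mul, (ext_injective _).extend_apply, (ext_injective _).extend_apply,
      (ext_injective _).extend_apply, map_mul]
  ψ_mul := by
    intro x y hx hy
    have key : ∀ x : SUg (Fin (k + 4)) F, x • ev F (⟨k + 3, by omega⟩ : Fin (k + 4)) =
        ev F ⟨k + 3, by omega⟩ → ∃ A : SUg (Fin (k + 3)) F, ext (sh 0 (by omega)) A = x :=
      fun x hx => exists_sh 0 _ (t := {⟨k + 3, by omega⟩}ᶜ) (by
        intro i hi
        simp only [Set.mem_compl_iff, Set.mem_singleton_iff, Fin.ext_iff] at hi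
        omega) (mem_Blk_compl_single.2 hx)
    obtain ⟨A, rfl⟩ := key x hx
    obtain ⟨B, rfl⟩ := key y hy
    rw [← map_mul, (ext_injective _).extend_apply, (ext_injective _).extend_apply,
      (ext_injective _).extend_apply, map_mul]
  agree := by
    intro x h0 hn
    obtain ⟨A, rfl⟩ := exists_sh (m := k + 2) 1 (by omega) (M := x)
      (t := ({0, Fin.last (k + 3)} : Set (Fin (k + 4)))ᶜ) (by
        intro i hi
        simp only [Set.mem_compl_iff, Set.mem_insert_iff, Set.mem_singleton_iff,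
          Fin.ext_iff, Fin.val_zero, Fin.val_last] at hi
        omega) (by
        intro i hi
        simp only [Set.mem_compl_iff, Set.mem_insert_iff, Set.mem_singleton_iff, not_not] at hi
        rcases hi with rfl | rfl <;> assumption)
    have e1 := ext_sh_sh (m := k + 3) (n := k + 4) 1 0 (by omega) (by omega) A
    have e2 := ext_sh_sh (m := k + 3) (n := k + 4) 0 1 (by omega) (by omega) A
    conv_lhs => rw [← e1, (ext_injective _).extend_apply]
    conv_rhs => rw [← e2, (ext_injective _).extend_apply]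
    have := gen23 k ((Φ.comp (ext (sh 0 (by omega)))).eqLocus (Ψ.comp (ext (sh 1 (by omega))))) (by
      intro b hb B
      show Φ _ = Ψ _
      rw [ext_sh_sh, ext_sh_sh, hΦ.1, hΨ.1]
      congr 2; omega) (by
      intro b hb B
      show Φ _ = Ψ _
      rw [ext_sh_sh, ext_sh_sh, hΦ.2, hΨ.2]
      congr 2; omega)
    exact (this ▸ Subgroup.mem_top A : A ∈ MonoidHom.eqLocus _ _)
  comm2 := by
    intro x hx y hy
    obtain ⟨A, rfl⟩ := exists_sh (m := 2) 0 (by omega) (by
      intro i hi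
      simp only [Set.mem_insert_iff, Set.mem_singleton_iff, Fin.ext_iff] at hi
      omega) hx
    obtain ⟨C, rfl⟩ := exists_sh (m := k + 2) 2 (by omega) (by
      intro i hi
      simp only [Set.mem_compl_iff, Set.mem_insert_iff, Set.mem_singleton_iff, Fin.ext_iff] at hi
      omega) hy
    have e1 := ext_sh_sh (m := k + 3) (n := k + 4) 0 0 (by omega) (by omega) A
    have e2 := ext_sh_sh (m := k + 3) (n := k + 4) 1 1 (by omega) (by omega) C
    rw [← e1, ← e2, (ext_injective _).extend_apply, (ext_injective _).extend_apply, hΨ.1]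
    exact P.comm_of_ext hΦ 1 k _ _ (fun b h1 h2 B => P.uu _ _ (by omega) (by omega) _ _)
      (fun b h1 h2 B => P.uv _ _ (by omega) (by omega) _ _) C

theorem ext_of_concl {a k : ℕ} (had : a + (k + 4) ≤ d) {Ψ Φ : SUg (Fin (k + 3)) F →* G}
    (hΨ : P.Ext a (k + 3) Ψ) (hΦ : P.Ext (a + 1) (k + 3) Φ)
    (hconn : ∀ x y : Fin (k + 3) → F, hf x x = 1 → hf y y = 1 → Relation.ReflTransGen adj x y)
    (h : (P.extData had hΨ hΦ).Concl) : ∃ Θ, P.Ext a (k + 4) Θ := by
  obtain ⟨Θ, h1, h2⟩ := h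
  have k1 : ∀ A, Θ (ext (sh 1 (by omega)) A) = Φ A := by
    intro A
    rw [h1 _ (ext_sh_fix _ _ _ _ (by simp [extData]))]
    exact (ext_injective _).extend_apply _ _ _
  have k2 : ∀ A, Θ (ext (sh 0 (by omega)) A) = Ψ A := by
    have := gen_step (i0 := (⟨0, by omega⟩ : Fin (k + 3))) (i1 := ⟨1, by omega⟩)
      (i2 := ⟨2, by omega⟩) (by simp) (by simp) (by simp) hconn
      ((Θ.comp (ext (sh 0 (by omega)))).eqLocus Ψ) (by
        intro A hA
        show Θ _ = Ψ _
        have e0 : ext (sh 0 (by omega : 0 + (k + 3) ≤ k + 4)) A • ev F (P.extData had hΨ hΦ).i0 =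
            ev F (P.extData had hΨ hΦ).i0 := by
          have := ext_ev (sh 0 (by omega : 0 + (k + 3) ≤ k + 4)) A ⟨0, by omega⟩
          rw [hA, Pm_mulVec_ev] at this
          exact this
        rw [h1 _ e0, (P.extData had hΨ hΦ).agree _ e0 (ext_sh_fix _ _ _ _ (by simp [extData]))]
        exact (ext_injective _).extend_apply _ _ _) (by
        obtain ⟨w, hw, hw2⟩ := exists_block (F := F) (Set.univ : Set (Fin (k + 3)))
          (k := ⟨0, by omega⟩) (l := ⟨1, by omega⟩) (by simp) (by simp) (by simp)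
          (y := ev F ⟨1, by omega⟩) (by simp) (by simp)
        refine ⟨w, ?_, hw2⟩
        show Θ _ = Ψ _
        rw [h2 _ (ext_sh_fix _ _ _ _ (by simp [extData]))]
        · exact (ext_injective _).extend_apply _ _ _
        · have := ext_ev (sh 0 (by omega : 0 + (k + 3) ≤ k + 4)) w ⟨0, by omega⟩
          rw [hw2, Pm_mulVec_ev] at this
          erw [this]
          exact adj_ev (by simp [extData, Fin.ext_iff]))
    intro A
    exact (this ▸ Subgroup.mem_top A : A ∈ MonoidHom.eqLocus _ _)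
  refine ⟨Θ, fun b hb A => ?_, fun b hb A => ?_⟩
  · rcases b with _ | b
    · rw [← hΨ.1 0 (by omega), ← k2, ext_sh_sh]
    · rw [show a + (b + 1) = a + 1 + b by omega, ← hΦ.1 b (by omega), ← k1, ext_sh_sh]
      simp only [Nat.add_comm 1 b]
  · rcases b with _ | b
    · rw [← hΨ.2 0 (by omega), ← k2, ext_sh_sh]
    · rw [show a + (b + 1) = a + 1 + b by omega, ← hΦ.2 b (by omega), ← k1, ext_sh_sh]
      simp only [Nat.add_comm 1 b]

theorem ext4 (hB : Big3 F) (a : ℕ) (h : a + 4 ≤ d) : ∃ Θ, P.Ext a 4 Θ :=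
  P.ext_of_concl (k := 0) h (P.ext3 a (by omega)) (P.ext3 (a + 1) (by omega))
    (fun _ _ hx hy => conn3 hB.big2 (by simp) hx hy) (ExtData.concl4 _ hB)

theorem ext_all (h4 : ∀ a, a + 4 ≤ d → ∃ Θ, P.Ext a 4 Θ) (k : ℕ) :
    ∀ a, a + (k + 4) ≤ d → ∃ Θ, P.Ext a (k + 4) Θ := by
  induction k with
  | zero => exact h4
  | succ k ih =>
    intro a ha
    obtain ⟨Ψ, hΨ⟩ := ih a (by omega)
    obtain ⟨Φ, hΦ⟩ := ih (a + 1) (by omega)
    refine P.ext_of_concl (k := k + 1) ha hΨ hΦ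
      (fun _ _ hx hy => conn4 (by simp) hx hy) ?_
    refine ExtData.concl5 _ (m := ⟨3, by omega⟩) (by simp [extData]) (by simp [extData])
      (by simp [extData]) (by simp [extData, Fin.ext_iff]) ?_
    intro x hx y hy
    obtain ⟨A, rfl⟩ := exists_sh (m := 3) 0 (by omega) (by
      intro i hi
      simp only [extData, Set.mem_insert_iff, Set.mem_singleton_iff, Fin.ext_iff] at hi
      omega) hx
    obtain ⟨C, rfl⟩ := exists_sh (m := k + 2) 3 (by omega) (by
      intro i hi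
      simp only [extData, Set.mem_compl_iff, Set.mem_insert_iff, Set.mem_singleton_iff,
        Fin.ext_iff] at hi
      omega) hy
    have e1 := ext_sh_sh (m := k + 1 + 3) (n := k + 1 + 4) 0 0 (by omega) (by omega) A
    have e2 := ext_sh_sh (m := k + 1 + 3) (n := k + 1 + 4) 1 2 (by omega) (by omega) C
    simp only [extData]
    rw [← e1, ← e2, (ext_injective _).extend_apply, (ext_injective _).extend_apply, hΨ.2]
    exact P.comm_of_ext hΦ 2 k _ _ (fun b h1 h2 B => P.vu _ _ (by omega) (by omega) _ _)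
      (fun b h1 h2 B => P.vv _ _ (by omega) (by omega) _ _) C

end PhanSys

end CfsgH4
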