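import Cfsg.Agent.H4.PhanPair

set_option autoImplicit false

open Matrix

namespace CfsgH4

section Gen

variable {ι κ F : Type*} [Fintype ι] [DecidableEq ι] [Fintype κ] [DecidableEq κ] [Field F]
  [StarRing F]

theorem mem_center_of_scalar {A : SUg ι F} {a : F} (h : A.1 = a • (1 : Matrix ι ι F)) :
    A ∈ Subgroup.center (SUg ι F) := by
  rw [Subgroup.mem_center_iff]
  intro g
  apply Subtype.ext
  simp [h]

theorem conj_ext (f f' : κ ↪ ι) {s : SUg ι F} (hs : ∀ k, s • ev F (f k) = ev F (f' k))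
    (X : SUg κ F) : s * ext f X * s⁻¹ = ext f' X := by
  have hP : ∀ v : κ → F, s • (Pm F f *ᵥ v) = Pm F f' *ᵥ v := by
    intro v
    rw [eq_sum_ev v, mulVec_sum, mulVec_sum, SUg.smul_def, mulVec_sum]
    refine Finset.sum_congr rfl fun k _ => ?_
    rw [mulVec_smul, mulVec_smul, mulVec_smul, Pm_mulVec_ev, Pm_mulVec_ev, ← SUg.smul_def, hs]
  apply SUg.ext_ev
  intro i
  rw [mul_smul, mul_smul]
  by_cases hi : i ∈ Set.range f'
  · obtain ⟨k, rfl⟩ := hi
    rw [← hs, inv_smul_smul, ext_ev, hP, hs, ext_ev]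
  · rw [ext_ev_not f' _ hi, Blk_fix (ext_mem_Blk' f (fun k => Set.mem_range_self k) X),
      smul_inv_smul]
    rintro _ ⟨k, rfl⟩
    rw [← hf_ev_right (s⁻¹ • _), hf_SU', inv_inv, hs, hf_ev_right,
      ev_ne (fun h => hi ⟨k, h⟩)]

/-- unitary transvections -/
def tv (p : ι → F) (c : F) (hp : hf p p = 0) (hc : star c = -c) : SUg ι F :=
  ⟨qrefl p c, qrefl_mem (by rw [hp, hc]; ring), by
    rw [SetLike.mem_coe, MonoidHom.mem_mker, coe_detMonoidHom, qrefl, sub_eq_add_neg, ← neg_smul,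
      ← smul_vecMulVec, vecMulVec_eq Unit, det_one_add_replicateCol_mul_replicateRow,
      dotProduct_comm]
    have : ((-c) • p) ⬝ᵥ star p = hf ((-c) • p) p := rfl
    rw [this, hf_smul_left, hp]; simp⟩

theorem tv_smul (p : ι → F) (c : F) (hp : hf p p = 0) (hc : star c = -c) (v : ι → F) :
    tv p c hp hc • v = v - (c * hf v p) • p := qrefl_mulVec p c v

theorem tv_inv_smul (p : ι → F) (c : F) (hp : hf p p = 0) (hc : star c = -c) (v : ι → F) :
    (tv p c hp hc)⁻¹ • v = v + (c * hf v p) • p := by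
  rw [inv_smul_eq_iff, tv_smul]
  simp [hp]

theorem commutator_tv_smul (g : SUg ι F) (p : ι → F) (c : F) (hp : hf p p = 0) (hc : star c = -c)
    (v : ι → F) (hv : hf v p = 0) :
    (g * tv p c hp hc * g⁻¹ * (tv p c hp hc)⁻¹) • v = v - (c * hf v (g • p)) • g • p := by
  rw [mul_smul, mul_smul, mul_smul, tv_inv_smul, hv, mul_zero, zero_smul, add_zero, tv_smul,
    SUg.smul_sub', smul_inv_smul, SUg.smul_smul_comm, hf_SU', inv_inv]

variable [HermField F]

theorem center_ev {A : SUg ι F} (hA : A ∈ Subgroup.center (SUg ι F)) {k l m : ι} (hkl : k ≠ l)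
    (hkm : k ≠ m) (hlm : l ≠ m) : A • ev F k = A.1 k k • ev F k := by
  have key : ∀ i j, k ≠ i → k ≠ j → i ≠ j → A.1 i k = 0 := by
    intro i j hki hkj hij
    obtain ⟨a, ha, ha1⟩ := exists_norm_one_ne (F := F)
    obtain ⟨g, hg, hg2⟩ := exists_block ({k}ᶜ : Set ι) (k := i) (l := j) hki.symm hkj.symm hij
      (y := a • ev F i) (by simp; linear_combination ha) (by
        intro x hx
        simp only [Set.mem_compl_iff, Set.mem_singleton_iff, not_not] at hx
        subst hx; simp [ev_ne hki])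
    have h1 : g • A • ev F k = A • ev F k := by
      rw [← mul_smul, Subgroup.mem_center_iff.1 hA, mul_smul, mem_Blk_compl_single.1 hg]
    have h2 := hf_SU g (A • ev F k) (ev F i)
    rw [h1, hg2, hf_smul_right, hf_ev_right, SUg.smul_ev] at h2
    have h3 : star a - 1 ≠ 0 := by
      intro h; apply ha1; have := congrArg star h; simpa [sub_eq_zero] using this
    apply mul_left_cancel₀ h3
    linear_combination h2
  ext i
  rw [SUg.smul_ev, Pi.smul_apply, ev_apply]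
  split_ifs with h
  · simp [h]
  · rw [smul_zero]
    by_cases hil : i = l
    · exact key i m (Ne.symm h) hkm (hil ▸ hlm)
    · exact key i l (Ne.symm h) hkl hil

theorem center_scalar {A : SUg ι F} (hA : A ∈ Subgroup.center (SUg ι F)) {k l m : ι}
    (hkl : k ≠ l) (hkm : k ≠ m) (hlm : l ≠ m) : A.1 = A.1 k k • (1 : Matrix ι ι F) := by
  ext i j
  obtain ⟨s, hs⟩ := trans1 (F := F) hkl (x := ev F j) (by simp)
  rw [← SUg.smul_ev, ← hs, ← mul_smul, ← Subgroup.mem_center_iff.1 hA, mul_smul,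
    center_ev hA hkl hkm hlm, SUg.smul_smul_comm, hs]
  simp [ev_apply, one_apply]

theorem exists_unit_of_proj {E : Matrix ι ι F} (h1 : star E = E) (h2 : E * E = E) (h3 : E ≠ 0) :
    ∃ x : ι → F, hf x x = 1 ∧ E *ᵥ x = x := by
  obtain ⟨k, hk⟩ : ∃ k, E *ᵥ ev F k ≠ 0 := by
    by_contra! h
    apply h3
    ext i j
    rw [← mulVec_ev E, h]; rfl
  obtain ⟨u, hu⟩ : ∃ u, hf (E *ᵥ ev F k) u ≠ 0 := by
    by_contra! h; exact hk (eq_zero_of_hf h)
  obtain ⟨a, b, hab⟩ := exists_unit_comb (p := E *ᵥ ev F k) (r := E *ᵥ u) (by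
    rwa [← h1, ← hf_mulVec, h1, mulVec_mulVec, h2])
  refine ⟨_, hab, ?_⟩
  rw [mulVec_add, mulVec_smul, mulVec_smul, mulVec_mulVec, mulVec_mulVec, h2]

theorem exists_iso_move {g : SUg ι F} (hg : g ∉ Subgroup.center (SUg ι F)) (k : ι) :
    ∃ p : ι → F, hf p p = 0 ∧ p ≠ 0 ∧ ∀ a : F, g • p ≠ a • p := by
  by_contra! h
  apply hg
  obtain ⟨ε, hε⟩ := HermField.norm_surj (-1 : F) (by simp)
  obtain ⟨l, hl, hl2⟩ := exists_lam (F := F)
  have hε0 : ε ≠ 0 := by rintro rfl; simp at hε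
  have key : ∀ i j, i ≠ j → g.1 i j = 0 ∧ g.1 i i = g.1 j j := by
    intro i j hij
    have h1 : ∀ t : F, t * star t = -1 →
        g.1 j i + t * g.1 j j = t * (g.1 i i + t * g.1 i j) := by
      intro t ht
      obtain ⟨a, ha⟩ := h (ev F i + t • ev F j)
        (by simp [ev_ne hij, ev_ne hij.symm]; linear_combination ht)
        (by intro h0; simpa [ev_ne hij] using congrFun h0 i)
      rw [SUg.smul_add', SUg.smul_smul_comm] at ha
      have e1 := congrFun ha i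
      have e2 := congrFun ha j
      simp [SUg.smul_ev, ev_ne hij, ev_ne hij.symm] at e1 e2
      rw [e2, e1, mul_comm]
    have e1 := h1 ε hε
    have e2 := h1 (l * ε) (by rw [star_mul']; linear_combination (ε * star ε) * hl + hε)
    have e3 := h1 (star l * ε) (by
      rw [star_mul', star_star]; linear_combination (ε * star ε) * hl + hε)
    have l1 : l - 1 ≠ 0 := sub_ne_zero.2 (ne_one_of_ne_star hl2)
    have l2 : star l - 1 ≠ 0 := by
      intro h; apply l1; have := congrArg star h; simpa using this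
    have f1 : g.1 j j - g.1 i i = (l + 1) * ε * g.1 i j := by
      apply mul_left_cancel₀ (mul_ne_zero l1 hε0); linear_combination e2 - e1
    have f2 : g.1 j j - g.1 i i = (star l + 1) * ε * g.1 i j := by
      apply mul_left_cancel₀ (mul_ne_zero l2 hε0); linear_combination e3 - e1
    have f3 : g.1 i j = 0 := by
      apply mul_left_cancel₀ (mul_ne_zero (sub_ne_zero.2 hl2) hε0); linear_combination f2 - f1
    exact ⟨f3, by rw [f3] at f1; linear_combination -f1⟩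
  apply mem_center_of_scalar (a := g.1 k k)
  ext i j
  by_cases hij : i = j
  · subst hij
    by_cases hik : i = k
    · simp [hik]
    · simp [(key i k hik).2]
  · simp [(key i j hij).1, one_apply_ne hij]

theorem exists_hyp_move (N : Subgroup (SUg ι F)) [hN : N.Normal] {g : SUg ι F} (hgN : g ∈ N)
    (hg : g ∉ Subgroup.center (SUg ι F)) (k : ι) :
    ∃ g' ∈ N, ∃ p : ι → F, hf p p = 0 ∧ hf p (g' • p) ≠ 0 := by
  obtain ⟨p, hp, hp0, hpg⟩ := exists_iso_move hg k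
  by_cases h : hf p (g • p) = 0
  swap
  · exact ⟨g, hgN, p, hp, h⟩
  set p' := g • p with hp'
  have hpp' : hf p' p' = 0 := by rw [hp', hf_SU, hp]
  obtain ⟨i, hi⟩ := Function.ne_iff.1 hp0
  simp only [Pi.zero_apply] at hi
  obtain ⟨j, hj⟩ : ∃ j, p j * p' i - p i * p' j ≠ 0 := by
    by_contra! h0
    apply hpg (p' i / p i)
    ext j
    rw [Pi.smul_apply, smul_eq_mul]
    field_simp
    linear_combination -h0 j
  let v : ι → F := (star (p j * p' i - p i * p' j))⁻¹ •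
    (star (p j) • ev F i - star (p i) • ev F j)
  have hj' : star (p j * p' i - p i * p' j) ≠ 0 := star_ne_zero.2 hj
  have hv1 : hf v p = 0 := by simp [v]; right; ring
  have hv2 : hf v p' = 1 := by
    simp only [v, hf_smul_left, hf_sub_left, hf_ev_left]
    rw [← star_mul', ← star_mul', ← star_sub, inv_mul_cancel₀ hj']
  have hv3 : hf p' v = 1 := by rw [← star_hf, hv2, star_one]
  obtain ⟨x, hx⟩ := exists_trace_ne (F := F)
  let r : ι → F := v + (-hf v v * x / (x + star x)) • p'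
  have hr : hf r r = 0 := by
    have hx' : star x + x ≠ 0 := by rwa [add_comm]
    simp only [r, hf_add_left, hf_add_right, hf_smul_left, hf_smul_right, hpp', hv2, hv3,
      star_div₀, star_mul', star_neg, star_hf, star_add, star_star]
    field_simp
    ring
  have hrp : hf r p = 0 := by simp [r, hv1, hf_symm h]
  have hrp' : hf r p' = 1 := by simp [r, hv2, hpp']
  obtain ⟨c, hc0, hc⟩ := exists_skew (F := F)
  refine ⟨g * tv p c hp hc * g⁻¹ * (tv p c hp hc)⁻¹, ?_, r, hr, ?_⟩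
  · rw [mul_assoc, mul_assoc]
    exact N.mul_mem hgN (by rw [← mul_assoc]; exact hN.conj_mem _ (N.inv_mem hgN) _)
  · rw [commutator_tv_smul g p c hp hc r hrp]
    simp [← hp', hr, hrp', hc0]

theorem exists_block_nonscalar (N : Subgroup (SUg ι F)) [hN : N.Normal] {g : SUg ι F}
    (hgN : g ∈ N) (hg : g ∉ Subgroup.center (SUg ι F)) (f : Fin 2 ↪ ι) {m : ι}
    (h0 : f 0 ≠ m) (h1 : f 1 ≠ m) :
    ∃ X : SUg (Fin 2) F, ext f X ∈ N ∧ (X.1 0 1 ≠ 0 ∨ X.1 0 0 ≠ star (X.1 0 0)) := by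
  obtain ⟨g, hgN, p, hp, hpg⟩ := exists_hyp_move N hgN hg m
  set p' := g • p with hp'
  have hpp' : hf p' p' = 0 := by rw [hp', hf_SU, hp]
  obtain ⟨c, hc0, hc⟩ := exists_skew (F := F)
  have hn : g * tv p c hp hc * g⁻¹ * (tv p c hp hc)⁻¹ ∈ N := by
    rw [mul_assoc, mul_assoc]
    exact N.mul_mem hgN (by rw [← mul_assoc]; exact hN.conj_mem _ (N.inv_mem hgN) _)
  have hnv := commutator_tv_smul g p c hp hc
  rw [← hp'] at hnv
  generalize g * tv p c hp hc * g⁻¹ * (tv p c hp hc)⁻¹ = n at hn hnv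
  obtain ⟨α, β, hx⟩ := exists_unit_comb hpg
  have hβ : β ≠ 0 := by rintro rfl; simp [hp] at hx
  set x := α • p + β • p' with hxd
  have hpx : hf p x ≠ 0 := by simp [hxd, hp, hβ, hpg]
  obtain ⟨γ, hγ, hy⟩ := exists_unit_smul (v := p - hf p x • x) (by
    simp only [hf_sub_left, hf_sub_right, hf_smul_left, hf_smul_right, hp, hx, star_hf]
    intro h
    apply mul_ne_zero hpx (hf_ne_symm hpx)
    linear_combination -h)
  set y := γ • (p - hf p x • x) with hyd
  have hxy : hf x y = 0 := by simp [hyd, hx]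
  have f01 : f 0 ≠ f 1 := f.injective.ne (by decide)
  obtain ⟨s, hs0, hs1⟩ := trans2 f01 h0 h1 hx hy hxy
  have perp : ∀ v, hf v x = 0 → hf v y = 0 → hf v p = 0 ∧ hf v p' = 0 := by
    intro v h1 h2
    have e1 : hf v p = 0 := by simpa [hyd, h1, hγ] using h2
    exact ⟨e1, by simpa [hxd, e1, hβ] using h1⟩
  have perp' : ∀ i, i ∉ Set.range f → hf (s • ev F i) p = 0 ∧ hf (s • ev F i) p' = 0 := by
    intro i hi
    apply perp
    · rw [← hs0, hf_SU, hf_ev_right, ev_ne (fun h => hi ⟨0, h⟩)]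
    · rw [← hs1, hf_SU, hf_ev_right, ev_ne (fun h => hi ⟨1, h⟩)]
  have hB : s⁻¹ * n * s ∈ Blk F (Set.range f) := by
    intro i hi
    rw [mul_smul, mul_smul, hnv _ (perp' i hi).1, (perp' i hi).2]
    simp
  obtain ⟨X, hX⟩ := exists_ext f (fun _ h => h) hB
  refine ⟨X, by rw [hX]; simpa using hN.conj_mem _ hn s⁻¹, ?_⟩
  by_contra! hcon
  obtain ⟨e10, e11, -⟩ := su2_entries X
  have hXs : ∀ v : Fin 2 → F, X • v = X.1 0 0 • v := by
    intro v
    ext i
    fin_cases i <;> simp [SUg.smul_def, mulVec, dotProduct, Fin.sum_univ_two, hcon.1, e10, e11,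
      ← hcon.2]
  have hw : Pm F f *ᵥ ((Pm F f)ᵀ *ᵥ (s⁻¹ • p)) = s⁻¹ • p := Pm_Pmt f (fun i hi => by
    rw [← hf_ev_right (s⁻¹ • p), hf_SU', inv_inv, hf_symm (perp' i hi).1])
  have h2 : ext f X • s⁻¹ • p = X.1 0 0 • s⁻¹ • p := by
    rw [← hw, ext_smul, hXs, mulVec_smul]
  rw [hX, mul_smul, mul_smul, smul_inv_smul, ← SUg.smul_smul_comm, smul_left_cancel_iff,
    hnv p hp] at h2
  have h3 := congrArg (fun v => hf p v) h2
  simp [hp, hc0, hpg, hf_ne_symm hpg] at h3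

end Gen

section R

variable {F G : Type*} [Field F] [StarRing F] [Group G]

theorem ringEquiv_eq_of_norm_one [HermField F] (τ : F ≃+* F) (hτ : ∀ x, τ (star x) = star (τ x))
    (h : ∀ l : F, l * star l = 1 → τ l = l) (x : F) : τ x = x := by
  have h1 : ∀ x : F, star (τ x) * x = τ x * star x := by
    intro x
    by_cases h0 : x = 0
    · simp [h0]
    have h0' : star x ≠ 0 := by simpa using h0
    have := h (star x / x) (by rw [star_div₀, star_star]; field_simp)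
    rw [map_div₀, hτ, div_eq_div_iff (by simpa using h0) h0] at this
    linear_combination this
  have h2 : ∀ x : F, star x ≠ x → τ x = x := by
    intro x hx
    have e1 := h1 x
    have e2 := h1 (x + 1)
    simp only [map_add, map_one, star_add, star_one] at e2
    apply mul_left_cancel₀ (sub_ne_zero.2 hx)
    linear_combination x * e2 - (1 + x) * e1
  by_cases hx : star x = x
  · obtain ⟨y, hy⟩ := HermField.exists_ne (F := F)
    have e1 := h2 y hy
    have e2 := h2 (x + y) (by rw [star_add, hx]; simpa using hy)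
    rw [map_add, e1] at e2
    simpa using e2
  · exact h2 x hx

theorem io0_entry (X : SUg (Fin 2) F) (i j : Fin 2) :
    (io0 X).1 i.castSucc j.castSucc = X.1 i j := by
  have := ext_apply (sh 0 (by omega : 0 + 2 ≤ 3)) X i j
  convert this using 2 <;> ext <;> simp

theorem io1_entry (X : SUg (Fin 2) F) (i j : Fin 2) :
    (io1 X).1 i.succ j.succ = X.1 i j := by
  have := ext_apply (sh 1 (by omega : 1 + 2 ≤ 3)) X i j
  convert this using 2 <;> ext <;> simp [add_comm]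

theorem io0_val (X : SUg (Fin 2) F) :
    (io0 X).1 = !![X.1 0 0, X.1 0 1, 0; X.1 1 0, X.1 1 1, 0; 0, 0, 1] := by
  have h2 := fun i j => Blk_entry (ext_mem_Blk' (sh 0 (by omega : 0 + 2 ≤ 3))
    (t := {2}ᶜ) (by decide) X) (i := i) (j := j)
  ext i j
  fin_cases i <;> fin_cases j
  · exact io0_entry X 0 0
  · exact io0_entry X 0 1
  · exact h2 0 2 (by simp)
  · exact io0_entry X 1 0
  · exact io0_entry X 1 1
  · exact h2 1 2 (by simp)
  · exact h2 2 0 (by simp)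
  · exact h2 2 1 (by simp)
  · exact h2 2 2 (by simp)

theorem io1_val (X : SUg (Fin 2) F) :
    (io1 X).1 = !![1, 0, 0; 0, X.1 0 0, X.1 0 1; 0, X.1 1 0, X.1 1 1] := by
  have h2 := fun i j => Blk_entry (ext_mem_Blk' (sh 1 (by omega : 1 + 2 ≤ 3))
    (t := {0}ᶜ) (by decide) X) (i := i) (j := j)
  ext i j
  fin_cases i <;> fin_cases j
  · exact h2 0 0 (by simp)
  · exact h2 0 1 (by simp)
  · exact h2 0 2 (by simp)
  · exact h2 1 0 (by simp)
  · exact io1_entry X 0 0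
  · exact io1_entry X 0 1
  · exact h2 2 0 (by simp)
  · exact io1_entry X 1 0
  · exact io1_entry X 1 1

/-- the Weyl element of `SU₂` -/
def w2 (F : Type*) [Field F] [StarRing F] : SUg (Fin 2) F := su2 0 1 (by simp)

theorem w2_val : (w2 F).1 = !![0, 1; -1, 0] := by simp [w2, su2_val]

theorem eq_dg2 {X : SUg (Fin 2) F} (hX : X.1 0 1 = 0) :
    ∃ h : X.1 0 0 * star (X.1 0 0) = 1, X = dg2 _ h := by
  obtain ⟨h1, h2, h3⟩ := su2_entries X
  refine ⟨by simpa [hX] using h3, Subtype.ext ?_⟩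
  rw [dg2_val]
  ext i j; fin_cases i <;> fin_cases j <;> simp [hX, h1, h2]

namespace StdPair

variable [HermField F] {ψ ψ' : SUg (Fin 3) F →* G} {A B : Subgroup G}

theorem center_of_eq (h : StdPair ψ A B) {x y : SUg (Fin 3) F} (hxy : ψ x = ψ y) :
    ∃ ζ : F, ζ ≠ 0 ∧ x.1 = ζ • y.1 := by
  have h1 := h.ker (x * y⁻¹) (by rw [map_mul, map_inv, hxy, mul_inv_cancel])
  have h2 := center_scalar h1 (k := 0) (l := 1) (m := 2) (by decide) (by decide) (by decide)
  generalize (x * y⁻¹).1 0 0 = ζ at h2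
  have h3 : x.1 = (x * y⁻¹).1 * y.1 := by rw [← Submonoid.coe_mul, inv_mul_cancel_right]
  refine ⟨ζ, ?_, by rw [h3, h2]; simp⟩
  rintro rfl
  have := (x * y⁻¹).det
  rw [h2] at this
  simp at this

theorem torus0 (h : StdPair ψ A B) (h' : StdPair ψ' A B) {X X' : SUg (Fin 2) F}
    (hX : X.1 0 1 = 0) (hXX : ψ' (io0 X') = ψ (io0 X)) : X'.1 0 1 = 0 := by
  obtain ⟨hl, hX⟩ := eq_dg2 hX
  obtain ⟨Y, hY⟩ : ψ' (io1 (w2 F)) ∈ (ψ.comp io1).range := by rw [h.im1]; exact h'.mem1 _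
  rw [MonoidHom.comp_apply] at hY
  obtain ⟨Z, hZ⟩ : ψ' (io0 X' * io1 (w2 F) * (io0 X')⁻¹) ∈ (ψ'.comp io1).range := by
    rw [h'.im1, map_mul, map_mul, map_inv, hXX, ← hY, ← map_mul, ← map_inv, ← map_mul, hX,
      conj_io1]
    exact h.mem1 _
  obtain ⟨ζ, hζ, e⟩ := h'.center_of_eq (x := io0 X' * io1 (w2 F)) (y := io1 Z * io0 X') (by
    rw [map_mul ψ' (io1 Z)]
    erw [hZ]
    simp)
  have := congrFun (congrFun e 0) 1
  simpa [io0_val, io1_val, w2_val, hζ] using this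

theorem torus1 (h : StdPair ψ A B) (h' : StdPair ψ' A B) {X X' : SUg (Fin 2) F}
    (hX : X.1 0 1 = 0) (hXX : ψ' (io1 X') = ψ (io1 X)) : X'.1 0 1 = 0 := by
  obtain ⟨hl, hX⟩ := eq_dg2 hX
  obtain ⟨Y, hY⟩ : ψ' (io0 (w2 F)) ∈ (ψ.comp io0).range := by rw [h.im0]; exact h'.mem0 _
  rw [MonoidHom.comp_apply] at hY
  obtain ⟨Z, hZ⟩ : ψ' (io1 X' * io0 (w2 F) * (io1 X')⁻¹) ∈ (ψ'.comp io0).range := by
    rw [h'.im0, map_mul, map_mul, map_inv, hXX, ← hY, ← map_mul, ← map_inv, ← map_mul, hX,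
      conj_io0]
    exact h.mem0 _
  obtain ⟨ζ, hζ, e⟩ := h'.center_of_eq (x := io1 X' * io0 (w2 F)) (y := io0 Z * io1 X') (by
    rw [map_mul ψ' (io0 Z)]
    erw [hZ]
    simp)
  have := congrFun (congrFun e 2) 0
  have h1 := (su2_entries X').1
  simpa [io0_val, io1_val, w2_val, hζ, h1] using this

theorem not_le (h : StdPair ψ A B) : ¬ A ≤ B := by
  intro hle
  obtain ⟨Y, hY⟩ : ψ (io0 (w2 F)) ∈ (ψ.comp io1).range := by rw [h.im1]; exact hle (h.mem0 _)
  obtain ⟨ζ, hζ, e⟩ := h.center_of_eq hY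
  have := congrFun (congrFun e 0) 0
  simp [io0_val, io1_val, w2_val] at this

theorem not_ge (h : StdPair ψ A B) : ¬ B ≤ A := by
  intro hle
  obtain ⟨Y, hY⟩ : ψ (io1 (w2 F)) ∈ (ψ.comp io0).range := by rw [h.im0]; exact hle (h.mem1 _)
  obtain ⟨ζ, hζ, e⟩ := h.center_of_eq hY
  have := congrFun (congrFun e 2) 2
  simp [io0_val, io1_val, w2_val] at this

end StdPair

variable [HermFin F] {ψ ψ' : SUg (Fin 3) F →* G} {A B : Subgroup G}

theorem StdPair.adjust0 (h : StdPair ψ A B) (h' : StdPair ψ' A B) :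
    ∃ D : SLD (Fin 3) F, ∀ X, ψ (D.hom (io0 X)) = ψ' (io0 X) := by
  obtain ⟨α, hα⟩ := exists_hom_of_range_le (ψ'.comp io0) (ψ.comp io0) h.inj0
    (by rw [h.im0, h'.im0])
  have hinj : Function.Injective α := by
    intro x y hxy
    apply h'.inj0
    rw [← hα, ← hα, hxy]
  obtain ⟨D, hD⟩ := su2_aut α hinj (fun X hX => h'.torus0 h hX (hα X))
  refine ⟨D.extend (sh 0 (by omega)), fun X => ?_⟩
  rw [SLD.extend_hom, ← hD]
  exact hα X

theorem StdPair.adjust1 (h : StdPair ψ A B) (h' : StdPair ψ' A B)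
    (h0 : ∀ X, ψ (io0 X) = ψ' (io0 X)) : ∃ (μ : F) (hμ : μ * star μ = 1),
      ∀ X, ψ (io1 ((SLD.dg ![1, μ] (norm2 (by simp) hμ)).hom X)) = ψ' (io1 X) := by
  obtain ⟨α, hα⟩ := exists_hom_of_range_le (ψ'.comp io1) (ψ.comp io1) h.inj1
    (by rw [h.im1, h'.im1])
  have hinj : Function.Injective α := by
    intro x y hxy
    apply h'.inj1
    rw [← hα, ← hα, hxy]
  obtain ⟨D, hD⟩ := su2_aut α hinj (fun X hX => h'.torus1 h hX (hα X))
  simp only [MonoidHom.comp_apply] at hα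
  have d0 : D.d 0 ≠ 0 := left_ne_zero_of_mul_eq_one (D.hd 0)
  have d1 : star (D.d 1) ≠ 0 := right_ne_zero_of_mul_eq_one (D.hd 1)
  have hτ : ∀ x, D.τ x = x := by
    apply ringEquiv_eq_of_norm_one D.τ D.hτ
    intro l hl
    have e := conj_io1 l hl
    have e1 := congrArg ψ' (e (w2 F))
    have e2 := congrArg ψ (e (α (w2 F)))
    simp only [map_mul, map_inv] at e1 e2
    rw [← h0, ← hα, e2, ← hα] at e1
    have e3 := congrArg (fun Z : SUg (Fin 2) F => Z.1 0 1) (h.inj1 e1)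
    simp [hD, SLD.hom_apply, SLD.dg, w2_val, D.hτ] at e3
    apply star_injective
    apply mul_left_cancel₀ (mul_ne_zero d0 d1)
    linear_combination -e3
  refine ⟨D.d 1 * star (D.d 0), by
    rw [star_mul', star_star]; linear_combination (D.d 0 * star (D.d 0)) * D.hd 1 + D.hd 0,
    fun X => ?_⟩
  rw [← hα, hD]
  congr 2
  apply Subtype.ext
  ext i j
  have a0 := D.hd 0
  have a1 := D.hd 1
  fin_cases i <;> fin_cases j <;> simp [SLD.hom_apply, SLD.dg, hτ]
  · linear_combination (-X.1 0 0) * a0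
  · ring
  · ring
  · linear_combination (X.1 1 1 * D.d 1 * star (D.d 1)) * a0

/-- the two blocks of `SU₄` -/
abbrev jo0 : SUg (Fin 3) F →* SUg (Fin 4) F := ext (sh 0 (by omega))
/-- the two blocks of `SU₄` -/
abbrev jo1 : SUg (Fin 3) F →* SUg (Fin 4) F := ext (sh 1 (by omega))

theorem StdPair.exists_sld (h : StdPair ψ A B) (h' : StdPair ψ' A B) :
    ∃ D : SLD (Fin 3) F, (∀ X, ψ (D.hom (io0 X)) = ψ' (io0 X)) ∧
      ∀ X, ψ (D.hom (io1 X)) = ψ' (io1 X) := by
  obtain ⟨D, hD⟩ := h.adjust0 h'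
  obtain ⟨μ, hμ, h1⟩ := (h.comp_hom D).adjust1 h' hD
  let E : SLD (Fin 3) F := SLD.dg ![1, 1, μ] (norm3 (by simp) (by simp) hμ)
  refine ⟨⟨fun i => D.d i * D.τ (E.d i), fun i => ?_, D.τ, D.hτ⟩, ?_⟩
  · have := congrArg D.τ (E.hd i)
    rw [map_mul, D.hτ, map_one] at this
    rw [star_mul']
    linear_combination (D.d i * star (D.d i)) * this + D.hd i
  have key : ∀ (hh) (Y : SUg (Fin 3) F), (SLD.mk (fun i => D.d i * D.τ (E.d i)) hh D.τ D.hτ).hom Y
      = D.hom (E.hom Y) := by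
    intro hh Y
    apply Subtype.ext
    ext i j
    simp only [SLD.hom_apply, map_mul, star_mul', D.hτ]
    simp only [E, SLD.dg, RingEquiv.refl_apply]
    ring
  refine ⟨fun X => ?_, fun X => ?_⟩
  · rw [key, ← hD]
    congr 2
    apply Subtype.ext
    ext i j
    rw [SLD.hom_apply]
    fin_cases i <;> fin_cases j <;> simp [E, SLD.dg, io0_val, hμ]
  · rw [key, ← h1, MonoidHom.comp_apply]
    congr 2
    apply Subtype.ext
    ext i j
    rw [SLD.hom_apply]
    fin_cases i <;> fin_cases j <;> simp [E, SLD.dg, io1_val, SLD.hom_apply]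

/-- gluing two coherent standard pairs inside a homomorphic image of `SU₄` -/
theorem glue4 {ψ0 ψ1 : SUg (Fin 3) F →* G} {A B C : Subgroup G} (h0 : StdPair ψ0 A B)
    (h1 : StdPair ψ1 B C) (hco : ∀ X, ψ1 (io0 X) = ψ0 (io1 X)) (π : SUg (Fin 4) F →* G)
    (p0 : StdPair (π.comp jo0) A B) (p1 : StdPair (π.comp jo1) B C)
    (r0 : ∀ D : SLD (Fin 3) F, (∀ X, π (jo0 (D.hom (io0 X))) = ψ0 (io0 X)) →
      (∀ X, π (jo0 (D.hom (io1 X))) = ψ0 (io1 X)) → ∀ X, π (jo0 (D.hom X)) = ψ0 X)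
    (r1 : ∀ D : SLD (Fin 3) F, (∀ X, π (jo1 (D.hom (io0 X))) = ψ1 (io0 X)) →
      (∀ X, π (jo1 (D.hom (io1 X))) = ψ1 (io1 X)) → ∀ X, π (jo1 (D.hom X)) = ψ1 X) :
    ∃ Θ : SUg (Fin 4) F →* G, (∀ X, Θ (jo0 X) = ψ0 X) ∧ ∀ X, Θ (jo1 X) = ψ1 X := by
  obtain ⟨D, hD0, hD1⟩ := p0.exists_sld h0
  have e0 := r0 D hD0 hD1
  let D' : SLD (Fin 4) F := D.extend (sh 0 (by omega))
  have e1 : ∀ X, π (D'.hom (jo0 X)) = ψ0 X := fun X => by rw [SLD.extend_hom, e0]
  have e2 : ∀ X, π (D'.hom (jo1 X)) = π (jo1 ((D'.res (sh 1 (by omega : 1 + 3 ≤ 4))).hom X)) :=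
    fun X => by rw [SLD.hom_ext]
  obtain ⟨μ, hμ, h2⟩ := (p1.comp_hom (D'.res (sh 1 (by omega : 1 + 3 ≤ 4)))).adjust1 h1 (by
    intro X
    rw [MonoidHom.comp_apply, MonoidHom.comp_apply, ← e2, hco, ← e1, ext_sh_sh, ext_sh_sh])
  let E : SLD (Fin 4) F := SLD.dg ![1, 1, 1, μ] (by intro i; fin_cases i <;> simp [hμ])
  let E3 : SLD (Fin 3) F := E.res (sh 1 (by omega : 1 + 3 ≤ 4))
  let D3 : SLD (Fin 3) F := D'.res (sh 1 (by omega : 1 + 3 ≤ 4))
  have hh : ∀ i, (D3.d i * D3.τ (E3.d i)) * star (D3.d i * D3.τ (E3.d i)) = 1 := fun i => by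
    have := congrArg D3.τ (E3.hd i)
    rw [map_mul, D3.hτ, map_one] at this
    rw [star_mul']
    linear_combination (D3.d i * star (D3.d i)) * this + D3.hd i
  have key : ∀ Y : SUg (Fin 3) F, (SLD.mk _ hh D3.τ D3.hτ).hom Y = D3.hom (E3.hom Y) := by
    intro Y
    apply Subtype.ext
    ext i j
    simp only [SLD.hom_apply, map_mul, star_mul', D3.hτ]
    simp only [E3, E, SLD.dg, SLD.res, RingEquiv.refl_apply]
    ring
  have hE3 : E3.d = ![1, 1, μ] := by ext i; fin_cases i <;> rfl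
  have hE3' : ∀ x, E3.τ x = x := fun x => rfl
  have f0 : ∀ X, E3.hom (io0 X) = io0 X := by
    intro X
    apply Subtype.ext
    ext i j
    rw [SLD.hom_apply]
    fin_cases i <;> fin_cases j <;> simp [hE3, hE3', io0_val, hμ]
  have f1 : ∀ X, E3.hom (io1 X) = io1 ((SLD.dg ![1, μ] (norm2 (by simp) hμ)).hom X) := by
    intro X
    apply Subtype.ext
    ext i j
    rw [SLD.hom_apply]
    fin_cases i <;> fin_cases j <;> simp [hE3, hE3', SLD.dg, io1_val, SLD.hom_apply]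
  have e3 := r1 (SLD.mk _ hh D3.τ D3.hτ) (fun X => by
    rw [key, f0, ← e2, hco, ← e1, ext_sh_sh, ext_sh_sh]) (fun X => by
    rw [key, f1]; exact h2 X)
  refine ⟨π.comp (D'.hom.comp E.hom), fun X => ?_, fun X => ?_⟩
  · rw [MonoidHom.comp_apply, MonoidHom.comp_apply, ← e1, E.hom_ext]
    congr 3
    apply Subtype.ext
    ext i j
    rw [SLD.hom_apply]
    have e : ∀ i, (E.res (sh 0 (by omega : 0 + 3 ≤ 4))).d i = 1 := by
      intro i; fin_cases i <;> rfl
    rw [e, e]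
    simp [E, SLD.dg, SLD.res]
  · rw [MonoidHom.comp_apply, MonoidHom.comp_apply, E.hom_ext, e2, ← e3, key]

theorem PhanSys.ext4_of {d : ℕ} (P : PhanSys F G d) (a : ℕ) (ha : a + 4 ≤ d)
    (Θ : SUg (Fin 4) F →* G) (h0 : ∀ X, Θ (jo0 X) = P.v a X)
    (h1 : ∀ X, Θ (jo1 X) = P.v (a + 1) X) : P.Ext a 4 Θ := by
  refine ⟨fun b hb A => ?_, fun b hb A => ?_⟩
  · obtain rfl | rfl | rfl : b = 0 ∨ b = 1 ∨ b = 2 := by omega
    · rw [add_zero, ← P.vu0 a (by omega), ← h0, ext_sh_sh]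
    · rw [← P.vu1 a (by omega), ← h0, ext_sh_sh]
    · rw [← P.vu1 (a + 1) (by omega), ← h1, ext_sh_sh]
  · obtain rfl | rfl : b = 0 ∨ b = 1 := by omega
    · exact h0 A
    · exact h1 A

end R

end CfsgH4
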