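import Cfsg.Agent.H4.PhanWeak

set_option autoImplicit false

open Matrix

namespace CfsgH4

section Three

variable {F : Type*} [Field F] [StarRing F]

theorem cross_eq_zero {p r : Fin 3 → F} (hpp : hf p p = 0) (hrr : hf r r = 0)
    (hpr : hf p r = 0) : p 1 * r 2 = p 2 * r 1 ∧ p 0 * r 2 = p 2 * r 0 ∧ p 0 * r 1 = p 1 * r 0 := by
  have hrp := hf_symm hpr
  simp only [hf_def, Fin.sum_univ_three] at hpp hrr hpr hrp
  have key : ∀ x : F, x * star x = 0 → x = 0 := fun x hx => by simpa using hx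
  refine ⟨sub_eq_zero.1 (key _ ?_), sub_eq_zero.1 (key _ ?_), sub_eq_zero.1 (key _ ?_)⟩ <;>
    simp only [star_sub, star_mul']
  · linear_combination (r 1 * star (r 1) + r 2 * star (r 2)) * hpp - p 0 * star (p 0) * hrr
      - (r 1 * star (p 1) + r 2 * star (p 2)) * hpr + p 0 * star (r 0) * hrp
  · linear_combination (r 0 * star (r 0) + r 2 * star (r 2)) * hpp - p 1 * star (p 1) * hrr
      - (r 0 * star (p 0) + r 2 * star (p 2)) * hpr + p 1 * star (r 1) * hrp
  · linear_combination (r 1 * star (r 1) + r 0 * star (r 0)) * hpp - p 2 * star (p 2) * hrr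
      - (r 1 * star (p 1) + r 0 * star (p 0)) * hpr + p 2 * star (r 2) * hrp

theorem isotropic_dep {p r : Fin 3 → F} (hp : p ≠ 0) (hpp : hf p p = 0) (hrr : hf r r = 0)
    (hpr : hf p r = 0) : ∃ c : F, r = c • p := by
  obtain ⟨h0, h1, h2⟩ := cross_eq_zero hpp hrr hpr
  obtain ⟨i, hi⟩ := Function.ne_iff.1 hp
  refine ⟨r i / p i, ?_⟩
  ext j
  simp only [Pi.zero_apply] at hi
  rw [Pi.smul_apply, smul_eq_mul, div_mul_eq_mul_div, eq_div_iff hi]
  fin_cases i <;> fin_cases j <;> simp <;> grind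

theorem eq_zero_of_hf {ι : Type*} [Fintype ι] [DecidableEq ι] {v : ι → F}
    (h : ∀ u, hf v u = 0) : v = 0 := by
  ext i; rw [← hf_ev_right v, h]; rfl

theorem invol_family {K : Type*} [AddCommGroup K] (hK : ∀ t : K, t + t = 0) (h2 : (2 : F) = 0)
    (c : K → SUg (Fin 3) F) (hadd : ∀ s t, c (s + t) = c s * c t) (t0 : K) (h1 : c t0 ≠ 1) :
    ∃ p : Fin 3 → F, hf p p = 0 ∧ (∀ t u, ∃ γ : F, c t • u = u + γ • p) ∧
      ∀ t x, hf x p = 0 → c t • x = x := by
  have c0 : c 0 = 1 := by have := hadd 0 0; simpa using this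
  have csq : ∀ t (u : Fin 3 → F), c t • c t • u = u := fun t u => by
    rw [← mul_smul, ← hadd, hK, c0, one_smul]
  have herm : ∀ t (u v : Fin 3 → F), hf (c t • u - u) v = hf u (c t • v - v) := fun t u v => by
    rw [hf_sub_left, hf_sub_right, ← hf_SU (c t) (c t • u), csq]
  have sq : ∀ t (u : Fin 3 → F), c t • (c t • u - u) - (c t • u - u) = 0 := fun t u => by
    rw [SUg.smul_sub', csq]
    ext i; simp only [Pi.sub_apply, Pi.zero_apply]
    linear_combination (u i - (c t • u) i) * h2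
  have iso : ∀ t (u v : Fin 3 → F), hf (c t • u - u) (c t • v - v) = 0 := fun t u v => by
    rw [herm, sq, hf_zero_right]
  obtain ⟨k, hk⟩ : ∃ k : Fin 3, c t0 • ev F k - ev F k ≠ 0 := by
    by_contra! h
    exact h1 (SUg.ext_ev fun k => by rw [one_smul]; exact sub_eq_zero.1 (h k))
  set p := c t0 • ev F k - ev F k with hp
  have hpp : hf p p = 0 := iso _ _ _
  have fixp : ∀ t, c t • p - p = 0 := by
    intro t
    have e : c t • p - p = c t0 • (c t • ev F k - ev F k) - (c t • ev F k - ev F k) := by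
      rw [hp, SUg.smul_sub', SUg.smul_sub', ← mul_smul, ← mul_smul, ← hadd, ← hadd, add_comm t]
      abel
    obtain ⟨γ, hγ⟩ := isotropic_dep hk hpp (iso t p p) (by rw [e]; exact iso _ _ _)
    have := sq t p
    rw [hγ, SUg.smul_smul_comm, ← smul_sub, hγ, smul_smul, smul_eq_zero] at this
    rw [hγ, mul_self_eq_zero.1 (this.resolve_right hk), zero_smul]
  have dep : ∀ t (u : Fin 3 → F), ∃ γ : F, c t • u - u = γ • p := fun t u =>
    isotropic_dep hk hpp (iso t u u) (by rw [← herm, fixp, hf_zero_left])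
  refine ⟨p, hpp, fun t u => ?_, fun t x hx => ?_⟩
  · obtain ⟨γ, hγ⟩ := dep t u
    exact ⟨γ, by rw [← hγ]; abel⟩
  · rw [← sub_eq_zero]
    apply eq_zero_of_hf
    intro u
    obtain ⟨γ, hγ⟩ := dep t u
    rw [herm, hγ, hf_smul_right, hx, mul_zero]

theorem mem_range_io0 {A : SUg (Fin 3) F} :
    A ∈ (io0 (F := F)).range ↔ A • ev F (2 : Fin 3) = ev F 2 := by
  rw [range_io0, ← mem_Blk_compl_single]
  congr! 2
  ext i; fin_cases i <;> simp

theorem mem_range_io1 {A : SUg (Fin 3) F} :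
    A ∈ (io1 (F := F)).range ↔ A • ev F (0 : Fin 3) = ev F 0 := by
  rw [range_io1, ← mem_Blk_compl_single]
  congr! 2
  ext i; fin_cases i <;> simp

variable [HermField F]

theorem pow_eq_one_of_fix (p : ℕ) [Fact p.Prime] [CharP F p] {s : SUg (Fin 3) F}
    {x v : Fin 3 → F} (hx : hf x x = 1) (hsx : s • x = x) (hsv : s • v = v) :
    s ^ p = 1 ∨ v = hf v x • x := by
  obtain ⟨g, rfl⟩ := trans1 (k := (2 : Fin 3)) (l := 0) (by decide) hx
  obtain ⟨A, hA⟩ : g⁻¹ * s * g ∈ (io0 (F := F)).range := by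
    rw [mem_range_io0, mul_smul, mul_smul, hsx, inv_smul_smul]
  obtain ⟨w, rfl⟩ : ∃ w, v = g • w := ⟨g⁻¹ • v, by simp⟩
  have hw : io0 A • w = w := by rw [hA, mul_smul, mul_smul, hsv, inv_smul_smul]
  rw [or_iff_not_imp_right]
  intro hne
  have h1 := fun i j => ext_apply (sh 0 (by omega : 0 + 2 ≤ 3)) A i j
  have h2 := fun i j => Blk_entry (ext_mem_Blk' (sh 0 (by omega : 0 + 2 ≤ 3))
    (t := {2}ᶜ) (by decide) A) (i := i) (j := j)
  have e0 := congrFun hw 0
  have e1 := congrFun hw 1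
  simp only [SUg.smul_def, mulVec, dotProduct, Fin.sum_univ_three] at e0 e1
  erw [h1 0 0, h1 0 1, h2 0 2 (by simp)] at e0
  erw [h1 1 0, h1 1 1, h2 1 2 (by simp)] at e1
  simp at e0 e1
  have hdet := A.det
  rw [det_fin_two] at hdet
  have hw0 : w 0 ≠ 0 ∨ w 1 ≠ 0 := by
    by_contra! h
    apply hne
    rw [hf_SU, ← SUg.smul_smul_comm]
    congr 1
    ext i; fin_cases i <;> simp [h.1, h.2, ev_apply]
  have htr : A.1 0 0 + A.1 1 1 = 2 := by
    rcases hw0 with h | h
    · apply mul_left_cancel₀ h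
      linear_combination -(A.1 1 1 - 1) * e0 + A.1 0 1 * e1 + w 0 * hdet
    · apply mul_left_cancel₀ h
      linear_combination -(A.1 0 0 - 1) * e1 + A.1 1 0 * e0 + w 1 * hdet
  have hsq : (A.1 - 1) ^ 2 = 0 := by
    rw [pow_two]
    ext i j
    fin_cases i <;> fin_cases j <;> simp [Matrix.mul_apply, Fin.sum_univ_two]
    · linear_combination A.1 0 0 * htr - hdet
    · linear_combination A.1 0 1 * htr
    · linear_combination A.1 1 0 * htr
    · linear_combination A.1 1 1 * htr - hdet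
  have hAp : A ^ p = 1 := by
    apply Subtype.ext
    have := sub_pow_char_of_commute p (Commute.one_right A.1)
    rw [pow_eq_zero_of_le (Fact.out : p.Prime).two_le hsq, one_pow] at this
    exact sub_eq_zero.1 this.symm
  have : s = g * io0 A * g⁻¹ := by rw [hA]; group
  rw [this, conj_pow, ← map_pow, hAp, map_one, mul_one, mul_inv_cancel]

theorem su2_fix (φ : SUg (Fin 2) F →* SUg (Fin 3) F) (hinj : Function.Injective φ)
    (p : ℕ) [Fact p.Prime] [CharP F p] : ∃ x : Fin 3 → F, hf x x = 1 ∧ ∀ g, φ g • x = x := by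
  obtain ⟨a, b, ha, hb, hab, hgen⟩ := su2_gen (F := F)
  have hpow : ∀ c : fixK F → SUg (Fin 2) F, (∀ s t, c (s + t) = c s * c t) → ∀ t, c t ^ p = 1 := by
    intro c hc t
    have c0 : c 0 = 1 := by have := hc 0 0; simpa using this
    have : ∀ n : ℕ, c t ^ n = c (n * t) := by
      intro n
      induction n with
      | zero => simp [c0]
      | succ n ih => rw [pow_succ, ih, ← hc]; congr 1; push_cast; ring
    rw [this]; simp [c0]
  by_cases h2 : (2 : F) = 0
  · have hK : ∀ t : fixK F, t + t = 0 := fun t => by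
      apply Subtype.ext
      simp only [Subfield.coe_add, Subfield.coe_zero]
      linear_combination (t : F) * h2
    obtain ⟨P, hP, P1, P2⟩ := invol_family hK h2 (fun t => φ (a t))
      (fun s t => by simp only [ha, map_mul]) 1 (by
        intro h; rw [map_eq_one_iff _ hinj] at h; simp [h] at hab)
    obtain ⟨R, hR, R1, R2⟩ := invol_family hK h2 (fun t => φ (b t))
      (fun s t => by simp only [hb, map_mul]) 1 (by
        intro h; rw [map_eq_one_iff _ hinj] at h; simp [h] at hab)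
    have hPR : hf P R ≠ 0 := by
      intro h
      apply hab
      apply hinj
      apply SUg.ext_ev
      intro k
      obtain ⟨γ, hγ⟩ := P1 1 (ev F k)
      obtain ⟨δ, hδ⟩ := R1 1 (ev F k)
      rw [map_mul, map_mul, mul_smul, mul_smul, hγ, hδ, SUg.smul_add', SUg.smul_add', hγ, hδ,
        SUg.smul_smul_comm, SUg.smul_smul_comm, P2 1 R (hf_symm h), R2 1 P h]
      abel
    let y : Fin 3 → F := star ![P 1 * R 2 - P 2 * R 1, P 2 * R 0 - P 0 * R 2, P 0 * R 1 - P 1 * R 0]
    have hy : hf y y = - (hf P R * hf R P) := by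
      simp only [hf_def, Fin.sum_univ_three] at hP hR ⊢
      simp [y]
      linear_combination (R 0 * star (R 0) + R 1 * star (R 1) + R 2 * star (R 2)) * hP
    obtain ⟨c, -, hc⟩ := exists_unit_smul (v := y) (by
      rw [hy]; exact neg_ne_zero.2 (mul_ne_zero hPR (hf_ne_symm hPR)))
    refine ⟨c • y, hc, hgen (fun g => φ g • c • y = c • y) (fun t => P2 t _ ?_)
      (fun t => R2 t _ ?_) (fun x y hx hy => by rw [map_mul, mul_smul, hy, hx])⟩
    · simp [hf_def, Fin.sum_univ_three, y]; ring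
    · simp [hf_def, Fin.sum_univ_three, y]; ring
  · set z := φ (su2 (-1) 0 (by simp)) with hz
    have hm : (su2 (-1 : F) 0 (by simp)).1 = -1 := by
      ext i j; fin_cases i <;> fin_cases j <;> simp [su2_val]
    have hzz : z * z = 1 := by
      rw [hz, ← map_mul, ← map_one φ]; congr 1
      apply Subtype.ext; simp [hm]
    have hz1 : z ≠ 1 := by
      rw [hz, Ne, map_eq_one_iff _ hinj]
      intro h
      have := congrArg (fun X : SUg (Fin 2) F => X.1 0 0) h
      simp [hm] at this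
      apply h2; linear_combination -this
    have hzc : ∀ g, z * φ g = φ g * z := fun g => by
      rw [hz, ← map_mul, ← map_mul]; congr 1
      apply Subtype.ext; simp [hm]
    have hp2 : p ≠ 2 := by
      rintro rfl; exact h2 (by exact_mod_cast CharP.cast_eq_zero F 2)
    have hzp : z ^ p ≠ 1 := by
      obtain ⟨k, rfl⟩ := (Fact.out : p.Prime).odd_of_ne_two hp2
      rw [pow_succ, pow_mul, pow_two, hzz, one_pow, one_mul]; exact hz1
    have zz : ∀ u : Fin 3 → F, z • z • u = u := fun u => by rw [← mul_smul, hzz, one_smul]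
    obtain ⟨k, hk⟩ : ∃ k : Fin 3, z • ev F k + ev F k ≠ 0 := by
      by_contra! h
      have : z.1 = -1 := by
        ext i j
        have := congrFun (h j) i
        rw [Pi.add_apply, SUg.smul_ev, ev_apply] at this
        rw [Matrix.neg_apply, Matrix.one_apply]; exact eq_neg_of_add_eq_zero_left this
      have h3 := z.det
      rw [this, det_neg] at h3
      simp at h3
      apply h2; linear_combination -h3
    obtain ⟨u, hu⟩ : ∃ u, hf (z • ev F k + ev F k) u ≠ 0 := by
      by_contra! h; exact hk (eq_zero_of_hf h)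
    have fx : ∀ u : Fin 3 → F, z • (z • u + u) = z • u + u := fun u => by
      rw [SUg.smul_add', zz, add_comm]
    obtain ⟨α, β, hx⟩ := exists_unit_comb (p := z • ev F k + ev F k) (r := z • u + u) (by
      rw [hf_add_right, ← fx (ev F k), hf_SU, fx, ← two_mul]
      exact mul_ne_zero h2 hu)
    set x := α • (z • ev F k + ev F k) + β • (z • u + u) with hxd
    have hzx : z • x = x := by
      rw [hxd, SUg.smul_add', SUg.smul_smul_comm, SUg.smul_smul_comm, fx, fx]
    have key : ∀ g, g ^ p = 1 → φ g • x = x := by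
      intro g hg
      have h1 := (pow_eq_one_of_fix p hx hzx (v := φ g • x) (by
        rw [← mul_smul, hzc, mul_smul, hzx])).resolve_left hzp
      generalize hf (φ g • x) x = γ at h1
      have h3 : ∀ n : ℕ, φ (g ^ n) • x = γ ^ n • x := by
        intro n
        induction n with
        | zero => simp
        | succ n ih =>
          rw [pow_succ, map_mul, mul_smul, h1, SUg.smul_smul_comm, ih, smul_smul, pow_succ']
      have h4 := congrArg (fun v => hf v x) (h3 p)
      simp only [hg, map_one, one_smul, hf_smul_left, hx, mul_one] at h4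
      have h5 : (γ - 1) ^ p = 0 := by rw [sub_pow_char, ← h4, one_pow, sub_self]
      rw [h1, sub_eq_zero.1 (pow_eq_zero_iff (Fact.out : p.Prime).ne_zero |>.1 h5), one_smul]
    exact ⟨x, hx, hgen (fun g => φ g • x = x) (fun t => key _ (hpow a ha t))
      (fun t => key _ (hpow b hb t)) (fun x y hx hy => by rw [map_mul, mul_smul, hy, hx])⟩

theorem eq_stab [Finite F] (A : Subgroup (SUg (Fin 3) F)) (e : SUg (Fin 2) F ≃* A)
    (p : ℕ) [Fact p.Prime] [CharP F p] : ∃ x : Fin 3 → F, hf x x = 1 ∧ ∀ g, g ∈ A ↔ g • x = x := by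
  obtain ⟨x, hx, h⟩ := su2_fix (A.subtype.comp e.toMonoidHom)
    (A.subtype_injective.comp e.injective) p
  refine ⟨x, hx, ?_⟩
  obtain ⟨s, rfl⟩ := trans1 (k := (2 : Fin 3)) (l := 0) (by decide) hx
  have hmem : ∀ g, g ∈ ((MulAut.conj s).toMonoidHom.comp io0).range ↔
      g • s • ev F (2 : Fin 3) = s • ev F 2 := by
    intro g
    rw [MonoidHom.range_comp, Subgroup.mem_map_equiv, mem_range_io0, MulAut.conj_symm_apply,
      mul_smul, mul_smul, inv_smul_eq_iff]
  have : A = ((MulAut.conj s).toMonoidHom.comp io0).range := by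
    apply Subgroup.eq_of_le_of_card_ge
    · intro g hg
      rw [hmem]
      obtain ⟨y, hy⟩ := e.surjective ⟨g, hg⟩
      have := h y
      simp only [MonoidHom.comp_apply, MulEquiv.coe_toMonoidHom, hy] at this
      exact this
    · rw [← Nat.card_congr e.toEquiv, ← Nat.card_congr (MonoidHom.ofInjective
        ((MulAut.conj s).injective.comp (ext_injective _))).toEquiv]
  intro g
  rw [this, hmem]

theorem adj_of_comm (p : ℕ) [Fact p.Prime] [CharP F p] {x x' : Fin 3 → F} (hx : hf x x = 1)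
    (hx' : hf x' x' = 1) {d d' : SUg (Fin 3) F} (hd : d • x = x) (hd' : d' • x' = x')
    (hc : Commute d d') (hp : d ^ p ≠ 1) (hp' : d' ^ p ≠ 1) :
    adj x' x ∨ x = hf x x' • x' := by
  by_cases h0 : hf x' x = 0
  · exact Or.inl ⟨hx', hx, h0⟩
  right
  have h1 := (pow_eq_one_of_fix p hx hd (v := d' • x) (by
    rw [← mul_smul, hc.eq, mul_smul, hd])).resolve_left hp
  have h2 := hf_SU d' x x'
  rw [hd', h1, hf_smul_left] at h2
  have h3 : hf (d' • x) x = 1 := mul_right_cancel₀ (hf_ne_symm h0) (by rw [h2, one_mul])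
  rw [h3, one_smul] at h1
  exact (pow_eq_one_of_fix p hx' hd' h1).resolve_left hp'

theorem stdPair_conj {A B : Subgroup (SUg (Fin 3) F)} {x x' : Fin 3 → F} (h : adj x' x)
    (hA : ∀ g, g ∈ A ↔ g • x = x) (hB : ∀ g, g ∈ B ↔ g • x' = x') :
    ∃ s : SUg (Fin 3) F, StdPair (MulAut.conj s).toMonoidHom A B := by
  obtain ⟨s, rfl, rfl⟩ := trans2 (k := (0 : Fin 3)) (l := 2) (m := 1) (by decide) (by decide)
    (by decide) h.1 h.2.1 h.2.2
  refine ⟨s, fun x hx => ?_, ?_, ?_⟩
  · rw [MulEquiv.coe_toMonoidHom, map_eq_one_iff _ (MulAut.conj s).injective] at hx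
    rw [hx]; exact Subgroup.one_mem _
  · ext g
    rw [MonoidHom.range_comp, Subgroup.mem_map_equiv, mem_range_io0, MulAut.conj_symm_apply,
      mul_smul, mul_smul, inv_smul_eq_iff, hA]
  · ext g
    rw [MonoidHom.range_comp, Subgroup.mem_map_equiv, mem_range_io1, MulAut.conj_symm_apply,
      mul_smul, mul_smul, inv_smul_eq_iff, hB]

theorem std_of_pair [Finite F] (p : ℕ) [Fact p.Prime] [CharP F p]
    (A B : Subgroup (SUg (Fin 3) F)) (eA : SUg (Fin 2) F ≃* A) (eB : SUg (Fin 2) F ≃* B)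
    (hAB : A ⊔ B = ⊤) {d d' : SUg (Fin 3) F} (hd : d ∈ A) (hd' : d' ∈ B) (hc : Commute d d')
    (hp : d ^ p ≠ 1) (hp' : d' ^ p ≠ 1) :
    ∃ s : SUg (Fin 3) F, StdPair (MulAut.conj s).toMonoidHom A B := by
  obtain ⟨x, hx, hA⟩ := eq_stab A eA p
  obtain ⟨x', hx', hB⟩ := eq_stab B eB p
  rcases adj_of_comm p hx hx' ((hA d).1 hd) ((hB d').1 hd') hc hp hp' with h | h
  · exact stdPair_conj h hA hB
  · exfalso
    have hBA : B ≤ A := fun g hg => by
      rw [hA, h, SUg.smul_smul_comm, (hB g).1 hg]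
    rw [sup_eq_left.2 hBA] at hAB
    obtain ⟨u, hu⟩ := exists_adj (by simp) hx
    obtain ⟨s, hs⟩ := trans1 (k := (0 : Fin 3)) (l := 1) (by decide) hx
    obtain ⟨t, ht⟩ := trans1 (k := (0 : Fin 3)) (l := 1) (by decide) hu.2.1
    have := (hA (t * s⁻¹)).1 (hAB ▸ Subgroup.mem_top _)
    rw [mul_smul, ← hs, inv_smul_smul, ht, hs] at this
    have h1 := hu.perp
    rw [this, hx] at h1
    exact one_ne_zero h1

theorem StdPair.map {G H : Type*} [Group G] [Group H] {ψ : SUg (Fin 3) F →* G} {A B : Subgroup G}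
    (h : StdPair ψ A B) (f : G →* H) (hf : Function.Injective f) :
    StdPair (f.comp ψ) (A.map f) (B.map f) where
  ker := fun x hx => h.ker x (hf (hx.trans (map_one f).symm))
  im0 := by rw [MonoidHom.comp_assoc, MonoidHom.range_comp, h.im0]
  im1 := by rw [MonoidHom.comp_assoc, MonoidHom.range_comp, h.im1]

theorem stdPair_of_sup [Finite F] (p : ℕ) [Fact p.Prime] [CharP F p] {G : Type*} [Group G]
    (A B : Subgroup G) (eA : SUg (Fin 2) F ≃* A) (eB : SUg (Fin 2) F ≃* B)
    (E : ↥(A ⊔ B) ≃* SUg (Fin 3) F) {d d' : G} (hd : d ∈ A) (hd' : d' ∈ B) (hc : Commute d d')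
    (hp : d ^ p ≠ 1) (hp' : d' ^ p ≠ 1) :
    ∃ ψ : SUg (Fin 3) F →* G, StdPair ψ A B := by
  let f : SUg (Fin 3) F →* G := (A ⊔ B).subtype.comp E.symm.toMonoidHom
  have hf : Function.Injective f := (A ⊔ B).subtype_injective.comp E.symm.injective
  have hr : f.range = A ⊔ B := by
    rw [MonoidHom.range_comp, MonoidHom.range_eq_top.2 (MulEquiv.surjective _),
      ← MonoidHom.range_eq_map, Subgroup.range_subtype]
  have hA : (A.comap f).map f = A := Subgroup.map_comap_eq_self (hr ▸ le_sup_left)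
  have hB : (B.comap f).map f = B := Subgroup.map_comap_eq_self (hr ▸ le_sup_right)
  obtain ⟨δ, rfl⟩ : d ∈ f.range := hr ▸ Subgroup.mem_sup_left hd
  obtain ⟨δ', rfl⟩ : d' ∈ f.range := hr ▸ Subgroup.mem_sup_right hd'
  obtain ⟨s, hs⟩ := std_of_pair p (A.comap f) (B.comap f)
    (eA.trans ((MulEquiv.subgroupCongr hA.symm).trans
      (Subgroup.equivMapOfInjective _ f hf).symm))
    (eB.trans ((MulEquiv.subgroupCongr hB.symm).trans
      (Subgroup.equivMapOfInjective _ f hf).symm))
    (by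
      apply Subgroup.map_injective hf
      rw [Subgroup.map_sup, hA, hB, ← MonoidHom.range_eq_map, hr]) hd hd'
    (hf (by rw [map_mul, map_mul]; exact hc))
    (fun h => hp (by rw [← map_pow, h, map_one])) (fun h => hp' (by rw [← map_pow, h, map_one]))
  have := hs.map f hf
  rw [hA, hB] at this
  exact ⟨_, this⟩

end Three

end CfsgH4
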