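import Cfsg.Agent.H4.PhanQ3b

set_option autoImplicit false

open Matrix

namespace CfsgH4

section Diag

variable {ι F : Type*} [Fintype ι] [DecidableEq ι] [Field F] [StarRing F]

/-- diagonal elements of the special unitary group -/
def diagSU (d : ι → F) (hd : ∀ i, d i * star (d i) = 1) (hdet : ∏ i, d i = 1) : SUg ι F :=
  ⟨diagonal d, diag_mem_unitary hd, by
    rw [SetLike.mem_coe, MonoidHom.mem_mker, coe_detMonoidHom, det_diagonal, hdet]⟩

theorem diagSU_val (d : ι → F) (hd : ∀ i, d i * star (d i) = 1) (hdet : ∏ i, d i = 1) :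
    (diagSU d hd hdet).1 = diagonal d := rfl

theorem eig_perp (g : SUg ι F) {u v : ι → F} {a b : F} (hu : g • u = a • u) (hv : g • v = b • v)
    (hab : a * star b ≠ 1) : hf u v = 0 := by
  have := hf_SU g u v
  rw [hu, hv, hf_smul_left, hf_smul_right] at this
  apply mul_left_cancel₀ (sub_ne_zero.2 hab)
  linear_combination this

end Diag

section Q2

variable {F G : Type*} [Field F] [StarRing F] [Group G] [CharP F 2]

omit [StarRing F] in
theorem two_eq_zero' : (2 : F) = 0 := by exact_mod_cast CharP.cast_eq_zero F 2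

theorem star_omega (hN : ∀ a : F, a ≠ 0 → a * star a = 1) {ω : F} (h : ω ≠ star ω) :
    star ω = ω + 1 := by
  have h2 : (2 : F) = 0 := two_eq_zero'
  have h1 := hN (ω + star ω) (by
    intro h0; apply h; linear_combination h0 - star ω * h2)
  rw [star_add, star_star] at h1
  have : (ω + star ω + 1) ^ 2 = 0 := by linear_combination h1 + (1 + ω + star ω) * h2
  have := pow_eq_zero_iff two_ne_zero |>.1 this
  linear_combination this - (ω + 1) * h2

/-- the Fourier matrix over the field with four elements -/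
def Fo (ω : F) (h1 : ω * star ω = 1) (h2 : star ω = ω + 1) : SUg (Fin 3) F :=
  ⟨!![1, 1, 1; 1, ω, ω + 1; 1, ω + 1, ω], by
    have h0 : (2 : F) = 0 := two_eq_zero'
    rw [h2] at h1
    refine ⟨?_, ?_⟩
    · rw [SetLike.mem_coe, mem_unitaryGroup_iff]
      ext i j
      fin_cases i <;> fin_cases j <;> simp [Matrix.mul_apply, Fin.sum_univ_three, h2] <;> grind
    · rw [SetLike.mem_coe, MonoidHom.mem_mker, coe_detMonoidHom]
      simp [det_fin_three]
      grind⟩

/-- an element of order four -/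
def n0 (ω : F) (h1 : ω * star ω = 1) (h2 : star ω = ω + 1) : SUg (Fin 3) F :=
  (SLD.dg ![1, 1, ω] (norm3 (by simp) (by simp) h1)).hom (Fo ω h1 h2) * (Fo ω h1 h2)⁻¹

theorem n0_val (ω : F) (h1 : ω * star ω = 1) (h2 : star ω = ω + 1) :
    (n0 ω h1 h2).1 = !![ω + 1, ω + 1, 1; 1, ω + 1, ω + 1; 1, ω, 1] := by
  have h0 : (2 : F) = 0 := two_eq_zero'
  have h3 := h1
  rw [h2] at h3
  ext i j
  rw [n0, Submonoid.coe_mul, Matrix.mul_apply, SUg.coe_inv]
  simp only [SLD.hom_apply, Fin.sum_univ_three]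
  fin_cases i <;> fin_cases j <;> simp [SLD.dg, Fo, h2] <;> grind

theorem n0_sq (ω : F) (h1 : ω * star ω = 1) (h2 : star ω = ω + 1) :
    n0 ω h1 h2 * n0 ω h1 h2 = io0 (su2 0 ω (by simpa using h1)) := by
  have h0 : (2 : F) = 0 := two_eq_zero'
  have h3 := h1
  rw [h2] at h3
  apply Subtype.ext
  rw [Submonoid.coe_mul, n0_val, io0_val, su2_val]
  ext i j
  fin_cases i <;> fin_cases j <;> simp [h2] <;> grind

theorem n0_four (ω : F) (h1 : ω * star ω = 1) (h2 : star ω = ω + 1) : n0 ω h1 h2 ^ 4 = 1 := by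
  have h0 : (2 : F) = 0 := two_eq_zero'
  rw [show 4 = 2 * 2 from rfl, pow_mul, pow_two (n0 ω h1 h2), n0_sq, ← map_pow, ← map_one io0]
  congr 1
  apply su2_ext <;> simp [pow_two, su2_val]
  linear_combination -h1 - h0

variable [HermField F]

theorem q2_gen3 (hN : ∀ a : F, a ≠ 0 → a * star a = 1) {ω : F} (h1 : ω * star ω = 1)
    (h2 : star ω = ω + 1) (L : Subgroup (SUg (Fin 3) F)) (l0 : ∀ X, io0 X ∈ L)
    (l1 : ∀ X, io1 X ∈ L)
    (l2 : ∀ (d : Fin 3 → F) (hd : ∀ i, d i * star (d i) = 1),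
      (SLD.dg d hd).hom (n0 ω h1 h2) ∈ L) : L = ⊤ := by
  have h0 : (2 : F) = 0 := two_eq_zero'
  have b0 : Blk F {0, 1} ≤ L := by rw [← range_io0]; rintro _ ⟨X, rfl⟩; exact l0 X
  have b1 : Blk F {1, 2} ≤ L := by rw [← range_io1]; rintro _ ⟨X, rfl⟩; exact l1 X
  have key : ∀ y : Fin 3 → F, hf y y = 1 → ∃ l ∈ L, l • ev F (0 : Fin 3) = y := by
    intro y hy
    by_cases y2 : y 2 = 0
    · obtain ⟨A, hA, hA'⟩ := exists_block ({0, 1} : Set (Fin 3)) (k := 0) (l := 1) (by simp)
        (by simp) (by decide) hy (by intro i hi; fin_cases i <;> simp at hi; exact y2)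
      exact ⟨A, b0 hA, hA'⟩
    by_cases y0 : y 0 = 0
    · obtain ⟨A, hA, hA'⟩ := exists_block ({0, 1} : Set (Fin 3)) (k := 0) (l := 1) (by simp)
        (by simp) (by decide) (y := ev F 1) (by simp)
        (by intro i hi; fin_cases i <;> simp at hi; simp [ev_apply])
      obtain ⟨B, hB, hB'⟩ := exists_block ({1, 2} : Set (Fin 3)) (k := 1) (l := 2) (by simp)
        (by simp) (by decide) hy (by intro i hi; fin_cases i <;> simp at hi; exact y0)
      exact ⟨B * A, L.mul_mem (b1 hB) (b0 hA), by rw [mul_smul, hA', hB']⟩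
    have y1 : y 1 ≠ 0 := by
      intro h
      rw [hf_def, Fin.sum_univ_three, hN _ y0, hN _ y2, h] at hy
      exact one_ne_zero (α := F) (by linear_combination -hy + h0)
    have hy' : ∀ i, y i ≠ 0 := by intro i; fin_cases i <;> assumption
    have hω : ω + 1 ≠ 0 := by rw [← h2]; exact right_ne_zero_of_mul_eq_one h1
    have hn : ∀ i, (n0 ω h1 h2).1 i 0 ≠ 0 := by
      intro i; fin_cases i <;> simp [n0_val, hω]
    have hd : ∀ i, (y i * star ((n0 ω h1 h2).1 i 0)) * star (y i * star ((n0 ω h1 h2).1 i 0))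
        = 1 := fun i => hN _ (mul_ne_zero (hy' i) (star_ne_zero.2 (hn i)))
    refine ⟨(SLD.dg _ hd).hom (n0 ω h1 h2) * io0 (dg2 _ (hd 0)), L.mul_mem (l2 _ _) (l0 _), ?_⟩
    rw [mul_smul, SUg.smul_def (io0 _), io0_dg, diagonal_mulVec_ev, SUg.smul_smul_comm]
    ext i
    rw [Pi.smul_apply, SUg.smul_ev, SLD.hom_apply]
    simp only [SLD.dg, RingEquiv.refl_apply, cons_val_zero, smul_eq_mul]
    linear_combination (y i * star ((n0 ω h1 h2).1 i 0) * (n0 ω h1 h2).1 i 0) * hd 0
      + y i * hN _ (hn i)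
  rw [eq_top_iff]
  intro s _
  obtain ⟨l, hl, hl'⟩ := key (s • ev F 0) (by simp)
  obtain ⟨X, hX⟩ : l⁻¹ * s ∈ (io1 (F := F)).range := by
    rw [mem_range_io1, mul_smul, ← hl', inv_smul_smul]
  have := L.mul_mem hl (l1 X)
  rwa [hX, mul_inv_cancel_left] at this

theorem q2_invol_mem (hN : ∀ a : F, a ≠ 0 → a * star a = 1) (L : Subgroup (SUg (Fin 3) F))
    (l0 : ∀ X, io0 X ∈ L) (l1 : ∀ X, io1 X ∈ L) {t : SUg (Fin 3) F} (ht : t * t = 1) : t ∈ L := by
  have h0 : (2 : F) = 0 := two_eq_zero'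
  by_cases h1 : t = 1
  · rw [h1]; exact L.one_mem
  obtain ⟨p, hp, -, hp2⟩ := invol_family (K := ZMod 2) (by decide) h0 (fun k => t ^ k.val) (by
    intro a b
    fin_cases a <;> fin_cases b
    · exact (mul_one _).symm
    · exact (one_mul _).symm
    · exact (mul_one _).symm
    · show t ^ 0 = t ^ 1 * t ^ 1
      rw [pow_one, ht, pow_zero]) 1 (by show t ^ 1 ≠ 1; rwa [pow_one])
  have hk : ∃ k, p k = 0 := by
    by_contra! h
    rw [hf_def, Fin.sum_univ_three, hN _ (h 0), hN _ (h 1), hN _ (h 2)] at hp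
    exact one_ne_zero (α := F) (by linear_combination hp - h0)
  obtain ⟨k, hk⟩ := hk
  have hfix : t • ev F k = ev F k := by
    have := hp2 1 (ev F k) (by simp [hk])
    have e : (1 : ZMod 2).val = 1 := rfl
    simpa only [e, pow_one] using this
  fin_cases k
  · obtain ⟨X, rfl⟩ := mem_range_io1.2 hfix; exact l1 X
  · obtain ⟨B, hB, hB'⟩ := exists_block ({1, 2} : Set (Fin 3)) (k := 2) (l := 1) (by simp)
      (by simp) (by decide) (y := ev F 1) (by simp)
      (by intro i hi; fin_cases i <;> simp at hi; simp [ev_apply])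
    obtain ⟨X, hX⟩ : B⁻¹ * t * B ∈ (io0 (F := F)).range := by
      rw [mem_range_io0, mul_smul, mul_smul, hB', inv_smul_eq_iff, hB']; exact hfix
    rw [← range_io1] at hB
    obtain ⟨Y, rfl⟩ := hB
    have := L.mul_mem (L.mul_mem (l1 Y) (l0 X)) (L.inv_mem (l1 Y))
    rw [hX] at this
    simpa [mul_assoc] using this
  · obtain ⟨X, rfl⟩ := mem_range_io0.2 hfix; exact l0 X

theorem su2_invol_ind (p : SUg (Fin 2) F → Prop) (h1 : ∀ t, t * t = 1 → p t)
    (h2 : ∀ x y, p x → p y → p (x * y)) (g : SUg (Fin 2) F) : p g := by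
  obtain ⟨a, b, ha, hb, -, hgen⟩ := su2_gen (F := F)
  have key : ∀ c : fixK F → SUg (Fin 2) F, (∀ s t, c (s + t) = c s * c t) →
      ∀ t, c t * c t = 1 := by
    intro c hc t
    have c0 : c 0 = 1 := by have := hc 0 0; simpa using this
    rw [← hc, CharTwo.add_self_eq_zero, c0]
  exact hgen p (fun t => h1 _ (key a ha t)) (fun t => h1 _ (key b hb t)) h2 g

theorem q2_rigid (hN : ∀ a : F, a ≠ 0 → a * star a = 1) {φ ψ : SUg (Fin 3) F →* G}
    (hψ : Function.Injective ψ) (hr : φ.range ≤ ψ.range) (e0 : ∀ X, φ (io0 X) = ψ (io0 X))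
    (e1 : ∀ X, φ (io1 X) = ψ (io1 X)) (X : SUg (Fin 3) F) : φ X = ψ X := by
  obtain ⟨γ, hγ⟩ := exists_hom_of_range_le φ ψ hψ hr
  obtain ⟨ω, h1, hω⟩ := exists_lam (F := F)
  have h2 := star_omega hN hω
  have l0 : ∀ X, io0 X ∈ γ.eqLocus (MonoidHom.id _) := fun X => hψ ((hγ _).trans (e0 X))
  have l1 : ∀ X, io1 X ∈ γ.eqLocus (MonoidHom.id _) := fun X => hψ ((hγ _).trans (e1 X))
  have key : ∀ g : SUg (Fin 3) F, g ^ 4 = 1 → γ g = g := by
    intro g hg
    have k1 : ∀ t, t * t = 1 → Commute (g⁻¹ * γ g) t := by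
      intro t ht
      have a1 : γ t = t := q2_invol_mem hN _ l0 l1 ht
      have a2 : γ (g * t * g⁻¹) = g * t * g⁻¹ := q2_invol_mem hN _ l0 l1 (by
        calc g * t * g⁻¹ * (g * t * g⁻¹) = g * (t * t) * g⁻¹ := by group
          _ = 1 := by rw [ht]; group)
      rw [map_mul, map_mul, map_inv, a1] at a2
      show _ = _
      calc g⁻¹ * γ g * t = g⁻¹ * (γ g * t * (γ g)⁻¹) * γ g := by group
        _ = _ := by rw [a2]; group
    have k2 : ∀ X, Commute (g⁻¹ * γ g) (io0 X) := su2_invol_ind _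
      (fun t ht => k1 _ (by rw [← map_mul, ht, map_one]))
      (fun x y hx hy => by rw [map_mul]; exact hx.mul_right hy)
    have k3 : ∀ X, Commute (g⁻¹ * γ g) (io1 X) := su2_invol_ind _
      (fun t ht => k1 _ (by rw [← map_mul, ht, map_one]))
      (fun x y hx hy => by rw [map_mul]; exact hx.mul_right hy)
    obtain ⟨z, hz⟩ : ∃ z, z = g⁻¹ * γ g := ⟨_, rfl⟩
    rw [← hz] at k2 k3
    have m1 := congrArg Subtype.val (k2 (dg2 ω h1)).eq
    have m2 := congrArg Subtype.val (k2 (w2 F)).eq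
    have m3 := congrArg Subtype.val (k3 (w2 F)).eq
    simp only [Submonoid.coe_mul, io0_dg] at m1
    simp only [Submonoid.coe_mul, io0_val, io1_val, w2_val] at m2 m3
    have o1 : ω - star ω ≠ 0 := sub_ne_zero.2 hω
    have o2 : ω - 1 ≠ 0 := sub_ne_zero.2 (ne_one_of_ne_star hω)
    have o3 : star ω - 1 ≠ 0 := by
      intro h; apply o2; have := congrArg star h; simpa using this
    have d := fun i j => congrFun (congrFun m1 i) j
    simp only [mul_diagonal, diagonal_mul] at d
    have z01 : z.1 0 1 = 0 := mul_left_cancel₀ o1 (by have := d 0 1; simp at this; linear_combination -this)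
    have z02 : z.1 0 2 = 0 := mul_left_cancel₀ o2 (by have := d 0 2; simp at this; linear_combination -this)
    have z10 : z.1 1 0 = 0 := mul_left_cancel₀ o1 (by have := d 1 0; simp at this; linear_combination this)
    have z12 : z.1 1 2 = 0 := mul_left_cancel₀ o3 (by have := d 1 2; simp at this; linear_combination -this)
    have z20 : z.1 2 0 = 0 := mul_left_cancel₀ o2 (by have := d 2 0; simp at this; linear_combination this)
    have z21 : z.1 2 1 = 0 := mul_left_cancel₀ o3 (by have := d 2 1; simp at this; linear_combination this)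
    have z11 : z.1 1 1 = z.1 0 0 := by
      have := congrFun (congrFun m2 0) 1
      simp [Matrix.mul_apply, Fin.sum_univ_three] at this
      exact this.symm
    have z22 : z.1 2 2 = z.1 0 0 := by
      have := congrFun (congrFun m3 1) 2
      simp [Matrix.mul_apply, Fin.sum_univ_three] at this
      rw [← this, z11]
    have zs : z.1 = z.1 0 0 • (1 : Matrix (Fin 3) (Fin 3) F) := by
      ext i j; fin_cases i <;> fin_cases j <;> simp [z01, z02, z10, z12, z20, z21, z11, z22]
    have zc := mem_center_of_scalar zs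
    have z3 : z ^ 3 = 1 := by
      have h1 := z.det
      generalize z.1 0 0 = ζ at zs
      rw [zs] at h1
      simp at h1
      apply Subtype.ext
      rw [SubmonoidClass.coe_pow, zs, smul_pow, h1]
      simp
    have e : γ g = g * z := by rw [hz]; group
    have z4 := (Commute.mul_pow (Subgroup.mem_center_iff.1 zc g) 4).symm
    rw [← e, ← map_pow, hg, map_one, one_mul, pow_succ, z3, one_mul] at z4
    rw [e, z4, mul_one]
  have := q2_gen3 hN h1 h2 _ l0 l1 (fun d hd => key _ (by rw [← map_pow, n0_four, map_one]))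
  have h : γ X = X := (this ▸ Subgroup.mem_top X : X ∈ γ.eqLocus (MonoidHom.id _))
  rw [← hγ, h]

theorem q2_su2_cases (hN : ∀ a : F, a ≠ 0 → a * star a = 1) (X : SUg (Fin 2) F) :
    X.1 0 1 = 0 ∨ X.1 0 0 = 0 := by
  by_contra! h
  have := (su2_entries X).2.2
  rw [hN _ h.1, hN _ h.2] at this
  exact one_ne_zero (α := F) (by linear_combination this)

theorem q2_normal4 (hN : ∀ a : F, a ≠ 0 → a * star a = 1) (N : Subgroup (SUg (Fin 4) F))
    [hN' : N.Normal] {g : SUg (Fin 4) F} (hg : g ∈ N)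
    (hg' : g ∉ Subgroup.center (SUg (Fin 4) F)) : N = ⊤ := by
  obtain ⟨X, hX, hX'⟩ := exists_block_nonscalar N hg hg' (sh 0 (by omega)) (m := 2) (by decide)
    (by decide)
  have ha : ∀ (l : F) (hl : l * star l = 1) (X : SUg (Fin 2) F), i01 X ∈ N →
      i01 ((SLD.dg ![1, l] (norm2 (by simp) hl)).hom X) ∈ N := by
    intro l hl X hX
    have := congrArg jo0 (conj_io0 l hl X)
    rw [map_mul, map_mul, map_inv, ext_sh_sh 0 0, ext_sh_sh 0 0] at this
    rw [← this]; exact hN'.conj_mem _ hX _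
  have hb : ∀ (f : Fin 2 ↪ Fin 4) (X : SUg (Fin 2) F), i01 X ∈ N → ext f X ∈ N := by
    intro f X hX
    obtain ⟨s, hs0, hs1⟩ := trans2 (k := (0 : Fin 4)) (l := 1) (m := 2) (by decide) (by decide)
      (by decide) (x := ev F (f 0)) (y := ev F (f 1)) (by simp) (by simp)
      (adj_ev (f.injective.ne (by decide))).perp
    rw [← conj_ext (sh 0 (by omega)) f (s := s) (by
      intro k; fin_cases k; exacts [hs0, hs1])]
    exact hN'.conj_mem _ hX _
  have hd : ∀ W : SUg (Fin 2) F, i01 W ∈ N → W.1 0 0 = 0 → ∀ Y : SUg (Fin 2) F, i01 Y ∈ N := by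
    intro W hW hW0
    obtain ⟨w1, w2, w3⟩ := su2_entries W
    rw [hW0] at w2 w3
    simp only [star_zero, mul_zero, zero_add] at w2 w3
    have hd : ∀ (l : F) (hl : l * star l = 1), i01 (dg2 l hl) ∈ N := by
      intro l hl
      have hl' : star l * star (star l) = 1 := by simpa [mul_comm] using hl
      have : dg2 l hl = (SLD.dg ![1, star l] (norm2 (by simp) hl')).hom W * W⁻¹ := by
        apply su2_ext <;>
          simp [dg2_val, SUg.coe_inv, Matrix.mul_apply, Fin.sum_univ_two, SLD.hom_apply, SLD.dg,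
            hW0, w1, w2]
        linear_combination -l * w3
      rw [this, map_mul, map_inv]
      exact N.mul_mem (ha _ hl' W hW) (N.inv_mem hW)
    intro Y
    rcases q2_su2_cases hN Y with h1 | h0
    · obtain ⟨h, e⟩ := eq_dg2 h1
      rw [e]; exact hd _ _
    · obtain ⟨y1, y2, y3⟩ := su2_entries Y
      rw [h0] at y2 y3
      simp only [star_zero, mul_zero, zero_add] at y2 y3
      have hμ : (Y.1 0 1 * star (W.1 0 1)) * star (Y.1 0 1 * star (W.1 0 1)) = 1 := by
        rw [star_mul', star_star]; linear_combination (W.1 0 1 * star (W.1 0 1)) * y3 + w3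
      have : Y = dg2 _ hμ * W := by
        apply su2_ext <;> simp [dg2_val, hW0, h0]
        linear_combination -Y.1 0 1 * w3
      rw [this, map_mul]; exact N.mul_mem (hd _ _) hW
  have hcj : ∀ (d : Fin 3 → F) (hd : ∀ i, d i * star (d i) = 1), ∃ δ : SUg (Fin 4) F,
      δ.1 = diagonal ![d 0, d 1, d 2, star (d 0 * d 1 * d 2)] ∧
      ∀ Y, δ * jo0 Y * δ⁻¹ = jo0 ((SLD.dg d hd).hom Y) := by
    intro d hd
    have h4 : ∀ i, ![d 0, d 1, d 2, star (d 0 * d 1 * d 2)] i *
        star (![d 0, d 1, d 2, star (d 0 * d 1 * d 2)] i) = 1 := by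
      intro i
      fin_cases i <;> simp [hd]
      linear_combination (d 1 * star (d 1) * (d 2 * star (d 2))) * hd 0
        + (d 2 * star (d 2)) * hd 1 + hd 2
    refine ⟨diagSU _ h4 (by
      simp [Fin.prod_univ_four]
      linear_combination (d 1 * star (d 1) * (d 2 * star (d 2))) * hd 0
        + (d 2 * star (d 2)) * hd 1 + hd 2), rfl, fun Y => ?_⟩
    rw [SLD.conj_diag h4 (diagSU_val _ _ _), SLD.hom_ext]
    congr 1
    apply Subtype.ext
    ext i j
    rw [SLD.hom_apply, SLD.hom_apply]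
    fin_cases i <;> fin_cases j <;> rfl
  obtain ⟨ω, h1, hω, hω'⟩ : ∃ (ω : F) (h1 : ω * star ω = 1), ω ≠ star ω ∧ i01 (dg2 ω h1) ∈ N := by
    rcases q2_su2_cases hN X with h1 | h0
    · obtain ⟨h, e⟩ := eq_dg2 h1
      exact ⟨_, h, hX'.resolve_left (by simpa using h1), e ▸ hX⟩
    · obtain ⟨ω, h1, hω⟩ := exists_lam (F := F)
      exact ⟨ω, h1, hω, hd X hX h0 _⟩
  have h2 := star_omega hN hω
  have hn : jo0 (n0 ω h1 h2) ∈ N := by
    obtain ⟨δ, hδ, hδ'⟩ := hcj ![1, 1, ω] (norm3 (by simp) (by simp) h1)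
    have : δ = i23 (dg2 ω h1) := by
      apply Subtype.ext
      rw [hδ, i23_val, dg2_val]
      ext i j; fin_cases i <;> fin_cases j <;> simp
    have hδN : δ ∈ N := this ▸ hb _ _ hω'
    rw [n0, map_mul, map_inv, ← hδ', mul_assoc, mul_assoc]
    exact N.mul_mem hδN (by rw [← mul_assoc]; exact hN'.conj_mem _ (N.inv_mem hδN) _)
  have hall := hd (su2 0 ω (by simpa using h1)) (by
    have := N.mul_mem hn hn
    rwa [← map_mul, n0_sq, ext_sh_sh] at this) (by simp [su2_val])
  have h3 := q2_gen3 hN h1 h2 (N.comap jo0)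
    (fun X => by rw [Subgroup.mem_comap, ext_sh_sh]; exact hall X)
    (fun X => by rw [Subgroup.mem_comap, ext_sh_sh]; exact hb _ _ (hall X)) (fun d hd => by
      obtain ⟨δ, -, hδ'⟩ := hcj d hd
      rw [Subgroup.mem_comap, ← hδ']
      exact hN'.conj_mem _ hn _)
  have h0 : ∀ X, jo0 X ∈ N := fun X => (Subgroup.mem_comap).1 (h3 ▸ Subgroup.mem_top X)
  refine gen23 2 N (fun b hb' A => hb _ _ (hall A)) fun b hb A => ?_
  obtain rfl | rfl : b = 0 ∨ b = 1 := by omega
  · exact h0 A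
  · obtain ⟨s, hs0, hs1, hs2⟩ := trans3 (k := (0 : Fin 4)) (l := 1) (m := 2) (n := 3) (by decide)
      (by decide) (by decide) (by decide) (by decide) (by decide) (x := ev F 1) (y := ev F 2)
      (z := ev F 3) (by simp) (by simp) (by simp) (by simp [ev_apply]) (by simp [ev_apply])
      (by simp [ev_apply])
    rw [← conj_ext (sh 0 (by omega)) (sh 1 (by omega)) (s := s) (by
      intro k; fin_cases k; exacts [hs0, hs1, hs2])]
    exact hN'.conj_mem _ (h0 A) _

theorem q2_center4 (hN : ∀ a : F, a ≠ 0 → a * star a = 1) {z : SUg (Fin 4) F}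
    (hz : z ∈ Subgroup.center (SUg (Fin 4) F)) : z = 1 := by
  have h := center_scalar hz (k := 0) (l := 1) (m := 2) (by decide) (by decide) (by decide)
  generalize z.1 0 0 = ζ at h
  have h1 := z.det
  rw [h] at h1
  simp at h1
  have h2 : (ζ - 1) ^ 2 ^ 2 = 0 := by
    haveI : Fact (Nat.Prime 2) := ⟨Nat.prime_two⟩
    rw [sub_pow_char_pow]; linear_combination h1
  have h3 : ζ = 1 := sub_eq_zero.1 (pow_eq_zero_iff (by norm_num) |>.1 h2)
  apply Subtype.ext
  rw [h, h3]; simp

end Q2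

end CfsgH4
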