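import Cfsg.Agent.H4.PhanQ2

set_option autoImplicit false

open Matrix

namespace CfsgH4

section Q2

variable {F G : Type*} [Field F] [StarRing F] [Group G] [CharP F 2]

/-- the scalar matrix of order three -/
def sc3 (ω : F) (h1 : ω * star ω = 1) : SUg (Fin 3) F := io0 (dg2 ω h1) * (io1 (dg2 ω h1))⁻¹

theorem sc3_val {ω : F} (h1 : ω * star ω = 1) (h2 : star ω = ω + 1) :
    (sc3 ω h1).1 = ω • (1 : Matrix (Fin 3) (Fin 3) F) := by
  have h0 : (2 : F) = 0 := two_eq_zero'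
  have h3 := h1
  rw [h2] at h3
  rw [sc3, Submonoid.coe_mul, SUg.coe_inv, io0_dg, io1_dg]
  ext i j
  fin_cases i <;> fin_cases j <;> simp [Matrix.mul_apply, Fin.sum_univ_three, h2] <;> grind

/-- the cyclic permutation matrix -/
def cyc3 (F : Type*) [Field F] [StarRing F] : SUg (Fin 3) F :=
  ⟨!![0, 0, 1; 1, 0, 0; 0, 1, 0], by
    refine ⟨?_, ?_⟩
    · rw [SetLike.mem_coe, mem_unitaryGroup_iff]
      ext i j
      fin_cases i <;> fin_cases j <;> simp [Matrix.mul_apply, Fin.sum_univ_three]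
    · rw [SetLike.mem_coe, MonoidHom.mem_mker, coe_detMonoidHom]
      simp [det_fin_three]⟩

theorem dg_cyc3 {ω : F} (h1 : ω * star ω = 1) (h2 : star ω = ω + 1) :
    io0 (dg2 ω h1) * cyc3 F = sc3 ω h1 * cyc3 F * io0 (dg2 ω h1) := by
  have h0 : (2 : F) = 0 := two_eq_zero'
  have h3 := h1
  rw [h2] at h3
  apply Subtype.ext
  simp only [Submonoid.coe_mul, sc3_val h1 h2, io0_dg, cyc3]
  ext i j
  fin_cases i <;> fin_cases j <;> simp [Matrix.mul_apply, Fin.sum_univ_three, h2] <;> grind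

theorem dg2_cube {ω : F} (h1 : ω * star ω = 1) (h2 : star ω = ω + 1) : dg2 ω h1 ^ 3 = 1 := by
  have h0 : (2 : F) = 0 := two_eq_zero'
  have h3 := h1
  rw [h2] at h3
  apply su2_ext <;> simp [pow_succ, dg2_val]
  grind

theorem sc3_cube {ω : F} (h1 : ω * star ω = 1) (h2 : star ω = ω + 1) : sc3 ω h1 ^ 3 = 1 := by
  have h0 : (2 : F) = 0 := two_eq_zero'
  have h3 := h1
  rw [h2] at h3
  apply Subtype.ext
  rw [SubmonoidClass.coe_pow, sc3_val h1 h2, smul_pow, show ω ^ 3 = 1 by grind]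
  simp

theorem sc3_ne_one {ω : F} (h1 : ω * star ω = 1) (h2 : star ω = ω + 1) : sc3 ω h1 ≠ 1 := by
  intro h
  have := congrFun (congrFun (congrArg Subtype.val h) 0) 0
  rw [sc3_val h1 h2] at this
  simp at this
  rw [this] at h2
  simp at h2

variable {ι : Type*} [Fintype ι] [DecidableEq ι]

/-- projector onto an eigenspace of an element of order three -/
def pj3 (u : SUg ι F) (l : F) : Matrix ι ι F := 1 + (l ^ 2) • u.1 + l • (u.1 * u.1)

omit [CharP F 2] in
theorem mul_pj3 {u : SUg ι F} (hu : u ^ 3 = 1) {l : F} (hl : l ^ 3 = 1) :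
    u.1 * pj3 u l = l • pj3 u l := by
  have h : u.1 * (u.1 * u.1) = 1 := by
    have := congrArg Subtype.val hu
    simpa [pow_succ, mul_assoc] using this
  simp only [pj3, mul_add, mul_one, Matrix.mul_smul, h, smul_add, smul_smul]
  rw [← pow_succ', hl, one_smul, pow_two l]
  abel

theorem pj3_sq {u : SUg ι F} (hu : u ^ 3 = 1) {l : F} (hl : l ^ 3 = 1) :
    pj3 u l * pj3 u l = pj3 u l := by
  have h0 : (2 : F) = 0 := two_eq_zero'
  nth_rewrite 1 [pj3]
  simp only [add_mul, one_mul, Matrix.smul_mul, mul_assoc, mul_pj3 hu hl, Matrix.mul_smul,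
    smul_smul]
  have e : (1 : F) + l ^ 2 * l + l * (l * l) = 1 := by linear_combination 2 * hl + h0
  calc _ = ((1 : F) + l ^ 2 * l + l * (l * l)) • pj3 u l := by simp only [add_smul, one_smul]
    _ = _ := by rw [e, one_smul]

omit [CharP F 2] in
theorem star_pj3 {u : SUg ι F} (hu : u ^ 3 = 1) {l : F} (hl : l ^ 3 = 1)
    (hl' : l * star l = 1) : star (pj3 u l) = pj3 u l := by
  have h1 : star u.1 = u.1 * u.1 := by
    have : u⁻¹ = u * u := by
      rw [inv_eq_iff_mul_eq_one, ← hu, pow_succ', pow_two]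
    exact congrArg Subtype.val this
  have h2 : u.1 * u.1 * (u.1 * u.1) = u.1 := by
    have : u * u * (u * u) = u := by
      calc _ = u ^ 3 * u := by simp [pow_succ, mul_assoc]
        _ = u := by rw [hu, one_mul]
    exact congrArg Subtype.val this
  have h3 : star l = l ^ 2 := by linear_combination -star l * hl + l ^ 2 * hl'
  have h4 : (l ^ 2) ^ 2 = l := by linear_combination l * hl
  simp only [pj3, star_add, star_one, star_smul, star_mul, star_pow, h1, h2, h3, h4]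
  abel

omit [CharP F 2] in
theorem pj3_comm {u u' : SUg ι F} (h : Commute u u') (l l' : F) :
    Commute (pj3 u l) (pj3 u' l') := by
  have h1 : Commute u.1 u'.1 := congrArg Subtype.val h.eq
  have h2 : Commute u.1 (pj3 u' l') :=
    ((Commute.one_right _).add_right (h1.smul_right _)).add_right
      ((h1.mul_right h1).smul_right _)
  exact ((Commute.one_left _).add_left (h2.smul_left _)).add_left
      ((h2.mul_left h2).smul_left _)

theorem exists_eig2 [HermField F] {ω : F} (h1 : ω * star ω = 1) (h2 : star ω = ω + 1)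
    {u u' : SUg ι F} (hu : u ^ 3 = 1) (hu' : u' ^ 3 = 1) (hc : Commute u u') (hne : u ≠ 1) :
    ∃ (v : ι → F) (l m : F), hf v v = 1 ∧ l ≠ 1 ∧ l ^ 3 = 1 ∧ u • v = l • v ∧ u' • v = m • v := by
  have h0 : (2 : F) = 0 := two_eq_zero'
  have h3 := h1
  rw [h2] at h3
  have hA : ∀ l : F, l = 1 ∨ l = ω ∨ l = ω + 1 → l ^ 3 = 1 ∧ l * star l = 1 := by
    rintro l (rfl | rfl | rfl)
    · simp
    · exact ⟨by grind, h1⟩
    · rw [star_add, h2, star_one]; exact ⟨by grind, by grind⟩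
  obtain ⟨l, hl, hl1, hl0⟩ : ∃ l : F, (l = 1 ∨ l = ω ∨ l = ω + 1) ∧ l ≠ 1 ∧ pj3 u l ≠ 0 := by
    by_contra! h
    have a1 := h ω (by simp) (by rintro rfl; simp at h2)
    have a2 := h (ω + 1) (by simp) (by
      intro h; simp at h; rw [h] at h1; simp at h1)
    have a3 : u.1 = u.1 * u.1 := by
      have : pj3 u (ω + 1) - pj3 u ω = u.1 - u.1 * u.1 := by
        have e1 : (ω + 1) ^ 2 = ω ^ 2 + 1 := by linear_combination ω * h0
        have e2 : ω + 1 = ω - 1 := by linear_combination h0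
        rw [pj3, pj3, e1, add_smul, one_smul]
        nth_rewrite 1 [e2]
        rw [sub_smul, one_smul]
        abel
      rwa [a1, a2, sub_zero, eq_comm, sub_eq_zero] at this
    apply hne
    have : u = u * u := Subtype.ext a3
    simpa using this
  obtain ⟨m, hm, hm0⟩ : ∃ m : F, (m = 1 ∨ m = ω ∨ m = ω + 1) ∧ pj3 u l * pj3 u' m ≠ 0 := by
    by_contra! h
    have : pj3 u' 1 + pj3 u' ω + pj3 u' (ω + 1) = 1 := by
      have e1 : (1 : F) ^ 2 + ω ^ 2 + (ω + 1) ^ 2 = 0 := by grind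
      have e2 : (1 : F) + ω + (ω + 1) = 0 := by grind
      have e3 : (1 : F) + 1 + 1 = 1 := by grind
      calc _ = ((1 : F) + 1 + 1) • (1 : Matrix ι ι F) + ((1 : F) ^ 2 + ω ^ 2 + (ω + 1) ^ 2) • u'.1
          + ((1 : F) + ω + (ω + 1)) • (u'.1 * u'.1) := by
            simp only [pj3, add_smul (1 + ω), add_smul (1 : F) ω, add_smul ((1 : F) + 1),
              add_smul (1 : F) 1, add_smul ((1 : F) ^ 2 + ω ^ 2), add_smul ((1 : F) ^ 2),
              one_smul]
            abel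
        _ = 1 := by rw [e1, e2, e3]; simp
    apply hl0
    rw [← mul_one (pj3 u l), ← this, mul_add, mul_add, h 1 (by simp), h ω (by simp),
      h (ω + 1) (by simp)]
    simp
  have hcm := pj3_comm hc l m
  obtain ⟨v, hv, hv'⟩ := exists_unit_of_proj (E := pj3 u l * pj3 u' m)
    (by rw [star_mul, star_pj3 hu (hA l hl).1 (hA l hl).2, star_pj3 hu' (hA m hm).1 (hA m hm).2,
      hcm.eq])
    (by rw [mul_assoc, ← mul_assoc (pj3 u' m), ← hcm.eq, mul_assoc, pj3_sq hu' (hA m hm).1,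
      ← mul_assoc, pj3_sq hu (hA l hl).1]) hm0
  refine ⟨v, l, m, hv, hl1, (hA l hl).1, ?_, ?_⟩
  · rw [← hv', SUg.smul_def, mulVec_mulVec, ← mul_assoc, mul_pj3 hu (hA l hl).1, Matrix.smul_mul,
      smul_mulVec]
  · rw [← hv', hcm.eq, SUg.smul_def, mulVec_mulVec, ← mul_assoc, mul_pj3 hu' (hA m hm).1,
      Matrix.smul_mul, smul_mulVec]

variable [HermField F]

theorem q2_inj_of (hN : ∀ a : F, a ≠ 0 → a * star a = 1) {ψ : SUg (Fin 3) F →* G}
    (hker : ∀ x, ψ x = 1 → x ∈ Subgroup.center (SUg (Fin 3) F)) {ω : F} (h1 : ω * star ω = 1)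
    (h2 : star ω = ω + 1) (h : ψ (sc3 ω h1) ≠ 1) : Function.Injective ψ := by
  have h0 : (2 : F) = 0 := two_eq_zero'
  have h3 := h1
  rw [h2] at h3
  rw [injective_iff_map_eq_one]
  intro x hx
  have hz := center_scalar (hker x hx) (k := 0) (l := 1) (m := 2) (by decide) (by decide)
    (by decide)
  generalize x.1 0 0 = ζ at hz
  have hd := x.det
  rw [hz] at hd
  simp at hd
  have : (ζ - 1) * ((ζ - ω) * (ζ - (ω + 1))) = 0 := by grind
  rcases mul_eq_zero.1 this with h4 | h4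
  · apply Subtype.ext
    rw [hz, sub_eq_zero.1 h4]; simp
  exfalso
  apply h
  rcases mul_eq_zero.1 h4 with h4 | h4
  · have : sc3 ω h1 = x := Subtype.ext (by rw [sc3_val h1 h2, hz, sub_eq_zero.1 h4])
    rw [this, hx]
  · have : sc3 ω h1 = x * x := Subtype.ext (by
      rw [sc3_val h1 h2, Submonoid.coe_mul, hz, sub_eq_zero.1 h4, smul_mul_smul_comm, one_mul]
      congr 1; grind)
    rw [this, map_mul, hx, one_mul]

theorem q2_inj (hN : ∀ a : F, a ≠ 0 → a * star a = 1) {ψ0 ψ1 : SUg (Fin 3) F →* G}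
    {A B C : Subgroup G} (h0 : StdPair ψ0 A B) (h1 : StdPair ψ1 B C)
    (hco : ∀ X, ψ1 (io0 X) = ψ0 (io1 X)) (hc : ∀ x ∈ A, ∀ y ∈ C, Commute x y) :
    Function.Injective ψ0 ∧ Function.Injective ψ1 := by
  obtain ⟨ω, w1, hω⟩ := exists_lam (F := F)
  have w2' := star_omega hN hω
  have w3 := ne_one_of_ne_star hω
  refine ⟨q2_inj_of hN h0.ker w1 w2' fun h => ?_, q2_inj_of hN h1.ker w1 w2' fun h => ?_⟩
  · rw [sc3, map_mul, map_inv, mul_inv_eq_one, ← hco] at h
    have e := (hc _ (h0.mem0 (dg2 ω w1)) _ (h1.mem1 (w2 F))).eq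
    rw [h, ← mul_inv_eq_iff_eq_mul, ← map_inv, ← map_mul, ← map_mul, conj_io1] at e
    have := congrFun (congrFun (congrArg Subtype.val (h1.inj1 e)) 0) 1
    rw [SLD.hom_apply] at this
    simp [SLD.dg, w2_val] at this
    exact w3 (by simpa using congrArg star this)
  · rw [sc3, map_mul, map_inv, mul_inv_eq_one, hco] at h
    have e := (hc _ (h0.mem0 (w2 F)) _ (h1.mem1 (dg2 ω w1))).symm.eq
    rw [← h, ← mul_inv_eq_iff_eq_mul, ← map_inv, ← map_mul, ← map_mul, conj_io0] at e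
    have := congrFun (congrFun (congrArg Subtype.val (h0.inj0 e)) 0) 1
    rw [SLD.hom_apply] at this
    simp [SLD.dg, w2_val] at this
    exact w3 (by simpa using congrArg star this)

theorem q2_fix (hN : ∀ a : F, a ≠ 0 → a * star a = 1) {ψ : SUg (Fin 3) F →* SUg (Fin 4) F}
    (hψ : Function.Injective ψ) {ω : F} (h1 : ω * star ω = 1) (h2 : star ω = ω + 1) :
    ∃ x : Fin 4 → F, hf x x = 1 ∧ (∀ g, ψ g • x = x) ∧
      ∀ y, ψ (sc3 ω h1) • y = y → ∃ a : F, y = a • x := by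
  have hcen : ∀ g, Commute (ψ (sc3 ω h1)) (ψ g) := fun g =>
    (Commute.symm (Subgroup.mem_center_iff.1 (mem_center_of_scalar (sc3_val h1 h2)) g)).map ψ
  obtain ⟨v, l, m, hv, hl1, hl3, hcv, hdv⟩ := exists_eig2 h1 h2 (u := ψ (sc3 ω h1))
    (u' := ψ (io0 (dg2 ω h1))) (by rw [← map_pow, sc3_cube h1 h2, map_one])
    (by rw [← map_pow, ← map_pow, dg2_cube h1 h2, map_one, map_one]) (hcen _)
    (fun h => sc3_ne_one h1 h2 (hψ (h.trans (map_one ψ).symm)))
  have hrel := congrArg ψ (dg_cyc3 h1 h2)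
  rw [map_mul, map_mul, map_mul] at hrel
  have hch := hcen (cyc3 F)
  generalize ψ (cyc3 F) = h at hrel hch
  generalize ψ (io0 (dg2 ω h1)) = d at hrel hdv
  obtain ⟨c, hc⟩ : ∃ c, c = ψ (sc3 ω h1) := ⟨_, rfl⟩
  rw [← hc] at hcen hcv hrel hch ⊢
  have hl : l * star l = 1 := hN l (by rintro rfl; simp at hl3)
  have hm : m * star m = 1 := by
    have := hf_SU d v v
    rw [hdv, hf_smul_left, hf_smul_right, hv] at this
    linear_combination this
  have hl' : star l ≠ 1 := fun h => hl1 (by simpa using congrArg star h)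
  have c1 : c • h • v = l • h • v := by
    rw [← mul_smul, hch.eq, mul_smul, hcv, SUg.smul_smul_comm]
  have c2 : c • h • h • v = l • h • h • v := by
    rw [← mul_smul, hch.eq, mul_smul, c1, SUg.smul_smul_comm]
  have d1 : d • h • v = (m * l) • h • v := by
    rw [← mul_smul, hrel, mul_smul, mul_smul, hdv, SUg.smul_smul_comm, SUg.smul_smul_comm, c1,
      smul_smul]
  have d2 : d • h • h • v = (m * l * l) • h • h • v := by
    rw [← mul_smul, hrel, mul_smul, mul_smul, d1, SUg.smul_smul_comm, SUg.smul_smul_comm, c2,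
      smul_smul]
  obtain ⟨s, s0, s1, s2⟩ := trans3 (k := (0 : Fin 4)) (l := 1) (m := 2) (n := 3) (by decide)
    (by decide) (by decide) (by decide) (by decide) (by decide) (x := v) (y := h • v)
    (z := h • h • v) hv (by simpa using hv) (by simpa using hv)
    (eig_perp d hdv d1 (by
      intro e; apply hl'; rw [star_mul'] at e; linear_combination e - star l * hm))
    (eig_perp d hdv d2 (by
      intro e; apply hl1; rw [star_mul', star_mul'] at e
      grind))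
    (eig_perp d d1 d2 (by
      intro e; apply hl'; rw [star_mul', star_mul'] at e
      linear_combination e - (l * star l * star l) * hm - star l * hl))
  have hperp : ∀ (y : Fin 4 → F), hf y v = 0 → hf y (h • v) = 0 → hf y (h • h • v) = 0 →
      ∃ a : F, y = a • s • ev F 3 := by
    intro y y0 y1 y2
    rw [← s0, ← hf_SU s⁻¹, inv_smul_smul] at y0
    rw [← s1, ← hf_SU s⁻¹, inv_smul_smul] at y1
    rw [← s2, ← hf_SU s⁻¹, inv_smul_smul] at y2
    refine ⟨(s⁻¹ • y) 3, ?_⟩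
    rw [← SUg.smul_smul_comm, ← inv_smul_eq_iff]
    simp only [hf_ev_right] at y0 y1 y2
    ext i
    fin_cases i <;> simp [ev_apply, y0, y1, y2]
  have hfix : ∀ y : Fin 4 → F, c • y = y → ∃ a : F, y = a • s • ev F 3 := fun y hy => by
    have hy' : c • y = (1 : F) • y := by rw [hy, one_smul]
    exact hperp y (eig_perp c hy' hcv (by simpa using hl')) (eig_perp c hy' c1 (by simpa using hl'))
      (eig_perp c hy' c2 (by simpa using hl'))
  have hcx : c • s • ev F (3 : Fin 4) = s • ev F 3 := by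
    have hp : ∀ u : Fin 4 → F, c • u = l • u → hf (s • ev F 3) u = 0 →
        hf (c • s • ev F 3) u = 0 := by
      intro u hu h0
      have := hf_SU c (s • ev F 3) u
      rw [hu, hf_smul_right, h0] at this
      exact (mul_eq_zero.1 this).resolve_left (right_ne_zero_of_mul_eq_one hl)
    obtain ⟨a, ha⟩ := hperp (c • s • ev F 3) (hp _ hcv (by rw [← s0]; simp [ev_apply]))
      (hp _ c1 (by rw [← s1]; simp [ev_apply])) (hp _ c2 (by rw [← s2]; simp [ev_apply]))
    have hd : (s⁻¹ * c * s).1 = diagonal ![l, l, l, a] := by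
      ext i j
      rw [← SUg.smul_ev, mul_smul, mul_smul]
      fin_cases j
      · erw [s0]; rw [hcv, ← s0, SUg.smul_smul_comm, inv_smul_smul]
        fin_cases i <;> simp [ev_apply]
      · erw [s1]; rw [c1, ← s1, SUg.smul_smul_comm, inv_smul_smul]
        fin_cases i <;> simp [ev_apply]
      · erw [s2]; rw [c2, ← s2, SUg.smul_smul_comm, inv_smul_smul]
        fin_cases i <;> simp [ev_apply]
      · erw [ha]; rw [SUg.smul_smul_comm, inv_smul_smul]
        fin_cases i <;> simp [ev_apply]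
    have := (s⁻¹ * c * s).det
    rw [hd, det_diagonal, Fin.prod_univ_four] at this
    simp at this
    rw [ha, show a = 1 by linear_combination this - a * hl3, one_smul]
  have hx : hf (s • ev F 3) (s • ev F (3 : Fin 4)) = 1 := by simp
  refine ⟨s • ev F 3, hx, ?_, hfix⟩
  generalize s • ev F (3 : Fin 4) = x at hfix hcx hx
  have key : ∀ g : SUg (Fin 3) F, g ^ 4 = 1 → ψ g • x = x := by
    intro g hg
    obtain ⟨a, ha⟩ := hfix (ψ g • x) (by rw [← mul_smul, (hcen g).eq, mul_smul, hcx])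
    have h4 : ψ (g ^ 4) • x = a ^ 4 • x := by
      simp only [pow_succ, pow_zero, one_mul, map_mul, mul_smul, ha, SUg.smul_smul_comm]
    rw [hg, map_one, one_smul] at h4
    have h5 : a ^ 4 = 1 := by
      have := congrArg (hf · x) h4
      simp only [hf_smul_left, hx] at this
      linear_combination -this
    have h6 : (a - 1) ^ 2 ^ 2 = 0 := by
      haveI : Fact (Nat.Prime 2) := ⟨Nat.prime_two⟩
      rw [sub_pow_char_pow]; linear_combination h5
    rw [ha, sub_eq_zero.1 (pow_eq_zero_iff (by norm_num) |>.1 h6), one_smul]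
  have key2 : ∀ f : SUg (Fin 2) F →* SUg (Fin 3) F, ∀ X, ψ (f X) • x = x := fun f =>
    su2_invol_ind _ (fun t ht => key _ (by
      rw [← map_pow, show 4 = 2 * 2 from rfl, pow_mul, pow_two t, ht, one_pow, map_one]))
      (fun a b ha hb => by rw [map_mul, map_mul, mul_smul, hb, ha])
  have := q2_gen3 hN h1 h2 ((MulAction.stabilizer _ x).comap ψ) (key2 _) (key2 _)
    (fun d hd => key _ (by rw [← map_pow, n0_four, map_one]))
  intro g
  exact (this ▸ Subgroup.mem_top g : g ∈ (MulAction.stabilizer _ x).comap ψ)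

end Q2

section Q2b

variable {F G : Type*} [Field F] [StarRing F] [Group G] [CharP F 2] [HermFin F]

omit [CharP F 2] [HermFin F] in
theorem mem_range_jo0 {g : SUg (Fin 4) F} (h : g • ev F (3 : Fin 4) = ev F 3) :
    ∃ X, jo0 X = g :=
  exists_sh 0 _ (t := {3}ᶜ) (by decide) (mem_Blk_compl_single.2 h)

omit [CharP F 2] [HermFin F] in
theorem mem_range_jo1 {g : SUg (Fin 4) F} (h : g • ev F (0 : Fin 4) = ev F 0) :
    ∃ X, jo1 X = g :=
  exists_sh 1 _ (t := {0}ᶜ) (by decide) (mem_Blk_compl_single.2 h)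

theorem q2_glue_std (hN : ∀ a : F, a ≠ 0 → a * star a = 1)
    {ψ0 ψ1 : SUg (Fin 3) F →* SUg (Fin 4) F} {A B C : Subgroup (SUg (Fin 4) F)}
    (h0 : StdPair ψ0 A B) (h1 : StdPair ψ1 B C) (hco : ∀ X, ψ1 (io0 X) = ψ0 (io1 X))
    (hc : ∀ x ∈ A, ∀ y ∈ C, Commute x y) (f0 : ∀ g, ψ0 g • ev F (3 : Fin 4) = ev F 3)
    (f1 : ∀ g, ψ1 g • ev F (0 : Fin 4) = ev F 0) :
    ∃ Θ : SUg (Fin 4) F →* SUg (Fin 4) F, (∀ X, Θ (jo0 X) = ψ0 X) ∧ ∀ X, Θ (jo1 X) = ψ1 X := by
  haveI : Finite F := HermFin.fin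
  haveI : Fact (Nat.Prime 2) := ⟨Nat.prime_two⟩
  obtain ⟨i0, i1⟩ := q2_inj hN h0 h1 hco hc
  have r0 : ψ0.range ≤ (jo0 (F := F)).range := by
    rintro _ ⟨g, rfl⟩; exact mem_range_jo0 (f0 g)
  have r1 : ψ1.range ≤ (jo1 (F := F)).range := by
    rintro _ ⟨g, rfl⟩; exact mem_range_jo1 (f1 g)
  obtain ⟨γ, hγ⟩ := exists_hom_of_range_le ψ0 jo0 (ext_injective _) r0
  have iγ : Function.Injective γ := fun a b h => i0 (by rw [← hγ, ← hγ, h])
  obtain ⟨y, hy, hy'⟩ := su2_fix (γ.comp io0) (iγ.comp (ext_injective _)) 2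
  simp only [MonoidHom.comp_apply] at hy'
  have fB : ∀ Y, ψ0 (io1 Y) • ev F (0 : Fin 4) = ev F 0 := fun Y => hco Y ▸ f1 _
  have hB : (i12 (F := F)).range = B := by
    rw [← h0.im1]
    apply range_eq_of_le h0.inj1
    rintro _ ⟨Y, rfl⟩
    exact exists_i12 (fB Y) (f0 _)
  obtain ⟨ω, w1, hω⟩ := exists_lam (F := F)
  have w2' := star_omega hN hω
  have hsq : dg2 ω w1 ^ 2 ≠ 1 := by
    intro h
    have := dg2_cube w1 w2'
    rw [pow_succ, h, one_mul] at this
    have := congrFun (congrFun (congrArg Subtype.val this) 0) 0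
    simp [dg2_val] at this
    exact ne_one_of_ne_star hω this
  have y0 : y 0 = 0 := by
    rcases adj_of_comm 2 hy (x' := ev F 0) (by simp) (hy' (dg2 ω w1)) (d' := γ (io1 (dg2 ω w1)))
      (mem_Blk_compl_single.1 (mem_Blk_of_ext (sh 0 (by omega) : Fin 3 ↪ Fin 4) (t := {0}ᶜ)
        (by decide) (mem_Blk_compl_single.2 (by rw [hγ]; exact fB _))))
      (Commute.map (Subtype.ext (by
        simp only [Submonoid.coe_mul, io0_dg, io1_dg, diagonal_mul_diagonal, mul_comm])) γ)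
      (fun h => hsq (ext_injective _ (iγ (by simpa only [map_pow, map_one] using h))))
      (fun h => hsq (ext_injective _ (iγ (by simpa only [map_pow, map_one] using h)))) with h | h
    · simpa using h.perp'
    · exfalso
      apply h0.not_le
      rw [← hB, ← h0.im0]
      rintro _ ⟨Y, rfl⟩
      refine exists_i12 ?_ (f0 _)
      have e := hy' Y
      have ha : hf y (ev F 0) ≠ 0 := by
        intro h'; rw [h', zero_smul] at h; simp [h] at hy
      rw [h, SUg.smul_smul_comm] at e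
      have e' := smul_right_injective _ ha e
      rw [MonoidHom.comp_apply, ← hγ]
      exact mem_Blk_compl_single.1 (ext_mem_Blk _ (s := {0}ᶜ) (by decide)
        (mem_Blk_compl_single.2 e'))
  obtain ⟨T, hT, hT'⟩ := exists_block ({1, 2} : Set (Fin 3)) (k := 2) (l := 1) (by simp)
    (by simp) (by decide) hy (by intro i hi; fin_cases i <;> simp at hi; exact y0)
  rw [← range_io1] at hT
  obtain ⟨Z, rfl⟩ := hT
  have t0 : i12 Z • ev F (0 : Fin 4) = ev F 0 := i12_mem Z _ (by simp)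
  have t3 : i12 Z • ev F (3 : Fin 4) = ev F 3 := i12_mem Z _ (by simp)
  have hA' : ((MulAut.conj (i12 Z)).toMonoidHom.comp i01).range = A := by
    rw [← h0.im0]
    apply range_eq_of_le h0.inj0
    rintro _ ⟨Y, rfl⟩
    obtain ⟨W, hW⟩ : (io1 Z)⁻¹ * γ (io0 Y) * io1 Z ∈ (io0 (F := F)).range := by
      rw [mem_range_io0, mul_smul, mul_smul, hT', hy', ← hT', inv_smul_smul]
    have := congrArg jo0 hW
    rw [map_mul, map_mul, map_inv, hγ, ext_sh_sh, ext_sh_sh] at this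
    refine ⟨W, ?_⟩
    show i12 Z * i01 W * (i12 Z)⁻¹ = ψ0 (io0 Y)
    erw [this]; simp [mul_assoc]
  have hB' : ((MulAut.conj (i12 Z)).toMonoidHom.comp i12).range = B := by
    rw [← hB]
    exact range_conj_blk (MonoidHom.id _) _ (X := Z) (fun Y => by rw [map_mul, map_mul, map_inv])
  have hC' : ((MulAut.conj (i12 Z)).toMonoidHom.comp i23).range = C := by
    rw [← h1.im1]
    apply range_eq_of_le h1.inj1
    rintro _ ⟨Y, rfl⟩
    have e0 : ((i12 Z)⁻¹ * ψ1 (io1 Y) * i12 Z) • ev F (0 : Fin 4) = ev F 0 := by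
      rw [mul_smul, mul_smul, t0, f1, inv_smul_eq_iff, t0]
    have e1 := (hc _ (hA'.le ⟨(w2 F)⁻¹, rfl⟩) _ (h1.mem1 Y)).eq
    have e2 : i01 (w2 F)⁻¹ • ev F (0 : Fin 4) = ev F 1 := by
      ext i
      rw [SUg.smul_ev, i01_val, SUg.coe_inv]
      fin_cases i <;> simp [w2_val, ev_apply]
    obtain ⟨W, hW⟩ := exists_i23 e0 (by
      have e3 : ((i12 Z)⁻¹ * ψ1 (io1 Y) * i12 Z) * i01 (w2 F)⁻¹ =
          i01 (w2 F)⁻¹ * ((i12 Z)⁻¹ * ψ1 (io1 Y) * i12 Z) := by
        change i12 Z * i01 (w2 F)⁻¹ * (i12 Z)⁻¹ * ψ1 (io1 Y) =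
          ψ1 (io1 Y) * (i12 Z * i01 (w2 F)⁻¹ * (i12 Z)⁻¹) at e1
        calc _ = (i12 Z)⁻¹ * (ψ1 (io1 Y) * (i12 Z * i01 (w2 F)⁻¹ * (i12 Z)⁻¹)) * i12 Z := by group
          _ = _ := by rw [← e1]; group
      rw [← e2, ← mul_smul, e3, mul_smul, e0])
    refine ⟨W, ?_⟩
    show i12 Z * i23 W * (i12 Z)⁻¹ = ψ1 (io1 Y)
    rw [hW]; group
  have iπ : Function.Injective (MulAut.conj (i12 Z)).toMonoidHom := (MulAut.conj (i12 Z)).injective
  obtain ⟨p0, p1⟩ := stdPair_of_four (π := (MulAut.conj (i12 Z)).toMonoidHom)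
    (fun x hx => by rw [iπ (hx.trans (map_one _).symm)]; exact Subgroup.one_mem _) hA' hB' hC'
  refine glue4 h0 h1 hco _ p0 p1
    (fun D e0 e1 => q2_rigid hN (φ := ((MulAut.conj (i12 Z)).toMonoidHom.comp jo0).comp D.hom)
      i0 ?_ e0 e1)
    (fun D e0 e1 => q2_rigid hN (φ := ((MulAut.conj (i12 Z)).toMonoidHom.comp jo1).comp D.hom)
      i1 ?_ e0 e1)
  · rw [← range_eq_of_le i0 r0]
    rintro _ ⟨X, rfl⟩
    apply mem_range_jo0
    show (i12 Z * jo0 (D.hom X) * (i12 Z)⁻¹) • _ = _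
    rw [mul_smul, mul_smul, inv_smul_eq_iff.2 t3.symm, ext_sh_fix _ _ _ _ (by simp), t3]
  · rw [← range_eq_of_le i1 r1]
    rintro _ ⟨X, rfl⟩
    apply mem_range_jo1
    show (i12 Z * jo1 (D.hom X) * (i12 Z)⁻¹) • _ = _
    rw [mul_smul, mul_smul, inv_smul_eq_iff.2 t0.symm, ext_sh_fix _ _ _ _ (by simp), t0]

theorem q2_glue_su4 (hN : ∀ a : F, a ≠ 0 → a * star a = 1)
    {ψ0 ψ1 : SUg (Fin 3) F →* SUg (Fin 4) F} {A B C : Subgroup (SUg (Fin 4) F)}
    (h0 : StdPair ψ0 A B) (h1 : StdPair ψ1 B C) (hco : ∀ X, ψ1 (io0 X) = ψ0 (io1 X))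
    (hc : ∀ x ∈ A, ∀ y ∈ C, Commute x y) (hr : ⊤ ≤ ψ0.range ⊔ ψ1.range) :
    ∃ Θ : SUg (Fin 4) F →* SUg (Fin 4) F, (∀ X, Θ (jo0 X) = ψ0 X) ∧ ∀ X, Θ (jo1 X) = ψ1 X := by
  obtain ⟨i0, i1⟩ := q2_inj hN h0 h1 hco hc
  obtain ⟨ω, w1, hω⟩ := exists_lam (F := F)
  have w2' := star_omega hN hω
  obtain ⟨x0, hx0, f0, g0⟩ := q2_fix hN i0 w1 w2'
  obtain ⟨x1, hx1, f1, g1⟩ := q2_fix hN i1 w1 w2'
  have hdd : Commute (io0 (dg2 ω w1)) (io1 (dg2 ω w1)) := Subtype.ext (by
    simp only [Submonoid.coe_mul, io0_dg, io1_dg, diagonal_mul_diagonal, mul_comm])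
  have hcc : Commute (ψ0 (sc3 ω w1)) (ψ1 (sc3 ω w1)) := by
    simp only [sc3, map_mul, map_inv]
    refine Commute.mul_left (Commute.mul_right ?_ (Commute.inv_right ?_))
      (Commute.inv_left (Commute.mul_right ?_ (Commute.inv_right ?_)))
    · rw [hco]; exact hdd.map ψ0
    · exact hc _ (h0.mem0 _) _ (h1.mem1 _)
    · rw [hco]; exact Commute.refl _
    · rw [← hco]; exact hdd.map ψ1
  have hp : hf x1 x0 = 0 := by
    obtain ⟨a, ha⟩ := g0 (ψ1 (sc3 ω w1) • x0) (by rw [← mul_smul, hcc.eq, mul_smul, f0])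
    by_cases h : a = 1
    · exfalso
      rw [h, one_smul] at ha
      obtain ⟨b, hb⟩ := g1 x0 ha
      have : ψ0.range ⊔ ψ1.range ≤ MulAction.stabilizer _ x0 := by
        refine sup_le ?_ ?_
        · rintro _ ⟨g, rfl⟩; exact f0 g
        · rintro _ ⟨g, rfl⟩
          show _ = _
          rw [hb, SUg.smul_smul_comm, f1]
      obtain ⟨s, hs⟩ := trans1 (k := (0 : Fin 4)) (l := 1) (by decide) hx0
      obtain ⟨t, ht⟩ := trans1 (k := (0 : Fin 4)) (l := 1) (by decide) (x := ev F 1) (by simp)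
      have e : (s * t * s⁻¹) • x0 = x0 := this (hr (Subgroup.mem_top _))
      rw [← hs, mul_smul, mul_smul, inv_smul_smul, ht, smul_left_cancel_iff] at e
      simpa [ev_apply] using congrFun e 0
    · exact eig_perp (a := 1) (ψ1 (sc3 ω w1)) (by rw [f1, one_smul]) ha (by
        intro e; apply h; simpa using congrArg star e)
  obtain ⟨s, s0, s3⟩ := trans2 (k := (0 : Fin 4)) (l := 3) (m := 1) (by decide) (by decide)
    (by decide) hx1 hx0 hp
  have is : Function.Injective (MulAut.conj s⁻¹).toMonoidHom := (MulAut.conj s⁻¹).injective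
  obtain ⟨Θ, e0, e1⟩ := q2_glue_std hN (h0.map _ is) (h1.map _ is)
    (fun X => by simp only [MonoidHom.comp_apply, hco])
    (by rintro _ ⟨x, hx, rfl⟩ _ ⟨y, hy, rfl⟩; exact (hc x hx y hy).map _)
    (fun g => by
      show (s⁻¹ * ψ0 g * s⁻¹⁻¹) • _ = _
      rw [inv_inv, mul_smul, mul_smul, s3, f0, ← s3, inv_smul_smul])
    (fun g => by
      show (s⁻¹ * ψ1 g * s⁻¹⁻¹) • _ = _
      rw [inv_inv, mul_smul, mul_smul, s0, f1, ← s0, inv_smul_smul])
  refine ⟨(MulAut.conj s).toMonoidHom.comp Θ, fun X => ?_, fun X => ?_⟩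
  · rw [MonoidHom.comp_apply, e0]; simp [mul_assoc]
  · rw [MonoidHom.comp_apply, e1]; simp [mul_assoc]

theorem q2_glue (hN : ∀ a : F, a ≠ 0 → a * star a = 1)
    {ψ0 ψ1 : SUg (Fin 3) F →* G} {A B C : Subgroup G} (h0 : StdPair ψ0 A B)
    (h1 : StdPair ψ1 B C) (hco : ∀ X, ψ1 (io0 X) = ψ0 (io1 X))
    (hc : ∀ x ∈ A, ∀ y ∈ C, Commute x y) (π : SUg (Fin 4) F →* G)
    (hr : π.range = ψ0.range ⊔ ψ1.range) :
    ∃ Θ : SUg (Fin 4) F →* G, (∀ X, Θ (jo0 X) = ψ0 X) ∧ ∀ X, Θ (jo1 X) = ψ1 X := by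
  have r0 : ψ0.range ≤ π.range := hr ▸ le_sup_left
  have r1 : ψ1.range ≤ π.range := hr ▸ le_sup_right
  have iπ : Function.Injective π := by
    rw [injective_iff_map_eq_one]
    intro x hx
    apply q2_center4 hN
    by_contra h
    have := q2_normal4 hN π.ker hx h
    obtain ⟨y, hy⟩ := r0 ⟨io0 (w2 F), rfl⟩
    rw [(MonoidHom.mem_ker).1 (this ▸ Subgroup.mem_top y)] at hy
    have := congrFun (congrFun (congrArg Subtype.val
      (h0.inj0 (hy.symm.trans (map_one _).symm))) 0) 0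
    simp [w2_val] at this
  obtain ⟨φ0, e0⟩ := exists_hom_of_range_le ψ0 π iπ r0
  obtain ⟨φ1, e1⟩ := exists_hom_of_range_le ψ1 π iπ r1
  have hco' : ∀ X, φ1 (io0 X) = φ0 (io1 X) := fun X => iπ (by rw [e0, e1, hco])
  obtain ⟨Θ, t0, t1⟩ := q2_glue_su4 hN (ψ0 := φ0) (ψ1 := φ1) (A := (φ0.comp io0).range)
    (B := (φ0.comp io1).range) (C := (φ1.comp io1).range)
    ⟨fun x hx => h0.ker x (by rw [← e0, hx, map_one]), rfl, rfl⟩
    ⟨fun x hx => h1.ker x (by rw [← e1, hx, map_one]), by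
      congr 1; exact MonoidHom.ext hco', rfl⟩ hco'
    (by
      rintro _ ⟨X, rfl⟩ _ ⟨Y, rfl⟩
      apply iπ
      simp only [MonoidHom.comp_apply, map_mul, e0, e1]
      exact hc _ (h0.mem0 _) _ (h1.mem1 _))
    (by
      intro g _
      have : π.range ≤ (φ0.range ⊔ φ1.range).map π := by
        rw [hr, Subgroup.map_sup]
        apply sup_le_sup
        · rintro _ ⟨X, rfl⟩; exact ⟨_, ⟨X, rfl⟩, e0 X⟩
        · rintro _ ⟨X, rfl⟩; exact ⟨_, ⟨X, rfl⟩, e1 X⟩
      obtain ⟨g', hg', e⟩ := this ⟨g, rfl⟩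
      exact iπ e ▸ hg')
  exact ⟨π.comp Θ, fun X => by rw [MonoidHom.comp_apply, t0, e0],
    fun X => by rw [MonoidHom.comp_apply, t1, e1]⟩

end Q2b

end CfsgH4
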