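import Cfsg.Agent.H4.PhanNorm

set_option autoImplicit false

open Matrix

namespace CfsgH4

section Four

variable {F G : Type*} [Field F] [StarRing F] [Group G]

/-- blocks of `SU₄` -/
abbrev i01 : SUg (Fin 2) F →* SUg (Fin 4) F := ext (sh 0 (by omega))
/-- blocks of `SU₄` -/
abbrev i12 : SUg (Fin 2) F →* SUg (Fin 4) F := ext (sh 1 (by omega))
/-- blocks of `SU₄` -/
abbrev i23 : SUg (Fin 2) F →* SUg (Fin 4) F := ext (sh 2 (by omega))

theorem exists_i01 {g : SUg (Fin 4) F} (h2 : g • ev F (2 : Fin 4) = ev F 2)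
    (h3 : g • ev F (3 : Fin 4) = ev F 3) : ∃ X, i01 X = g :=
  exists_sh 0 _ (t := {0, 1}) (by decide) (fun k hk => by
    fin_cases k <;> simp at hk <;> assumption)

theorem exists_i12 {g : SUg (Fin 4) F} (h2 : g • ev F (0 : Fin 4) = ev F 0)
    (h3 : g • ev F (3 : Fin 4) = ev F 3) : ∃ X, i12 X = g :=
  exists_sh 1 _ (t := {1, 2}) (by decide) (fun k hk => by
    fin_cases k <;> simp at hk <;> assumption)

theorem exists_i23 {g : SUg (Fin 4) F} (h2 : g • ev F (0 : Fin 4) = ev F 0)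
    (h3 : g • ev F (1 : Fin 4) = ev F 1) : ∃ X, i23 X = g :=
  exists_sh 2 _ (t := {2, 3}) (by decide) (fun k hk => by
    fin_cases k <;> simp at hk <;> assumption)

theorem i01_mem (X : SUg (Fin 2) F) : i01 X ∈ Blk F ({0, 1} : Set (Fin 4)) :=
  ext_mem_Blk' _ (by decide) X
theorem i12_mem (X : SUg (Fin 2) F) : i12 X ∈ Blk F ({1, 2} : Set (Fin 4)) :=
  ext_mem_Blk' _ (by decide) X
theorem i23_mem (X : SUg (Fin 2) F) : i23 X ∈ Blk F ({2, 3} : Set (Fin 4)) :=
  ext_mem_Blk' _ (by decide) X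

theorem i01_val (X : SUg (Fin 2) F) : (i01 X).1 =
    !![X.1 0 0, X.1 0 1, 0, 0; X.1 1 0, X.1 1 1, 0, 0; 0, 0, 1, 0; 0, 0, 0, 1] := by
  have h1 := fun i j => ext_apply (sh 0 (by omega : 0 + 2 ≤ 4)) X i j
  have h2 := fun i j => Blk_entry (i01_mem X) (i := i) (j := j)
  ext i j
  fin_cases i <;> fin_cases j <;>
    first
      | exact h1 0 0
      | exact h1 0 1
      | exact h1 1 0
      | exact h1 1 1
      | exact h2 _ _ (by simp)

theorem i12_val (X : SUg (Fin 2) F) : (i12 X).1 =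
    !![1, 0, 0, 0; 0, X.1 0 0, X.1 0 1, 0; 0, X.1 1 0, X.1 1 1, 0; 0, 0, 0, 1] := by
  have h1 := fun i j => ext_apply (sh 1 (by omega : 1 + 2 ≤ 4)) X i j
  have h2 := fun i j => Blk_entry (i12_mem X) (i := i) (j := j)
  ext i j
  fin_cases i <;> fin_cases j <;>
    first
      | exact h1 0 0
      | exact h1 0 1
      | exact h1 1 0
      | exact h1 1 1
      | exact h2 _ _ (by simp)

theorem i23_val (X : SUg (Fin 2) F) : (i23 X).1 =
    !![1, 0, 0, 0; 0, 1, 0, 0; 0, 0, X.1 0 0, X.1 0 1; 0, 0, X.1 1 0, X.1 1 1] := by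
  have h1 := fun i j => ext_apply (sh 2 (by omega : 2 + 2 ≤ 4)) X i j
  have h2 := fun i j => Blk_entry (i23_mem X) (i := i) (j := j)
  ext i j
  fin_cases i <;> fin_cases j <;>
    first
      | exact h1 0 0
      | exact h1 0 1
      | exact h1 1 0
      | exact h1 1 1
      | exact h2 _ _ (by simp)

theorem i01_i23_comm (X Y : SUg (Fin 2) F) : Commute (i01 X) (i23 Y) :=
  Blk_comm (by simp) (i01_mem X) (i23_mem Y)

theorem range_eq_of_le {H : Type*} [Group H] [Finite H] {f g : H →* G} (hg : Function.Injective g)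
    (h : g.range ≤ f.range) : f.range = g.range := by
  haveI : Finite f.range := Finite.of_surjective _ f.rangeRestrict_surjective
  symm
  apply Subgroup.eq_of_le_of_card_ge h
  rw [← Nat.card_congr (MonoidHom.ofInjective hg).toEquiv]
  exact Nat.card_le_card_of_surjective _ f.rangeRestrict_surjective

theorem stdPair_of_four [HermField F] {π : SUg (Fin 4) F →* G}
    (hker : ∀ x, π x = 1 → x ∈ Subgroup.center (SUg (Fin 4) F)) {A B C : Subgroup G}
    (hA : (π.comp i01).range = A) (hB : (π.comp i12).range = B) (hC : (π.comp i23).range = C) :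
    StdPair (π.comp jo0) A B ∧ StdPair (π.comp jo1) B C := by
  refine ⟨⟨fun x hx => ?_, ?_, ?_⟩, ⟨fun x hx => ?_, ?_, ?_⟩⟩
  · have := center_fix (hker _ hx) (k := 3) (l := 0) (by decide) (ext_sh_fix _ _ _ _ (by simp))
    rw [ext_injective _ (this.trans (map_one _).symm)]; exact Subgroup.one_mem _
  · rw [← hA]; congr 1; ext X; simp [ext_sh_sh]
  · rw [← hB]; congr 1; ext X; simp [ext_sh_sh]
  · have := center_fix (hker _ hx) (k := 0) (l := 3) (by decide) (ext_sh_fix _ _ _ _ (by simp))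
    rw [ext_injective _ (this.trans (map_one _).symm)]; exact Subgroup.one_mem _
  · rw [← hB]; congr 1; ext X; simp [ext_sh_sh]
  · rw [← hC]; congr 1; ext X; simp [ext_sh_sh]

theorem ker_conj {ι : Type*} [Fintype ι] [DecidableEq ι] {π : SUg ι F →* G}
    (hker : ∀ x, π x = 1 → x ∈ Subgroup.center (SUg ι F)) (s : SUg ι F) (x : SUg ι F)
    (hx : π.comp (MulAut.conj s).toMonoidHom x = 1) : x ∈ Subgroup.center (SUg ι F) := by
  have h := hker _ hx
  have h2 := Subgroup.mem_center_iff.1 h s⁻¹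
  simp only [MulEquiv.coe_toMonoidHom, MulAut.conj_apply] at h h2
  have : x = s * x * s⁻¹ := by
    calc x = s⁻¹ * (s * x * s⁻¹) * s := by group
      _ = _ := by rw [h2]; group
  rwa [this]

theorem su2_ext {X Y : SUg (Fin 2) F} (h0 : X.1 0 0 = Y.1 0 0) (h1 : X.1 0 1 = Y.1 0 1) :
    X = Y := by
  obtain ⟨x1, x2, -⟩ := su2_entries X
  obtain ⟨y1, y2, -⟩ := su2_entries Y
  apply Subtype.ext
  ext i j; fin_cases i <;> fin_cases j <;> simp [h0, h1, x1, x2, y1, y2]

/-- minus one in `SU₂` -/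
def m2 (F : Type*) [Field F] [StarRing F] : SUg (Fin 2) F := dg2 (-1) (by simp)

theorem m2_val : (m2 F).1 = -1 := by
  ext i j; fin_cases i <;> fin_cases j <;> simp [m2, dg2_val]

theorem m2_sq : m2 F * m2 F = 1 := Subtype.ext (by simp [m2_val])

theorem m2_ne (h2 : (2 : F) ≠ 0) : m2 F ≠ 1 := by
  intro h
  have := congrArg (fun X : SUg (Fin 2) F => X.1 0 0) h
  simp [m2_val] at this
  apply h2; linear_combination -this

theorem su2_invol (h2 : (2 : F) ≠ 0) {M : SUg (Fin 2) F} (hM : M * M = 1) : M = 1 ∨ M = m2 F := by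
  obtain ⟨e1, e2, e3⟩ := su2_entries M
  have h00 := congrArg (fun X : SUg (Fin 2) F => X.1 0 0) hM
  have h01 := congrArg (fun X : SUg (Fin 2) F => X.1 0 1) hM
  simp [Matrix.mul_apply, Fin.sum_univ_two, e1, e2] at h00 h01
  have hb : M.1 0 1 = 0 := by
    by_contra hb
    have : M.1 0 0 + star (M.1 0 0) = 0 := by
      apply mul_left_cancel₀ hb; linear_combination h01
    apply h2
    linear_combination -h00 - e3 + M.1 0 0 * this
  rw [hb] at h00
  have : (M.1 0 0 - 1) * (M.1 0 0 + 1) = 0 := by linear_combination h00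
  rcases mul_eq_zero.1 this with h | h
  · left
    have h' : M.1 0 0 = 1 := by linear_combination h
    apply Subtype.ext
    ext i j; fin_cases i <;> fin_cases j <;> simp [e1, e2, hb, h']
  · right
    have h' : M.1 0 0 = -1 := by linear_combination h
    apply Subtype.ext
    ext i j; fin_cases i <;> fin_cases j <;> simp [e1, e2, hb, h', m2_val]

theorem R_smul (v : Fin 4 → F) : i01 (m2 F) • v = ![-v 0, -v 1, v 2, v 3] := by
  ext i
  rw [SUg.smul_def, i01_val, m2_val]
  fin_cases i <;> simp [mulVec, dotProduct, Fin.sum_univ_four]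

theorem R_fix (h2 : (2 : F) ≠ 0) {v : Fin 4 → F} (h : i01 (m2 F) • v = v) : v 0 = 0 ∧ v 1 = 0 := by
  rw [R_smul] at h
  have h0 := congrFun h 0
  have h1 := congrFun h 1
  simp at h0 h1
  exact ⟨mul_left_cancel₀ h2 (by linear_combination -h0),
    mul_left_cancel₀ h2 (by linear_combination -h1)⟩

theorem R_neg (h2 : (2 : F) ≠ 0) {v : Fin 4 → F} (h : i01 (m2 F) • v = -v) :
    v 2 = 0 ∧ v 3 = 0 := by
  rw [R_smul] at h
  have h0 := congrFun h 2
  have h1 := congrFun h 3
  simp at h0 h1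
  exact ⟨mul_left_cancel₀ h2 (by linear_combination h0),
    mul_left_cancel₀ h2 (by linear_combination h1)⟩

theorem scalar_of_comm {X Y Z : Matrix (Fin 2) (Fin 2) F} (hX : Z * X = X * Z)
    (hY : Z * Y = Y * Z) (hXY : X * Y ≠ Y * X) : Z 0 1 = 0 ∧ Z 1 0 = 0 ∧ Z 0 0 = Z 1 1 := by
  have x00 := congrFun (congrFun hX 0) 0
  have x01 := congrFun (congrFun hX 0) 1
  have x10 := congrFun (congrFun hX 1) 0
  have y00 := congrFun (congrFun hY 0) 0
  have y01 := congrFun (congrFun hY 0) 1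
  have y10 := congrFun (congrFun hY 1) 0
  simp only [Matrix.mul_apply, Fin.sum_univ_two] at x00 x01 x10 y00 y01 y10
  by_contra hcon
  apply hXY
  ext i j
  fin_cases i <;> fin_cases j <;> simp only [Matrix.mul_apply, Fin.sum_univ_two] <;>
    simp <;> grind

variable {ι κ : Type*} [Fintype ι] [DecidableEq ι] [Fintype κ] [DecidableEq κ]

theorem exists_restrict (f : κ ↪ ι) (g : SUg ι F)
    (hg : ∀ v : κ → F, ∀ i, i ∉ Set.range f → (g • (Pm F f *ᵥ v)) i = 0) (p : ℕ) [Fact p.Prime]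
    [CharP F p] (hp : g ^ p = 1) :
    ∃ X : SUg κ F, ∀ k, ext f X • ev F (f k) = g • ev F (f k) := by
  obtain ⟨M, hM⟩ : ∃ M : Matrix κ κ F, ∀ v, Pm F f *ᵥ (M *ᵥ v) = g • (Pm F f *ᵥ v) :=
    ⟨(Pm F f)ᵀ * g.1 * Pm F f, fun v => by
      rw [← mulVec_mulVec, ← mulVec_mulVec, ← SUg.smul_def, Pm_Pmt f (hg v)]⟩
  have h1 : ∀ n : ℕ, ∀ v, Pm F f *ᵥ (M ^ n *ᵥ v) = g ^ n • (Pm F f *ᵥ v) := by
    intro n
    induction n with
    | zero => simp
    | succ n ih => intro v; rw [pow_succ, pow_succ, ← mulVec_mulVec, ih, hM, mul_smul]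
  have h2 : M ^ p = 1 := by
    ext k l
    have := congrFun (h1 p (ev F l)) (f k)
    rw [hp, one_smul, Pm_mulVec_apply, Pm_mulVec_apply, mulVec_ev, ev_apply] at this
    rw [this, one_apply]
  have h3 : M.det = 1 := by
    have := congrArg det h2
    rw [det_pow, det_one] at this
    have h5 : (M.det - 1) ^ p = 0 := by rw [sub_pow_char, this, one_pow, sub_self]
    exact sub_eq_zero.1 (pow_eq_zero_iff (Fact.out : p.Prime).ne_zero |>.1 h5)
  refine ⟨⟨M, mem_unitary_of_hf fun u v => ?_, h3⟩, fun k => ?_⟩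
  · rw [← hf_Pm f, hM, hM, hf_SU, hf_Pm]
  · rw [ext_ev, ← Pm_mulVec_ev]; exact hM _

variable [HermField F]

theorem invol_eig (h2 : (2 : F) ≠ 0) {z : SUg ι F} (hz : z * z = 1) {t : Set ι}
    (ht : ∀ v : ι → F, (∀ i, i ∉ t → v i = 0) → ∀ i, i ∉ t → (z • v) i = 0) {ε : F}
    (hε : ε = 1 ∨ ε = -1) {v : ι → F} (hv : ∀ i, i ∉ t → v i = 0) (hv' : z • v ≠ -ε • v) :
    ∃ x : ι → F, hf x x = 1 ∧ (∀ i, i ∉ t → x i = 0) ∧ z • x = ε • x := by
  have e1 : ε * ε = 1 := by rcases hε with rfl | rfl <;> simp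
  have e2 : star ε = ε := by rcases hε with rfl | rfl <;> simp
  have e3 : ε ≠ 0 := left_ne_zero_of_mul_eq_one e1
  have fx : ∀ u : ι → F, z • (z • u + ε • u) = ε • (z • u + ε • u) := fun u => by
    rw [SUg.smul_add', ← mul_smul, hz, one_smul, SUg.smul_smul_comm, smul_add, smul_smul, e1,
      one_smul, add_comm]
  have sp : ∀ u : ι → F, (∀ i, i ∉ t → u i = 0) → ∀ i, i ∉ t → (z • u + ε • u) i = 0 :=
    fun u hu i hi => by rw [Pi.add_apply, ht u hu i hi]; simp [hu i hi]
  obtain ⟨k, hk⟩ : ∃ k, (z • v + ε • v) k ≠ 0 := by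
    by_contra! h
    apply hv'
    ext i
    have := h i
    simp only [Pi.add_apply, Pi.smul_apply, smul_eq_mul] at this
    rw [Pi.smul_apply (-ε), smul_eq_mul]
    linear_combination this
  have hkt : k ∈ t := by by_contra h; exact hk (sp v hv k h)
  have hk' : ∀ i, i ∉ t → ev F k i = 0 := fun i hi => ev_ne (by rintro rfl; exact hi hkt)
  obtain ⟨α, β, hx⟩ := exists_unit_comb (p := z • v + ε • v) (r := z • ev F k + ε • ev F k) (by
    have : hf (z • v + ε • v) (z • ev F k) = ε * (z • v + ε • v) k := by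
      rw [← hf_ev_right (z • v + ε • v), ← hf_SU z (z • v + ε • v), fx, hf_smul_left,
        ← mul_smul, hz, one_smul]
    rw [hf_add_right, this, hf_smul_right, e2, hf_ev_right, ← two_mul]
    exact mul_ne_zero h2 (mul_ne_zero e3 hk))
  refine ⟨_, hx, fun i hi => ?_, ?_⟩
  · rw [Pi.add_apply, Pi.smul_apply α, Pi.smul_apply β, sp v hv i hi, sp _ hk' i hi]; simp
  · rw [SUg.smul_add', SUg.smul_smul_comm, SUg.smul_smul_comm, fx, fx, smul_comm α ε,
      smul_comm β ε, ← smul_add]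

theorem invol_conj (h2 : (2 : F) ≠ 0) {z : SUg (Fin 4) F} (hz : z * z = 1) (h1 : z ≠ 1)
    (hm : z.1 ≠ -1) : ∃ s : SUg (Fin 4) F, z = s * i01 (m2 F) * s⁻¹ := by
  obtain ⟨k, hk⟩ : ∃ k : Fin 4, z • ev F k ≠ ev F k := by
    by_contra! h; exact h1 (SUg.ext_ev fun k => by rw [h, one_smul])
  obtain ⟨x0, hx0, -, hx0'⟩ := invol_eig h2 hz (t := Set.univ) (by simp) (ε := -1) (Or.inr rfl)
    (v := ev F k) (by simp) (by simpa using hk)
  obtain ⟨s0, rfl⟩ := trans1 (k := (0 : Fin 4)) (l := 1) (by decide) hx0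
  obtain ⟨z0, rfl⟩ : ∃ z0, z = s0 * z0 * s0⁻¹ := ⟨s0⁻¹ * z * s0, by group⟩
  have hz0 : z0 * z0 = 1 := by
    have : s0 * (z0 * z0) * s0⁻¹ = 1 := by rw [← hz]; group
    simpa using this
  rw [mul_smul, mul_smul, inv_smul_smul, ← SUg.smul_smul_comm, smul_left_cancel_iff] at hx0'
  obtain ⟨k, hk0, hk⟩ : ∃ k : Fin 4, k ≠ 0 ∧ z0 • ev F k ≠ ev F k := by
    by_contra! h
    have : z0.1 = diagonal (Pi.mulSingle 0 (-1)) := by
      ext i j
      rw [← SUg.smul_ev, ← mulVec_ev (diagonal _), diagonal_mulVec_ev]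
      by_cases hj : j = 0
      · subst hj; rw [hx0']; simp
      · rw [h j hj]; simp [hj]
    have h3 := z0.det
    rw [this, det_diag_mulSingle] at h3
    apply h2; linear_combination -h3
  obtain ⟨x1, hx1, hx1s, hx1'⟩ := invol_eig h2 hz0 (t := {0}ᶜ) (by
    intro v hv i hi
    simp only [Set.mem_compl_iff, Set.mem_singleton_iff, not_not] at hi hv
    subst hi
    rw [← hf_ev_right (z0 • v), hf_SU', inv_eq_of_mul_eq_one_right hz0, hx0']
    simp [hv 0 rfl]) (ε := -1) (Or.inr rfl) (v := ev F k) (by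
      intro i hi
      simp only [Set.mem_compl_iff, Set.mem_singleton_iff, not_not] at hi
      subst hi; exact ev_ne hk0.symm) (by simpa using hk)
  obtain ⟨s1, hs1, rfl⟩ := exists_block ({0}ᶜ : Set (Fin 4)) (k := 1) (l := 2) (by simp) (by simp)
    (by decide) hx1 hx1s
  have hs10 := mem_Blk_compl_single.1 hs1
  obtain ⟨M, hM⟩ := exists_i23 (g := (i01 (m2 F))⁻¹ * (s1⁻¹ * z0 * s1)) (by
    rw [mul_smul, mul_smul, mul_smul, hs10, hx0', SUg.smul_smul_comm, inv_smul_eq_iff.2 hs10.symm,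
      inv_smul_eq_iff, R_smul]
    ext i; fin_cases i <;> simp [ev_apply]) (by
    rw [mul_smul, mul_smul, mul_smul, hx1', SUg.smul_smul_comm, inv_smul_smul,
      inv_smul_eq_iff, R_smul]
    ext i; fin_cases i <;> simp [ev_apply])
  have e : z0 = s1 * (i01 (m2 F) * i23 M) * s1⁻¹ := by rw [hM]; group
  have hMM : M * M = 1 := by
    have h3 : (i01 (m2 F) * i23 M) * (i01 (m2 F) * i23 M) = 1 := by
      have : s1 * ((i01 (m2 F) * i23 M) * (i01 (m2 F) * i23 M)) * s1⁻¹ = 1 := by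
        rw [← hz0, e]; group
      simpa using this
    rw [(i01_i23_comm _ _).symm.mul_mul_mul_comm, ← map_mul, ← map_mul, m2_sq, map_one,
      one_mul] at h3
    exact ext_injective _ (h3.trans (map_one _).symm)
  rcases su2_invol h2 hMM with rfl | rfl
  · exact ⟨s0 * s1, by rw [e, map_one]; group⟩
  · exfalso
    apply hm
    have h3 : (i01 (m2 F) * i23 (m2 F)).1 = -1 := by
      ext i j
      rw [Submonoid.coe_mul, i01_val, i23_val, m2_val]
      fin_cases i <;> fin_cases j <;> simp [Matrix.mul_apply, Fin.sum_univ_four]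
    rw [e]
    simp only [Submonoid.coe_mul] at h3 ⊢
    rw [h3]
    simp [← Submonoid.coe_mul, mul_assoc]

end Four

section Q3

variable {F G : Type*} [Field F] [StarRing F] [Group G] [HermFin F] [CharP F 3]

omit [StarRing F] [HermFin F] in
theorem two_ne_zero_of_three : (2 : F) ≠ 0 := by
  intro h
  have h3 : (3 : F) = 0 := by exact_mod_cast CharP.cast_eq_zero F 3
  exact one_ne_zero (α := F) (by linear_combination h3 - h)

theorem q3_normal3 (hK : ∀ a : F, star a = a → a = 0 ∨ a = 1 ∨ a = -1) (hB : Big2 F)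
    (N : Subgroup (SUg (Fin 3) F)) [hN : N.Normal] {X : SUg (Fin 2) F} (hX : io0 X ∈ N)
    (hX' : X.1 0 1 ≠ 0 ∨ X.1 0 0 ≠ star (X.1 0 0)) : N = ⊤ := by
  have h3 : (3 : F) = 0 := by exact_mod_cast CharP.cast_eq_zero F 3
  have hnorm : ∀ a b : F, a ≠ 0 → b ≠ 0 → a * star a + b * star b = 1 → a * star a = -1 := by
    intro a b ha hb hab
    rcases hK (a * star a) (by simp [mul_comm]) with h | h | h
    · simp [ha] at h
    · rw [h] at hab; simp [hb] at hab
    · exact h
  have htr : ∀ a : F, a * star a = 1 → a ≠ star a → a + star a = 0 := by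
    intro a ha hne
    rcases hK (a + star a) (by simp [add_comm]) with h | h | h
    · exact h
    · have : (a + 1) ^ 2 = 0 := by linear_combination a * h - ha + a * h3
      have : a = -1 := by
        have := pow_eq_zero_iff two_ne_zero |>.1 this; linear_combination this
      subst this; simp at hne
    · have : (a - 1) ^ 2 = 0 := by linear_combination a * h - ha - a * h3
      have : a = 1 := by
        have := pow_eq_zero_iff two_ne_zero |>.1 this; linear_combination this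
      subst this; simp at hne
  have ha : ∀ (l : F) (hl : l * star l = 1) (X : SUg (Fin 2) F), io0 X ∈ N →
      io0 ((SLD.dg ![1, l] (norm2 (by simp) hl)).hom X) ∈ N := by
    intro l hl X hX
    rw [← conj_io0 l hl]; exact hN.conj_mem _ hX _
  have hb : ∀ X : SUg (Fin 2) F, io0 X ∈ N → io1 X ∈ N := by
    intro X hX
    obtain ⟨s, hs0, hs1⟩ := trans2 (k := (0 : Fin 3)) (l := 1) (m := 2) (by decide) (by decide)
      (by decide) (x := ev F 1) (y := ev F 2) (by simp) (by simp) (by simp [ev_apply])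
    rw [← conj_ext (sh 0 (by omega)) (sh 1 (by omega)) (s := s) (by
      intro k; fin_cases k; exacts [hs0, hs1])]
    exact hN.conj_mem _ hX _
  obtain ⟨ζ, hζ⟩ := HermField.norm_surj (-1 : F) (by simp)
  have hζ0 : ζ ≠ 0 := by rintro rfl; simp at hζ
  let Y0 : SUg (Fin 2) F := su2 ζ ζ (by linear_combination 2 * hζ - h3)
  obtain ⟨W, hW, hW0⟩ : ∃ W : SUg (Fin 2) F, io0 W ∈ N ∧ W.1 0 0 = 0 := by
    obtain ⟨e1, e2, e3⟩ := su2_entries X
    by_cases h0 : X.1 0 0 = 0
    · exact ⟨X, hX, h0⟩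
    by_cases h1 : X.1 0 1 = 0
    · refine ⟨Y0 * X * Y0⁻¹, by rw [map_mul, map_mul, map_inv]; exact hN.conj_mem _ hX _, ?_⟩
      have := htr _ (by simpa [h1] using e3) (hX'.resolve_left (by simpa using h1))
      simp [Y0, su2_val, SUg.coe_inv, Matrix.mul_apply, Fin.sum_univ_two, h1, e1, e2, vecMul,
        dotProduct]
      linear_combination ζ * star ζ * this
    · refine ⟨(SLD.dg ![1, -1] (norm2 (by simp) (by simp))).hom X * X⁻¹, by
        rw [map_mul, map_inv]; exact N.mul_mem (ha _ (by simp) X hX) (N.inv_mem hX), ?_⟩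
      have f1 := hnorm _ _ h0 h1 e3
      have f2 := hnorm _ _ h1 h0 (by linear_combination e3)
      simp [SUg.coe_inv, Matrix.mul_apply, Fin.sum_univ_two, SLD.hom_apply, SLD.dg]
      linear_combination f1 - f2
  obtain ⟨w1, w2, w3⟩ := su2_entries W
  rw [hW0] at w2 w3
  simp only [star_zero, mul_zero, zero_add] at w2 w3
  have hd : ∀ (l : F) (hl : l * star l = 1), io0 (dg2 l hl) ∈ N := by
    intro l hl
    have hl' : star l * star (star l) = 1 := by simpa [mul_comm] using hl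
    have : dg2 l hl = (SLD.dg ![1, star l] (norm2 (by simp) hl')).hom W * W⁻¹ := by
      apply Subtype.ext
      rw [dg2_val]
      ext i j
      fin_cases i <;> fin_cases j <;>
        simp [SUg.coe_inv, Matrix.mul_apply, Fin.sum_univ_two, SLD.hom_apply, SLD.dg, hW0, w1, w2]
      · linear_combination -l * w3
      · linear_combination -star l * w3
    rw [this, map_mul, map_inv]
    exact N.mul_mem (ha _ hl' W hW) (N.inv_mem hW)
  obtain ⟨l, hl, hl2⟩ := exists_lam (F := F)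
  have hl3 := htr l hl hl2
  obtain ⟨Z, hZ, hZ0, hZ1⟩ : ∃ Z : SUg (Fin 2) F, io0 Z ∈ N ∧ Z.1 0 0 ≠ 0 ∧ Z.1 0 1 ≠ 0 := by
    refine ⟨(SLD.dg ![1, l] (norm2 (by simp) hl)).hom Y0 * Y0⁻¹, ?_, ?_, ?_⟩
    · rw [map_mul, map_inv, ← conj_io0 l hl, mul_assoc, mul_assoc]
      refine N.mul_mem (hb _ (hd l hl)) ?_
      rw [← mul_assoc]
      exact hN.conj_mem _ (N.inv_mem (hb _ (hd l hl))) _
    · simp [Y0, su2_val, SUg.coe_inv, Matrix.mul_apply, Fin.sum_univ_two, SLD.hom_apply, SLD.dg]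
      intro h
      have : star l = -1 := by linear_combination -h + (1 + star l) * hζ
      apply hl2
      rw [this]; rw [← star_star l, this]; simp
    · simp [Y0, su2_val, SUg.coe_inv, Matrix.mul_apply, Fin.sum_univ_two, SLD.hom_apply, SLD.dg]
      intro h
      have : (star l - 1) * (ζ * ζ) = 0 := by linear_combination h
      have h4 : star l = 1 := by simpa [hζ0, sub_eq_zero] using this
      apply hl2
      rw [h4] at hl ⊢; simpa using hl
  have hall : ∀ Y : SUg (Fin 2) F, io0 Y ∈ N := by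
    intro Y
    obtain ⟨y1, y2, y3⟩ := su2_entries Y
    by_cases h1 : Y.1 0 1 = 0
    · obtain ⟨h, e⟩ := eq_dg2 h1
      rw [e]; exact hd _ _
    by_cases h0 : Y.1 0 0 = 0
    · rw [h0] at y2 y3
      simp only [star_zero, mul_zero, zero_add] at y2 y3
      have hμ : (Y.1 0 1 * star (W.1 0 1)) * star (Y.1 0 1 * star (W.1 0 1)) = 1 := by
        rw [star_mul', star_star]; linear_combination (W.1 0 1 * star (W.1 0 1)) * y3 + w3
      have : Y = dg2 _ hμ * W := by
        apply Subtype.ext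
        ext i j
        fin_cases i <;> fin_cases j <;>
          simp [dg2_val, Matrix.mul_apply, Fin.sum_univ_two, hW0, w1, w2, h0, y1, y2]
        · linear_combination -Y.1 0 1 * w3
        · linear_combination -star (Y.1 0 1) * w3
      rw [this, map_mul]; exact N.mul_mem (hd _ _) hW
    obtain ⟨z1, z2, z3⟩ := su2_entries Z
    have f1 := hnorm _ _ h0 h1 y3
    have f2 := hnorm _ _ h1 h0 (by linear_combination y3)
    have g1 := hnorm _ _ hZ0 hZ1 z3
    have g2 := hnorm _ _ hZ1 hZ0 (by linear_combination z3)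
    obtain ⟨μ, hμd⟩ : ∃ μ, μ = -(Y.1 0 0 * star (Z.1 0 0)) := ⟨_, rfl⟩
    obtain ⟨ν, hνd⟩ : ∃ ν, ν = -(Y.1 0 1 * star (Z.1 0 1)) := ⟨_, rfl⟩
    have hμ : μ * star μ = 1 := by
      rw [hμd, star_neg, star_mul', star_star]
      linear_combination (Z.1 0 0 * star (Z.1 0 0)) * f1 - g1
    have hν : ν * star ν = 1 := by
      rw [hνd, star_neg, star_mul', star_star]
      linear_combination (Z.1 0 1 * star (Z.1 0 1)) * f2 - g2
    have hμν : (μ * star ν) * star (μ * star ν) = 1 := by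
      rw [star_mul', star_star]; linear_combination (ν * star ν) * hμ + hν
    have a0 : Y.1 0 0 = μ * Z.1 0 0 := by rw [hμd]; linear_combination Y.1 0 0 * g1
    have a1 : Y.1 0 1 = ν * Z.1 0 1 := by rw [hνd]; linear_combination Y.1 0 1 * g2
    have : Y = (SLD.dg ![1, μ * star ν] (norm2 (by simp) hμν)).hom (dg2 μ hμ * Z) := by
      apply su2_ext
      · rw [SLD.hom_apply]; simp [dg2_val, SLD.dg, a0]
      · rw [SLD.hom_apply]; simp [dg2_val, SLD.dg, a1]
        linear_combination -(ν * Z.1 0 1) * hμ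
    rw [this]
    exact ha _ hμν _ (by rw [map_mul]; exact N.mul_mem (hd _ _) hZ)
  refine gen2 hB 1 N fun b hb' A => ?_
  obtain rfl | rfl : b = 0 ∨ b = 1 := by omega
  · exact hall A
  · exact hb A (hall A)

theorem q3_normal4 (hK : ∀ a : F, star a = a → a = 0 ∨ a = 1 ∨ a = -1) (hB : Big2 F)
    (N : Subgroup (SUg (Fin 4) F)) [hN : N.Normal] {g : SUg (Fin 4) F} (hg : g ∈ N)
    (hg' : g ∉ Subgroup.center (SUg (Fin 4) F)) : N = ⊤ := by
  obtain ⟨X, hX, hX'⟩ := exists_block_nonscalar N hg hg' (sh 0 (by omega)) (m := 2) (by decide)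
    (by decide)
  have h3 := q3_normal3 hK hB (N.comap jo0) (X := X) (by rwa [Subgroup.mem_comap, ext_sh_sh]) hX'
  have h0 : ∀ X, jo0 X ∈ N := fun X => (Subgroup.mem_comap).1 (h3 ▸ Subgroup.mem_top X)
  refine gen2 hB 2 N fun b hb A => ?_
  obtain rfl | rfl | rfl : b = 0 ∨ b = 1 ∨ b = 2 := by omega
  · have := h0 (io0 A); rwa [ext_sh_sh] at this
  · have := h0 (io1 A); rwa [ext_sh_sh] at this
  · obtain ⟨s, hs0, hs1⟩ := trans2 (k := (0 : Fin 4)) (l := 1) (m := 2) (by decide) (by decide)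
      (by decide) (x := ev F 2) (y := ev F 3) (by simp) (by simp) (by simp [ev_apply])
    rw [← conj_ext (sh 0 (by omega)) (sh 2 (by omega)) (s := s) (by
      intro k; fin_cases k; exacts [hs0, hs1])]
    have := h0 (io0 A); rw [ext_sh_sh] at this
    exact hN.conj_mem _ this _

end Q3

end CfsgH4
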