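import Cfsg.Agent.H4.PhanQ3

set_option autoImplicit false

open Matrix

namespace CfsgH4

theorem braid_comm {H : Type*} [Group H] {x y : H} (h : x * y * x = y * x * y) :
    Commute x ((x * y * x) * (x * y * x)) ∧ Commute y ((x * y * x) * (x * y * x)) := by
  have h1 : (x * y * x) * x = y * (x * y * x) := by
    conv_lhs => rw [h]
    group
  have h2 : (x * y * x) * y = x * (x * y * x) := by
    conv_rhs => rw [h]
    group
  constructor
  · show _ = _
    rw [← mul_assoc x, ← h2, mul_assoc (x * y * x) y, ← h1, ← mul_assoc]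
  · show _ = _
    rw [← mul_assoc y, ← h1, mul_assoc (x * y * x) x, ← h2, ← mul_assoc]

theorem braid_four {H : Type*} [Group H] {x y : H} (hx : x ^ 3 = 1) (hy : y ^ 3 = 1)
    (h : x * y * x = y * x * y) :
    ((x * y * x) * (x * y * x)) * ((x * y * x) * (x * y * x)) = 1 := by
  have hx' : x * x = x⁻¹ := by
    rw [eq_inv_iff_mul_eq_one, ← hx, pow_three']
  have hy' : y * y = y⁻¹ := by
    rw [eq_inv_iff_mul_eq_one, ← hy, pow_three']
  have e1 : x * y * x⁻¹ = y⁻¹ * x * y := by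
    calc x * y * x⁻¹ = y⁻¹ * (y * x * y) * x⁻¹ := by group
      _ = _ := by rw [← h]; group
  have e2 : y * x * y⁻¹ = x⁻¹ * y * x := by
    calc y * x * y⁻¹ = x⁻¹ * (x * y * x) * y⁻¹ := by group
      _ = _ := by rw [h]; group
  have f1 : (x * y * x) * (x * y * x) = y⁻¹ * x * y⁻¹ * x := by
    calc (x * y * x) * (x * y * x) = (x * y * (x * x)) * y * x := by group
      _ = y⁻¹ * x * (y * y) * x := by rw [hx', e1]; group
      _ = _ := by rw [hy']
  have f2 : (x * y * x) * (x * y * x) = x⁻¹ * y * x⁻¹ * y := by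
    rw [h]
    calc (y * x * y) * (y * x * y) = (y * x * (y * y)) * x * y := by group
      _ = x⁻¹ * y * (x * x) * y := by rw [hy', e2]; group
      _ = _ := by rw [hx']
  nth_rewrite 1 [f1]
  rw [f2]
  group

theorem braid_eq_one {H : Type*} [Group H] {x y : H} (hx : x ^ 3 = 1)
    (h : x * y * x = y * x * y) (hc : x * y = y * x) : (x * y * x) * (x * y * x) = 1 := by
  have : x = y := by
    rw [hc, mul_assoc, mul_assoc] at h
    exact mul_left_cancel (mul_left_cancel h)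
  subst this
  rw [← pow_three', hx, one_mul]

section Q3

variable {F G : Type*} [Field F] [StarRing F] [Group G] [HermFin F] [CharP F 3]

theorem su2_braid (hK : ∀ a : F, star a = a → a = 0 ∨ a = 1 ∨ a = -1) :
    ∃ x y : SUg (Fin 2) F, x ^ 3 = 1 ∧ y ^ 3 = 1 ∧ x * y * x = y * x * y ∧
      (x * y * x) * (x * y * x) = m2 F ∧
      ∀ L : Subgroup (SUg (Fin 2) F), x ∈ L → y ∈ L → L = ⊤ := by
  obtain ⟨P, Q, hPQ, -, e, he⟩ := exists_sl2_model (F := F)
  have h3 : ((3 : ℕ) : fixK F) = 0 := CharP.cast_eq_zero _ 3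
  refine ⟨e (uu 1), e (ll (-1)), ?_, ?_, ?_, ?_, ?_⟩
  · rw [← map_pow, uu_pow, h3, zero_mul, uu_zero, map_one]
  · rw [← map_pow, ll_pow, h3, zero_mul, ll_zero, map_one]
  · simp only [← map_mul]
    congr 1
    apply sl_ext
    simp only [Matrix.SpecialLinearGroup.coe_mul, uu_val, ll_val]
    ext i j; fin_cases i <;> fin_cases j <;> simp
  · simp only [← map_mul]
    apply Subtype.ext
    rw [he, m2_val]
    have : (uu (1 : fixK F) * ll (-1) * uu 1 * (uu 1 * ll (-1) * uu 1)).1 = -1 := by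
      simp only [Matrix.SpecialLinearGroup.coe_mul, uu_val, ll_val]
      ext i j; fin_cases i <;> fin_cases j <;> simp
    rw [this, Matrix.map_neg _ (fun a => map_neg _ a)]
    simp [hPQ]
  · intro L hx hy
    rw [eq_top_iff]
    intro g _
    obtain ⟨g, rfl⟩ := e.surjective g
    have hK' : ∀ t : fixK F, t = 0 ∨ t = 1 ∨ t = -1 := fun t => by
      rcases hK t t.2 with h | h | h
      exacts [Or.inl (Subtype.ext h), Or.inr (Or.inl (Subtype.ext h)),
        Or.inr (Or.inr (Subtype.ext h))]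
    induction g using sl2_induction with
    | hu t =>
      rcases hK' t with rfl | rfl | rfl
      · rw [uu_zero, map_one]; exact L.one_mem
      · exact hx
      · have : uu (-1 : fixK F) = (uu 1)⁻¹ := by
          rw [eq_inv_iff_mul_eq_one, ← uu_add]; simp [uu_zero]
        rw [this, map_inv]; exact L.inv_mem hx
    | hl t =>
      rcases hK' t with rfl | rfl | rfl
      · rw [ll_zero, map_one]; exact L.one_mem
      · have : ll (1 : fixK F) = (ll (-1))⁻¹ := by
          rw [eq_inv_iff_mul_eq_one, ← ll_add]; simp [ll_zero]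
        rw [this, map_inv]; exact L.inv_mem hy
      · exact hy
    | hmul x y hx hy => rw [map_mul]; exact L.mul_mem (hx trivial) (hy trivial)

omit [CharP F 3] in
theorem center_pow_four {z : SUg (Fin 4) F} (hz : z ∈ Subgroup.center (SUg (Fin 4) F)) :
    z ^ 4 = 1 := by
  have h := center_scalar hz (k := 0) (l := 1) (m := 2) (by decide) (by decide) (by decide)
  generalize z.1 0 0 = ζ at h
  have h1 := z.det
  rw [h] at h1
  simp at h1
  apply Subtype.ext
  rw [SubmonoidClass.coe_pow, h, smul_pow, h1]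
  simp

omit [CharP F 3] in
theorem eq_of_order3 {π : SUg (Fin 4) F →* G}
    (hker : ∀ x, π x = 1 → x ∈ Subgroup.center (SUg (Fin 4) F)) {x y : SUg (Fin 4) F}
    (h : π x = π y) (hx : x ^ 3 = 1) (hy : y ^ 3 = 1) : x = y := by
  have h1 := hker (x * y⁻¹) (by rw [map_mul, map_inv, h, mul_inv_cancel])
  have h2 := center_pow_four h1
  have h3 : Commute (x * y⁻¹) y := (Subgroup.mem_center_iff.1 h1 y).symm
  have h4 := h3.mul_pow 3
  rw [inv_mul_cancel_right, hx, hy, mul_one] at h4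
  rw [pow_succ, ← h4, one_mul] at h2
  exact mul_inv_eq_one.1 h2

omit [CharP F 3] in
theorem lift3 {π : SUg (Fin 4) F →* G}
    (hker : ∀ x, π x = 1 → x ∈ Subgroup.center (SUg (Fin 4) F)) {g : G} (hg : g ∈ π.range)
    (h3 : g ^ 3 = 1) : ∃ x, π x = g ∧ x ^ 3 = 1 := by
  obtain ⟨x, rfl⟩ := hg
  refine ⟨x ^ 4, by rw [map_pow, pow_succ, h3, one_mul], ?_⟩
  rw [← pow_mul, mul_comm, pow_mul]
  exact center_pow_four (hker _ (by rw [map_pow, h3]))

omit [CharP F 3] in
theorem lift_braid {π : SUg (Fin 4) F →* G}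
    (hker : ∀ x, π x = 1 → x ∈ Subgroup.center (SUg (Fin 4) F)) {x y : SUg (Fin 4) F}
    (hx : x ^ 3 = 1) (hy : y ^ 3 = 1) (h : π x * π y * π x = π y * π x * π y) :
    x * y * x = y * x * y := by
  have := eq_of_order3 hker (x := (x * y * x) * x * (x * y * x)⁻¹) (y := y) (by
    simp only [map_mul, map_inv]
    rw [mul_inv_eq_iff_eq_mul]
    conv_lhs => rw [h]
    group) (by rw [conj_pow, hx]; group) hy
  rw [mul_inv_eq_iff_eq_mul] at this
  apply mul_right_cancel (b := x)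
  rw [this]; group

omit [CharP F 3] in
theorem lift_comm {π : SUg (Fin 4) F →* G}
    (hker : ∀ x, π x = 1 → x ∈ Subgroup.center (SUg (Fin 4) F)) {x y : SUg (Fin 4) F}
    (hy : y ^ 3 = 1) (h : Commute (π x) (π y)) : Commute x y := by
  have := eq_of_order3 hker (x := x * y * x⁻¹) (y := y) (by
    simp only [map_mul, map_inv]
    rw [h.eq]; group) (by rw [conj_pow, hy]; group) hy
  rw [mul_inv_eq_iff_eq_mul] at this
  exact this

/-- the product of two blocks -/
def pr2 (F : Type*) [Field F] [StarRing F] : SUg (Fin 2) F × SUg (Fin 2) F →* SUg (Fin 4) F :=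
  MonoidHom.noncommCoprod i01 i23 i01_i23_comm

omit [HermFin F] [CharP F 3] in
theorem pr2_apply (a : SUg (Fin 2) F × SUg (Fin 2) F) : pr2 F a = i01 a.1 * i23 a.2 := rfl

omit [HermFin F] [CharP F 3] in
theorem pr2_injective : Function.Injective (pr2 F) := by
  rw [injective_iff_map_eq_one]
  rintro ⟨a, b⟩ h
  have h1 := congrArg Subtype.val h
  rw [pr2_apply, Submonoid.coe_mul, i01_val, i23_val] at h1
  have e := fun i j => congrFun (congrFun h1 i) j
  have e1 := e 0 0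
  have e2 := e 0 1
  have e3 := e 2 2
  have e4 := e 2 3
  simp at e1 e2 e3 e4
  ext1
  · exact su2_ext (by simpa using e1) (by simpa using e2)
  · exact su2_ext (by simpa using e3) (by simpa using e4)

omit [HermFin F] in
theorem exists_pr2 {g : SUg (Fin 4) F} (h : Commute g (i01 (m2 F))) (h3 : g ^ 3 = 1) :
    ∃ a, pr2 F a = g := by
  haveI : Fact (Nat.Prime 3) := ⟨Nat.prime_three⟩
  obtain ⟨X, hX⟩ := exists_restrict (sh 0 (by omega : 0 + 2 ≤ 4)) g (by
    intro v i hi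
    set w := Pm F (sh 0 (by omega : 0 + 2 ≤ 4)) *ᵥ v with hw
    have w2 : w 2 = 0 := Pm_mulVec_not _ _ (by decide)
    have w3 : w 3 = 0 := Pm_mulVec_not _ _ (by decide)
    have e : i01 (m2 F) • w = -w := by
      rw [R_smul]; ext i; fin_cases i <;> simp [w2, w3]
    have := R_neg (two_ne_zero_of_three) (v := g • w) (by
      rw [← mul_smul, ← h.eq, mul_smul, e, ← neg_one_smul F w, SUg.smul_smul_comm, neg_one_smul])
    have hi' : i = 2 ∨ i = 3 := by revert i; decide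
    rcases hi' with rfl | rfl
    · exact this.1
    · exact this.2) 3 h3
  obtain ⟨Y, hY⟩ := exists_i23 (g := (i01 X)⁻¹ * g)
    (by rw [mul_smul, inv_smul_eq_iff]; exact (hX 0).symm)
    (by rw [mul_smul, inv_smul_eq_iff]; exact (hX 1).symm)
  exact ⟨(X, Y), by rw [pr2_apply, hY]; simp⟩

omit [HermFin F] in
theorem eq_one_of_comm {x y z : SUg (Fin 2) F} (hx : Commute x z) (hy : Commute y z)
    (hxy : x * y ≠ y * x) (hz : z ^ 3 = 1) : z = 1 := by
  haveI : Fact (Nat.Prime 3) := ⟨Nat.prime_three⟩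
  obtain ⟨h1, h2, h3⟩ := scalar_of_comm (X := x.1) (Y := y.1) (Z := z.1)
    (congrArg Subtype.val hx.eq).symm (congrArg Subtype.val hy.eq).symm
    (fun h => hxy (Subtype.ext h))
  have h4 := congrArg (fun X : SUg (Fin 2) F => X.1 0 0) hz
  simp [pow_three, Matrix.mul_apply, Fin.sum_univ_two, h1, h2] at h4
  have h5 : (z.1 0 0 - 1) ^ 3 = 0 := by rw [sub_pow_char]; linear_combination h4
  exact su2_ext (by simpa [sub_eq_zero] using h5) (by simpa using h1)

theorem q3_step1 (hK : ∀ a : F, star a = a → a = 0 ∨ a = 1 ∨ a = -1)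
    {π : SUg (Fin 4) F →* G} (hker : ∀ x, π x = 1 → x ∈ Subgroup.center (SUg (Fin 4) F))
    {ψ0 ψ1 : SUg (Fin 3) F →* G} {A B C : Subgroup G} (h0 : StdPair ψ0 A B)
    (h1 : StdPair ψ1 B C) (hc : ∀ x ∈ A, ∀ y ∈ C, Commute x y) (r0 : ψ0.range ≤ π.range)
    (r1 : ψ1.range ≤ π.range) : ∃ s : SUg (Fin 4) F,
      ((π.comp (MulAut.conj s).toMonoidHom).comp i01).range = A ∧
      ((π.comp (MulAut.conj s).toMonoidHom).comp i23).range = C := by
  haveI : Finite F := HermFin.fin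
  have h2 : (2 : F) ≠ 0 := two_ne_zero_of_three
  obtain ⟨x, y, hx, hy, hxy, hm, hgen⟩ := su2_braid hK
  obtain ⟨xA, exA, hxA⟩ := lift3 hker (r0 ⟨io0 x, rfl⟩) (by simp only [← map_pow, hx, map_one])
  obtain ⟨yA, eyA, hyA⟩ := lift3 hker (r0 ⟨io0 y, rfl⟩) (by simp only [← map_pow, hy, map_one])
  obtain ⟨xC, exC, hxC⟩ := lift3 hker (r1 ⟨io1 x, rfl⟩) (by simp only [← map_pow, hx, map_one])
  obtain ⟨yC, eyC, hyC⟩ := lift3 hker (r1 ⟨io1 y, rfl⟩) (by simp only [← map_pow, hy, map_one])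
  have bA := lift_braid hker hxA hyA (by simp only [exA, eyA, ← map_mul, hxy])
  have bC := lift_braid hker hxC hyC (by simp only [exC, eyC, ← map_mul, hxy])
  have zA : π ((xA * yA * xA) * (xA * yA * xA)) = ψ0 (io0 (m2 F)) := by
    simp only [map_mul, exA, eyA, ← hm]
  have zC : π ((xC * yC * xC) * (xC * yC * xC)) = ψ1 (io1 (m2 F)) := by
    simp only [map_mul, exC, eyC, ← hm]
  have c1 : Commute xA xC := lift_comm hker hxC (by
    rw [exA, exC]; exact hc _ (h0.mem0 _) _ (h1.mem1 _))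
  have c2 : Commute yA xC := lift_comm hker hxC (by
    rw [eyA, exC]; exact hc _ (h0.mem0 _) _ (h1.mem1 _))
  have c3 : Commute xA yC := lift_comm hker hyC (by
    rw [exA, eyC]; exact hc _ (h0.mem0 _) _ (h1.mem1 _))
  have c4 : Commute yA yC := lift_comm hker hyC (by
    rw [eyA, eyC]; exact hc _ (h0.mem0 _) _ (h1.mem1 _))
  obtain ⟨s, hs⟩ := invol_conj h2 (braid_four hxA hyA bA) (by
    intro h
    rw [h, map_one] at zA
    exact m2_ne h2 (h0.inj0 (zA.symm.trans (map_one _).symm))) (by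
    intro h
    have hz := mem_center_of_scalar (a := -1) (h.trans (neg_one_smul F _).symm)
    obtain ⟨w, hw⟩ := r0 ⟨io1 (w2 F), rfl⟩
    have e1 := congrArg π (Subgroup.mem_center_iff.1 hz w)
    rw [map_mul, map_mul π _ w, zA, hw] at e1
    have e2 := congrArg ψ0 (conj_io1 (-1 : F) (by simp) (w2 F))
    rw [map_mul, map_mul, map_inv] at e2
    erw [← e1, mul_inv_cancel_right] at e2
    have e3 := congrArg (fun Z : SUg (Fin 2) F => Z.1 0 1) (h0.inj1 e2)
    simp [SLD.hom_apply, SLD.dg, w2_val] at e3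
    apply h2; linear_combination e3)
  have key : ∀ g : SUg (Fin 4) F, g ^ 3 = 1 → Commute g ((xA * yA * xA) * (xA * yA * xA)) →
      ∃ a, g = s * pr2 F a * s⁻¹ ∧ a ^ 3 = 1 := by
    intro g hg hc
    have h3 : (s⁻¹ * g * s) ^ 3 = 1 := by
      have := conj_pow (a := s⁻¹) (b := g) (i := 3)
      rw [inv_inv] at this
      rw [this, hg]; group
    obtain ⟨a, ha⟩ := exists_pr2 (g := s⁻¹ * g * s) (by
      rw [hs] at hc
      show _ = _
      calc s⁻¹ * g * s * i01 (m2 F) = s⁻¹ * (g * (s * i01 (m2 F) * s⁻¹)) * s := by group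
        _ = _ := by rw [hc.eq]; group) h3
    exact ⟨a, by rw [ha]; group, pr2_injective (by rw [map_pow, ha, h3, map_one])⟩
  obtain ⟨a, rfl, ha⟩ := key xA hxA (braid_comm bA).1
  obtain ⟨b, rfl, hb⟩ := key yA hyA (braid_comm bA).2
  obtain ⟨c, rfl, hc'⟩ := key xC hxC
    (((c1.mul_left c2).mul_left c1).mul_left ((c1.mul_left c2).mul_left c1)).symm
  obtain ⟨d, rfl, hd⟩ := key yC hyC
    (((c3.mul_left c4).mul_left c3).mul_left ((c3.mul_left c4).mul_left c3)).symm
  let Φ : SUg (Fin 2) F × SUg (Fin 2) F →* SUg (Fin 4) F :=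
    (MulAut.conj s).toMonoidHom.comp (pr2 F)
  have hΦ : ∀ a, s * pr2 F a * s⁻¹ = Φ a := fun a => rfl
  have Φinj : Function.Injective Φ := (MulAut.conj s).injective.comp pr2_injective
  simp only [hΦ] at exA eyA exC eyC bA bC zC hs c1 c2 c3 c4
  have hs' : s * i01 (m2 F) * s⁻¹ = Φ (m2 F, 1) := by rw [← hΦ, pr2_apply, map_one, mul_one]
  simp only [← map_mul] at bA bC hs zC
  rw [hs'] at hs
  have bA' := Φinj bA
  have bC' := Φinj bC
  have hs'' := Φinj hs
  have cc : ∀ u v, Commute (Φ u) (Φ v) → Commute u.1 v.1 ∧ Commute u.2 v.2 := by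
    intro u v h
    have := Φinj (by rw [map_mul, map_mul]; exact h.eq : Φ (u * v) = Φ (v * u))
    exact ⟨congrArg Prod.fst this, congrArg Prod.snd this⟩
  have n1 : a.1 * b.1 ≠ b.1 * a.1 := fun h => m2_ne h2 ((congrArg Prod.fst hs'').symm.trans
    (braid_eq_one (congrArg Prod.fst ha) (congrArg Prod.fst bA') h))
  have c10 : c.1 = 1 := eq_one_of_comm (cc _ _ c1).1 (cc _ _ c2).1 n1 (congrArg Prod.fst hc')
  have d10 : d.1 = 1 := eq_one_of_comm (cc _ _ c3).1 (cc _ _ c4).1 n1 (congrArg Prod.fst hd)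
  have n2 : c.2 * d.2 ≠ d.2 * c.2 := by
    intro h
    have e : c * d * c * (c * d * c) = 1 := by
      ext1
      · simp [c10, d10]
      · exact braid_eq_one (congrArg Prod.snd hc') (congrArg Prod.snd bC') h
    rw [e, map_one, map_one] at zC
    exact m2_ne h2 (h1.inj1 (zC.symm.trans (map_one _).symm))
  have a20 : a.2 = 1 := eq_one_of_comm (cc _ _ c1).2.symm (cc _ _ c3).2.symm n2
    (congrArg Prod.snd ha)
  have b20 : b.2 = 1 := eq_one_of_comm (cc _ _ c2).2.symm (cc _ _ c4).2.symm n2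
    (congrArg Prod.snd hb)
  refine ⟨s, ?_, ?_⟩
  · rw [← h0.im0]
    apply range_eq_of_le h0.inj0
    rintro _ ⟨X, rfl⟩
    have := hgen (Subgroup.comap (ψ0.comp io0)
      ((π.comp (MulAut.conj s).toMonoidHom).comp i01).range)
      ⟨a.1, by rw [MonoidHom.comp_apply ψ0, ← exA, ← hΦ, pr2_apply, a20, map_one, mul_one]; rfl⟩
      ⟨b.1, by rw [MonoidHom.comp_apply ψ0, ← eyA, ← hΦ, pr2_apply, b20, map_one, mul_one]; rfl⟩
    exact (Subgroup.mem_comap).1 (this ▸ Subgroup.mem_top X)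
  · rw [← h1.im1]
    apply range_eq_of_le h1.inj1
    rintro _ ⟨X, rfl⟩
    have := hgen (Subgroup.comap (ψ1.comp io1)
      ((π.comp (MulAut.conj s).toMonoidHom).comp i23).range)
      ⟨c.2, by rw [MonoidHom.comp_apply ψ1, ← exC, ← hΦ, pr2_apply, c10, map_one, one_mul]; rfl⟩
      ⟨d.2, by rw [MonoidHom.comp_apply ψ1, ← eyC, ← hΦ, pr2_apply, d10, map_one, one_mul]; rfl⟩
    exact (Subgroup.mem_comap).1 (this ▸ Subgroup.mem_top X)

omit [CharP F 3] [HermFin F] in
theorem range_conj_blk {ι κ : Type*} [Fintype ι] [DecidableEq ι] [Fintype κ] [DecidableEq κ]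
    (π : SUg ι F →* G) (f : κ ↪ ι) {s : SUg ι F} {X : SUg κ F}
    (hs : ∀ Y, s * ext f Y * s⁻¹ = ext f (X * Y * X⁻¹)) :
    ((π.comp (MulAut.conj s).toMonoidHom).comp (ext f)).range = (π.comp (ext f)).range := by
  ext g
  constructor
  · rintro ⟨Y, rfl⟩
    exact ⟨X * Y * X⁻¹, by rw [MonoidHom.comp_apply, ← hs]; rfl⟩
  · rintro ⟨Y, rfl⟩
    refine ⟨X⁻¹ * Y * X, ?_⟩
    show π (s * _ * s⁻¹) = _
    rw [hs]; simp [mul_assoc]

theorem q3_step2 {π : SUg (Fin 4) F →* G}
    (hker : ∀ x, π x = 1 → x ∈ Subgroup.center (SUg (Fin 4) F))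
    {ψ0 ψ1 : SUg (Fin 3) F →* G} {A B C : Subgroup G} (h0 : StdPair ψ0 A B)
    (h1 : StdPair ψ1 B C) (hc : ∀ x ∈ A, ∀ y ∈ C, Commute x y) (r0 : ψ0.range ≤ π.range)
    (hA : (π.comp i01).range = A) (hC : (π.comp i23).range = C) : ∃ s : SUg (Fin 4) F,
      StdPair ((π.comp (MulAut.conj s).toMonoidHom).comp jo0) A B ∧
      StdPair ((π.comp (MulAut.conj s).toMonoidHom).comp jo1) B C := by
  haveI : Finite F := HermFin.fin
  have h2 : (2 : F) ≠ 0 := two_ne_zero_of_three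
  have inj : Function.Injective (π.comp i01) := by
    rw [injective_iff_map_eq_one]
    intro X hX
    have := center_fix (hker _ hX) (k := 3) (l := 0) (by decide) (ext_sh_fix _ _ _ _ (by simp))
    exact ext_injective _ (this.trans (map_one _).symm)
  set R := i01 (m2 F) with hR
  have hRR : R * R = 1 := by rw [hR, ← map_mul, m2_sq, map_one]
  have zA : π R = ψ0 (io0 (m2 F)) := by
    obtain ⟨Y, hY⟩ : π R ∈ (ψ0.comp io0).range := by rw [h0.im0, ← hA]; exact ⟨_, rfl⟩
    rcases su2_invol h2 (M := Y) (h0.inj0 (by rw [map_mul, hY, ← map_mul, hRR, map_one, map_one]))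
      with rfl | rfl
    · rw [map_one] at hY
      exact absurd (inj (hY.symm.trans (map_one _).symm)) (m2_ne h2)
    · exact hY.symm
  obtain ⟨v0, hv0, hv1⟩ := trans2 (k := (0 : Fin 3)) (l := 1) (m := 2) (by decide) (by decide)
    (by decide) (x := ev F 1) (y := ev F 2) (by simp) (by simp) (by simp [ev_apply])
  have cv : ∀ X, v0 * io0 X * v0⁻¹ = io1 X := conj_ext (sh 0 (by omega)) (sh 1 (by omega)) (by
    intro k; fin_cases k; exacts [hv0, hv1])
  obtain ⟨v, hv⟩ := r0 ⟨v0, rfl⟩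
  have hB1 : ∀ X, π (v * i01 X * v⁻¹) ∈ B := by
    intro X
    obtain ⟨Y, hY⟩ : π (i01 X) ∈ (ψ0.comp io0).range := by rw [h0.im0, ← hA]; exact ⟨_, rfl⟩
    rw [map_mul, map_mul, map_inv, hv, ← hY, MonoidHom.comp_apply, ← map_mul, ← map_inv,
      ← map_mul, cv]
    exact h0.mem1 Y
  have hB2 : ∀ Y, ∃ X, π (v * i01 X * v⁻¹) = ψ0 (io1 Y) := by
    intro Y
    obtain ⟨X, hX⟩ : ψ0 (io0 Y) ∈ (π.comp i01).range := by rw [hA]; exact h0.mem0 _
    rw [MonoidHom.comp_apply] at hX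
    exact ⟨X, by rw [map_mul, map_mul, map_inv, hv, hX, ← map_mul, ← map_inv, ← map_mul, cv]⟩
  have zB : π (v * R * v⁻¹) = ψ0 (io1 (m2 F)) := by
    rw [map_mul, map_mul, map_inv, hv, zA, ← map_mul, ← map_inv, ← map_mul, cv]
  set R' := v * R * v⁻¹ with hR'
  have hRR' : R' * R' = 1 := by
    calc R' * R' = v * (R * R) * v⁻¹ := by rw [hR']; group
      _ = 1 := by rw [hRR]; group
  have hz := hker (R * R' * (R' * R)⁻¹) (by
    rw [map_mul, map_inv, map_mul, map_mul π R' R, zA, zB, ← map_mul, ← map_mul, mul_inv_eq_one]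
    congr 1
    apply Subtype.ext
    simp [m2, io0_dg, io1_dg, diagonal_mul_diagonal, mul_comm])
  have hζ := center_scalar hz (k := 0) (l := 1) (m := 2) (by decide) (by decide) (by decide)
  generalize (R * R' * (R' * R)⁻¹).1 0 0 = ζ at hζ
  have hcomm : ∀ w : Fin 4 → F, R • R' • w = ζ • R' • R • w := by
    intro w
    have : R * R' = (R * R' * (R' * R)⁻¹) * (R' * R) := by group
    rw [← mul_smul, this, mul_smul, SUg.smul_def, hζ, smul_mulVec, one_mulVec, mul_smul]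
  have RR : ∀ w : Fin 4 → F, R • R • w = w := fun w => by rw [← mul_smul, hRR, one_smul]
  have hζ2 : ζ = 1 ∨ ζ = -1 := by
    have e1 := hcomm (ev F 0)
    have e2 := hcomm (R • ev F 0)
    rw [RR] at e2
    have e3 : R' • ev F (0 : Fin 4) = (ζ * ζ) • R' • ev F (0 : Fin 4) := by
      conv_lhs => rw [← RR (R' • ev F 0), e1, SUg.smul_smul_comm, e2, smul_smul]
    have e4 := congrArg (fun w => hf w (R' • ev F 0)) e3
    simp at e4
    exact mul_self_eq_one_iff.1 e4.symm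
  rcases hζ2 with rfl | rfl
  swap
  · exfalso
    have fix : ∀ k : Fin 4, k = 0 ∨ k = 1 → ∀ X : SUg (Fin 2) F, i01 X • R' • ev F k = R' • ev F k := by
      intro k hk X
      have e : R • ev F k = - ev F k := by
        rw [hR, R_smul]; ext i; rcases hk with rfl | rfl <;> fin_cases i <;> simp [ev_apply]
      have := R_fix h2 (v := R' • ev F k) (by
        rw [← hR, hcomm, e, ← neg_one_smul F (ev F k), SUg.smul_smul_comm, smul_smul]; simp)
      apply Blk_fix (i01_mem X)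
      rintro i (rfl | rfl)
      exacts [this.1, this.2]
    obtain ⟨X, hX⟩ : ψ0 (io0 (w2 F)) ∈ (π.comp i01).range := by rw [hA]; exact h0.mem0 _
    rw [MonoidHom.comp_apply] at hX
    have hRi : R'⁻¹ = R' := inv_eq_of_mul_eq_one_right hRR'
    obtain ⟨Y, hY⟩ := exists_i23 (g := R' * i01 X * R'⁻¹)
      (by rw [hRi, mul_smul, mul_smul, fix 0 (by simp), ← mul_smul, hRR', one_smul])
      (by rw [hRi, mul_smul, mul_smul, fix 1 (by simp), ← mul_smul, hRR', one_smul])
    have hC' : π (i23 Y) ∈ C := hC ▸ ⟨Y, rfl⟩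
    rw [hY, map_mul, map_mul, map_inv, zB, hX, ← map_mul, ← map_inv, ← map_mul] at hC'
    erw [conj_io0 (-1 : F) (by simp) (w2 F)] at hC'
    obtain ⟨l, hl, hl2⟩ := exists_lam (F := F)
    have := (hc _ (h0.mem0 (dg2 l hl)) _ hC').eq
    rw [← map_mul, ← map_mul, ← map_mul, ← map_mul] at this
    have e3 := congrArg (fun Z : SUg (Fin 2) F => Z.1 0 1) (h0.inj0 this)
    simp [SLD.hom_apply, SLD.dg, w2_val, dg2_val] at e3
    exact hl2 e3
  simp only [one_smul] at hcomm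
  set R2 := v⁻¹ * R * v with hR2
  have hR22 : R2 * R2 = 1 := by
    calc R2 * R2 = v⁻¹ * (R * R) * v := by rw [hR2]; group
      _ = 1 := by rw [hRR]; group
  have hpres : ∀ w : Fin 4 → F, (∀ i, i ∉ ({2, 3} : Set (Fin 4)) → w i = 0) →
      ∀ i, i ∉ ({2, 3} : Set (Fin 4)) → (R2 • w) i = 0 := by
    intro w hw i hi
    have e : R • w = w := Blk_fix (i01_mem _) _ (by
      rintro i (rfl | rfl) <;> exact hw _ (by simp))
    have := R_fix h2 (v := R2 • w) (by
      have := hcomm (v • w)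
      rw [hR', mul_smul, mul_smul, inv_smul_smul, e, mul_smul, mul_smul] at this
      rw [← hR, hR2, mul_smul, mul_smul, ← smul_left_cancel_iff v, smul_inv_smul, ← this])
    have hi' : i = 0 ∨ i = 1 := by revert i; decide
    rcases hi' with rfl | rfl
    exacts [this.1, this.2]
  have e23 : ∀ k : Fin 4, k = 2 ∨ k = 3 → ∀ i, i ∉ ({2, 3} : Set (Fin 4)) → ev F k i = 0 := by
    intro k hk i hi
    apply ev_ne
    rintro rfl
    exact hi hk
  obtain ⟨k, hk, hk'⟩ : ∃ k : Fin 4, (k = 2 ∨ k = 3) ∧ R2 • ev F k ≠ ev F k := by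
    by_contra! h
    apply h0.not_le
    rw [← hA]
    rintro _ ⟨X, rfl⟩
    have fix : ∀ k : Fin 4, k = 2 ∨ k = 3 → (v⁻¹ * i01 X * v) • ev F k = ev F k := by
      intro k hk
      have := h k hk
      rw [hR2, mul_smul, mul_smul, inv_smul_eq_iff] at this
      have := R_fix h2 this
      rw [mul_smul, mul_smul, inv_smul_eq_iff]
      apply Blk_fix (i01_mem X)
      rintro i (rfl | rfl)
      exacts [this.1, this.2]
    obtain ⟨Y, hY⟩ := exists_i01 (fix 2 (by simp)) (fix 3 (by simp))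
    have := hB1 Y
    rw [hY] at this
    simpa [mul_assoc] using this
  obtain ⟨l, hl, hl'⟩ : ∃ k : Fin 4, (k = 2 ∨ k = 3) ∧ R2 • ev F k ≠ - ev F k := by
    by_contra! h
    apply h1.not_ge
    rw [← hC]
    rintro _ ⟨X, rfl⟩
    have fix : ∀ k : Fin 4, k = 2 ∨ k = 3 → (v⁻¹ * i23 X * v) • ev F k = ev F k := by
      intro k hk
      have := h k hk
      rw [hR2, mul_smul, mul_smul, inv_smul_eq_iff, ← neg_one_smul F (ev F k),
        SUg.smul_smul_comm, neg_one_smul] at this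
      have := R_neg h2 this
      rw [mul_smul, mul_smul, inv_smul_eq_iff]
      apply Blk_fix (i23_mem X)
      rintro i (rfl | rfl)
      exacts [this.1, this.2]
    obtain ⟨Y, hY⟩ := exists_i01 (fix 2 (by simp)) (fix 3 (by simp))
    have := hB1 Y
    rw [hY] at this
    simpa [mul_assoc] using this
  obtain ⟨u0, hu0, su0, eu0⟩ := invol_eig h2 hR22 hpres (ε := -1) (Or.inr rfl) (e23 k hk)
    (by simpa using hk')
  obtain ⟨u3, hu3, su3, eu3⟩ := invol_eig h2 hR22 hpres (ε := 1) (Or.inl rfl) (e23 l hl)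
    (by simpa using hl')
  rw [hR2, mul_smul, mul_smul, inv_smul_eq_iff, SUg.smul_smul_comm] at eu0 eu3
  rw [neg_one_smul] at eu0
  rw [one_smul] at eu3
  have f0 := R_neg h2 eu0
  have f3 := R_fix h2 eu3
  obtain ⟨s1, hs1, es1⟩ := exists_block ({0, 1} : Set (Fin 4)) (k := 0) (l := 1) (by simp)
    (by simp) (by decide) (y := v • u0) (by simpa using hu0) (by
      intro i hi
      have hi' : i = 2 ∨ i = 3 := by revert i; decide
      rcases hi' with rfl | rfl
      exacts [f0.1, f0.2])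
  obtain ⟨s2, hs2, es2⟩ := exists_block ({2, 3} : Set (Fin 4)) (k := 3) (l := 2) (by simp)
    (by simp) (by decide) (y := v • u3) (by simpa using hu3) (by
      intro i hi
      have hi' : i = 0 ∨ i = 1 := by revert i; decide
      rcases hi' with rfl | rfl
      exacts [f3.1, f3.2])
  have g0 : (s1 * s2) • ev F (0 : Fin 4) = v • u0 := by rw [mul_smul, hs2 0 (by simp), es1]
  have g3 : (s1 * s2) • ev F (3 : Fin 4) = v • u3 := by
    rw [Blk_comm (by simp) hs1 hs2, mul_smul, hs1 3 (by simp), es2]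
  obtain ⟨X1, rfl⟩ := exists_i01 (hs1 2 (by simp)) (hs1 3 (by simp))
  obtain ⟨X2, rfl⟩ := exists_i23 (hs2 0 (by simp)) (hs2 1 (by simp))
  refine ⟨i01 X1 * i23 X2, stdPair_of_four (ker_conj hker _) ?_ ?_ ?_⟩
  · rw [← hA]
    refine range_conj_blk π _ (X := X1) (fun Y => ?_)
    rw [mul_assoc (i01 X1), ← (i01_i23_comm Y X2).eq, map_mul, map_mul, map_inv]
    group
  · rw [← h0.im1]
    apply range_eq_of_le h0.inj1
    rintro _ ⟨Y, rfl⟩
    obtain ⟨X, hX⟩ := hB2 Y
    have fix : ∀ u : Fin 4 → F, (∀ i, i ∉ ({2, 3} : Set (Fin 4)) → u i = 0) →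
        (v * i01 X * v⁻¹) • v • u = v • u := by
      intro u hu
      rw [mul_smul, mul_smul, inv_smul_smul, Blk_fix (i01_mem X)]
      rintro i (rfl | rfl) <;> exact hu _ (by simp)
    obtain ⟨Z, hZ⟩ := exists_i12
      (g := (i01 X1 * i23 X2)⁻¹ * (v * i01 X * v⁻¹) * (i01 X1 * i23 X2))
      (by rw [mul_smul, mul_smul, g0, fix u0 su0, ← g0, inv_smul_smul])
      (by rw [mul_smul, mul_smul, g3, fix u3 su3, ← g3, inv_smul_smul])
    refine ⟨Z, ?_⟩
    show π (_ * i12 Z * _) = _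
    rw [hZ, MonoidHom.comp_apply, ← hX]
    congr 1; group
  · rw [← hC]
    refine range_conj_blk π _ (X := X2) (fun Y => ?_)
    rw [(i01_i23_comm X1 X2).eq, mul_assoc (i23 X2), (i01_i23_comm X1 Y).eq, map_mul, map_mul,
      map_inv]
    group

theorem q3_glue (hK : ∀ a : F, star a = a → a = 0 ∨ a = 1 ∨ a = -1) (hB : Big2 F)
    {ψ0 ψ1 : SUg (Fin 3) F →* G} {A B C : Subgroup G} (h0 : StdPair ψ0 A B)
    (h1 : StdPair ψ1 B C) (hco : ∀ X, ψ1 (io0 X) = ψ0 (io1 X))
    (hc : ∀ x ∈ A, ∀ y ∈ C, Commute x y) (π : SUg (Fin 4) F →* G) (r0 : ψ0.range ≤ π.range)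
    (r1 : ψ1.range ≤ π.range) :
    ∃ Θ : SUg (Fin 4) F →* G, (∀ X, Θ (jo0 X) = ψ0 X) ∧ ∀ X, Θ (jo1 X) = ψ1 X := by
  have hker : ∀ x, π x = 1 → x ∈ Subgroup.center (SUg (Fin 4) F) := by
    intro x hx
    by_contra h
    have := q3_normal4 hK hB π.ker hx h
    obtain ⟨y, hy⟩ := r0 ⟨io0 (m2 F), rfl⟩
    rw [(MonoidHom.mem_ker).1 (this ▸ Subgroup.mem_top y)] at hy
    exact m2_ne two_ne_zero_of_three (h0.inj0 (hy.symm.trans (map_one _).symm))
  obtain ⟨s, hA, hC⟩ := q3_step1 hK hker h0 h1 hc r0 r1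
  obtain ⟨t, p0, p1⟩ := q3_step2 (ker_conj hker s) h0 h1 hc (by
    intro g hg
    obtain ⟨y, rfl⟩ := r0 hg
    exact ⟨s⁻¹ * y * s, by simp [mul_assoc]⟩) hA hC
  have key : ∀ (φ ψ : SUg (Fin 3) F →* G), (∀ X, φ (io0 X) = ψ (io0 X)) →
      (∀ X, φ (io1 X) = ψ (io1 X)) → ∀ X, φ X = ψ X := by
    intro φ ψ e0 e1 X
    have := gen2 hB 1 (φ.eqLocus ψ) (fun b hb A => by
      obtain rfl | rfl : b = 0 ∨ b = 1 := by omega
      exacts [e0 A, e1 A])
    exact (this ▸ Subgroup.mem_top X : X ∈ φ.eqLocus ψ)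
  exact glue4 h0 h1 hco _ p0 p1
    (fun D e0 e1 => key ((((π.comp (MulAut.conj s).toMonoidHom).comp
      (MulAut.conj t).toMonoidHom).comp jo0).comp D.hom) ψ0 e0 e1)
    (fun D e0 e1 => key ((((π.comp (MulAut.conj s).toMonoidHom).comp
      (MulAut.conj t).toMonoidHom).comp jo1).comp D.hom) ψ1 e0 e1)

end Q3

end CfsgH4
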