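import Cfsg.Agent.H4.PhanGeom

set_option autoImplicit false

open Matrix

namespace CfsgH4

/-- two not identically vanishing "Hermitian" functions of one variable have a common non-root -/
def Big2 (F : Type*) [Field F] [StarRing F] : Prop :=
  ∀ A B C D A' B' C' D' : F, (A ≠ 0 ∨ B ≠ 0 ∨ D ≠ 0) → (A' ≠ 0 ∨ B' ≠ 0 ∨ D' ≠ 0) →
    ∃ t : F, A + t * B + star t * C + t * star t * D ≠ 0 ∧
      A' + t * B' + star t * C' + t * star t * D' ≠ 0

/-- the same for three functions -/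
def Big3 (F : Type*) [Field F] [StarRing F] : Prop :=
  ∀ A B C D A' B' C' D' A'' B'' C'' D'' : F, (A ≠ 0 ∨ B ≠ 0 ∨ D ≠ 0) →
    (A' ≠ 0 ∨ B' ≠ 0 ∨ D' ≠ 0) → (A'' ≠ 0 ∨ B'' ≠ 0 ∨ D'' ≠ 0) →
    ∃ t : F, A + t * B + star t * C + t * star t * D ≠ 0 ∧
      A' + t * B' + star t * C' + t * star t * D' ≠ 0 ∧
      A'' + t * B'' + star t * C'' + t * star t * D'' ≠ 0

theorem Big3.big2 {F : Type*} [Field F] [StarRing F] (h : Big3 F) : Big2 F := by
  intro A B C D A' B' C' D' h1 h2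
  obtain ⟨t, h3, h4, -⟩ := h A B C D A' B' C' D' A B C D h1 h2 h1
  exact ⟨t, h3, h4⟩

section Basic

variable {ι F : Type*} [Fintype ι] [Field F] [StarRing F]

/-- orthonormal pair -/
def adj (x y : ι → F) : Prop := hf x x = 1 ∧ hf y y = 1 ∧ hf x y = 0

/-- unit vectors spanning a nondegenerate plane -/
def good (x y : ι → F) : Prop := hf x x = 1 ∧ hf y y = 1 ∧ 1 - hf x y * hf y x ≠ 0

theorem adj.symm {x y : ι → F} (h : adj x y) : adj y x := ⟨h.2.1, h.1, hf_symm h.2.2⟩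

theorem adj.perp {x y : ι → F} (h : adj x y) : hf x y = 0 := h.2.2
theorem adj.perp' {x y : ι → F} (h : adj x y) : hf y x = 0 := hf_symm h.2.2

theorem good.symm {x y : ι → F} (h : good x y) : good y x :=
  ⟨h.2.1, h.1, by rw [mul_comm]; exact h.2.2⟩

theorem adj.good {x y : ι → F} (h : adj x y) : good x y :=
  ⟨h.1, h.2.1, by rw [h.2.2]; simp⟩

/-- auxiliary sesquilinear form -/
def Qf (κ : F) (a u v : ι → F) : F := κ * hf u v - hf u a * hf a v

/-- the form `Qf κ a` does not vanish on the line `p + t r` -/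
def QNZ (κ : F) (a p r : ι → F) : Prop :=
  Qf κ a p p ≠ 0 ∨ Qf κ a r p ≠ 0 ∨ Qf κ a r r ≠ 0

theorem Qf_line (κ : F) (a p r : ι → F) (t : F) :
    Qf κ a (p + t • r) (p + t • r) =
      Qf κ a p p + t * Qf κ a r p + star t * Qf κ a p r + t * star t * Qf κ a r r := by
  simp only [Qf, hf_add_left, hf_add_right, hf_smul_left, hf_smul_right]; ring

theorem Qf_smul (κ : F) (a v : ι → F) (t : F) :
    Qf κ a (t • v) (t • v) = t * star t * Qf κ a v v := by
  simp only [Qf, hf_smul_left, hf_smul_right]; ring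

theorem Qf_zero (u v : ι → F) : Qf 1 0 u v = hf u v := by simp [Qf]

theorem QNZ_of_adj {κ : F} (hκ : κ ≠ 0) (a : ι → F) {p r : ι → F} (h : adj p r) :
    QNZ κ a p r := by
  by_contra h'
  simp only [QNZ, Qf, h.1, h.2.1, h.perp', not_or, not_not, mul_one, mul_zero, zero_sub,
    neg_eq_zero, mul_eq_zero] at h'
  obtain ⟨h1, h2 | h2, h3⟩ := h'
  · rw [h2] at h3; exact hκ (by simpa using h3)
  · rw [h2] at h1; exact hκ (by simpa using h1)

theorem good_iff {x y : ι → F} (hx : hf x x = 1) (hy : hf y y = 1) :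
    good x y ↔ Qf 1 y x x ≠ 0 := by
  simp [good, Qf, hx, hy]

theorem good.Q {x y : ι → F} (h : good x y) : Qf 1 y x x ≠ 0 := (good_iff h.1 h.2.1).1 h

variable [HermField F]

theorem big_line2 (hB : Big2 F) {κ : F} {a p r : ι → F} (h0 : QNZ 1 0 p r) (h1 : QNZ κ a p r) :
    ∃ α β : F, α ≠ 0 ∧ hf (α • p + β • r) (α • p + β • r) = 1 ∧
      Qf κ a (α • p + β • r) (α • p + β • r) ≠ 0 := by
  obtain ⟨t, h2, h3⟩ := hB _ _ (Qf 1 0 p r) _ _ _ (Qf κ a p r) _ h0 h1
  rw [← Qf_line] at h2 h3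
  rw [Qf_zero] at h2
  obtain ⟨c, hc, hc2⟩ := exists_unit_smul h2
  have e : c • p + (c * t) • r = c • (p + t • r) := by rw [smul_add, smul_smul]
  refine ⟨c, c * t, hc, by rwa [e], ?_⟩
  rw [e, Qf_smul]
  exact mul_ne_zero (mul_ne_zero hc (by simpa using hc)) h3

theorem big_line3 (hB : Big3 F) {κ κ' : F} {a a' p r : ι → F} (h0 : QNZ 1 0 p r)
    (h1 : QNZ κ a p r) (h1' : QNZ κ' a' p r) :
    ∃ α β : F, α ≠ 0 ∧ hf (α • p + β • r) (α • p + β • r) = 1 ∧
      Qf κ a (α • p + β • r) (α • p + β • r) ≠ 0 ∧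
      Qf κ' a' (α • p + β • r) (α • p + β • r) ≠ 0 := by
  obtain ⟨t, h2, h3, h4⟩ := hB _ _ (Qf 1 0 p r) _ _ _ (Qf κ a p r) _ _ _ (Qf κ' a' p r) _
    h0 h1 h1'
  rw [← Qf_line] at h2 h3 h4
  rw [Qf_zero] at h2
  obtain ⟨c, hc, hc2⟩ := exists_unit_smul h2
  have e : c • p + (c * t) • r = c • (p + t • r) := by rw [smul_add, smul_smul]
  have hc' : c * star c ≠ 0 := mul_ne_zero hc (by simpa using hc)
  refine ⟨c, c * t, hc, by rwa [e], ?_, ?_⟩
  · rw [e, Qf_smul]; exact mul_ne_zero hc' h3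
  · rw [e, Qf_smul]; exact mul_ne_zero hc' h4

theorem good.ortho {x y : ι → F} (h : good x y) :
    ∃ (u : ι → F) (α β : F), adj x u ∧ y = α • x + β • u := by
  have h1 : hf (y - hf y x • x) (y - hf y x • x) ≠ 0 := by
    simp only [hf_sub_left, hf_sub_right, hf_smul_left, hf_smul_right, h.1, h.2.1, star_hf]
    intro h'; apply h.2.2; linear_combination h'
  obtain ⟨c, hc, hc2⟩ := exists_unit_smul h1
  refine ⟨c • (y - hf y x • x), hf y x, c⁻¹, ⟨h.1, hc2, ?_⟩, ?_⟩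
  · simp [h.1]
  · rw [smul_smul, inv_mul_cancel₀ hc, one_smul]; abel

theorem adj.ortho {x u z : ι → F} (h : adj x u)
    (hz : hf z z - hf z x * hf x z - hf z u * hf u z ≠ 0) :
    ∃ (v : ι → F) (α β γ : F), adj x v ∧ adj u v ∧ z = α • x + β • u + γ • v := by
  have h1 : hf (z - hf z x • x - hf z u • u) (z - hf z x • x - hf z u • u) ≠ 0 := by
    simp only [hf_sub_left, hf_sub_right, hf_smul_left, hf_smul_right, h.1, h.2.1, star_hf,
      h.perp, h.perp']
    intro h'; apply hz; linear_combination h'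
  obtain ⟨c, hc, hc2⟩ := exists_unit_smul h1
  refine ⟨c • (z - hf z x • x - hf z u • u), hf z x, hf z u, c⁻¹, ⟨h.1, hc2, ?_⟩,
    ⟨h.2.1, hc2, ?_⟩, ?_⟩
  · simp [h.1, h.perp]
  · simp [h.2.1, h.perp']
  · rw [smul_smul, inv_mul_cancel₀ hc, one_smul]; abel

end Basic

section Dim

variable {ι F : Type*} [Fintype ι] [DecidableEq ι] [Field F] [StarRing F]

theorem adj_smul (s : SUg ι F) {x y : ι → F} (h : adj x y) : adj (s • x) (s • y) := by
  simpa [adj] using h

theorem adj_ev {k l : ι} (h : k ≠ l) : adj (ev F k) (ev F l) := by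
  simp [adj, ev_ne h, ev_ne h.symm]

omit [DecidableEq ι] in
theorem exists_emb {n : ℕ} (h : n ≤ Fintype.card ι) : Nonempty (Fin n ↪ ι) :=
  Function.Embedding.nonempty_of_card_le (by simpa using h)

variable [HermField F]

theorem exists_adj (h2 : 2 ≤ Fintype.card ι) {x : ι → F} (hx : hf x x = 1) :
    ∃ u, adj x u := by
  obtain ⟨f⟩ := exists_emb h2
  have h01 : f 0 ≠ f 1 := f.injective.ne (by decide)
  obtain ⟨s, rfl⟩ := trans1 h01 hx
  exact ⟨_, adj_smul s (adj_ev h01)⟩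

theorem adj.exists_perp (h3 : 3 ≤ Fintype.card ι) {x u : ι → F} (h : adj x u) :
    ∃ w, adj x w ∧ adj u w := by
  obtain ⟨f⟩ := exists_emb h3
  have h01 : f 0 ≠ f 1 := f.injective.ne (by decide)
  have h02 : f 0 ≠ f 2 := f.injective.ne (by decide)
  have h12 : f 1 ≠ f 2 := f.injective.ne (by decide)
  obtain ⟨s, rfl, rfl⟩ := trans2 h01 h02 h12 h.1 h.2.1 h.2.2
  exact ⟨_, adj_smul s (adj_ev h02), adj_smul s (adj_ev h12)⟩

theorem adj.exists_perp2 (h4 : 4 ≤ Fintype.card ι) {x u : ι → F} (h : adj x u) :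
    ∃ w w', adj x w ∧ adj u w ∧ adj x w' ∧ adj u w' ∧ adj w w' := by
  obtain ⟨f⟩ := exists_emb h4
  have h01 : f 0 ≠ f 1 := f.injective.ne (by decide)
  have h02 : f 0 ≠ f 2 := f.injective.ne (by decide)
  have h12 : f 1 ≠ f 2 := f.injective.ne (by decide)
  have h03 : f 0 ≠ f 3 := f.injective.ne (by decide)
  have h13 : f 1 ≠ f 3 := f.injective.ne (by decide)
  have h23 : f 2 ≠ f 3 := f.injective.ne (by decide)
  obtain ⟨s, rfl, rfl⟩ := trans2 h01 h02 h12 h.1 h.2.1 h.2.2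
  exact ⟨_, _, adj_smul s (adj_ev h02), adj_smul s (adj_ev h12), adj_smul s (adj_ev h03),
    adj_smul s (adj_ev h13), adj_smul s (adj_ev h23)⟩

theorem adj.exists_perp3 (h4 : 4 ≤ Fintype.card ι) {x u v : ι → F} (h : adj x u) (h' : adj x v)
    (h'' : adj u v) : ∃ w, adj x w ∧ adj u w ∧ adj v w := by
  obtain ⟨f⟩ := exists_emb h4
  have h01 : f 0 ≠ f 1 := f.injective.ne (by decide)
  have h02 : f 0 ≠ f 2 := f.injective.ne (by decide)
  have h12 : f 1 ≠ f 2 := f.injective.ne (by decide)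
  have h03 : f 0 ≠ f 3 := f.injective.ne (by decide)
  have h13 : f 1 ≠ f 3 := f.injective.ne (by decide)
  have h23 : f 2 ≠ f 3 := f.injective.ne (by decide)
  obtain ⟨s, rfl, rfl, rfl⟩ := trans3 h01 h02 h12 h03 h13 h23 h.1 h.2.1 h'.2.1 h.2.2 h'.2.2
    h''.2.2
  exact ⟨_, adj_smul s (adj_ev h03), adj_smul s (adj_ev h13), adj_smul s (adj_ev h23)⟩

theorem exists_perp_vec (h4 : 4 ≤ Fintype.card ι) {x : ι → F} (hx : hf x x = 1) (v : ι → F) :
    ∃ z, adj x z ∧ hf z v = 0 := by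
  obtain ⟨f⟩ := exists_emb h4
  have h01 : f 0 ≠ f 1 := f.injective.ne (by decide)
  have h02 : f 0 ≠ f 2 := f.injective.ne (by decide)
  have h12 : f 1 ≠ f 2 := f.injective.ne (by decide)
  have h03 : f 0 ≠ f 3 := f.injective.ne (by decide)
  have h13 : f 1 ≠ f 3 := f.injective.ne (by decide)
  have h23 : f 2 ≠ f 3 := f.injective.ne (by decide)
  obtain ⟨s, rfl⟩ := trans1 h01 hx
  obtain ⟨z, hz, hz2, hz3⟩ := exists_unit_perp h12 h13 h23 (s⁻¹ • v)
  refine ⟨s • z, adj_smul s ⟨by simp, hz, by simp [hz3 _ h01 h02 h03]⟩, by rw [hf_SU', hz2]⟩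

theorem adj.exists_perp_vec (h5 : 5 ≤ Fintype.card ι) {x y : ι → F} (h : adj x y) (v : ι → F) :
    ∃ z, adj x z ∧ adj y z ∧ hf z v = 0 := by
  obtain ⟨f⟩ := exists_emb h5
  have h01 : f 0 ≠ f 1 := f.injective.ne (by decide)
  have h02 : f 0 ≠ f 2 := f.injective.ne (by decide)
  have h12 : f 1 ≠ f 2 := f.injective.ne (by decide)
  have h03 : f 0 ≠ f 3 := f.injective.ne (by decide)
  have h13 : f 1 ≠ f 3 := f.injective.ne (by decide)
  have h23 : f 2 ≠ f 3 := f.injective.ne (by decide)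
  have h04 : f 0 ≠ f 4 := f.injective.ne (by decide)
  have h14 : f 1 ≠ f 4 := f.injective.ne (by decide)
  have h24 : f 2 ≠ f 4 := f.injective.ne (by decide)
  have h34 : f 3 ≠ f 4 := f.injective.ne (by decide)
  obtain ⟨s, rfl, rfl⟩ := trans2 h01 h02 h12 h.1 h.2.1 h.2.2
  obtain ⟨z, hz, hz2, hz3⟩ := exists_unit_perp h23 h24 h34 (s⁻¹ • v)
  refine ⟨s • z, adj_smul s ⟨by simp, hz, by simp [hz3 _ h02 h03 h04]⟩,
    adj_smul s ⟨by simp, hz, by simp [hz3 _ h12 h13 h14]⟩, by rw [hf_SU', hz2]⟩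

theorem good.exists_perp (h3 : 3 ≤ Fintype.card ι) {x y : ι → F} (h : good x y) :
    ∃ w, adj x w ∧ adj y w := by
  obtain ⟨u, α, β, hu, rfl⟩ := h.ortho
  obtain ⟨w, h1, h2⟩ := hu.exists_perp h3
  exact ⟨w, h1, h.2.1, h1.2.1, by simp [h1.perp, h2.perp]⟩

theorem conn4 (h4 : 4 ≤ Fintype.card ι) {x y : ι → F} (hx : hf x x = 1) (hy : hf y y = 1) :
    Relation.ReflTransGen adj x y := by
  obtain ⟨z, h1, h2⟩ := exists_perp_vec h4 hx y
  exact (Relation.ReflTransGen.single h1).tail ⟨h1.2.1, hy, h2⟩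

theorem conn3 (hB : Big2 F) (h3 : 3 ≤ Fintype.card ι) {x y : ι → F} (hx : hf x x = 1)
    (hy : hf y y = 1) : Relation.ReflTransGen adj x y := by
  have key : ∀ x y : ι → F, good x y → Relation.ReflTransGen adj x y := by
    intro x y h
    obtain ⟨w, h1, h2⟩ := h.exists_perp h3
    exact (Relation.ReflTransGen.single h1).tail h2.symm
  by_cases hg : good y x
  · exact key _ _ hg.symm
  rw [good_iff hy hx, not_not] at hg
  obtain ⟨u, hu⟩ := exists_adj (by omega) hy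
  obtain ⟨α, β, hα, h1, h2⟩ := big_line2 hB (QNZ_of_adj one_ne_zero 0 hu)
    (QNZ_of_adj one_ne_zero x hu)
  have hβ : β ≠ 0 := by
    rintro rfl
    rw [zero_smul, add_zero, Qf_smul, hg, mul_zero] at h2
    exact h2 rfl
  refine (key _ _ ((good_iff h1 hx).2 h2).symm).trans (key _ _ ((good_iff h1 hy).2 ?_))
  simp only [Qf, hf_add_left, hf_add_right, hf_smul_left, hf_smul_right, hu.1, hu.2.1, hu.perp,
    hu.perp']
  intro h
  have : β * star β = 0 := by linear_combination h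
  simp [hβ] at this

end Dim

section SC

variable {ι F G : Type*} [Fintype ι] [DecidableEq ι] [Field F] [StarRing F] [Group G]

/-- the basic relations satisfied by the Tits cocycle -/
structure Cocy (c : (ι → F) → (ι → F) → G) : Prop where
  inv : ∀ x y, adj x y → c y x = (c x y)⁻¹
  tri : ∀ x y z, adj x y → adj y z → adj x z → c x y * c y z = c x z
  sq2 : ∀ (x u y y' : ι → F) (α β : F), adj x u → adj x y → adj u y → adj x y' → adj u y' →
    hf (α • x + β • u) (α • x + β • u) = 1 →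
    c x y * c y (α • x + β • u) = c x y' * c y' (α • x + β • u)

/-- the square relation for three-dimensional subspaces -/
def Sq3 (c : (ι → F) → (ι → F) → G) : Prop :=
  ∀ (x u v y y' : ι → F) (α β γ : F), adj x u → adj x v → adj u v → adj x y → adj u y →
    adj v y → adj x y' → adj u y' → adj v y' →
    hf (α • x + β • u + γ • v) (α • x + β • u + γ • v) = 1 →
    c x y * c y (α • x + β • u + γ • v) = c x y' * c y' (α • x + β • u + γ • v)

open Classical in
/-- holonomy along a path of length two -/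
noncomputable def Dc (c : (ι → F) → (ι → F) → G) (x x' : ι → F) : G :=
  if h : ∃ y, adj x y ∧ adj x' y then c x h.choose * c h.choose x' else 1

variable [HermField F] {c : (ι → F) → (ι → F) → G}

omit [DecidableEq ι] in
theorem Cocy.sq_good (hc : Cocy c) {x x' y y' : ι → F} (h : good x x') (h1 : adj x y)
    (h2 : adj x' y) (h3 : adj x y') (h4 : adj x' y') : c x y * c y x' = c x y' * c y' x' := by
  obtain ⟨u, α, β, hu, rfl⟩ := h.ortho
  have hβ : β ≠ 0 := by
    rintro rfl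
    have h5 := h.2.1
    have h6 := h.2.2
    simp [h.1] at h5 h6
    apply h6; linear_combination -h5
  have key : ∀ y, adj x y → adj (α • x + β • u) y → adj u y := by
    intro y h1 h2
    refine ⟨hu.2.1, h1.2.1, ?_⟩
    have := h2.perp
    simpa [h1.perp, hβ] using this
  exact hc.sq2 x u y y' α β hu h1 (key y h1 h2) h3 (key y' h3 h4) h.2.1

omit [DecidableEq ι] in
theorem Cocy.D_eq (hc : Cocy c) {x x' y : ι → F} (h : good x x') (h1 : adj x y)
    (h2 : adj x' y) : Dc c x x' = c x y * c y x' := by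
  have hex : ∃ y, adj x y ∧ adj x' y := ⟨y, h1, h2⟩
  unfold Dc
  rw [dif_pos hex]
  exact hc.sq_good h hex.choose_spec.1 hex.choose_spec.2 h1 h2

theorem Cocy.D_symm (hc : Cocy c) (h3 : 3 ≤ Fintype.card ι) {x x' : ι → F} (h : good x x') :
    Dc c x' x = (Dc c x x')⁻¹ := by
  obtain ⟨w, h1, h2⟩ := h.exists_perp h3
  rw [hc.D_eq h h1 h2, hc.D_eq h.symm h2 h1, hc.inv _ _ h1, hc.inv _ _ h2]
  group

theorem Cocy.D_adj (hc : Cocy c) (h3 : 3 ≤ Fintype.card ι) {x x' : ι → F} (h : adj x x') :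
    Dc c x x' = c x x' := by
  obtain ⟨w, h1, h2⟩ := h.exists_perp h3
  rw [hc.D_eq h.good h1 h2, hc.tri _ _ _ h1 h2.symm h]

omit [DecidableEq ι] in
theorem Cocy.T1 (hc : Cocy c) {x y z w : ι → F} (hxy : good x y) (hyz : good y z)
    (hxz : good x z) (h1 : adj x w) (h2 : adj y w) (h3 : adj z w) :
    Dc c x y * Dc c y z = Dc c x z := by
  rw [hc.D_eq hxy h1 h2, hc.D_eq hyz h2 h3, hc.D_eq hxz h1 h3, hc.inv _ _ h2]
  group

theorem Cocy.T2 (hc : Cocy c) (hB : Big3 F) (h4 : 4 ≤ Fintype.card ι) {a f z : ι → F}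
    (haf : good a f) (haz : good a z) (hfz : adj f z) :
    Dc c a f * Dc c f z = Dc c a z := by
  have h3 : 3 ≤ Fintype.card ι := by omega
  obtain ⟨u, α, β, hu, rfl⟩ := haf.ortho
  obtain ⟨w1, w2, h1, h2, h1', h2', h12⟩ := hu.exists_perp2 h4
  obtain ⟨γ, δ, -, hw, hw1, hw2⟩ := big_line3 hB (QNZ_of_adj one_ne_zero 0 h12)
    (QNZ_of_adj one_ne_zero z h12) (QNZ_of_adj haz.2.2 z h12)
  set w := γ • w1 + δ • w2 with hwdef
  have haw : adj a w := ⟨haf.1, hw, by simp [hwdef, h1.perp, h1'.perp]⟩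
  have hfw : adj (α • a + β • u) w :=
    ⟨haf.2.1, hw, by simp [hwdef, h1.perp, h1'.perp, h2.perp, h2'.perp]⟩
  have hwz : good w z := (good_iff hw hfz.2.1).2 hw1
  obtain ⟨v, a1, a2, a3, hv1, hv2, hz⟩ := haw.ortho (z := z) (by
    rw [hfz.2.1]
    simp only [Qf, hw] at hw2
    intro h; apply hw2; linear_combination h)
  obtain ⟨y, hy1, hy2, hy3⟩ := haw.exists_perp3 h4 hv1 hv2
  have hzy : adj z y := ⟨hfz.2.1, hy1.2.1, by rw [hz]; simp [hy1.perp, hy2.perp, hy3.perp]⟩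
  rw [← hc.T1 haw.good hwz haz hy1 hy2 hzy, hc.D_eq haf haw hfw, hc.D_adj h3 hfz,
    hc.D_adj h3 haw, hc.D_eq hwz hfw.symm hfz.symm, mul_assoc]

theorem Cocy.T (hc : Cocy c) (hB : Big3 F) (h4 : 4 ≤ Fintype.card ι) {x y z : ι → F}
    (hxy : good x y) (hyz : good y z) (hxz : good x z) :
    Dc c x y * Dc c y z = Dc c x z := by
  have h3 : 3 ≤ Fintype.card ι := by omega
  obtain ⟨u, α, β, hu, rfl⟩ := hxy.ortho
  by_cases hr : hf z z - hf z x * hf x z - hf z u * hf u z = 0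
  swap
  · obtain ⟨v, a1, a2, a3, hv1, hv2, hz⟩ := hu.ortho hr
    obtain ⟨w, hw1, hw2, hw3⟩ := hu.exists_perp3 h4 hv1 hv2
    exact hc.T1 hxy hyz hxz hw1 ⟨hxy.2.1, hw1.2.1, by simp [hw1.perp, hw2.perp]⟩
      ⟨hxz.2.1, hw1.2.1, by rw [hz]; simp [hw1.perp, hw2.perp, hw3.perp]⟩
  rw [hxz.2.1] at hr
  by_cases hzx : hf x z = 0
  · have := hc.T2 hB h4 hxy.symm hyz ⟨hxz.1, hxz.2.1, hzx⟩
    rw [← this, hc.D_symm h3 hxy]; group
  by_cases hzy : hf (α • x + β • u) z = 0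
  · exact hc.T2 hB h4 hxy hxz ⟨hyz.1, hyz.2.1, hzy⟩
  have hy := hxy.2.1
  simp only [hf_add_left, hf_add_right, hf_smul_left, hf_smul_right, hu.1, hu.2.1, hu.perp,
    hu.perp'] at hy
  set f := hf u z • x - hf x z • u with hfdef
  have hf1 : hf f f = 1 := by
    simp only [hfdef, hf_sub_left, hf_sub_right, hf_smul_left, hf_smul_right, hu.1, hu.2.1,
      hu.perp, hu.perp', star_hf]
    linear_combination -hr
  have hfz : adj f z := ⟨hf1, hxz.2.1, by simp [hfdef]; ring⟩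
  have hxf : good x f := by
    refine ⟨hu.1, hf1, ?_⟩
    simp only [hfdef, hf_sub_left, hf_sub_right, hf_smul_left, hf_smul_right, hu.1, hu.2.1,
      hu.perp, hu.perp', star_hf]
    intro h
    have : hf x z * hf z x = 0 := by linear_combination h - hr
    exact mul_ne_zero hzx (hf_ne_symm hzx) this
  have hyf : good (α • x + β • u) f := by
    refine ⟨hxy.2.1, hf1, ?_⟩
    intro h
    apply mul_ne_zero hzy (hf_ne_symm hzy)
    simp only [hfdef, hf_sub_left, hf_sub_right, hf_smul_left, hf_smul_right, hu.1, hu.2.1,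
      hu.perp, hu.perp', star_hf, hf_add_left, hf_add_right] at h ⊢
    linear_combination h - (α * star α + β * star β) * hr + hy
  obtain ⟨w, hw1, hw2⟩ := hu.exists_perp h3
  have e1 := hc.T1 hxf hyf.symm hxy hw1 ⟨hf1, hw1.2.1, by simp [hfdef, hw1.perp, hw2.perp]⟩
    ⟨hxy.2.1, hw1.2.1, by simp [hw1.perp, hw2.perp]⟩
  have e2 := hc.T2 hB h4 hxf hxz hfz
  have e3 := hc.T2 hB h4 hyf hyz hfz
  rw [← e1, ← e2, ← e3, hc.D_symm h3 hyf]
  group

theorem Cocy.C4 (hc : Cocy c) (hB : Big3 F) (h4 : 4 ≤ Fintype.card ι) {a b p r : ι → F}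
    (hab : good a b) (hbp : good b p) (hrp : good r p) (har : good a r) :
    Dc c a b * Dc c b p = Dc c a r * Dc c r p := by
  have h3 : 3 ≤ Fintype.card ι := by omega
  obtain ⟨α, β, hα, hf1, h1, h2⟩ := big_line3 hB (κ := 1) (κ' := 1) (a := a) (a' := b)
    (p := p) (r := r) (Or.inl (by rw [Qf_zero, hrp.2.1]; exact one_ne_zero))
    (Or.inr (Or.inr har.symm.Q)) (Or.inl hbp.symm.Q)
  by_cases hβ : β = 0
  · subst hβ
    rw [zero_smul, add_zero, Qf_smul] at h1
    have hap : good a p := ((good_iff hbp.2.1 hab.1).2 (right_ne_zero_of_mul h1)).symm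
    rw [hc.T hB h4 hab hbp hap, hc.T hB h4 har hrp hap]
  set f := α • p + β • r with hfdef
  have hfa : good f a := (good_iff hf1 hab.1).2 h1
  have hfb : good f b := (good_iff hf1 hab.2.1).2 h2
  have hfp : good f p := by
    rw [good_iff hf1 hrp.2.1]
    have : Qf 1 p f f = β * star β * (1 - hf r p * hf p r) := by
      simp only [Qf, hfdef, hf_add_left, hf_add_right, hf_smul_left, hf_smul_right, hrp.1,
        hrp.2.1]
      ring
    rw [this]
    exact mul_ne_zero (mul_ne_zero hβ (by simpa using hβ)) hrp.2.2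
  have hfr : good f r := by
    rw [good_iff hf1 hrp.1]
    have : Qf 1 r f f = α * star α * (1 - hf r p * hf p r) := by
      simp only [Qf, hfdef, hf_add_left, hf_add_right, hf_smul_left, hf_smul_right, hrp.1,
        hrp.2.1]
      ring
    rw [this]
    exact mul_ne_zero (mul_ne_zero hα (by simpa using hα)) hrp.2.2
  rw [← hc.T hB h4 hfa.symm hfb hab, ← hc.T hB h4 hfb.symm hfp hbp,
    ← hc.T hB h4 hfa.symm hfr har, ← hc.T hB h4 hfr.symm hfp hrp, hc.D_symm h3 hfb,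
    hc.D_symm h3 hfr]
  group

/-- simple connectivity in dimension at least four over big fields -/
theorem Cocy.triv4 (hc : Cocy c) (hB : Big3 F) (h4 : 4 ≤ Fintype.card ι) {x0 : ι → F}
    (h0 : hf x0 x0 = 1) :
    ∃ a : (ι → F) → G, a x0 = 1 ∧ ∀ x y, adj x y → c x y = (a x)⁻¹ * a y := by
  classical
  have h3 : 3 ≤ Fintype.card ι := by omega
  let a : (ι → F) → G := fun y =>
    if h : ∃ f, good x0 f ∧ good f y then Dc c x0 h.choose * Dc c h.choose y else 1
  have ha : ∀ y f, good x0 f → good f y → a y = Dc c x0 f * Dc c f y := by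
    intro y f h1 h2
    have hex : ∃ f, good x0 f ∧ good f y := ⟨f, h1, h2⟩
    simp only [a]
    rw [dif_pos hex]
    exact hc.C4 hB h4 hex.choose_spec.1 hex.choose_spec.2 h2 h1
  refine ⟨fun y => (a x0)⁻¹ * a y, by simp, ?_⟩
  intro y y' h
  obtain ⟨α, β, hα, hf1, h1, h2⟩ := big_line3 hB (QNZ_of_adj one_ne_zero 0 h)
    (QNZ_of_adj one_ne_zero x0 h) (κ' := 1) (a' := y)
    (Or.inr (Or.inr (by simp [Qf, h.2.1, h.perp])))
  set f := α • y + β • y' with hfdef
  have h5 : good f x0 := (good_iff hf1 h0).2 h1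
  have h6 : good f y := (good_iff hf1 h.1).2 h2
  have h7 : good f y' := by
    rw [good_iff hf1 h.2.1]
    have : Qf 1 y' f f = α * star α := by
      simp only [Qf, hfdef, hf_add_left, hf_add_right, hf_smul_left, hf_smul_right, h.1,
        h.2.1, h.perp, h.perp']
      ring
    rw [this]
    exact mul_ne_zero hα (by simpa using hα)
  simp only
  rw [ha y f h5.symm h6, ha y' f h5.symm h7, ← hc.D_adj h3 h, ← hc.T hB h4 h6.symm h7 h.good,
    hc.D_symm h3 h6]
  group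

theorem Cocy.sq5 (hc : Cocy c) (hs : Sq3 c) (h5 : 5 ≤ Fintype.card ι) {x x' y y' : ι → F}
    (h1 : adj x y) (h2 : adj x' y) (h3 : adj x y') (h4 : adj x' y') :
    c x y * c y x' = c x y' * c y' x' := by
  by_cases hg : good x x'
  · exact hc.sq_good hg h1 h2 h3 h4
  have hN : 1 - hf x x' * hf x' x = 0 := by
    by_contra h; exact hg ⟨h1.1, h2.1, h⟩
  obtain ⟨z, hz1, hz2, hz3⟩ := h1.exists_perp_vec h5 y'
  have hz4 : adj y' z := adj.symm ⟨hz1.2.1, h3.2.1, hz3⟩
  by_cases hzx : hf x' z = 0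
  · have hz5 : adj x' z := ⟨h2.1, hz1.2.1, hzx⟩
    rw [← hc.tri _ _ _ hz1 hz2.symm h1, ← hc.tri _ _ _ hz2 hz5.symm h2.symm,
      ← hc.tri _ _ _ hz1 hz4.symm h3, ← hc.tri _ _ _ hz4 hz5.symm h4.symm, hc.inv _ _ hz2,
      hc.inv _ _ hz4]
    group
  obtain ⟨v, α, β, γ, hv1, hv2, rfl⟩ := hz1.ortho (z := x') (by
    rw [h2.1]
    intro h
    apply mul_ne_zero hzx (hf_ne_symm hzx)
    linear_combination hN - h)
  have hγ : γ ≠ 0 := by
    rintro rfl
    have h6 := h2.1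
    simp [hz1.1, hz1.2.1, hz1.perp, hz1.perp'] at h6 hN hzx
    have : β * star β = 0 := by linear_combination h6 + hN
    simp [hzx] at this
  have key : ∀ y, adj x y → adj y z → adj (α • x + β • z + γ • v) y → adj v y := by
    intro y h1 h2 h3
    refine ⟨hv1.2.1, h1.2.1, ?_⟩
    have := h3.perp
    simpa [h1.perp, h2.perp', hγ] using this
  exact hs x z v y y' α β γ hz1 hv1 hv2 h1 hz2.symm (key y h1 hz2 h2) h3 hz4.symm
    (key y' h3 hz4 h4) h2.1

/-- simple connectivity in dimension at least five -/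
theorem Cocy.triv5 (hc : Cocy c) (hs : Sq3 c) (h5 : 5 ≤ Fintype.card ι) {x0 : ι → F}
    (h0 : hf x0 x0 = 1) :
    ∃ a : (ι → F) → G, a x0 = 1 ∧ ∀ x y, adj x y → c x y = (a x)⁻¹ * a y := by
  have ha : ∀ y f, adj x0 f → adj y f → Dc c x0 y = c x0 f * c f y := by
    intro y f h1 h2
    have hex : ∃ f, adj x0 f ∧ adj y f := ⟨f, h1, h2⟩
    unfold Dc
    rw [dif_pos hex]
    exact hc.sq5 hs h5 hex.choose_spec.1 hex.choose_spec.2 h1 h2
  refine ⟨fun y => (Dc c x0 x0)⁻¹ * Dc c x0 y, by simp, ?_⟩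
  intro y y' h
  obtain ⟨z, hz1, hz2, hz3⟩ := h.exists_perp_vec h5 x0
  have hz4 : adj x0 z := adj.symm ⟨hz1.2.1, h0, hz3⟩
  simp only
  rw [ha y z hz4 hz1, ha y' z hz4 hz2, ← hc.tri _ _ _ hz1 hz2.symm h, hc.inv _ _ hz1]
  group

end SC

end CfsgH4
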