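import Cfsg.Agent.H4.PhanAut
import Cfsg.Prelude.Def_PhanSystems

set_option autoImplicit false

open Matrix

namespace CfsgH4

theorem exists_hom_of_range_le {H K G : Type*} [Group H] [Group K] [Group G] (a : H →* G)
    (b : K →* G) (hb : Function.Injective b) (h : a.range ≤ b.range) :
    ∃ α : H →* K, ∀ x, b (α x) = a x := by
  refine ⟨(MonoidHom.ofInjective hb).symm.toMonoidHom.comp
    (a.codRestrict b.range (fun x => h ⟨x, rfl⟩)), fun x => ?_⟩
  exact MonoidHom.apply_ofInjective_symm hb _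

section Weak

variable {F G : Type*} [Field F] [StarRing F] [Group G]

/-- the first block of `SU₃` -/
abbrev io0 : SUg (Fin 2) F →* SUg (Fin 3) F := ext (sh 0 (by omega))
/-- the second block of `SU₃` -/
abbrev io1 : SUg (Fin 2) F →* SUg (Fin 3) F := ext (sh 1 (by omega))

/-- a standard pair, given by a homomorphism with central kernel -/
structure StdPair (ψ : SUg (Fin 3) F →* G) (A B : Subgroup G) : Prop where
  ker : ∀ x, ψ x = 1 → x ∈ Subgroup.center (SUg (Fin 3) F)
  im0 : (ψ.comp io0).range = A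
  im1 : (ψ.comp io1).range = B

theorem io0_dg (l : F) (h : l * star l = 1) : (io0 (dg2 l h)).1 = diagonal ![l, star l, 1] := by
  have h1 := fun i j => ext_apply (sh 0 (by omega : 0 + 2 ≤ 3)) (dg2 l h) i j
  have h2 := fun i j => Blk_entry (ext_mem_Blk' (sh 0 (by omega : 0 + 2 ≤ 3))
    (t := {2}ᶜ) (by decide) (dg2 l h)) (i := i) (j := j)
  simp only [dg2_val] at h1
  ext i j
  fin_cases i <;> fin_cases j
  · exact h1 0 0
  · exact h1 0 1
  · exact h2 0 2 (by simp)
  · exact h1 1 0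
  · exact h1 1 1
  · exact h2 1 2 (by simp)
  · exact h2 2 0 (by simp)
  · exact h2 2 1 (by simp)
  · exact h2 2 2 (by simp)

theorem io1_dg (l : F) (h : l * star l = 1) : (io1 (dg2 l h)).1 = diagonal ![1, l, star l] := by
  have h1 := fun i j => ext_apply (sh 1 (by omega : 1 + 2 ≤ 3)) (dg2 l h) i j
  have h2 := fun i j => Blk_entry (ext_mem_Blk' (sh 1 (by omega : 1 + 2 ≤ 3))
    (t := {0}ᶜ) (by decide) (dg2 l h)) (i := i) (j := j)
  simp only [dg2_val] at h1
  ext i j
  fin_cases i <;> fin_cases j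
  · exact h2 0 0 (by simp)
  · exact h2 0 1 (by simp)
  · exact h2 0 2 (by simp)
  · exact h2 1 0 (by simp)
  · exact h1 0 0
  · exact h1 0 1
  · exact h2 2 0 (by simp)
  · exact h1 1 0
  · exact h1 1 1

theorem norm3 {a b c : F} (ha : a * star a = 1) (hb : b * star b = 1) (hc : c * star c = 1)
    (i : Fin 3) : ![a, b, c] i * star (![a, b, c] i) = 1 := by
  fin_cases i <;> simpa

theorem norm2 {a b : F} (ha : a * star a = 1) (hb : b * star b = 1)
    (i : Fin 2) : ![a, b] i * star (![a, b] i) = 1 := by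
  fin_cases i <;> simpa

theorem conj_io1 (l : F) (h : l * star l = 1) (X : SUg (Fin 2) F) :
    io0 (dg2 l h) * io1 X * (io0 (dg2 l h))⁻¹ =
      io1 ((SLD.dg ![star l, 1] (norm2 (by simpa [mul_comm] using h) (by simp))).hom X) := by
  rw [SLD.conj_diag (norm3 h (by simpa [mul_comm] using h) (by simp)) (io0_dg l h), SLD.hom_ext]
  congr 1
  apply Subtype.ext
  ext i j
  rw [SLD.hom_apply, SLD.hom_apply]
  fin_cases i <;> fin_cases j <;> rfl

theorem conj_io0 (l : F) (h : l * star l = 1) (X : SUg (Fin 2) F) :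
    io1 (dg2 l h) * io0 X * (io1 (dg2 l h))⁻¹ =
      io0 ((SLD.dg ![1, l] (norm2 (by simp) h)).hom X) := by
  rw [SLD.conj_diag (norm3 (by simp) h (by simpa [mul_comm] using h)) (io1_dg l h), SLD.hom_ext]
  congr 1
  apply Subtype.ext
  ext i j
  rw [SLD.hom_apply, SLD.hom_apply]
  fin_cases i <;> fin_cases j <;> rfl

namespace StdPair

variable {ψ ψ' : SUg (Fin 3) F →* G} {A B C : Subgroup G}

theorem comp_hom (h : StdPair ψ A B) (D : SLD (Fin 3) F) : StdPair (ψ.comp D.hom) A B where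
  ker := by
    intro x hx
    have := h.ker _ hx
    rw [Subgroup.mem_center_iff] at this ⊢
    intro g
    apply D.injective
    rw [map_mul, map_mul, this]
  im0 := by rw [range_comp_ext, h.im0]
  im1 := by rw [range_comp_ext, h.im1]

theorem mem0 (h : StdPair ψ A B) (X : SUg (Fin 2) F) : ψ (io0 X) ∈ A := h.im0 ▸ ⟨X, rfl⟩
theorem mem1 (h : StdPair ψ A B) (X : SUg (Fin 2) F) : ψ (io1 X) ∈ B := h.im1 ▸ ⟨X, rfl⟩

variable [HermField F]

theorem inj0 (h : StdPair ψ A B) : Function.Injective (ψ.comp io0) := by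
  rw [injective_iff_map_eq_one]
  intro X hX
  have := center_fix (h.ker _ hX) (k := 2) (l := 0) (by decide) (ext_sh_fix _ _ _ _ (by simp))
  exact ext_injective _ (this.trans (map_one _).symm)

theorem inj1 (h : StdPair ψ A B) : Function.Injective (ψ.comp io1) := by
  rw [injective_iff_map_eq_one]
  intro X hX
  have := center_fix (h.ker _ hX) (k := 0) (l := 2) (by decide) (ext_sh_fix _ _ _ _ (by simp))
  exact ext_injective _ (this.trans (map_one _).symm)

theorem torus (h : StdPair ψ A B) (h' : StdPair ψ' B C)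
    (hc : ∀ x ∈ A, ∀ y ∈ C, Commute x y) {X Y : SUg (Fin 2) F} (hX : X.1 0 1 = 0)
    (hXY : ψ' (io0 Y) = ψ (io1 X)) : Y.1 0 1 = 0 := by
  obtain ⟨l, hl, hl2⟩ := exists_lam (F := F)
  set s := ψ (io0 (dg2 l hl)) with hs
  set t := ψ' (io1 (dg2 l hl)) with ht
  have hst : Commute s t := hc _ (h.mem0 _) _ (h'.mem1 _)
  have e1 : ∀ X, s * ψ (io1 X) * s⁻¹ = ψ (io1 ((SLD.dg ![star l, 1]
      (norm2 (by simpa [mul_comm] using hl) (by simp))).hom X)) := by
    intro X; rw [← conj_io1 l hl, map_mul, map_mul, map_inv]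
  have e2 : ∀ X, t * ψ' (io0 X) * t⁻¹ = ψ' (io0 ((SLD.dg ![1, l]
      (norm2 (by simp) hl)).hom X)) := by
    intro X; rw [← conj_io0 l hl, map_mul, map_mul, map_inv]
  set Y' := (SLD.dg ![1, l] (norm2 (by simp) hl)).hom Y with hY'
  obtain ⟨X', hX'⟩ : ψ' (io0 Y') ∈ (ψ.comp io1).range := by rw [h.im1]; exact h'.mem0 _
  rw [MonoidHom.comp_apply] at hX'
  have f1 : s * ψ (io1 X) * s⁻¹ = ψ (io1 X) := by
    rw [e1]
    congr 2
    have := (su2_entries X).1
    apply Subtype.ext
    ext i j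
    fin_cases i <;> fin_cases j <;> simp [SLD.hom_apply, SLD.dg, hX, this]
    linear_combination X.1 0 0 * hl
  have f2 : s * ψ (io1 X') * s⁻¹ = ψ (io1 X') := by
    rw [hX', ← e2, hXY]
    conv_rhs => rw [← f1]
    calc s * (t * ψ (io1 X) * t⁻¹) * s⁻¹ = (s * t) * ψ (io1 X) * (s * t)⁻¹ := by group
      _ = (t * s) * ψ (io1 X) * (t * s)⁻¹ := by rw [hst.eq]
      _ = _ := by group
  rw [e1] at f2
  have f3 := congrArg (fun Z : SUg (Fin 2) F => Z.1 0 1) (h.inj1 f2)
  simp only [SLD.hom_apply, SLD.dg] at f3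
  have hl1 : star l - 1 ≠ 0 := by
    intro h0
    apply ne_one_of_ne_star hl2
    have := congrArg star h0
    simpa [sub_eq_zero] using this
  have f4 : X'.1 0 1 = 0 := by
    apply mul_left_cancel₀ hl1
    simp at f3
    linear_combination f3
  have f5 : Y * Y' = Y' * Y := by
    apply h'.inj0
    simp only [MonoidHom.comp_apply, map_mul]
    rw [hXY, ← hX', ← map_mul, ← map_mul, ← map_mul, ← map_mul, su2_comm_of_diag hX f4]
  have f6 := congrArg (fun Z : SUg (Fin 2) F => Z.1 0 0) f5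
  have f7 := (su2_entries Y).1
  simp [hY', Matrix.mul_apply, Fin.sum_univ_two, SLD.hom_apply, SLD.dg, f7] at f6
  have : (l - star l) * (Y.1 0 1 * star (Y.1 0 1)) = 0 := by linear_combination f6
  simpa [sub_ne_zero.2 hl2] using this

end StdPair

theorem StdPair.adjust [HermFin F] {ψ ψ' : SUg (Fin 3) F →* G} {A B C : Subgroup G}
    (h : StdPair ψ A B) (h' : StdPair ψ' B C) (hc : ∀ x ∈ A, ∀ y ∈ C, Commute x y) :
    ∃ D : SLD (Fin 3) F, ∀ X, ψ' (D.hom (io0 X)) = ψ (io1 X) := by
  obtain ⟨α, hα⟩ := exists_hom_of_range_le (ψ.comp io1) (ψ'.comp io0) h'.inj0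
    (by rw [h.im1, h'.im0])
  have hinj : Function.Injective α := by
    intro x y hxy
    apply h.inj1
    rw [← hα, ← hα, hxy]
  obtain ⟨D, hD⟩ := su2_aut α hinj (fun X hX => h.torus h' hc hX (hα X))
  refine ⟨D.extend (sh 0 (by omega)), fun X => ?_⟩
  rw [SLD.extend_hom, ← hD]
  exact hα X

/-- normalisation of a weak Phan system -/
theorem exists_coherent [HermFin F] (n : ℕ) (U : ℕ → Subgroup G) (Ψ : ℕ → SUg (Fin 3) F →* G)
    (hΨ : ∀ j, j + 1 < n → StdPair (Ψ j) (U j) (U (j + 1)))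
    (hc : ∀ j, j + 2 < n → ∀ x ∈ U j, ∀ y ∈ U (j + 2), Commute x y) :
    ∃ v : ℕ → SUg (Fin 3) F →* G,
      (∀ j, j + 1 < n → StdPair (v j) (U j) (U (j + 1)) ∧ (v j).range = (Ψ j).range) ∧
      ∀ j, j + 2 < n → ∀ X, v (j + 1) (io0 X) = v j (io1 X) := by
  classical
  let step : ℕ → (SUg (Fin 3) F →* G) → (SUg (Fin 3) F →* G) := fun j ψ =>
    if h : ∃ D : SLD (Fin 3) F, ∀ X, Ψ (j + 1) (D.hom (io0 X)) = ψ (io1 X) then
      (Ψ (j + 1)).comp h.choose.hom else Ψ (j + 1)
  let v : ℕ → SUg (Fin 3) F →* G := fun j => Nat.rec (Ψ 0) step j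
  have hv : ∀ j, v (j + 1) = step j (v j) := fun j => rfl
  have h1 : ∀ j, j + 1 < n → StdPair (v j) (U j) (U (j + 1)) ∧ (v j).range = (Ψ j).range := by
    intro j hj
    rcases j with _ | j
    · exact ⟨hΨ 0 hj, rfl⟩
    · rw [hv]
      simp only [step]
      split_ifs with h
      · refine ⟨(hΨ _ hj).comp_hom _, ?_⟩
        rw [MonoidHom.range_comp, MonoidHom.range_eq_top.2 (SLD.surjective _),
          ← MonoidHom.range_eq_map]
      · exact ⟨hΨ _ hj, rfl⟩
  refine ⟨v, h1, fun j hj X => ?_⟩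
  have h := (h1 j (by omega)).1.adjust (hΨ (j + 1) (by omega)) (hc j hj)
  rw [hv]
  simp only [step]
  rw [dif_pos h]
  exact h.choose_spec X

/-- the coherent system attached to a normalised weak system -/
def phanSysOf (n : ℕ) (hn : 2 ≤ n) (U : ℕ → Subgroup G) (v : ℕ → SUg (Fin 3) F →* G)
    (hv : ∀ j, j + 1 < n → StdPair (v j) (U j) (U (j + 1)))
    (hco : ∀ j, j + 2 < n → ∀ X, v (j + 1) (io0 X) = v j (io1 X))
    (huu : ∀ a b, a + 2 ≤ b → b < n → ∀ x ∈ U a, ∀ y ∈ U b, Commute x y)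
    (huv : ∀ a b, a + 2 ≤ b → b + 1 < n → ∀ x ∈ U a, ∀ B, Commute x (v b B))
    (hvu : ∀ a b, a + 3 ≤ b → b < n → ∀ A, ∀ y ∈ U b, Commute (v a A) y)
    (hvv : ∀ a b, a + 3 ≤ b → b + 1 < n → ∀ A B, Commute (v a A) (v b B)) :
    PhanSys F G (n + 1) :=
  have hu : ∀ a, a < n → ∀ X, (Nat.casesOn a ((v 0).comp io0) (fun j => (v j).comp io1) :
      SUg (Fin 2) F →* G) X ∈ U a := by
    intro a ha X
    rcases a with _ | a
    · exact (hv 0 (by omega)).mem0 X
    · exact (hv a ha).mem1 X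
  { u := fun a => Nat.casesOn a ((v 0).comp io0) (fun j => (v j).comp io1)
    v := v
    vu0 := by
      intro a ha A
      rcases a with _ | a
      · rfl
      · exact hco a (by omega) A
    vu1 := fun a _ A => rfl
    uu := fun a b h1 h2 A B => huu a b h1 (by omega) _ (hu a (by omega) A) _ (hu b (by omega) B)
    uv := fun a b h1 h2 A B => huv a b h1 (by omega) _ (hu a (by omega) A) _
    vu := fun a b h1 h2 A B => hvu a b h1 (by omega) _ _ (hu b (by omega) B)
    vv := fun a b h1 h2 A B => hvv a b h1 (by omega) _ _ }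

theorem StdPair.comm_of [HermField F] (hB : Big2 F) {ψ : SUg (Fin 3) F →* G} {A B : Subgroup G}
    (h : StdPair ψ A B) (g : G) (hA : ∀ x ∈ A, Commute g x) (hB' : ∀ x ∈ B, Commute g x)
    (X : SUg (Fin 3) F) : Commute g (ψ X) := by
  have := gen2 hB 1 ((Subgroup.centralizer {g}).comap ψ) (by
    intro b hb A
    rw [Subgroup.mem_comap, Subgroup.mem_centralizer_singleton_iff]
    obtain rfl | rfl : b = 0 ∨ b = 1 := by omega
    · exact (hA _ (h.mem0 A)).symm.eq
    · exact (hB' _ (h.mem1 A)).symm.eq)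
  have h := (Subgroup.mem_comap).1 (this ▸ Subgroup.mem_top X)
  rw [Subgroup.mem_centralizer_singleton_iff] at h
  exact Commute.symm h

/-- the coherent system when `SU₃` is generated by its blocks -/
def phanSysOf2 [HermField F] (hB : Big2 F) (n : ℕ) (hn : 2 ≤ n) (U : ℕ → Subgroup G)
    (v : ℕ → SUg (Fin 3) F →* G)
    (hv : ∀ j, j + 1 < n → StdPair (v j) (U j) (U (j + 1)))
    (hco : ∀ j, j + 2 < n → ∀ X, v (j + 1) (io0 X) = v j (io1 X))
    (huu : ∀ a b, a + 2 ≤ b → b < n → ∀ x ∈ U a, ∀ y ∈ U b, Commute x y) :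
    PhanSys F G (n + 1) :=
  have huv : ∀ a b, a + 2 ≤ b → b + 1 < n → ∀ x ∈ U a, ∀ B, Commute x (v b B) :=
    fun a b h1 h2 x hx B => (hv b h2).comm_of hB x (huu a b h1 (by omega) x hx)
      (huu a (b + 1) (by omega) h2 x hx) B
  phanSysOf n hn U v hv hco huu huv
    (fun a b h1 h2 A y hy => ((hv a (by omega)).comm_of hB y
      (fun x hx => (huu a b (by omega) h2 x hx y hy).symm)
      (fun x hx => (huu (a + 1) b (by omega) h2 x hx y hy).symm) A).symm)
    (fun a b h1 h2 A B => ((hv a (by omega)).comm_of hB _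
      (fun x hx => (huv a b (by omega) h2 x hx B).symm)
      (fun x hx => (huv (a + 1) b (by omega) h2 x hx B).symm) A).symm)

/-- Phan's theorem for big fields, in terms of standard pairs -/
theorem phan_big [HermFin F] (hB : Big3 F) (n : ℕ) (hn : 3 ≤ n) (U : ℕ → Subgroup G)
    (Ψ : ℕ → SUg (Fin 3) F →* G) (hΨ : ∀ j, j + 1 < n → StdPair (Ψ j) (U j) (U (j + 1)))
    (huu : ∀ a b, a + 2 ≤ b → b < n → ∀ x ∈ U a, ∀ y ∈ U b, Commute x y) :
    ∃ Θ : SUg (Fin (n + 1)) F →* G, ∀ j, j + 1 < n → (Ψ j).range ≤ Θ.range := by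
  obtain ⟨v, hv, hco⟩ := exists_coherent n U Ψ hΨ (fun j hj => huu j (j + 2) le_rfl hj)
  let P := phanSysOf2 hB.big2 n (by omega) U v (fun j hj => (hv j hj).1) hco huu
  obtain ⟨k, rfl⟩ : ∃ k, n = k + 3 := ⟨n - 3, by omega⟩
  obtain ⟨Θ, hΘ⟩ := P.ext_all (P.ext4 hB) k 0 (by omega)
  refine ⟨Θ, fun j hj => ?_⟩
  rw [← (hv j hj).2]
  rintro _ ⟨A, rfl⟩
  exact ⟨_, (hΘ.2 j (by omega) A).trans (by rw [zero_add]; rfl)⟩

end Weak

section Finite

variable (F : Type*) [Field F] [Fintype F] (q : ℕ)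

theorem add_pow_of_card (hF : Fintype.card F = q ^ 2) (x y : F) : (x + y) ^ q = x ^ q + y ^ q := by
  obtain ⟨p, hp, n, hpp, hn⟩ := FiniteField.card' F
  haveI : Fact p.Prime := ⟨hpp⟩
  have : q ∣ p ^ (n : ℕ) := by rw [← hn, hF]; exact dvd_pow_self q two_ne_zero
  obtain ⟨k, -, rfl⟩ := (Nat.dvd_prime_pow hpp).1 this
  exact add_pow_char_pow x y p k

/-- the involution `x ↦ x ^ q` -/
@[reducible] def starOf (hF : Fintype.card F = q ^ 2) : StarRing F where
  star x := x ^ q
  star_involutive x := by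
    show (x ^ q) ^ q = x
    rw [← pow_mul, ← pow_two, ← hF, FiniteField.pow_card]
  star_mul x y := by
    show (x * y) ^ q = y ^ q * x ^ q
    rw [mul_pow, mul_comm]
  star_add := add_pow_of_card F q hF

theorem two_le_of_card (hF : Fintype.card F = q ^ 2) : 2 ≤ q := by
  have : 1 < Fintype.card F := Fintype.one_lt_card
  rw [hF] at this
  by_contra h
  interval_cases q <;> simp at this

variable {F q}

open Polynomial in
theorem hermFin_of [StarRing F] (hF : Fintype.card F = q ^ 2) (hs : ∀ x : F, star x = x ^ q) :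
    HermFin F where
  norm_surj := by
    intro a ha
    have hq := two_le_of_card F q hF
    by_cases h0 : a = 0
    · exact ⟨0, by simp [h0]⟩
    obtain ⟨g, hg⟩ := IsCyclic.exists_ofOrder_eq_natCard (α := Fˣ)
    have hgen : ∀ x : Fˣ, x ∈ Submonoid.powers g := by
      intro x
      rw [mem_powers_iff_mem_zpowers]
      have : Subgroup.zpowers g = ⊤ := by
        apply Subgroup.eq_top_of_card_eq
        rw [Nat.card_zpowers, hg]
      rw [this]; trivial
    obtain ⟨m, hm⟩ := hgen (Units.mk0 a h0)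
    simp only at hm
    rw [Nat.card_units, Nat.card_eq_fintype_card, hF] at hg
    obtain ⟨r, rfl⟩ : ∃ r, q = r + 1 := ⟨q - 1, by omega⟩
    have h1 : g ^ (m * r) = 1 := by
      rw [pow_mul, hm]
      apply Units.ext
      rw [hs, pow_succ] at ha
      simpa using mul_right_cancel₀ h0 (ha.trans (one_mul a).symm)
    have h2 := orderOf_dvd_of_pow_eq_one h1
    rw [hg, show (r + 1) ^ 2 - 1 = (r + 2) * r by
      apply Nat.sub_eq_of_eq_add; ring] at h2
    obtain ⟨c, rfl⟩ := Nat.dvd_of_mul_dvd_mul_right (by omega) h2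
    refine ⟨(g ^ c : Fˣ), ?_⟩
    have := congrArg Units.val hm
    rw [hs, ← pow_succ', ← Units.val_pow_eq_pow_val, ← pow_mul, mul_comm c]
    exact this
  exists_ne := by
    have hq := two_le_of_card F q hF
    by_contra! h
    have h1 : (X ^ q - X : F[X]) = 0 := by
      apply eq_zero_of_natDegree_lt_card_of_eval_eq_zero _ Function.injective_id
      · intro x; simp [← hs, h]
      · rw [FiniteField.X_pow_card_sub_X_natDegree_eq F (by omega), hF]; nlinarith
    exact FiniteField.X_pow_card_sub_X_ne_zero F (by omega) h1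
  fin := inferInstance
  comm := fun τ x => by rw [hs, hs, map_pow]

open Polynomial in
theorem exists_poly_herm [StarRing F] (hq : 2 ≤ q) (hs : ∀ x : F, star x = x ^ q) {A B D : F}
    (C' : F) (h : A ≠ 0 ∨ B ≠ 0 ∨ D ≠ 0) : ∃ f : F[X], f ≠ 0 ∧ f.natDegree ≤ q + 1 ∧
      ∀ t, f.eval t = A + t * B + star t * C' + t * star t * D := by
  refine ⟨monomial 0 A + monomial 1 B + monomial q C' + monomial (q + 1) D, ?_, ?_, ?_⟩
  · intro h0
    have h1 := congrArg (fun f : F[X] => f.coeff 0) h0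
    have h2 := congrArg (fun f : F[X] => f.coeff 1) h0
    have h3 := congrArg (fun f : F[X] => f.coeff (q + 1)) h0
    simp only [coeff_add, coeff_monomial, coeff_zero] at h1 h2 h3
    have e1 : q ≠ 0 := by omega
    have e2 : q ≠ 1 := by omega
    simp [e1, e2, e1.symm] at h1 h2 h3
    tauto
  · refine natDegree_add_le_of_degree_le (natDegree_add_le_of_degree_le
      (natDegree_add_le_of_degree_le ?_ ?_) ?_) ?_ <;>
      exact (natDegree_monomial_le _).trans (by omega)
  · intro t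
    simp [hs]; ring

open Polynomial in
theorem big2_of [StarRing F] (hF : Fintype.card F = q ^ 2) (hs : ∀ x : F, star x = x ^ q)
    (hq : 3 ≤ q) : Big2 F := by
  intro A B C D A' B' C' D' h h'
  obtain ⟨f, f0, f1, f2⟩ := exists_poly_herm (by omega) hs C h
  obtain ⟨g, g0, g1, g2⟩ := exists_poly_herm (by omega) hs C' h'
  by_contra! hc
  apply mul_ne_zero f0 g0
  apply eq_zero_of_natDegree_lt_card_of_eval_eq_zero _ Function.injective_id
  · intro t
    rw [id, eval_mul, f2, g2, mul_eq_zero, or_iff_not_imp_left]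
    exact hc t
  · rw [hF]
    have := natDegree_mul_le (p := f) (q := g)
    nlinarith

open Polynomial in
theorem big3_of [StarRing F] (hF : Fintype.card F = q ^ 2) (hs : ∀ x : F, star x = x ^ q)
    (hq : 4 ≤ q) : Big3 F := by
  intro A B C D A' B' C' D' A'' B'' C'' D'' h h' h''
  obtain ⟨f, f0, f1, f2⟩ := exists_poly_herm (by omega) hs C h
  obtain ⟨g, g0, g1, g2⟩ := exists_poly_herm (by omega) hs C' h'
  obtain ⟨k, k0, k1, k2⟩ := exists_poly_herm (by omega) hs C'' h''
  by_contra! hc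
  apply mul_ne_zero (mul_ne_zero f0 g0) k0
  apply eq_zero_of_natDegree_lt_card_of_eval_eq_zero _ Function.injective_id
  · intro t
    rw [id, eval_mul, eval_mul, f2, g2, k2, mul_eq_zero, mul_eq_zero, or_assoc,
      or_iff_not_imp_left, or_iff_not_imp_left]
    exact hc t
  · rw [hF]
    have h1 := natDegree_mul_le (p := f) (q := g)
    have h2 := natDegree_mul_le (p := f * g) (q := k)
    nlinarith

end Finite

section Bridge

variable {F : Type*} [Field F] [StarRing F] {q : ℕ}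

theorem hermForm_eq (hs : ∀ x : F, star x = x ^ q) {n : ℕ} (u v : Fin n → F) :
    Cfsg.hermForm n F q u v = hf u v := by
  simp [Cfsg.hermForm, hf_def, hs]

/-- comparison with the frozen definition -/
def suEquiv (hs : ∀ x : F, star x = x ^ q) (n : ℕ) : Cfsg.SU n F q ≃* SUg (Fin n) F where
  toFun A := ⟨A.1.1, mem_unitary_of_hf (fun u v => by
    rw [← hermForm_eq hs, ← hermForm_eq hs]; exact A.2 u v), A.1.2⟩
  invFun A := ⟨⟨A.1, A.det⟩, fun u v => by
    rw [hermForm_eq hs, hermForm_eq hs]; exact hf_SU A u v⟩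
  left_inv _ := rfl
  right_inv _ := rfl
  map_mul' _ _ := rfl

theorem suBlock_eq (hs : ∀ x : F, star x = x ^ q) (n : ℕ) (s : Set (Fin n)) :
    Cfsg.suBlock n F q s = (Blk F s).comap (suEquiv hs n).toMonoidHom := by
  apply le_antisymm
  · rw [Cfsg.suBlock, Subgroup.closure_le]
    intro A hA
    refine mem_Blk_of_entry (fun i j hj => ?_)
    split_ifs with h
    · subst h; exact (hA i hj).1
    · exact ((hA j hj).2 i h).2
  · intro A hA
    apply Subgroup.subset_closure
    intro k hk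
    refine ⟨?_, fun l hl => ⟨?_, ?_⟩⟩
    · exact (Blk_entry hA (Or.inl hk)).trans (if_pos rfl)
    · exact (Blk_entry hA (Or.inl hk)).trans (if_neg hl.symm)
    · exact (Blk_entry hA (Or.inr hk)).trans (if_neg hl)

theorem range_io0 : (io0 (F := F)).range = Blk F {0, 1} := by
  apply le_antisymm
  · rintro _ ⟨A, rfl⟩
    exact ext_mem_Blk' _ (by decide) A
  · intro A hA
    exact exists_sh 0 _ (by decide) hA

theorem range_io1 : (io1 (F := F)).range = Blk F {1, 2} := by
  apply le_antisymm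
  · rintro _ ⟨A, rfl⟩
    exact ext_mem_Blk' _ (by decide) A
  · intro A hA
    exact exists_sh 1 _ (by decide) hA

theorem stdPair_of_hom (hs : ∀ x : F, star x = x ^ q) {G : Type*} [Group G] {A B : Subgroup G}
    (φ : Cfsg.SU 3 F q →* G) (hker : ∀ x, φ x = 1 → x ∈ Subgroup.center (Cfsg.SU 3 F q))
    (h0 : (Cfsg.suBlock 3 F q {0, 1}).map φ = A) (h1 : (Cfsg.suBlock 3 F q {1, 2}).map φ = B) :
    StdPair (φ.comp (suEquiv hs 3).symm.toMonoidHom) A B where
  ker := by
    intro x hx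
    have := hker _ hx
    rw [Subgroup.mem_center_iff] at this ⊢
    intro g
    apply (suEquiv hs 3).symm.injective
    rw [map_mul, map_mul]
    exact this _
  im0 := by
    rw [MonoidHom.range_comp, range_io0, ← h0, suBlock_eq hs, ← Subgroup.map_map,
      Subgroup.map_equiv_eq_comap_symm']
    rfl
  im1 := by
    rw [MonoidHom.range_comp, range_io1, ← h1, suBlock_eq hs, ← Subgroup.map_map,
      Subgroup.map_equiv_eq_comap_symm']
    rfl

theorem stdPair_of (hs : ∀ x : F, star x = x ^ q) {G : Type*} [Group G] {V A B : Subgroup G}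
    (h : Cfsg.IsStandardUnitaryPair V A B F q) :
    ∃ ψ : SUg (Fin 3) F →* G, StdPair ψ A B ∧ ψ.range = V := by
  rcases h with ⟨ψ, h0, h1⟩ | ⟨ψ, h0, h1⟩
  · refine ⟨_, stdPair_of_hom hs _ ?_ h0 h1, ?_⟩
    · intro x hx
      have : ψ x = 1 := Subtype.ext hx
      rw [map_eq_one_iff _ ψ.injective] at this
      rw [this]; exact Subgroup.one_mem _
    · rw [MonoidHom.range_comp, MonoidHom.range_eq_top.2 (MulEquiv.surjective _),
        ← MonoidHom.range_eq_map, MonoidHom.range_comp,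
        MonoidHom.range_eq_top.2 (MulEquiv.surjective _), ← MonoidHom.range_eq_map,
        Subgroup.range_subtype]
  · refine ⟨_, stdPair_of_hom hs _ ?_ h0 h1, ?_⟩
    · intro x hx
      have : ψ (QuotientGroup.mk x) = 1 := Subtype.ext hx
      rw [map_eq_one_iff _ ψ.injective, QuotientGroup.eq_one_iff] at this
      exact this
    · rw [MonoidHom.range_comp, MonoidHom.range_eq_top.2 (MulEquiv.surjective _),
        ← MonoidHom.range_eq_map, MonoidHom.range_comp,
        MonoidHom.range_eq_top.2 (ψ.surjective.comp (QuotientGroup.mk'_surjective _)),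
        ← MonoidHom.range_eq_map, Subgroup.range_subtype]

end Bridge

end CfsgH4
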