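import Cfsg.Agent.H6.MinNormal

set_option autoImplicit false

namespace CfsgQR
open Subgroup MulAction

variable {G : Type*} [Group G]

/-- centraliser of a subgroup -/
abbrev CC (T : Subgroup G) : Subgroup G := centralizer (T : Set G)

theorem mem_CC {T : Subgroup G} {c : G} : c ∈ CC T ↔ ∀ s ∈ T, s * c = c * s :=
  Subgroup.mem_centralizer_iff

/-- a simple direct factor of `N` -/
structure SF (N T : Subgroup G) : Prop where
  le : T ≤ N
  conj_mem : ∀ n ∈ N, ∀ t ∈ T, n * t * n⁻¹ ∈ T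
  simple : IsSimpleGroup T
  nc : ∃ a ∈ T, ∃ b ∈ T, a * b ≠ b * a
  decomp : ∀ n ∈ N, ∃ t ∈ T, ∃ c ∈ N, c ∈ CC T ∧ n = t * c

theorem simp_dich {T : Subgroup G} (hs : IsSimpleGroup T) (K : Subgroup G) (hK : K ≤ T)
    (hn : ∀ t ∈ T, ∀ k ∈ K, t * k * t⁻¹ ∈ K) : K = ⊥ ∨ K = T := by
  have : (K.subgroupOf T).Normal := ⟨fun k hk t => hn t t.2 k hk⟩
  rcases hs.eq_bot_or_eq_top_of_normal _ this with h | h
  · left
    rw [eq_bot_iff]
    intro k hk
    have : (⟨k, hK hk⟩ : T) ∈ K.subgroupOf T := hk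
    rw [h, mem_bot] at this
    exact congrArg Subtype.val this
  · right
    refine le_antisymm hK fun t ht => ?_
    have : (⟨t, ht⟩ : T) ∈ K.subgroupOf T := h ▸ mem_top _
    exact this

variable {N T : Subgroup G}

theorem SF.cz_conj (h : SF N T) {n c : G} (hn : n ∈ N) (hc : c ∈ CC T) : n * c * n⁻¹ ∈ CC T := by
  rw [mem_CC] at hc ⊢
  intro s hs
  have := hc _ (h.conj_mem n⁻¹ (N.inv_mem hn) s hs)
  rw [inv_inv] at this
  calc s * (n * c * n⁻¹) = n * (n⁻¹ * s * n * c) * n⁻¹ := by group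
    _ = n * (c * (n⁻¹ * s * n)) * n⁻¹ := by rw [this]
    _ = _ := by group

theorem SF.eq_one (h : SF N T) {t : G} (ht : t ∈ T) (hc : t ∈ CC T) : t = 1 := by
  rcases simp_dich h.simple (T ⊓ CC T) inf_le_left
    (fun s hs k hk => ⟨h.conj_mem s (h.le hs) k hk.1, h.cz_conj (h.le hs) hk.2⟩) with e | e
  · have : t ∈ T ⊓ CC T := ⟨ht, hc⟩
    rwa [e, mem_bot] at this
  · obtain ⟨a, ha, b, hb, hab⟩ := h.nc
    have : b ∈ T ⊓ CC T := by rw [e]; exact hb
    exact absurd (mem_CC.1 this.2 a ha) hab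

theorem SF.ne_bot (h : SF N T) : T ≠ ⊥ := by
  obtain ⟨a, ha, b, hb, hab⟩ := h.nc
  intro e
  rw [e, mem_bot] at ha
  exact hab (by rw [ha]; simp)

theorem mem_conj {T : Subgroup G} {g x : G} :
    x ∈ T.map (MulAut.conj g).toMonoidHom ↔ g⁻¹ * x * g ∈ T := by
  constructor
  · rintro ⟨t, ht, rfl⟩
    simpa [mul_assoc] using ht
  · intro h
    exact ⟨_, h, by simp [mul_assoc]⟩

theorem mem_CC_conj {T : Subgroup G} {g x : G} :
    x ∈ CC (T.map (MulAut.conj g).toMonoidHom) ↔ g⁻¹ * x * g ∈ CC T := by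
  rw [mem_CC, mem_CC]
  constructor
  · intro h s hs
    have := h (g * s * g⁻¹) (mem_conj.2 (by simpa [mul_assoc] using hs))
    calc s * (g⁻¹ * x * g) = g⁻¹ * (g * s * g⁻¹ * x) * g := by group
      _ = g⁻¹ * (x * (g * s * g⁻¹)) * g := by rw [this]
      _ = _ := by group
  · intro h s hs
    have := h _ (mem_conj.1 hs)
    calc s * x = g * (g⁻¹ * s * g * (g⁻¹ * x * g)) * g⁻¹ := by group
      _ = g * (g⁻¹ * x * g * (g⁻¹ * s * g)) * g⁻¹ := by rw [this]
      _ = _ := by group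

theorem SF.conj [hN : N.Normal] (h : SF N T) (g : G) : SF N (T.map (MulAut.conj g).toMonoidHom) where
  le := fun x hx => by
    have := hN.conj_mem _ (h.le (mem_conj.1 hx)) g
    simpa [mul_assoc] using this
  conj_mem := fun n hn t ht => by
    rw [mem_conj] at ht ⊢
    have := h.conj_mem _ (hN.conj_mem n hn g⁻¹) _ ht
    simpa [mul_assoc] using this
  simple := by
    have := h.simple
    exact (T.equivMapOfInjective _ (MulAut.conj g).injective).symm.isSimpleGroup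
  nc := by
    obtain ⟨a, ha, b, hb, hab⟩ := h.nc
    refine ⟨g * a * g⁻¹, mem_conj.2 (by simpa [mul_assoc] using ha), g * b * g⁻¹,
      mem_conj.2 (by simpa [mul_assoc] using hb), fun e => hab ?_⟩
    calc a * b = g⁻¹ * (g * a * g⁻¹ * (g * b * g⁻¹)) * g := by group
      _ = g⁻¹ * (g * b * g⁻¹ * (g * a * g⁻¹)) * g := by rw [e]
      _ = _ := by group
  decomp := fun n hn => by
    obtain ⟨t, ht, c, hc, hc', e⟩ := h.decomp _ (hN.conj_mem n hn g⁻¹)
    refine ⟨g * t * g⁻¹, mem_conj.2 (by simpa [mul_assoc] using ht), g * c * g⁻¹,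
      hN.conj_mem c hc g, mem_CC_conj.2 (by simpa [mul_assoc] using hc'), ?_⟩
    calc n = g * (g⁻¹ * n * g⁻¹⁻¹) * g⁻¹ := by group
      _ = _ := by rw [e]; group

theorem SF.dich {T' : Subgroup G} (h : SF N T) (h' : SF N T') : T = T' ∨ T ≤ CC T' := by
  rcases simp_dich h.simple (T ⊓ T') inf_le_left
    (fun s hs k hk => ⟨h.conj_mem s (h.le hs) k hk.1, h'.conj_mem s (h.le hs) k hk.2⟩) with e | e
  · right
    intro t ht
    rw [mem_CC]
    intro s hs
    have : s * t * s⁻¹ * t⁻¹ ∈ T ⊓ T' := by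
      refine ⟨T.mul_mem (h.conj_mem s (h'.le hs) t ht) (T.inv_mem ht), ?_⟩
      have := T'.mul_mem hs (h'.conj_mem t (h.le ht) _ (T'.inv_mem hs))
      simpa [mul_assoc] using this
    rw [e, mem_bot] at this
    calc s * t = s * t * s⁻¹ * t⁻¹ * (t * s) := by group
      _ = _ := by rw [this, one_mul]
  · left
    have hle : T ≤ T' := by rw [← e]; exact inf_le_right
    rcases simp_dich h'.simple T hle (fun s hs k hk => h.conj_mem s (h'.le hs) k hk) with e' | e'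
    · exact absurd e' h.ne_bot
    · exact e'

/-- projection onto the factor `T` -/
def proj (T K : Subgroup G) : Subgroup G where
  carrier := {t | t ∈ T ∧ ∃ c ∈ CC T, t * c ∈ K}
  one_mem' := ⟨T.one_mem, 1, (CC T).one_mem, by simpa using K.one_mem⟩
  mul_mem' := by
    rintro a b ⟨ha, c, hc, h1⟩ ⟨hb, d, hd, h2⟩
    refine ⟨T.mul_mem ha hb, c * d, (CC T).mul_mem hc hd, ?_⟩
    have := K.mul_mem h1 h2
    have e := mem_CC.1 hc b hb
    rwa [show a * c * (b * d) = a * (c * b) * d by group, ← e,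
      show a * (b * c) * d = a * b * (c * d) by group] at this
  inv_mem' := by
    rintro a ⟨ha, c, hc, h1⟩
    refine ⟨T.inv_mem ha, c⁻¹, (CC T).inv_mem hc, ?_⟩
    have := K.inv_mem h1
    have e := mem_CC.1 hc a ha
    rwa [e, mul_inv_rev] at this

theorem mem_proj {T K : Subgroup G} {t : G} : t ∈ proj T K ↔ t ∈ T ∧ ∃ c ∈ CC T, t * c ∈ K := Iff.rfl

/-- `K` projects onto `T` -/
def Onto (T K : Subgroup G) : Prop := ∀ t ∈ T, ∃ c ∈ CC T, t * c ∈ K

theorem SF.onto_or (h : SF N T) {D K : Subgroup G} (hD : Onto T D) (hKN : K ≤ N)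
    (hn : ∀ d ∈ D, ∀ k ∈ K, d * k * d⁻¹ ∈ K) : K ≤ CC T ∨ Onto T K := by
  rcases simp_dich h.simple (proj T K) (fun t ht => ht.1) (by
    rintro s hs k ⟨hk, c, hc, hkc⟩
    obtain ⟨e, he, hse⟩ := hD s hs
    refine ⟨T.mul_mem (T.mul_mem hs hk) (T.inv_mem hs), e * c * e⁻¹,
      (CC T).mul_mem ((CC T).mul_mem he hc) ((CC T).inv_mem he), ?_⟩
    have := hn _ hse _ hkc
    have e1 := mem_CC.1 he k hk
    have e2 := mem_CC.1 ((CC T).mul_mem ((CC T).mul_mem he hc) ((CC T).inv_mem he)) _ (T.inv_mem hs)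
    have : s * e * (k * c) * (s * e)⁻¹ = s * k * s⁻¹ * (e * c * e⁻¹) := by
      calc s * e * (k * c) * (s * e)⁻¹ = s * (e * k) * c * e⁻¹ * s⁻¹ := by group
        _ = s * k * (e * c * e⁻¹ * s⁻¹) := by rw [← e1]; group
        _ = _ := by rw [← e2]; group
    rwa [← this]) with e | e
  · left
    intro k hk
    obtain ⟨t, ht, c, -, hc, rfl⟩ := h.decomp k (hKN hk)
    have : t ∈ proj T K := ⟨ht, c, hc, hk⟩
    rw [e, mem_bot] at this
    rw [this, one_mul]; exact hc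
  · right
    intro t ht
    have : t ∈ proj T K := by rw [e]; exact ht
    exact this.2

theorem SF.not_le_of_onto (h : SF N T) {K : Subgroup G} (hK : Onto T K) : ¬ K ≤ CC T := by
  intro hle
  obtain ⟨a, ha, b, hb, hab⟩ := h.nc
  obtain ⟨c, hc, hac⟩ := hK a ha
  have : a ∈ CC T := by
    have := (CC T).mul_mem (hle hac) ((CC T).inv_mem hc)
    simpa using this
  exact hab (mem_CC.1 this b hb).symm

theorem SF.onto_inf (h : SF N T) {D K L : Subgroup G} (hD : Onto T D) (hDN : D ≤ N)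
    (hKD : K ≤ D) (hLD : L ≤ D)
    (hnK : ∀ d ∈ D, ∀ k ∈ K, d * k * d⁻¹ ∈ K) (hnL : ∀ d ∈ D, ∀ k ∈ L, d * k * d⁻¹ ∈ L)
    (hK : Onto T K) (hL : Onto T L) : Onto T (K ⊓ L) := by
  rcases h.onto_or hD (K := K ⊓ L) (inf_le_left.trans (hKD.trans hDN))
    (fun d hd k hk => ⟨hnK d hd k hk.1, hnL d hd k hk.2⟩) with e | e
  · exfalso
    obtain ⟨a, ha, b, hb, hab⟩ := h.nc
    obtain ⟨c, hc, hac⟩ := hK a ha
    obtain ⟨d, hd, hbd⟩ := hL b hb
    have hm : (a * c) * (b * d) * (a * c)⁻¹ * (b * d)⁻¹ ∈ K ⊓ L := by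
      refine ⟨?_, L.mul_mem (hnL _ (hKD hac) _ hbd) (L.inv_mem hbd)⟩
      have := K.mul_mem hac (hnK _ (hLD hbd) _ (K.inv_mem hac))
      simpa [mul_assoc] using this
    have e1 : Commute c b := (mem_CC.1 hc b hb).symm
    have e2 : Commute c a := (mem_CC.1 hc a ha).symm
    have e3 : Commute d b := (mem_CC.1 hd b hb).symm
    have e4 : Commute d a := (mem_CC.1 hd a ha).symm
    have key : (a * c) * (b * d) * (a * c)⁻¹ * (b * d)⁻¹
        = (a * b * a⁻¹ * b⁻¹) * (c * d * c⁻¹ * d⁻¹) := by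
      have f1 : Commute (c * d * c⁻¹) a⁻¹ := ((e2.mul_left e4).mul_left e2.inv_left).inv_right
      have f2 : Commute (c * d * c⁻¹ * d⁻¹) b⁻¹ :=
        (((e1.mul_left e3).mul_left e1.inv_left).mul_left e3.inv_left).inv_right
      calc (a * c) * (b * d) * (a * c)⁻¹ * (b * d)⁻¹
          = a * (c * b) * d * c⁻¹ * a⁻¹ * d⁻¹ * b⁻¹ := by group
        _ = a * b * ((c * d * c⁻¹) * a⁻¹) * d⁻¹ * b⁻¹ := by rw [e1.eq]; group
        _ = a * b * a⁻¹ * ((c * d * c⁻¹ * d⁻¹) * b⁻¹) := by rw [f1.eq]; group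
        _ = _ := by rw [f2.eq]; group
    have h1 := e hm
    rw [key] at h1
    have h2 : c * d * c⁻¹ * d⁻¹ ∈ CC T :=
      (CC T).mul_mem ((CC T).mul_mem ((CC T).mul_mem hc hd) ((CC T).inv_mem hc)) ((CC T).inv_mem hd)
    have h3 : a * b * a⁻¹ * b⁻¹ ∈ CC T := by
      have := (CC T).mul_mem h1 ((CC T).inv_mem h2)
      rwa [mul_inv_cancel_right] at this
    have h4 := h.eq_one (T.mul_mem (T.mul_mem (T.mul_mem ha hb) (T.inv_mem ha)) (T.inv_mem hb)) h3
    apply hab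
    calc a * b = a * b * a⁻¹ * b⁻¹ * (b * a) := by group
      _ = _ := by rw [h4, one_mul]
  · exact e

/-- if `K ≤ D` projects onto `T` and contains `D ⊓ C(T)` then `K = D`. -/
theorem SF.le_of_onto (h : SF N T) {D K : Subgroup G} (hDN : D ≤ N) (hKD : K ≤ D) (hK : Onto T K)
    (hB : D ⊓ CC T ≤ K) : D ≤ K := by
  intro d hd
  obtain ⟨t, ht, c, -, hc, rfl⟩ := h.decomp d (hDN hd)
  obtain ⟨e, he, hte⟩ := hK t ht
  have : (t * e)⁻¹ * (t * c) ∈ D ⊓ CC T := by
    refine ⟨D.mul_mem (D.inv_mem (hKD hte)) hd, ?_⟩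
    rw [show (t * e)⁻¹ * (t * c) = e⁻¹ * c by group]
    exact (CC T).mul_mem ((CC T).inv_mem he) hc
  have := K.mul_mem hte (hB this)
  rwa [mul_inv_cancel_left] at this

end CfsgQR
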