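import Cfsg.Agent.H4.QR1

set_option autoImplicit false

namespace CfsgQR
open Subgroup MulAction

variable {G Ω : Type*} [Group G] [MulAction G Ω]

/-- membership in the suborbit -/
def InD (G : Type*) [Group G] [MulAction G Ω] (α β γ : Ω) : Prop := ∃ x : G, x • α = α ∧ x • β = γ

/-- the setting of the reduction -/
structure St (G : Type*) [Group G] [MulAction G Ω] (α β : Ω) : Prop where
  faith : ∀ g : G, (∀ ω : Ω, g • ω = ω) → g = 1
  prim : IsPreprimitive G Ω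
  ne : β ≠ α
  two : ∀ a b c d : Ω, InD G α β a → InD G α β b → InD G α β c → InD G α β d → a ≠ b → c ≠ d →
    ∃ x : G, x • α = α ∧ x • a = c ∧ x • b = d

variable {α β : Ω}

theorem InD.self : InD G α β β := ⟨1, one_smul _ _, one_smul _ _⟩

theorem InD.smul {γ : Ω} (h : InD G α β γ) {x : G} (hx : x • α = α) : InD G α β (x • γ) := by
  obtain ⟨y, h1, h2⟩ := h
  exact ⟨x * y, by rw [mul_smul, h1, hx], by rw [mul_smul, h2]⟩

theorem inv_fix {x : G} {a : Ω} (hx : x • a = a) : x⁻¹ • a = a := by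
  rw [inv_smul_eq_iff, hx]

theorem St.fs (s : St G α β) : FaithfulSMul G Ω :=
  ⟨fun {a b} h => by
    have : b⁻¹ * a = 1 := s.faith _ fun ω => by rw [mul_smul, h, inv_smul_smul]
    exact (inv_mul_eq_one.1 this).symm⟩

theorem St.trans (s : St G α β) (M : Subgroup G) (hM : M.Normal) (h0 : M ≠ ⊥) (a b : Ω) :
    ∃ m ∈ M, m • a = b := by
  have := s.fs
  obtain ⟨m, hm⟩ := (CfsgH6.isPretransitive_of_normal_of_preprimitive s.prim M hM h0).exists_smul_eq a b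
  exact ⟨m, m.2, hm⟩

theorem St.eq_one (s : St G α β) {M : Subgroup G} (hM : M.Normal) (h0 : M ≠ ⊥) {d : G}
    (hd : d ∈ CC M) {a : Ω} (ha : d • a = a) : d = 1 := by
  apply s.faith
  intro ω
  obtain ⟨m, hm, rfl⟩ := s.trans M hM h0 a ω
  rw [← mul_smul, ← mem_CC.1 hd m hm, mul_smul, ha]

theorem St.top (s : St G α β) {L : Subgroup G} (hL : stabilizer G α ≤ L) {g : G} (hg : g ∈ L)
    (hgα : g • α ≠ α) : L = ⊤ := by
  have hnt : Nontrivial Ω := ⟨⟨β, α, s.ne⟩⟩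
  have := s.prim
  have hc := IsPreprimitive.isCoatom_stabilizer_of_isPreprimitive G α
  exact hc.2 L (lt_of_le_of_ne hL fun e => hgα (by
    have : g ∈ stabilizer G α := e ▸ hg
    exact this))

/-- a subgroup of the point stabiliser normalised by it and by an element outside is trivial -/
theorem St.bot [Finite G] (s : St G α β) {K : Subgroup G} (hK : ∀ k ∈ K, k • α = α)
    (hX : ∀ x : G, x • α = α → ∀ k ∈ K, x * k * x⁻¹ ∈ K) {g : G} (hgα : g • α ≠ α)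
    (hg : ∀ k ∈ K, g * k * g⁻¹ ∈ K) : K = ⊥ := by
  have h1 : normalizer (K : Set G) = ⊤ :=
    s.top (fun x hx => mem_normalizer_fintype (hX x hx)) (mem_normalizer_fintype hg) hgα
  rw [eq_bot_iff]
  intro k hk
  rw [mem_bot]
  apply s.faith
  intro ω
  obtain ⟨y, rfl⟩ := s.prim.exists_smul_eq α ω
  have hy : y⁻¹ ∈ normalizer (K : Set G) := h1 ▸ mem_top _
  have := hK _ ((mem_normalizer_iff.1 hy k).1 hk)
  rw [inv_inv, mul_smul, mul_smul, inv_smul_eq_iff] at this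
  exact this

/-- a subgroup of the stabiliser such that elements of `N` carrying `α` into its fixed points
normalise it moves a point of the suborbit -/
theorem St.moves [Finite G] (s : St G α β) {N S : Subgroup G} [hN : N.Normal] (hN0 : N ≠ ⊥)
    (hS : ∀ k ∈ S, k • α = α) (hS0 : S ≠ ⊥)
    (hn : ∀ n ∈ N, (∀ k ∈ S, k • n • α = n • α) → ∀ k ∈ S, n * k * n⁻¹ ∈ S) :
    ∃ k ∈ S, ∃ γ, InD G α β γ ∧ k • γ ≠ γ := by
  by_contra hc
  push Not at hc
  obtain ⟨c, hcN, hcα⟩ := s.trans N hN hN0 α β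
  let E : Subgroup G := closure {e | ∃ x : G, x • α = α ∧ x⁻¹ * e * x ∈ S}
  have key : ∀ g : G, (∀ e, (∃ x : G, x • α = α ∧ x⁻¹ * e * x ∈ S) →
      ∃ x : G, x • α = α ∧ x⁻¹ * (g * e * g⁻¹) * x ∈ S) → ∀ k ∈ E, g * k * g⁻¹ ∈ E := by
    intro g hg k hk
    induction hk using closure_induction with
    | mem e he => exact subset_closure (hg e he)
    | one => simp
    | mul a b _ _ ha hb =>
      have := E.mul_mem ha hb
      rwa [show g * a * g⁻¹ * (g * b * g⁻¹) = g * (a * b) * g⁻¹ by group] at this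
    | inv a _ ha =>
      have := E.inv_mem ha
      rwa [show (g * a * g⁻¹)⁻¹ = g * a⁻¹ * g⁻¹ by group] at this
  have hE : E = ⊥ := by
    apply s.bot (g := c)
    · intro k hk
      have : E ≤ stabilizer G α := (closure_le _).2 (by
        rintro e ⟨x, hx, he⟩
        have := hS _ he
        rw [mul_smul, mul_smul, hx, inv_smul_eq_iff, hx] at this
        exact this)
      exact this hk
    · intro y hy
      apply key
      rintro e ⟨x, hx, he⟩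
      refine ⟨y * x, by rw [mul_smul, hx, hy], ?_⟩
      rwa [show (y * x)⁻¹ * (y * e * y⁻¹) * (y * x) = x⁻¹ * e * x by group]
    · rw [hcα]; exact s.ne
    · apply key
      rintro e ⟨x, hx, he⟩
      refine ⟨x, hx, ?_⟩
      have h1 : x⁻¹ * c * x ∈ N := by simpa using hN.conj_mem c hcN x⁻¹
      have h2 : (x⁻¹ * c * x) • α = x⁻¹ • β := by rw [mul_smul, mul_smul, hx, hcα]
      have := hn _ h1 (fun k hk => by rw [h2]; exact hc k hk _ (InD.self.smul (inv_fix hx))) _ he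
      rwa [show x⁻¹ * c * x * (x⁻¹ * e * x) * (x⁻¹ * c * x)⁻¹ = x⁻¹ * (c * e * c⁻¹) * x by group]
        at this
  apply hS0
  rw [eq_bot_iff, ← hE]
  intro k hk
  exact subset_closure ⟨1, one_smul _ _, by simpa using hk⟩

theorem norm_of_fix [Finite G] {N A : Subgroup G} (hA : ∀ n ∈ N, ∀ a ∈ A, n * a * n⁻¹ ∈ A) :
    ∀ n ∈ N, (∀ k ∈ A ⊓ stabilizer G α, k • n • α = n • α) →
      ∀ k ∈ A ⊓ stabilizer G α, n * k * n⁻¹ ∈ A ⊓ stabilizer G α := by
  intro n hn h k hk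
  have h1 : n⁻¹ ∈ normalizer ((A ⊓ stabilizer G α : Subgroup G) : Set G) := by
    apply mem_normalizer_fintype
    intro k hk
    refine ⟨hA _ (N.inv_mem hn) k hk.1, ?_⟩
    change (n⁻¹ * k * n⁻¹⁻¹) • α = α
    rw [inv_inv, mul_smul, mul_smul, h k hk, inv_smul_smul]
  have h2 := (normalizer _).inv_mem h1
  rw [inv_inv] at h2
  exact (mem_normalizer_iff.1 h2 k).1 hk

/-- the stabiliser in `N` is transitive on the suborbit -/
theorem St.Dtrans [Finite G] (s : St G α β) {N : Subgroup G} [hN : N.Normal]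
    (hD : N ⊓ stabilizer G α ≠ ⊥) {γ γ' : Ω} (h : InD G α β γ) (h' : InD G α β γ') :
    ∃ d ∈ N, d • α = α ∧ d • γ = γ' := by
  by_cases e : γ = γ'
  · exact ⟨1, N.one_mem, one_smul _ _, by rw [one_smul, e]⟩
  have hN0 : N ≠ ⊥ := fun e => hD (by rw [e, bot_inf_eq])
  obtain ⟨k, hk, δ, hδ, hkδ⟩ := s.moves hN0 (S := N ⊓ stabilizer G α) (fun k hk => hk.2) hD
    (norm_of_fix fun n _ a ha => hN.conj_mem a ha n)
  obtain ⟨x, hx, h1, h2⟩ := s.two δ (k • δ) γ γ' hδ (hδ.smul hk.2) h h' hkδ.symm e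
  refine ⟨x * k * x⁻¹, hN.conj_mem k hk.1 x, ?_, ?_⟩
  · rw [mul_smul, mul_smul, inv_fix hx, (hk.2 : k • α = α), hx]
  · rw [← h1, mul_smul, mul_smul, inv_smul_smul, h2]

theorem St.moves_all [Finite G] (s : St G α β) {N S : Subgroup G} [hN : N.Normal]
    (hD : N ⊓ stabilizer G α ≠ ⊥)
    (hS : ∀ k ∈ S, k • α = α) (hS0 : S ≠ ⊥)
    (hn : ∀ n ∈ N, (∀ k ∈ S, k • n • α = n • α) → ∀ k ∈ S, n * k * n⁻¹ ∈ S)
    {γ : Ω} (hγ : InD G α β γ) : ∃ k ∈ S, k • γ ≠ γ := by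
  have hN0 : N ≠ ⊥ := fun e => hD (by rw [e, bot_inf_eq])
  obtain ⟨k, hk, δ, hδ, hkδ⟩ := s.moves hN0 hS hS0 hn
  obtain ⟨d, hd, h1, h2⟩ := s.Dtrans hD hδ hγ
  refine ⟨d * k * d⁻¹, hn d hd (fun k hk => by rw [h1, hS k hk]) k hk, ?_⟩
  rw [← h2, mul_smul, mul_smul, inv_smul_smul]
  exact fun e => hkδ (smul_left_cancel d e)

/-- the Hamming distance argument -/
theorem St.ham (s : St G α β) {r1 r2 : G} (h1 : r1 • α = α) (h2 : r2 • α = α) {B1 B2 : Subgroup G}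
    (m2 : r2 ∈ B1) (m1 : r1 ∈ B2) (n1 : ∀ b ∈ B1, r1⁻¹ * b * r1 ∈ B1)
    (n2 : ∀ b ∈ B2, r2⁻¹ * b * r2 ∈ B2) (p1 : ∀ b ∈ B1, (r1 * b) • β ≠ β)
    (p2 : ∀ b ∈ B2, (r2 * b) • β ≠ β)
    (hy : ∀ y : G, y • α = α → y * r1 * y⁻¹ ∈ B1 ∨ y * r1 * y⁻¹ ∈ B2) : False := by
  have a1 : r1 • β ≠ β := by simpa using p1 1 B1.one_mem
  obtain ⟨y, hyα, hyβ, hy2⟩ := s.two β (r1 • β) β ((r1 * r2) • β) InD.self (InD.self.smul h1)
    InD.self (InD.self.smul (by rw [mul_smul, h2, h1])) a1.symm (p1 r2 m2).symm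
  have e : ((y * r1 * y⁻¹)⁻¹ * r1 * r2) • β = β := by
    rw [mul_assoc, mul_smul, ← hy2, inv_smul_eq_iff, mul_smul, mul_smul, inv_fix hyβ]
  rcases hy y hyα with h | h
  · apply p1 _ (B1.mul_mem (n1 _ (B1.inv_mem h)) m2)
    rwa [show r1 * (r1⁻¹ * (y * r1 * y⁻¹)⁻¹ * r1 * r2) = (y * r1 * y⁻¹)⁻¹ * r1 * r2 by group]
  · apply p2 _ (n2 _ (B2.mul_mem (B2.inv_mem h) m1))
    rwa [show r2 * (r2⁻¹ * ((y * r1 * y⁻¹)⁻¹ * r1) * r2) = (y * r1 * y⁻¹)⁻¹ * r1 * r2 by group]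

end CfsgQR
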