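import Cfsg.Agent.H4.QR2

set_option autoImplicit false

namespace CfsgQR
open Subgroup MulAction

universe u v

/-- the core statement: a doubly transitive group has no simple normal subgroup whose point
stabiliser has a non-trivial centre -/
def Core : Prop :=
  ∀ (X D : Type v) [Group X] [Finite X] [MulAction X D] [Finite D] [FaithfulSMul X D],
    (∀ a b c d : D, a ≠ b → c ≠ d → ∃ x : X, x • a = c ∧ x • b = d) →
    ∀ T : Subgroup X, T.Normal → IsSimpleGroup T → ¬ IsMulCommutative T →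
    ∀ (b : D) (z : X), z ∈ T → z ≠ 1 → z • b = b → (∀ t ∈ T, t • b = b → t * z = z * t) → False

section
variable {G Ω : Type*} [Group G] [MulAction G Ω] {α β : Ω} {N T : Subgroup G}

/-- product type: components of point stabilisers -/
theorem St.prodP (s : St G α β) [hN : N.Normal] (hT : SF N T)
    (hno : ¬ Onto T (N ⊓ stabilizer G α)) {t c : G} (ht : t ∈ T) (hcN : c ∈ N) (hc : c ∈ CC T)
    {ω : Ω} (h : (t * c) • ω = ω) : t • ω = ω := by
  have hN0 : N ≠ ⊥ := fun e => hT.ne_bot (le_bot_iff.1 (e ▸ hT.le))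
  -- first at `α`
  have base : ∀ t ∈ T, ∀ c ∈ N, c ∈ CC T → (t * c) • α = α → t • α = α := by
    intro t ht c hcN hc h
    -- `U = N_α · C_N(T)`
    let U : Subgroup G :=
      { carrier := {n | n ∈ N ∧ ∃ e ∈ N, e ∈ CC T ∧ (n * e) • α = α}
        one_mem' := ⟨N.one_mem, 1, N.one_mem, (CC T).one_mem, by simp⟩
        mul_mem' := by
          rintro a b ⟨ha, e, he, he', h1⟩ ⟨hb, f, hf, hf', h2⟩
          refine ⟨N.mul_mem ha hb, b⁻¹ * e * b * f,
            N.mul_mem (N.mul_mem (N.mul_mem (N.inv_mem hb) he) hb) hf,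
            (CC T).mul_mem (by simpa using hT.cz_conj (N.inv_mem hb) he') hf', ?_⟩
          rw [show a * b * (b⁻¹ * e * b * f) = (a * e) * (b * f) by group, mul_smul, h2, h1]
        inv_mem' := by
          rintro a ⟨ha, e, he, he', h1⟩
          refine ⟨N.inv_mem ha, a * e⁻¹ * a⁻¹, hN.conj_mem _ (N.inv_mem he) a,
            hT.cz_conj ha ((CC T).inv_mem he'), ?_⟩
          rw [show a⁻¹ * (a * e⁻¹ * a⁻¹) = (a * e)⁻¹ by group]
          exact inv_fix h1 }
    have hU : ∀ n, n ∈ U ↔ n ∈ N ∧ ∃ e ∈ N, e ∈ CC T ∧ (n * e) • α = α := fun _ => Iff.rfl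
    let W : Subgroup G :=
      { carrier := {n | ∀ x : G, x • α = α → x⁻¹ * n * x ∈ U}
        one_mem' := fun x _ => by simpa using U.one_mem
        mul_mem' := fun {a b} ha hb x hx => by
          have := U.mul_mem (ha x hx) (hb x hx)
          rwa [show x⁻¹ * a * x * (x⁻¹ * b * x) = x⁻¹ * (a * b) * x by group] at this
        inv_mem' := fun {a} ha x hx => by
          have := U.inv_mem (ha x hx)
          rwa [show (x⁻¹ * a * x)⁻¹ = x⁻¹ * a⁻¹ * x by group] at this }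
    have hW : ∀ n, n ∈ W ↔ ∀ x : G, x • α = α → x⁻¹ * n * x ∈ U := fun _ => Iff.rfl
    have hWX : ∀ y : G, y • α = α → ∀ w ∈ W, y * w * y⁻¹ ∈ W := by
      intro y hy w hw x hx
      have := hw (y⁻¹ * x) (by rw [mul_smul, hx, inv_fix hy])
      rwa [show (y⁻¹ * x)⁻¹ * w * (y⁻¹ * x) = x⁻¹ * (y * w * y⁻¹) * x by group] at this
    have htW : t ∈ W := by
      intro x hx
      have hn : x⁻¹ * t * x ∈ N := by simpa using hN.conj_mem t (hT.le ht) x⁻¹
      rcases (hT.conj x⁻¹).dich hT with e | e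
      · refine ⟨hn, x⁻¹ * c * x, by simpa using hN.conj_mem c hcN x⁻¹, ?_, ?_⟩
        · rw [← e, mem_CC_conj]; simpa [mul_assoc] using hc
        · rw [show x⁻¹ * t * x * (x⁻¹ * c * x) = x⁻¹ * (t * c) * x by group, mul_smul, mul_smul,
            hx, h, inv_fix hx]
      · have : x⁻¹ * t * x ∈ CC T := e (mem_conj.2 (by simpa [mul_assoc] using ht))
        exact ⟨hn, (x⁻¹ * t * x)⁻¹, N.inv_mem hn, (CC T).inv_mem this, by simp⟩
    by_contra hne
    let L : Subgroup G :=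
      { carrier := {g | ∃ w ∈ W, g • α = w • α}
        one_mem' := ⟨1, W.one_mem, rfl⟩
        mul_mem' := by
          rintro a b ⟨w, hw, h1⟩ ⟨w', hw', h2⟩
          have hx : (w⁻¹ * a) • α = α := by rw [mul_smul, h1, inv_smul_smul]
          refine ⟨w * ((w⁻¹ * a) * w' * (w⁻¹ * a)⁻¹), W.mul_mem hw (hWX _ hx _ hw'), ?_⟩
          rw [mul_smul, h2, mul_smul, mul_smul, inv_fix hx, mul_smul, mul_smul, smul_inv_smul]
        inv_mem' := by
          rintro a ⟨w, hw, h1⟩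
          have hx : (w⁻¹ * a) • α = α := by rw [mul_smul, h1, inv_smul_smul]
          refine ⟨(w⁻¹ * a)⁻¹ * w⁻¹ * (w⁻¹ * a)⁻¹⁻¹, hWX _ (inv_fix hx) _ (W.inv_mem hw), ?_⟩
          rw [inv_inv, mul_smul, hx]
          congr 1; group }
    have hL : L = ⊤ := s.top (L := L) (fun x hx => ⟨1, W.one_mem, by rw [one_smul]; exact hx⟩)
      (g := t) ⟨t, htW, rfl⟩ hne
    apply hno
    intro t' ht'
    obtain ⟨w, hw, h1⟩ : t' ∈ L := hL ▸ mem_top _
    have hwU : w ∈ U := by simpa using hw 1 (one_smul _ _)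
    have h2 : w⁻¹ * t' ∈ U := ⟨N.mul_mem (N.inv_mem hwU.1) (hT.le ht'), 1, N.one_mem,
      (CC T).one_mem, by rw [mul_one, mul_smul, h1, inv_smul_smul]⟩
    have h3 := U.mul_mem hwU h2
    rw [mul_inv_cancel_left] at h3
    obtain ⟨h4, e, he, he', h5⟩ := h3
    exact ⟨e, he', N.mul_mem h4 he, h5⟩
  obtain ⟨n, hn, rfl⟩ := s.trans N hN hN0 α ω
  have := base (n⁻¹ * t * n) (by simpa using hT.conj_mem _ (N.inv_mem hn) t ht) (n⁻¹ * c * n)
    (by simpa using hN.conj_mem c hcN n⁻¹) (by simpa using hT.cz_conj (N.inv_mem hn) hc)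
    (by rw [show n⁻¹ * t * n * (n⁻¹ * c * n) = n⁻¹ * (t * c) * n by group, mul_smul, mul_smul, h,
      inv_smul_smul])
  rwa [mul_smul, mul_smul, inv_smul_eq_iff] at this

theorem St.decompG (s : St G α β) [hN : N.Normal] (hN0 : N ≠ ⊥) (g : G) :
    ∃ x : G, x • α = α ∧ ∃ n ∈ N, g = x * n := by
  obtain ⟨n, hn, h⟩ := s.trans N hN hN0 α (g⁻¹ • α)
  exact ⟨g * n, by rw [mul_smul, h, smul_inv_smul], n⁻¹, N.inv_mem hn, by group⟩

/-- the stabiliser in `N` projects onto every simple factor -/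
theorem St.onto [Finite G] (s : St G α β) [hN : N.Normal] (hD : N ⊓ stabilizer G α ≠ ⊥)
    (hT : SF N T) (hnas : T.Normal → CC T ≠ ⊥) : Onto T (N ⊓ stabilizer G α) := by
  by_contra hno
  have hN0 : N ≠ ⊥ := fun e => hT.ne_bot (le_bot_iff.1 (e ▸ hT.le))
  have hTα : T ⊓ stabilizer G α ≠ ⊥ := by
    intro e
    have hle : ∀ d ∈ N ⊓ stabilizer G α, d ∈ CC T := by
      intro d hd
      obtain ⟨t, ht, c, hcN, hc, rfl⟩ := hT.decomp d hd.1
      have : t ∈ T ⊓ stabilizer G α := ⟨ht, s.prodP hT hno ht hcN hc hd.2⟩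
      rw [e, mem_bot] at this
      rw [this, one_mul]; exact hc
    apply hD
    rw [eq_bot_iff]
    intro d hd
    rw [mem_bot]
    have hM0 : normalClosure (T : Set G) ≠ ⊥ := fun e =>
      hT.ne_bot (le_bot_iff.1 (e ▸ le_normalClosure))
    refine s.eq_one (M := normalClosure (T : Set G)) inferInstance hM0 ?_ hd.2
    have : normalClosure (T : Set G) ≤ centralizer {d} := by
      rw [normalClosure, closure_le]
      intro y hy
      obtain ⟨t, ht, hty⟩ := Group.mem_conjugatesOfSet_iff.1 hy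
      obtain ⟨g, rfl⟩ := isConj_iff.1 hty
      obtain ⟨x, hx, n, hn, rfl⟩ := s.decompG hN0 g
      have h1 : x⁻¹ * d * x ∈ CC T := hle _ ⟨by simpa using hN.conj_mem d hd.1 x⁻¹, by
        change (x⁻¹ * d * x) • α = α
        rw [mul_smul, mul_smul, hx, (hd.2 : d • α = α), inv_fix hx]⟩
      have h2 := mem_CC.1 h1 _ (hT.conj_mem n hn t ht)
      rw [SetLike.mem_coe, mem_centralizer_singleton_iff]
      calc x * n * t * (x * n)⁻¹ * d = x * (n * t * n⁻¹ * (x⁻¹ * d * x)) * x⁻¹ := by group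
        _ = x * (x⁻¹ * d * x * (n * t * n⁻¹)) * x⁻¹ := by rw [h2]
        _ = _ := by group
    rw [mem_CC]
    intro m hm
    exact mem_centralizer_singleton_iff.1 (this hm)
  have hnn : ¬ T.Normal := by
    intro hTn
    apply hTα
    rw [eq_bot_iff]
    intro t ht
    rw [mem_bot]
    exact s.eq_one (M := CC T) inferInstance (hnas hTn)
      (mem_CC.2 fun c hc => (mem_CC.1 hc t ht.1).symm) ht.2
  obtain ⟨x, hx, hxT⟩ : ∃ x : G, x • α = α ∧ T.map (MulAut.conj x).toMonoidHom ≠ T := by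
    by_contra hc
    push Not at hc
    apply hnn
    refine ⟨fun t ht g => ?_⟩
    obtain ⟨x, hx, n, hn, rfl⟩ := s.decompG hN0 g
    rw [← hc x hx, mem_conj]
    have := hT.conj_mem n hn t ht
    rwa [show x⁻¹ * (x * n * t * (x * n)⁻¹) * x = n * t * n⁻¹ by group]
  have hT2 := hT.conj x
  set T2 := T.map (MulAut.conj x).toMonoidHom with hT2d
  have h21 : T2 ≤ CC T := (hT2.dich hT).resolve_left hxT
  have h12 : T ≤ CC T2 := (hT.dich hT2).resolve_left hxT.symm
  have mv := fun γ (hγ : InD G α β γ) => s.moves_all hD (S := T ⊓ stabilizer G α)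
    (fun k hk => hk.2) hTα (norm_of_fix hT.conj_mem) hγ
  obtain ⟨r1, hr1, m1⟩ := mv β InD.self
  obtain ⟨r, hr, m2⟩ := mv _ (InD.self.smul (inv_fix hx))
  have hr2 : x * r * x⁻¹ ∈ T2 := mem_conj.2 (by simpa [mul_assoc] using hr.1)
  refine s.ham (r1 := r1) (r2 := x * r * x⁻¹) hr1.2
    (by rw [mul_smul, mul_smul, inv_fix hx, (hr.2 : r • α = α), hx]) (B1 := N ⊓ CC T)
    (B2 := N ⊓ CC T2) ⟨hT2.le hr2, h21 hr2⟩ ⟨hT.le hr1.1, h12 hr1.1⟩ ?_ ?_ ?_ ?_ ?_
  · intro b hb
    exact ⟨by simpa using hN.conj_mem b hb.1 r1⁻¹,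
      by simpa using hT.cz_conj (N.inv_mem (hT.le hr1.1)) hb.2⟩
  · intro b hb
    refine ⟨?_, ?_⟩
    · have := hN.conj_mem b hb.1 (x * r * x⁻¹)⁻¹
      rwa [inv_inv] at this
    · have := hT2.cz_conj (N.inv_mem (hT2.le hr2)) hb.2
      rwa [inv_inv] at this
  · intro b hb e
    exact m1 (s.prodP hT hno hr1.1 hb.1 hb.2 e)
  · intro b hb e
    apply m2
    apply s.prodP hT hno hr.1 (c := x⁻¹ * b * x) (by simpa using hN.conj_mem b hb.1 x⁻¹)
      (mem_CC_conj.1 hb.2)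
    rw [show r * (x⁻¹ * b * x) = x⁻¹ * (x * r * x⁻¹ * b) * x by group, mul_smul, smul_inv_smul,
      mul_smul, e]
  · intro y hy
    have hm : y * r1 * y⁻¹ ∈ T.map (MulAut.conj y).toMonoidHom :=
      mem_conj.2 (by simpa [mul_assoc] using hr1.1)
    have hn : y * r1 * y⁻¹ ∈ N := hN.conj_mem _ (hT.le hr1.1) y
    rcases (hT.conj y).dich hT with e | e
    · right; exact ⟨hn, h12 (e ▸ hm)⟩
    · left; exact ⟨hn, e hm⟩

end

end CfsgQR
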