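import Cfsg.Agent.H4.QR3

set_option autoImplicit false

namespace CfsgQR
open Subgroup MulAction

variable {G Ω : Type*} [Group G] [MulAction G Ω] {α β : Ω} {N T : Subgroup G}

/-- diagonal setting -/
structure Dg (α : Ω) (N : Subgroup G) : Prop where
  onto : ∀ T, SF N T → Onto T (N ⊓ stabilizer G α)
  sep : ∀ u ∈ N, (∀ T, SF N T → u ∈ CC T) → u = 1

/-- kernel of the projection of the stabiliser -/
def Bk (α : Ω) (N T : Subgroup G) : Subgroup G := (N ⊓ stabilizer G α) ⊓ CC T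

/-- the strip through `T` -/
def Sp (α : Ω) (N T : Subgroup G) : Subgroup G where
  carrier := {d | d ∈ N ⊓ stabilizer G α ∧ ∀ T', SF N T' → ¬ Bk α N T ≤ CC T' → d ∈ CC T'}
  one_mem' := ⟨one_mem _, fun _ _ _ => one_mem _⟩
  mul_mem' := fun ha hb => ⟨mul_mem ha.1 hb.1, fun T' h h' => mul_mem (ha.2 T' h h') (hb.2 T' h h')⟩
  inv_mem' := fun ha => ⟨inv_mem ha.1, fun T' h h' => inv_mem (ha.2 T' h h')⟩

theorem D_conj [hN : N.Normal] {x d : G} (hx : x • α = α) (hd : d ∈ N ⊓ stabilizer G α) :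
    x * d * x⁻¹ ∈ N ⊓ stabilizer G α :=
  ⟨hN.conj_mem d hd.1 x, by
    change (x * d * x⁻¹) • α = α
    rw [mul_smul, mul_smul, inv_fix hx, (hd.2 : d • α = α), hx]⟩

theorem Bk_conj [hN : N.Normal] (hT : SF N T) {d b : G} (hd : d ∈ N ⊓ stabilizer G α)
    (hb : b ∈ Bk α N T) : d * b * d⁻¹ ∈ Bk α N T :=
  ⟨D_conj hd.2 hb.1, hT.cz_conj hd.1 hb.2⟩

theorem Sp_conj [hN : N.Normal] {d b : G} (hd : d ∈ N ⊓ stabilizer G α)
    (hb : b ∈ Sp α N T) : d * b * d⁻¹ ∈ Sp α N T :=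
  ⟨D_conj hd.2 hb.1, fun T' h h' => h.cz_conj hd.1 (hb.2 T' h h')⟩

theorem Dg.Bk_symm [hN : N.Normal] (g : Dg α N) {T' : Subgroup G} (hT : SF N T) (hT' : SF N T')
    (h : Bk α N T ≤ CC T') : Bk α N T' ≤ CC T := by
  rcases hT.onto_or (g.onto T hT) (K := Bk α N T') (fun b hb => hb.1.1)
    (fun d hd k hk => Bk_conj hT' hd hk) with e | e
  · exact e
  · exfalso
    have h1 : N ⊓ stabilizer G α ≤ Bk α N T' :=
      hT.le_of_onto inf_le_left (fun b hb => hb.1) e (fun b hb => ⟨hb.1, h hb⟩)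
    exact hT'.not_le_of_onto (g.onto T' hT') (fun b hb => (h1 hb).2)

theorem mem_finf {F : Finset (Subgroup G)} {x : G} : x ∈ F.inf CC ↔ ∀ T ∈ F, x ∈ CC T := by
  rw [← zpowers_le, Finset.le_inf_iff]
  simp only [zpowers_le]

theorem Dg.Sp_onto [Finite G] [hN : N.Normal] (g : Dg α N) (hT : SF N T) : Onto T (Sp α N T) := by
  classical
  have key : ∀ F : Finset (Subgroup G), (∀ T' ∈ F, SF N T' ∧ ¬ Bk α N T ≤ CC T') →
      Onto T ((N ⊓ stabilizer G α) ⊓ F.inf CC) := by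
    intro F
    induction F using Finset.induction_on with
    | empty => intro _; simpa using g.onto T hT
    | insert T' F _ ih =>
      intro hF
      have h1 := ih fun T'' h => hF T'' (Finset.mem_insert_of_mem h)
      obtain ⟨hT', hB⟩ := hF T' (Finset.mem_insert_self _ _)
      have h2 : Onto T (Bk α N T') := by
        refine (hT.onto_or (g.onto T hT) (K := Bk α N T') (fun b hb => hb.1.1)
          (fun d hd k hk => Bk_conj hT' hd hk)).resolve_left fun e => hB ?_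
        exact g.Bk_symm hT' hT e
      have h3 := hT.onto_inf (g.onto T hT) inf_le_left (K := Bk α N T')
        (L := (N ⊓ stabilizer G α) ⊓ F.inf CC) inf_le_left inf_le_left
        (fun d hd k hk => Bk_conj hT' hd hk) (fun d hd k hk => ⟨D_conj hd.2 hk.1, by
          have := mem_finf.1 hk.2
          exact mem_finf.2 fun T'' h'' =>
            (hF T'' (Finset.mem_insert_of_mem h'')).1.cz_conj hd.1 (this T'' h'')⟩) h2 h1
      intro t ht
      obtain ⟨c, hc, h4⟩ := h3 t ht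
      refine ⟨c, hc, h4.1.1, ?_⟩
      rw [Finset.inf_insert]
      exact ⟨h4.1.2, h4.2.2⟩
  have hfin : {T' : Subgroup G | SF N T' ∧ ¬ Bk α N T ≤ CC T'}.Finite := Set.toFinite _
  intro t ht
  obtain ⟨c, hc, h1⟩ := key hfin.toFinset (fun T' h => by simpa using h) t ht
  refine ⟨c, hc, h1.1, fun T' h h' => ?_⟩
  exact mem_finf.1 h1.2 T' (by simpa using ⟨h, h'⟩)

theorem Dg.cz_trans [hN : N.Normal] (g : Dg α N) (hT : SF N T) {n : G} (hn : n ∈ N) :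
    ∃ c ∈ N, c ∈ CC T ∧ n • α = c • α := by
  obtain ⟨t, ht, c, hcN, hc, rfl⟩ := hT.decomp n hn
  obtain ⟨e, he, hte⟩ := g.onto T hT t ht
  have heN : e ∈ N := by simpa using N.mul_mem (N.inv_mem (hT.le ht)) hte.1
  refine ⟨c * e⁻¹, N.mul_mem hcN (N.inv_mem heN), mul_mem hc (inv_mem he), ?_⟩
  have h1 : (t * e) • α = α := hte.2
  rw [mem_CC.1 he t ht, mul_smul, smul_eq_iff_eq_inv_smul] at h1
  rw [mem_CC.1 hc t ht, mul_smul, mul_smul, h1]

/-- components of two-point stabilisers in the diagonal setting -/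
theorem Dg.comm [hN : N.Normal] (g : Dg α N) (hT : SF N T) {d b c : G} (hd : d ∈ Sp α N T)
    (hb : b ∈ Bk α N T) (hcN : c ∈ N) (hc : c ∈ CC T) (h : (d * b) • c • α = c • α) :
    c⁻¹ * d * c = d := by
  have hdN : d ∈ N := hd.1.1
  have h1 : (d * b)⁻¹ * (c⁻¹ * (d * b) * c) ∈ Bk α N T := by
    have e1 : d * b ∈ N ⊓ stabilizer G α := mul_mem hd.1 hb.1
    refine ⟨(N ⊓ stabilizer G α).mul_mem ((N ⊓ stabilizer G α).inv_mem e1)
      ⟨by simpa using hN.conj_mem _ e1.1 c⁻¹, ?_⟩, ?_⟩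
    · change (c⁻¹ * (d * b) * c) • α = α
      rw [mul_smul, mul_smul, h, inv_smul_smul]
    · have := mul_mem (hT.cz_conj (N.inv_mem e1.1) (inv_mem hc)) hc
      rwa [show (d * b)⁻¹ * c⁻¹ * (d * b)⁻¹⁻¹ * c = (d * b)⁻¹ * (c⁻¹ * (d * b) * c) by group] at this
  have h2 : d⁻¹ * (c⁻¹ * d * c) = 1 := by
    apply g.sep _ (N.mul_mem (N.inv_mem hdN) (by simpa using hN.conj_mem d hdN c⁻¹))
    intro T' hT'
    by_cases hB : Bk α N T ≤ CC T'
    · have := mul_mem (mul_mem (hB hb) (hB h1))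
        (inv_mem (hT'.cz_conj (N.inv_mem hcN) (hB hb)))
      rwa [show b * ((d * b)⁻¹ * (c⁻¹ * (d * b) * c)) * (c⁻¹ * b * c⁻¹⁻¹)⁻¹
        = d⁻¹ * (c⁻¹ * d * c) by group] at this
    · have h3 := hd.2 T' hT' hB
      have := mul_mem (inv_mem h3) (hT'.cz_conj (N.inv_mem hcN) h3)
      rwa [inv_inv] at this
  exact (inv_mul_eq_one.1 h2).symm

theorem Dg.P [hN : N.Normal] (g : Dg α N) (s : St G α β) (hT : SF N T) {d b : G}
    (hd : d ∈ Sp α N T) (hb : b ∈ Bk α N T) {ω : Ω} (h : (d * b) • ω = ω) : d • ω = ω := by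
  have hN0 : N ≠ ⊥ := fun e => hT.ne_bot (le_bot_iff.1 (e ▸ hT.le))
  obtain ⟨n, hn, rfl⟩ := s.trans N hN hN0 α ω
  obtain ⟨c, hcN, hc, e⟩ := g.cz_trans hT hn
  rw [e] at h ⊢
  have h1 := g.comm hT hd hb hcN hc h
  have h2 : (c⁻¹ * d * c) • α = α := by rw [h1]; exact hd.1.2
  rwa [mul_smul, mul_smul, inv_smul_eq_iff] at h2

theorem Dg.Sp_moves [Finite G] [hN : N.Normal] (g : Dg α N) (s : St G α β)
    (hD : N ⊓ stabilizer G α ≠ ⊥) (hT : SF N T) : ∃ k ∈ Sp α N T, k • β ≠ β := by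
  refine s.moves_all hD (S := Sp α N T) (fun k hk => hk.1.2) (fun e => ?_) ?_ InD.self
  · exact hT.not_le_of_onto (g.Sp_onto hT) (by rw [e]; exact bot_le)
  · intro n hn h k hk
    obtain ⟨c, hcN, hc, e⟩ := g.cz_trans hT hn
    have hd : c⁻¹ * n ∈ N ⊓ stabilizer G α := ⟨N.mul_mem (N.inv_mem hcN) hn, by
      change (c⁻¹ * n) • α = α
      rw [mul_smul, e, inv_smul_smul]⟩
    have h1 := Sp_conj hd hk
    have h2 := g.comm hT h1 (one_mem _) hcN hc (by rw [mul_one, ← e]; exact h _ h1)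
    have : n * k * n⁻¹ = c⁻¹ * n * k * (c⁻¹ * n)⁻¹ := by
      calc n * k * n⁻¹ = c * (c⁻¹ * n * k * (c⁻¹ * n)⁻¹) * c⁻¹ := by group
        _ = c * (c⁻¹ * (c⁻¹ * n * k * (c⁻¹ * n)⁻¹) * c) * c⁻¹ := by rw [h2]
        _ = _ := by group
    rw [this]; exact h1

theorem Sp_cov [hN : N.Normal] {y d : G} (hy : y • α = α) (hd : d ∈ Sp α N T) :
    y * d * y⁻¹ ∈ Sp α N (T.map (MulAut.conj y).toMonoidHom) := by
  refine ⟨D_conj hy hd.1, fun T' hT' hB => ?_⟩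
  have h1 : d ∈ CC (T'.map (MulAut.conj y⁻¹).toMonoidHom) := by
    refine hd.2 _ (hT'.conj y⁻¹) fun hle => hB fun b hb => ?_
    have h2 : y⁻¹ * b * y ∈ Bk α N T :=
      ⟨by simpa using D_conj (inv_fix hy) hb.1, mem_CC_conj.1 hb.2⟩
    have := mem_CC_conj.1 (hle h2)
    rwa [show y⁻¹⁻¹ * (y⁻¹ * b * y) * y⁻¹ = b by group] at this
  have := mem_CC_conj.1 h1
  rwa [inv_inv] at this

/-- only one strip -/
theorem Dg.Bk_bot [Finite G] [hN : N.Normal] (g : Dg α N) (s : St G α β)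
    (hD : N ⊓ stabilizer G α ≠ ⊥) (hT : SF N T) : Bk α N T = ⊥ := by
  by_contra hB
  obtain ⟨T2, hT2, h12⟩ : ∃ T2, SF N T2 ∧ ¬ Bk α N T ≤ CC T2 := by
    by_contra hc
    push Not at hc
    apply hB
    rw [eq_bot_iff]
    intro b hb
    exact g.sep b hb.1.1 fun T' h => hc T' h hb
  have h21 : ¬ Bk α N T2 ≤ CC T := fun e => h12 (g.Bk_symm hT2 hT e)
  obtain ⟨r1, hr1, m1⟩ := g.Sp_moves s hD hT
  obtain ⟨r2, hr2, m2⟩ := g.Sp_moves s hD hT2
  refine s.ham (r1 := r1) (r2 := r2) hr1.1.2 hr2.1.2 (B1 := Bk α N T) (B2 := Bk α N T2)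
    ⟨hr2.1, hr2.2 T hT h21⟩ ⟨hr1.1, hr1.2 T2 hT2 h12⟩ ?_ ?_ ?_ ?_ ?_
  · intro b hb
    simpa using Bk_conj hT (inv_mem hr1.1) hb
  · intro b hb
    simpa using Bk_conj hT2 (inv_mem hr2.1) hb
  · exact fun b hb e => m1 (g.P s hT hr1 hb e)
  · exact fun b hb e => m2 (g.P s hT2 hr2 hb e)
  · intro y hy
    have h3 := Sp_cov hy hr1
    have hT3 := hT.conj y
    by_cases e : Bk α N (T.map (MulAut.conj y).toMonoidHom) ≤ CC T
    · right
      refine ⟨h3.1, h3.2 T2 hT2 fun e' => h12 fun b hb => e' ⟨hb.1, g.Bk_symm hT3 hT e hb⟩⟩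
    · left
      exact ⟨h3.1, h3.2 T hT e⟩

/-- the stabiliser is simple -/
theorem Dg.simple [Finite G] [hN : N.Normal] (g : Dg α N) (s : St G α β)
    (hD : N ⊓ stabilizer G α ≠ ⊥) (hT : SF N T) (K : Subgroup G) (hK : K ≤ N ⊓ stabilizer G α)
    (hn : ∀ d ∈ N ⊓ stabilizer G α, ∀ k ∈ K, d * k * d⁻¹ ∈ K) :
    K = ⊥ ∨ K = N ⊓ stabilizer G α := by
  have hB := g.Bk_bot s hD hT
  rcases hT.onto_or (g.onto T hT) (hK.trans inf_le_left) hn with e | e
  · left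
    rw [eq_bot_iff, ← hB]
    exact le_inf hK e
  · right
    exact le_antisymm hK (hT.le_of_onto inf_le_left hK e (by
      change Bk α N T ≤ K
      rw [hB]; exact bot_le))

theorem Dg.nc [hN : N.Normal] (g : Dg α N) (hT : SF N T) :
    ∃ a ∈ N ⊓ stabilizer G α, ∃ b ∈ N ⊓ stabilizer G α, a * b ≠ b * a := by
  by_contra hc
  push Not at hc
  obtain ⟨a, ha, b, hb, hab⟩ := hT.nc
  obtain ⟨c, hc', hac⟩ := g.onto T hT a ha
  obtain ⟨d, hd, hbd⟩ := g.onto T hT b hb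
  have h1 := hc _ hac _ hbd
  have e1 := mem_CC.1 hc' b hb
  have e2 := mem_CC.1 hd a ha
  have h2 : (b * a)⁻¹ * (a * b) = (d * c) * (c * d)⁻¹ := by
    have : a * b * (c * d) = b * a * (d * c) := by
      calc a * b * (c * d) = a * (b * c) * d := by group
        _ = a * c * (b * d) := by rw [e1]; group
        _ = b * (d * a) * c := by rw [h1]; group
        _ = _ := by rw [← e2]; group
    calc (b * a)⁻¹ * (a * b) = (b * a)⁻¹ * (a * b * (c * d)) * (c * d)⁻¹ := by group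
      _ = _ := by rw [this]; group
  have h3 : (b * a)⁻¹ * (a * b) = 1 :=
    hT.eq_one (mul_mem (inv_mem (mul_mem hb ha)) (mul_mem ha hb))
      (h2 ▸ mul_mem (mul_mem hd hc') (inv_mem (mul_mem hc' hd)))
  exact hab (inv_mul_eq_one.1 h3).symm

/-- a non-trivial element centralising the two-point stabiliser -/
theorem Dg.exists_z [Finite G] [hN : N.Normal] (g : Dg α N) (s : St G α β)
    (hD : N ⊓ stabilizer G α ≠ ⊥) (hT : SF N T) :
    ∃ z ∈ N ⊓ stabilizer G α, z ≠ 1 ∧ ∀ d ∈ N ⊓ stabilizer G α, d • β = β → d * z = z * d := by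
  have hN0 : N ≠ ⊥ := fun e => hT.ne_bot (le_bot_iff.1 (e ▸ hT.le))
  obtain ⟨n, hn, hnα⟩ := s.trans N hN hN0 α β
  obtain ⟨c, hcN, hc, e⟩ := g.cz_trans hT hn
  rw [hnα] at e
  obtain ⟨T', hT', hcT'⟩ : ∃ T', SF N T' ∧ c ∉ CC T' := by
    by_contra hh
    push Not at hh
    apply s.ne
    rw [e, g.sep c hcN hh, one_smul]
  obtain ⟨t, ht, c', hc'N, hc', rfl⟩ := hT'.decomp c hcN
  obtain ⟨f, hf, htf⟩ := g.onto T' hT' t ht
  refine ⟨t * f, htf, fun e => hcT' ?_, fun d hd hdβ => ?_⟩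
  · have : t = f⁻¹ := eq_inv_of_mul_eq_one_left e
    exact mul_mem (this ▸ inv_mem hf) hc'
  · have hdS : d ∈ Sp α N T := ⟨hd, fun T'' _ h => absurd (by rw [g.Bk_bot s hD hT]; exact bot_le) h⟩
    have h1 := g.comm hT hdS (one_mem _) hcN hc (by rw [mul_one, ← e, hdβ])
    have h2 : d * t * d⁻¹ = t := by
      have h3 : t⁻¹ * (d * t * d⁻¹) = c' * (d * c' * d⁻¹)⁻¹ := by
        calc t⁻¹ * (d * t * d⁻¹) = c' * ((t * c')⁻¹ * d * (t * c')) * c'⁻¹ * d⁻¹ := by group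
          _ = _ := by rw [h1]; group
      have h4 : t⁻¹ * (d * t * d⁻¹) = 1 :=
        hT'.eq_one (mul_mem (inv_mem ht) (hT'.conj_mem d hd.1 t ht))
          (h3 ▸ mul_mem hc' (inv_mem (hT'.cz_conj hd.1 hc')))
      exact (inv_mul_eq_one.1 h4).symm
    have h5 : (t * f)⁻¹ * (d * (t * f) * d⁻¹) ∈ Bk α N T' := by
      refine ⟨(N ⊓ stabilizer G α).mul_mem ((N ⊓ stabilizer G α).inv_mem htf) (D_conj hd.2 htf), ?_⟩
      have : (t * f)⁻¹ * (d * (t * f) * d⁻¹) = f⁻¹ * (d * f * d⁻¹) := by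
        calc (t * f)⁻¹ * (d * (t * f) * d⁻¹) = f⁻¹ * t⁻¹ * (d * t * d⁻¹) * (d * f * d⁻¹) := by group
          _ = _ := by rw [h2]; group
      rw [this]
      exact (CC T').mul_mem ((CC T').inv_mem hf) (hT'.cz_conj hd.1 hf)
    rw [g.Bk_bot s hD hT', mem_bot, inv_mul_eq_one] at h5
    calc d * (t * f) = d * (t * f) * d⁻¹ * d := by group
      _ = _ := by rw [← h5]

end CfsgQR
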