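import Cfsg.Agent.H4.QR4

set_option autoImplicit false

namespace CfsgQR
open Subgroup MulAction

universe u v

section
variable {G : Type u} {Ω : Type v} [Group G] [MulAction G Ω] {α β : Ω} {N T : Subgroup G}

theorem Dg.false [Finite G] [Finite Ω] [hN : N.Normal] (core : Core.{v}) (g : Dg α N)
    (s : St G α β) (hD : N ⊓ stabilizer G α ≠ ⊥) (hT : SF N T) : False := by
  classical
  obtain ⟨z, hz, hz1, hzc⟩ := g.exists_z s hD hT
  obtain ⟨a, ha, b, hb, hab⟩ := g.nc hT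
  set D := N ⊓ stabilizer G α with hDdef
  have hsimple : IsSimpleGroup D := by
    have : Nontrivial D := (Subgroup.nontrivial_iff_ne_bot D).2 hD
    refine ⟨fun K hK => ?_⟩
    rcases g.simple s hD hT (K.map D.subtype) (map_subtype_le _) (by
      rintro d hd _ ⟨k, hk, rfl⟩
      exact ⟨_, hK.conj_mem k hk ⟨d, hd⟩, rfl⟩) with e | e
    · left
      exact (map_eq_bot_iff_of_injective _ D.subtype_injective).1 e
    · right
      rw [eq_top_iff]
      intro d _
      have : (d : G) ∈ K.map D.subtype := by rw [e]; exact d.2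
      obtain ⟨k, hk, hkd⟩ := this
      rwa [← Subtype.ext hkd]
  have hnc : ¬ IsMulCommutative D := fun h =>
    hab (congrArg Subtype.val (h.1.1 ⟨a, ha⟩ ⟨b, hb⟩))
  -- faithfulness on the suborbit
  have hf : ∀ d ∈ D, (∀ γ, InD G α β γ → d • γ = γ) → d = 1 := by
    let K : Subgroup G :=
      { carrier := {d | d ∈ D ∧ ∀ γ, InD G α β γ → d • γ = γ}
        one_mem' := ⟨D.one_mem, fun _ _ => one_smul _ _⟩
        mul_mem' := fun {a b} ha hb => ⟨D.mul_mem ha.1 hb.1, fun γ h => by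
          rw [mul_smul, hb.2 γ h, ha.2 γ h]⟩
        inv_mem' := fun {a} ha => ⟨D.inv_mem ha.1, fun γ h => inv_fix (ha.2 γ h)⟩ }
    rcases g.simple s hD hT K (fun k hk => hk.1) (fun d hd k hk => ⟨D_conj hd.2 hk.1, fun γ h => by
      rw [mul_smul, mul_smul, hk.2 _ (h.smul (inv_fix hd.2)), smul_inv_smul]⟩) with e | e
    · intro d hd h
      have : d ∈ K := ⟨hd, h⟩
      rwa [e, mem_bot] at this
    · exfalso
      obtain ⟨k, hk, hkβ⟩ := g.Sp_moves s hD hT
      have : k ∈ K := by rw [e]; exact hk.1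
      exact hkβ (this.2 β InD.self)
  -- `z` fixes `β`
  have hzβ : z • β = β := by
    by_contra hne
    have reg : ∀ d ∈ D, d • β = β → d = 1 := by
      intro d hd hdβ
      apply hf d hd
      intro γ hγ
      by_cases e : γ = β
      · rw [e, hdβ]
      obtain ⟨y, hy, h1, h2⟩ := s.two β (z • β) β γ InD.self (InD.self.smul hz.2) InD.self hγ
        (Ne.symm hne) (Ne.symm e)
      have h3 : y⁻¹ * d * y ∈ D := by
        have := D_conj (N := N) (inv_fix hy) hd
        rwa [inv_inv] at this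
      have h4 : (y⁻¹ * d * y) • β = β := by rw [mul_smul, mul_smul, h1, hdβ, inv_fix h1]
      have h5 : (y⁻¹ * d * y) • z • β = z • β := by
        rw [← mul_smul, hzc _ h3 h4, mul_smul, h4]
      rwa [mul_smul, mul_smul, h2, inv_smul_eq_iff, h2] at h5
    obtain ⟨p, hp, -, hpd⟩ := CfsgH6.exists_prime_ne_of_simple hnc 2 Nat.prime_two
    obtain ⟨q, hq, hqp, hqd⟩ := CfsgH6.exists_prime_ne_of_simple hnc p hp
    have := Fact.mk hp
    have := Fact.mk hq
    obtain ⟨u, hu⟩ := exists_prime_orderOf_dvd_card' p hpd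
    obtain ⟨w, hw⟩ := exists_prime_orderOf_dvd_card' q hqd
    have mv : ∀ (u : D) (p : ℕ), p.Prime → orderOf u = p → (u : G) • β ≠ β := by
      intro u p hp hu e
      have : u = 1 := Subtype.ext (reg u u.2 e)
      rw [this, orderOf_one] at hu
      exact hp.one_lt.ne hu
    obtain ⟨y, hy, h1, h2⟩ := s.two β ((u : G) • β) β ((w : G) • β) InD.self
      (InD.self.smul u.2.2) InD.self (InD.self.smul w.2.2) (mv u p hp hu).symm (mv w q hq hw).symm
    have h3 : (w : G)⁻¹ * (y * u * y⁻¹) = 1 := reg _ (D.mul_mem (D.inv_mem w.2) (D_conj hy u.2)) (by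
      rw [mul_smul, mul_smul, mul_smul, inv_fix h1, h2, inv_smul_smul])
    have h4 : orderOf (w : G) = orderOf (u : G) := by
      rw [inv_mul_eq_one.1 h3]
      exact (MulAut.conj y).orderOf_eq (u : G)
    rw [orderOf_coe, orderOf_coe, hu, hw] at h4
    exact hqp h4
  -- pass to the permutation group on the suborbit
  let X := stabilizer G α
  let Δ : SubMulAction X Ω := ⟨{γ | InD G α β γ}, fun x _ h => h.smul x.2⟩
  let φ := toPermHom X Δ
  let ψ : X →* φ.range := φ.rangeRestrict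
  have hψ : ∀ (x : X) (γ : Δ), ((ψ x • γ : Δ) : Ω) = (x : G) • (γ : Ω) := fun _ _ => rfl
  let ι : D →* X := inclusion inf_le_right
  have hinj : Function.Injective (ψ.comp ι) := by
    rw [injective_iff_map_eq_one]
    intro d hd
    refine Subtype.ext (hf d d.2 fun γ h => ?_)
    have := hψ (ι d) ⟨γ, h⟩
    rw [show ψ (ι d) = 1 from hd, one_smul] at this
    exact this.symm
  have e := (ψ.comp ι).ofInjective hinj
  refine core φ.range Δ ?_ (ψ.comp ι).range ?_ e.symm.isSimpleGroup ?_ ⟨β, InD.self⟩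
    (ψ.comp ι ⟨z, hz⟩) ⟨_, rfl⟩ ?_ ?_ ?_
  · intro a b c d hab hcd
    obtain ⟨x, hx, h1, h2⟩ := s.two a b c d a.2 b.2 c.2 d.2 (fun h => hab (Subtype.ext h))
      (fun h => hcd (Subtype.ext h))
    exact ⟨ψ ⟨x, hx⟩, Subtype.ext h1, Subtype.ext h2⟩
  · refine ⟨?_⟩
    rintro _ ⟨d, rfl⟩ y
    obtain ⟨x, rfl⟩ := φ.rangeRestrict_surjective y
    refine ⟨⟨x * d * x⁻¹, D_conj x.2 d.2⟩, ?_⟩
    change ψ _ = ψ x * ψ (ι d) * (ψ x)⁻¹
    rw [← map_mul, ← map_inv, ← map_mul]
    rfl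
  · intro h
    apply hab
    have := h.1.1 ⟨_, ⟨⟨a, ha⟩, rfl⟩⟩ ⟨_, ⟨⟨b, hb⟩, rfl⟩⟩
    have h2 : (ψ.comp ι) (⟨a, ha⟩ * ⟨b, hb⟩) = (ψ.comp ι) (⟨b, hb⟩ * ⟨a, ha⟩) := by
      rw [map_mul, map_mul]; exact congrArg Subtype.val this
    exact congrArg Subtype.val (hinj h2)
  · intro h
    exact hz1 (congrArg Subtype.val (hinj (h.trans (map_one _).symm)))
  · exact Subtype.ext hzβ
  · rintro _ ⟨d, rfl⟩ h
    rw [← map_mul, ← map_mul]
    congr 1
    exact Subtype.ext (hzc d d.2 (congrArg Subtype.val h))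

theorem sf_of (h : CfsgH6.IsSimpleFactor N T) : SF N T where
  le := h.le
  conj_mem := h.conj_mem
  simple := h.simple
  nc := by
    by_contra hc
    push Not at hc
    exact h.not_comm ⟨⟨fun a b => Subtype.ext (hc a a.2 b b.2)⟩⟩
  decomp := fun n hn => by
    obtain ⟨t, ht, c, hc, e⟩ := h.decomp n hn
    exact ⟨t, ht, c, hc.1, hc.2, e⟩

/-- a factor of `M` is a factor of `M ⊔ C(M)` -/
theorem SF.sup {M M' : Subgroup G} [hM : M.Normal] [hM' : M'.Normal] (h : SF M T) (hc : M' ≤ CC M) :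
    SF (M ⊔ M') T where
  le := h.le.trans le_sup_left
  conj_mem := fun n hn t ht => by
    obtain ⟨m, hm, m', hm', rfl⟩ := mem_sup_of_normal_right.1 hn
    have := mem_CC.1 (hc hm') t (h.le ht)
    rw [show m * m' * t * (m * m')⁻¹ = m * (m' * t) * m'⁻¹ * m⁻¹ by group, ← this,
      show m * (t * m') * m'⁻¹ * m⁻¹ = m * t * m⁻¹ by group]
    exact h.conj_mem m hm t ht
  simple := h.simple
  nc := h.nc
  decomp := fun n hn => by
    obtain ⟨m, hm, m', hm', rfl⟩ := mem_sup_of_normal_right.1 hn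
    obtain ⟨t, ht, c, hcM, hc', rfl⟩ := h.decomp m hm
    exact ⟨t, ht, c * m', mul_mem (mem_sup_left hcM) (mem_sup_right hm'),
      mul_mem hc' (centralizer_le h.le (hc hm')), by group⟩

/-- an element centralising all conjugates of a factor centralises the minimal normal subgroup -/
theorem cz_of_all {M : Subgroup G} (h : CfsgH6.IsSimpleFactor M T) {u : G}
    (hu : ∀ g : G, u ∈ CC (T.map (MulAut.conj g).toMonoidHom)) : u ∈ CC M := by
  have := h.le_of_conj (centralizer {u}) fun g t ht =>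
    mem_centralizer_singleton_iff.2 (mem_CC.1 (hu g) _ (mem_conj.2 (by simpa [mul_assoc] using ht)))
  exact mem_CC.2 fun m hm => mem_centralizer_singleton_iff.1 (this hm)

end

theorem reduction (core : Core.{v}) {G : Type u} {Ω : Type v} [Group G] [Finite G] [MulAction G Ω]
    [FaithfulSMul G Ω] [Finite Ω]
    (hprim : MulAction.IsPreprimitive G Ω) (α β : Ω) (hβ : β ≠ α)
    (h2t : MulAction.IsMultiplyPretransitive ↥(MulAction.stabilizer G α)
      ↥(MulAction.orbit ↥(MulAction.stabilizer G α) β) 2) :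
    (∃ T : Subgroup G, T.Normal ∧ IsSimpleGroup ↥T ∧ ¬ IsMulCommutative ↥T ∧
      Subgroup.centralizer (T : Set G) = ⊥) ∨
    (∃ N : Subgroup G, N.Normal ∧ N ≠ ⊥ ∧ (∀ M : Subgroup G, M.Normal → M ≠ ⊥ → N ≤ M) ∧
      MulAction.IsPretransitive ↥N Ω ∧ ∀ ω : Ω, MulAction.stabilizer ↥N ω = ⊥) := by
  have s : St G α β :=
    { faith := fun g h => FaithfulSMul.eq_of_smul_eq_smul (α := Ω) fun ω => by rw [h, one_smul]
      prim := hprim
      ne := hβ
      two := by
        rintro a b c d ⟨x1, h1, rfl⟩ ⟨x2, h2, rfl⟩ ⟨x3, h3, rfl⟩ ⟨x4, h4, rfl⟩ hab hcd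
        rw [is_two_pretransitive_iff] at h2t
        obtain ⟨x, e1, e2⟩ := @h2t ⟨x1 • β, ⟨⟨x1, h1⟩, rfl⟩⟩ ⟨x2 • β, ⟨⟨x2, h2⟩, rfl⟩⟩
          ⟨x3 • β, ⟨⟨x3, h3⟩, rfl⟩⟩ ⟨x4 • β, ⟨⟨x4, h4⟩, rfl⟩⟩
          (fun h => hab (congrArg Subtype.val h)) (fun h => hcd (congrArg Subtype.val h))
        exact ⟨x, x.2, congrArg Subtype.val e1, congrArg Subtype.val e2⟩ }
  by_contra hcon
  rw [not_or] at hcon
  obtain ⟨hnas, hnu⟩ := hcon
  have hnt : Nontrivial Ω := ⟨⟨β, α, hβ⟩⟩
  have hG := CfsgH6.nontrivial_of_transitive (G := G) (Ω := Ω) inferInstance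
  obtain ⟨M, hM, hM0, hMmin⟩ := CfsgH6.exists_minimal_normal (G := G)
  have fin : ∀ N : Subgroup G, N.Normal → N ⊓ stabilizer G α ≠ ⊥ →
      (∀ u ∈ N, (∀ T, SF N T → u ∈ CC T) → u = 1) → False := by
    intro N hN hD hsep
    have g : Dg α N := ⟨fun T hT => s.onto hD hT fun hTn e => hnas ⟨T, hTn, hT.simple, fun h => by
      obtain ⟨a, ha, b, hb, hab⟩ := hT.nc
      exact hab (congrArg Subtype.val (h.1.1 ⟨a, ha⟩ ⟨b, hb⟩)), e⟩, hsep⟩
    obtain ⟨T, hT⟩ : ∃ T, SF N T := by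
      by_contra hc
      push Not at hc
      apply hD
      rw [eq_bot_iff]
      intro d hd
      exact hsep d hd.1 fun T h => absurd h (hc T)
    exact g.false core s hD hT
  -- comparison with other normal subgroups
  have other : ∀ K : Subgroup G, K.Normal → ¬ M ≤ K → K ≤ CC M := by
    intro K hK hMK k hk
    have h1 : M ⊓ K = ⊥ := by
      by_contra h
      exact hMK (by rw [← hMmin (M ⊓ K) inferInstance h inf_le_left]; exact inf_le_right)
    rw [mem_CC]
    intro m hm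
    exact (commute_of_normal_of_disjoint M K hM hK (disjoint_iff.2 h1) m k hm hk).eq
  have regM : CC M ≠ ⊥ → ∀ m ∈ M, ∀ ω : Ω, m • ω = ω → m = 1 := fun h0 m hm ω h =>
    s.eq_one (M := CC M) inferInstance h0 (mem_CC.2 fun c hc => (mem_CC.1 hc m hm).symm) h
  have uniq : CC M ≤ M → (∀ m ∈ M, ∀ ω : Ω, m • ω = ω → m = 1) → False := by
    intro hle hreg
    refine hnu ⟨M, hM, hM0, fun K hK hK0 => ?_,
      CfsgH6.isPretransitive_of_normal_of_preprimitive hprim M hM hM0, fun ω => ?_⟩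
    · by_contra h
      exact h (hMmin K hK hK0 ((other K hK h).trans hle)).ge
    · rw [eq_bot_iff]
      intro m hm
      exact Subtype.ext (hreg m m.2 ω hm)
  have cle : ∀ K : Subgroup G, K.Normal → K ≠ ⊥ → K ≤ CC M → CC M ≤ K := by
    intro K hK hK0 hle c hc
    obtain ⟨k, hk, h⟩ := s.trans K hK hK0 α (c • α)
    have : k⁻¹ * c = 1 := s.eq_one hM hM0 (mul_mem (inv_mem (hle hk)) hc)
      (a := α) (by rw [mul_smul, ← h, inv_smul_smul])
    rw [← inv_mul_eq_one.1 this]; exact hk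
  by_cases hab : IsMulCommutative M
  · have hle : M ≤ CC M := fun m hm => mem_CC.2 fun m' hm' =>
      congrArg Subtype.val (hab.1.1 ⟨m', hm'⟩ ⟨m, hm⟩)
    exact uniq (cle M hM hM0 hle) (regM fun e => hM0 (le_bot_iff.1 (e ▸ hle)))
  obtain ⟨T, hT⟩ := CfsgH6.exists_isSimpleFactor M hM hM0 hMmin hab
  have hMC : M ⊓ CC M = ⊥ := by
    by_contra h
    have := hMmin (M ⊓ CC M) inferInstance h inf_le_left
    exact hab ⟨⟨fun a b => Subtype.ext (mem_CC.1 (show (b : G) ∈ M ⊓ CC M by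
      rw [this]; exact b.2).2 a a.2)⟩⟩
  by_cases hC : CC M = ⊥
  · refine fin M hM (fun e => uniq (by rw [hC]; exact bot_le) fun m hm ω h => ?_) fun u hu h => ?_
    · obtain ⟨y, rfl⟩ := hprim.exists_smul_eq α ω
      have : y⁻¹ * m * y ∈ M ⊓ stabilizer G α := ⟨by simpa using hM.conj_mem m hm y⁻¹, by
        change (y⁻¹ * m * y) • α = α
        rw [mul_smul, mul_smul, h, inv_smul_smul]⟩
      rw [e, mem_bot] at this
      calc m = y * (y⁻¹ * m * y) * y⁻¹ := by group
        _ = 1 := by rw [this]; group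
    · have := cz_of_all hT fun g => h _ ((sf_of hT).conj g)
      rwa [hC, mem_bot] at this
  · set M' := CC M with hM'
    have hM'n : M'.Normal := inferInstance
    have hMM' : M ≤ CC M' := fun m hm => mem_CC.2 fun c hc => (mem_CC.1 hc m hm).symm
    have hCC : CC M' ≤ M := by
      intro c hc
      obtain ⟨k, hk, h⟩ := s.trans M hM hM0 α (c • α)
      have : k⁻¹ * c = 1 := s.eq_one hM'n hC (mul_mem (inv_mem (hMM' hk)) hc)
        (a := α) (by rw [mul_smul, ← h, inv_smul_smul])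
      rw [← inv_mul_eq_one.1 this]; exact hk
    have hab' : ¬ IsMulCommutative M' := by
      intro h
      apply hC
      rw [eq_bot_iff, ← hMC]
      exact le_inf (fun c hc => hCC (mem_CC.2 fun c' hc' =>
        congrArg Subtype.val (h.1.1 ⟨c', hc'⟩ ⟨c, hc⟩))) le_rfl
    obtain ⟨T', hT'⟩ := CfsgH6.exists_isSimpleFactor M' hM'n hC
      (fun K hK hK0 hle => le_antisymm hle (cle K hK hK0 hle)) hab'
    refine fin (M ⊔ M') inferInstance (fun e => ?_) fun u hu h => ?_
    · obtain ⟨m, hm, hm1⟩ := (bot_or_exists_ne_one M).resolve_left hM0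
      obtain ⟨c, hc, h⟩ := s.trans M' hM'n hC α (m • α)
      have : c⁻¹ * m ∈ (M ⊔ M') ⊓ stabilizer G α :=
        ⟨mul_mem (mem_sup_right (inv_mem hc)) (mem_sup_left hm), by
          change (c⁻¹ * m) • α = α
          rw [mul_smul, ← h, inv_smul_smul]⟩
      rw [e, mem_bot, inv_mul_eq_one] at this
      have h2 : m ∈ M ⊓ M' := ⟨hm, this ▸ hc⟩
      rw [hMC, mem_bot] at h2
      exact hm1 h2
    · have h1 := cz_of_all hT fun g => h _ (((sf_of hT).conj g).sup le_rfl)
      have h2 := cz_of_all hT' fun g => h _ (by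
        rw [sup_comm]; exact ((sf_of hT').conj g).sup hMM')
      have h3 : u ∈ M ⊓ M' := ⟨hCC h2, h1⟩
      rwa [hMC, mem_bot] at h3

end CfsgQR
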