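import Cfsg.Agent.H4.C1

/-! The numerical search for principal blocks of defect one with a given list of degrees. -/

set_option autoImplicit false
set_option linter.unusedSectionVars false

namespace CfsgB0

open Finset Cfsg CfsgL CfsgH5 CfsgH6 CfsgFT CfsgSZ Subgroup

universe u

/-- possible non-exceptional characters -/
def candsL (D : List ℕ) (n p e k : ℕ) : List Key :=
  D.flatMap fun d : ℕ => ((sg e).filter fun c : ℤ => ((d : ℤ) - c) % p == 0 && c != 0 &&
    c != d && 0 ≤ (d : ℤ) - c && 0 ≤ (d : ℤ) - c + p * c &&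
    ((n / (p * k) : ℕ) * c) % d == 0).map fun c => (c, 1, d)

theorem mem_candsL {D : List ℕ} {n p e k d a : ℕ} {c : ℤ} (h1 : d ∈ D) (h2 : c ∈ sg e)
    (h3 : c ≠ 0) (h3' : c ≠ d) (h4 : (d : ℤ) = p * a + c) (h4' : 0 ≤ a + c)
    (h5 : (d : ℤ) ∣ (n / (p * k) : ℕ) * c) : (c, 1, d) ∈ candsL D n p e k := by
  simp only [candsL, List.mem_flatMap, List.mem_map, List.mem_filter, Bool.and_eq_true, bne_iff_ne,
    beq_iff_eq, decide_eq_true_eq]
  refine ⟨d, h1, c, ⟨h2, ⟨⟨⟨⟨Int.emod_eq_zero_of_dvd ⟨a, by omega⟩, h3⟩, h3'⟩, ?_⟩, ?_⟩,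
    Int.emod_eq_zero_of_dvd h5⟩, rfl⟩
  · rw [h4, add_sub_cancel_right]; positivity
  · rw [h4, add_sub_cancel_right, ← mul_add]; positivity

/-- options for the exceptional characters, with the remaining norm -/
def exoL (D : List ℕ) (p e : ℕ) : List (List Key × ℤ) :=
  if e + 1 = p then [([], e)] else
    [1, -1].flatMap fun ε : ℤ => (sg e).flatMap fun m =>
      if (((p - 1) / e : ℕ) - 1) * (m * m) + (m - ε) * (m - ε) ≤ e then
        (D.filter fun d : ℕ => ((d : ℤ) - m - ε * e) % p == 0 &&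
          0 ≤ (d : ℤ) - m - ε * e && 0 ≤ (d : ℤ) - m - ε * e + p * ε &&
          0 ≤ (d : ℤ) - m - ε * e + p * m).map fun d =>
          ([(((p - 1) / e : ℕ) * m - ε, (p - 1) / e, d)],
            e - ((((p - 1) / e : ℕ) - 1) * (m * m) + (m - ε) * (m - ε)))
      else []

/-- principal blocks -/
def blkL (D : List ℕ) (n p e k : ℕ) : List (List Key) :=
  (exoL D p e).flatMap fun X => (enum ((candsL D n p e k).length + e + 1) (candsL D n p e k)
    X.2 (-1 - (X.1.map fun z : Key => z.1 * (z.2.2 : ℤ)).sum)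
    (n - 1 - (X.1.map fun z : Key => ((z.2.1 * (z.2.2 * z.2.2) : ℕ) : ℤ)).sum)).map (X.1 ++ ·)

/-- possible degrees, from a list `A` containing all divisors -/
def degsL (A : List ℕ) (t p k : ℕ) : List ℕ :=
  A.filter fun d => d * d ≤ t && t % d == 0 && 2 ≤ d && (k == 1 || 2 * p ≤ d)

/-- check `P` for all Sylow data -/
def triL (A : List ℕ) (n p : ℕ) (P : ℕ → ℕ → ℕ → Bool) : Bool :=
  (A.filter fun m => m % p == 1 && m != 1).all fun m =>
    ((List.range p).filter fun e => 2 ≤ e && (p - 1) % e == 0).all fun e =>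
      (A.filter fun k => n % (p * e * k * m) == 0).all fun k => P m e k

variable {G : Type u} [Group G] {p : ℕ} [hp : Fact p.Prime] [Finite G] {x : G}
  [IsSimpleGroup G] (hc : commutator G = ⊤)
include hc

theorem P1.exists_blkL (h : P1 p x) {D : List ℕ} (hD : ∀ χ ∈ B0 p G, χ ≠ triv G → dg χ ∈ D)
    (hp6 : p < 6000) : ∃ K S, WB p x K S ∧ Vx p x K ∧
      K.map key ∈ blkL D (Nat.card G) p (Nat.card h.U) (Nat.card (Opc p (C1 x))) := by
  obtain ⟨L, c, E, χ0, μ, r, B⟩ := h.exists_BD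
  obtain ⟨S, W⟩ := B.wb h
  have he : Nat.card h.U < 6000 := by
    have := h.card_mul_index
    have := Nat.pos_of_ne_zero h.U.index_ne_zero_of_finite
    nlinarith
  have hL : ∀ χ ∈ L, 1 ≤ c χ * c χ := fun χ hχ => mul_self_pos.mpr (B.ne χ hχ)
  have r0 : 0 ≤ r := by
    rcases B.ex with e | ⟨-, e, m, ε, a, -, -, rfl, -⟩
    · omega
    · have : (2 : ℤ) ≤ E.card := by exact_mod_cast e
      nlinarith [sq_nonneg m, sq_nonneg (m - ε)]
  have n1 := B.norm
  simp only [sq] at n1
  have s1 := W.rel_int h reg_one (a := fun χ => dg χ) fun χ => by simp [dg_cast]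
  have s2 := W.le_sum (reg_dg fun d => ((d * d : ℕ) : ℤ)) fun _ => Int.natCast_nonneg _
  rw [sum_dg_sq, dg_triv] at s2
  set X : List (WC G) := if E.card = 0 then [] else [(χ0, μ, E.card)]
  simp only [List.map_append, List.sum_append, List.map_map, Function.comp_def, Nat.cast_one,
    one_mul] at s1 s2
  obtain ⟨L', p1, p2⟩ := enum_sound (fun χ => (c χ, 1, dg χ))
    ((candsL D (Nat.card G) p (Nat.card h.U) (Nat.card (Opc p (C1 x)))).length + Nat.card h.U + 1)
    _ L (Nat.card G - 1 - ((X.map key).map fun z : Key => ((z.2.1 * (z.2.2 * z.2.2) : ℕ) : ℤ)).sum)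
    (fun χ hχ => ⟨by
      obtain ⟨a, ha, ha'⟩ := B.mult χ hχ
      have v : χ.1 x = c χ := by rw [← B.val χ hχ 1 one_ne_zero, pw_one h.pow_p]
      have n : χ ≠ triv G := fun e => B.t1 (e ▸ hχ)
      exact mem_candsL (hD _ (B.memL χ hχ) n) (mem_sg (by
        have := List.single_le_sum (l := L.map fun χ => c χ * c χ)
          (List.forall_mem_map.mpr fun _ _ => mul_self_nonneg _) _ (List.mem_map_of_mem hχ)
        omega) he) (B.ne χ hχ) (abs_lt_dg hc n h.ne_one v).1 ha ha' (by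
        rw [mul_comm p, h.card_C1]
        exact dvd_class χ v), B.ne χ hχ⟩)
    (by
      have := List.card_nsmul_le_sum (L.map fun χ => c χ * c χ) 1 (List.forall_mem_map.mpr hL)
      simp only [List.length_map, nsmul_eq_mul, mul_one] at this
      omega)
    (by simp only [List.map_map, Function.comp_def, Nat.cast_mul] at s2 ⊢; omega)
  refine ⟨_, S, W.perm ((p1.map _).append_left _), fun z hz h1 => ?_, ?_⟩
  · rcases List.mem_append.mp hz with hz | hz
    · rcases B.ex with ⟨-, e2, -⟩ | ⟨-, e2, -⟩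
      · simp [X, e2] at hz
      · simp only [X, if_neg (show E.card ≠ 0 by omega), List.mem_singleton] at hz
        rw [hz] at h1
        simp only at h1
        omega
    · obtain ⟨χ, hχ, rfl⟩ := List.mem_map.mp hz
      exact B.val χ (p1.subset hχ)
  simp only [blkL, List.mem_flatMap, List.mem_map, List.map_append,
    List.map_map]
  refine ⟨(X.map key, Nat.card h.U - r), ?_, _, ?_, rfl⟩
  · rcases B.ex with ⟨e1, e2, -, rfl, -⟩ | ⟨e1, e2, m, ε, a, e3, rfl, rfl, e4, e8, e9⟩
    · simp [exoL, e1, X, e2]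
    · have e0 : 0 < Nat.card h.U := Nat.card_pos
      have e5 : (p - 1) / Nat.card h.U = E.card := Nat.div_eq_of_eq_mul_right e0 (by omega)
      have e6 : (2 : ℤ) ≤ E.card := by exact_mod_cast e2
      have e7 : 0 ≤ (L.map fun χ => c χ * c χ).sum :=
        List.sum_nonneg (List.forall_mem_map.mpr fun _ _ => mul_self_nonneg _)
      have m0 : χ0 ∈ E := B.mem0.resolve_right fun f => by simp [f.1] at e2
      have e10 : (dg χ0 : ℤ) - m - ε * Nat.card h.U = p * a := by omega
      rw [exoL, if_neg (by nlinarith)]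
      simp only [List.mem_flatMap, e5]
      refine ⟨ε, by simpa using e3, m,
        mem_sg (by nlinarith [mul_self_nonneg (m - ε), mul_self_nonneg m]) he, ?_⟩
      rw [if_pos (by simp only [sq] at n1; omega), List.mem_map]
      refine ⟨dg χ0, List.mem_filter.mpr ⟨hD _ (B.memE _ m0) fun e => B.t2 (e ▸ m0),
        ?_⟩, ?_⟩
      · simp only [e10, ← mul_add, Bool.and_eq_true, beq_iff_eq, decide_eq_true_eq]
        exact ⟨⟨⟨by simp, by positivity⟩, by positivity⟩, by positivity⟩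
      · simp [X, if_neg (show E.card ≠ 0 by omega), sq]
  · simp only [List.map_map, Function.comp_def] at p2 ⊢
    convert p2 using 2 <;> omega

theorem P1.mem_degsL (h : P1 p x) {A : List ℕ} (hA : ∀ d, d ∣ Nat.card G → d ∈ A)
    {χ : IrrCharacter G} (hχ : χ ∈ B0 p G) (h1 : χ ≠ triv G) :
    dg χ ∈ degsL A (Nat.card G) p (Nat.card (Opc p (C1 x))) := by
  have d := irr_deg_dvd_card χ.2 (dg_cast χ)
  simp only [degsL, List.mem_filter, Bool.and_eq_true, decide_eq_true_eq, Bool.or_eq_true,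
    beq_iff_eq]
  exact ⟨hA _ d, ⟨⟨dg_sq_le χ, Nat.mod_eq_zero_of_dvd d⟩, two_le_dg hc h1⟩,
    or_iff_not_imp_left.mpr fun e => h.stanton hc e hχ h1⟩

theorem P1.card_eq (h : P1 p x) : Nat.card G =
    p * Nat.card h.U * Nat.card (Opc p (C1 x)) * (N (zpowers x)).index := by
  rw [← (h.sylow hc).2.2.2, Subgroup.card_mul_index]

theorem P1.tri (h : P1 p x) {A : List ℕ} {n : ℕ} (hA : ∀ d, d ∣ n → d ∈ A) (h1 : Nat.card G ∣ n)
    {P : ℕ → ℕ → ℕ → Bool} (H : triL A n p P = true) :
    P (N (zpowers x)).index (Nat.card h.U) (Nat.card (Opc p (C1 x))) = true := by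
  obtain ⟨a1, a2, a3, -⟩ := h.sylow hc
  have a4 := h.card_mul_index
  have a5 : 0 < Nat.card h.U := Nat.card_pos
  have a6 := Nat.pos_of_ne_zero h.U.index_ne_zero_of_finite
  simp only [triL, List.all_eq_true, List.mem_filter, Bool.and_eq_true, beq_iff_eq, bne_iff_ne,
    List.mem_range, decide_eq_true_eq] at H
  exact H _ ⟨hA _ ((index_dvd_card _).trans h1), a3, a2⟩ _ ⟨by nlinarith, by omega,
    Nat.mod_eq_zero_of_dvd ⟨h.U.index, by omega⟩⟩ _ ⟨hA _ ((card_subgroup_dvd_card _).trans h1),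
    Nat.mod_eq_zero_of_dvd (h.card_eq hc ▸ h1)⟩

end CfsgB0
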