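import Cfsg.Agent.H3.U3Def
import Cfsg.Agent.H4.U3Db

/-! S3645, piece (D): from the principal block to `DU`; the cases `q = 7, 9`. -/

set_option autoImplicit false
set_option linter.unusedSectionVars false

namespace CfsgB0

open Finset Cfsg CfsgL CfsgH5 CfsgH6 CfsgFT CfsgSZ CfsgH8 CfsgU3 Subgroup
open scoped ComplexConjugate

universe u

variable {G : Type u} [Group G] [Finite G] {K : List (WC G)} {S : Finset (IrrCharacter G)}
  {p : ℕ} [hp : Fact p.Prime] {x : G}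

/-- the class multiplication formula at `x` -/
theorem P1.cmf (h : P1 p x) (hk : Nat.card (Opc p (C1 x)) = 1) (W : WB p x K S) {g g' : G}
    (r : ¬ p ∣ orderOf g) (r' : ¬ p ∣ orderOf g') (hi : ∀ z ∈ K, z.1.1 g = iv g z.1)
    (hi' : ∀ z ∈ K, z.1.1 g' = iv g' z.1) :
    ((Nat.card {z : G × G // IsConj g z.1 ∧ IsConj g' z.2 ∧ z.1 * z.2 = x} *
      (Nat.card (C1 g) * Nat.card (C1 g')) : ℕ) : ℤ) = Nat.card G +
      (K.map fun z => z.2.1 * (iv g z.1 * iv g' z.1) * (Nat.card G / dg z.1 : ℕ)).sum := by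
  have c0 : (Nat.card (C1 g) : ℂ) ≠ 0 := Nat.cast_ne_zero.mpr Nat.card_pos.ne'
  have c1 : (Nat.card (C1 g') : ℂ) ≠ 0 := Nat.cast_ne_zero.mpr Nat.card_pos.ne'
  have e1 := class_mult_formula g g' x
  rw [← sum_subset (subset_univ (B0 p G)) fun χ _ hχ => by
      rw [← pw_one h.pow_p, h.out_zero hk hχ one_ne_zero, mul_zero, zero_div],
    sum_congr rfl fun χ _ => (by rw [dg_cast]; ring :
      _ = χ.1 x * (conj (χ.1 g) * conj (χ.1 g') / dg χ)), W.sumx _ fun χ φ e => by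
        simp only [show dg χ = dg φ from reg_dg id χ φ e, e g r, e g' r'],
    List.map_congr_left fun z hz => (by rw [hi z hz, hi' z hz, map_intCast, map_intCast] :
      _ = (z.2.1 : ℂ) * ((iv g z.1 : ℂ) * iv g' z.1 / dg z.1))] at e1
  rw [← Int.cast_inj (α := ℂ)]
  simp only [Int.cast_natCast, Nat.cast_mul, e1, triv_apply, dg_triv, Int.cast_add,
    Int.cast_list_sum, List.map_map, Function.comp_def, Int.cast_mul,
    fun χ : IrrCharacter G => Nat.cast_div_charZero (K := ℂ) (irr_deg_dvd_card χ.2 (dg_cast χ))]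
  rw [mul_right_comm, div_mul_cancel₀ _ (mul_ne_zero c0 c1), mul_add, ← List.sum_map_mul_left]
  simp only [map_one, Nat.cast_one, mul_one, div_one, add_right_inj]
  exact congrArg _ (List.map_congr_left fun _ _ => by ring)

/-- characters determined by their degree are rational on `p`-regular elements -/
theorem P1.int_of (h : P1 p x) (hk : Nat.card (Opc p (C1 x)) = 1) (W : WB p x K S) {z : WC G}
    (m1 : dg z.1 ≠ 1) (m2 : ¬ p ∣ dg z.1) (hw : ∀ w ∈ K, dg w.1 = dg z.1 → w.1 = z.1)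
    {g : G} (hg : ¬ p ∣ orderOf g) : z.1.1 g = iv g z.1 :=
  int_of_gal fun k hk' => W.agree (φ := gal hk' z.1) m1 hw (by
    by_contra f
    exact m2 ((h.dvd_dg hk W f).trans (dg_gal hk' z.1).dvd)) (dg_gal hk' _) hg

/-- the block of `PSU₃(q)` -/
def EU (q p : ℕ) : List Key :=
  [(1, (p - 1) / 3, (q - 1) * (q + 1) ^ 2), (-1, 1, q * (q - 1)), (-1, 1, q ^ 3)]

/-- the divisors of `5663616` -/
def A7 : List ℕ :=
  [1, 2, 3, 4, 6, 7, 8, 12, 14, 16, 21, 24, 28, 32, 42, 43, 48, 49, 56, 64, 84, 86, 96, 98, 112,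
  128, 129, 147, 168, 172, 192, 196, 224, 258, 294, 301, 336, 343, 344, 384, 392, 448, 516, 588,
  602, 672, 686, 688, 784, 896, 903, 1029, 1032, 1176, 1204, 1344, 1372, 1376, 1568, 1806, 2058,
  2064, 2107, 2352, 5663616, 2831808, 1887872, 1415904, 943936, 809088, 707952, 471968, 404544,
  353976, 269696, 235984, 202272, 176988, 134848, 131712, 117992, 115584, 101136, 88494, 67424,
  65856, 58996, 57792, 50568, 44247, 43904, 38528, 33712, 32928, 29498, 28896, 25284, 21952,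
  19264, 18816, 16856, 16512, 16464, 14749, 14448, 12642, 10976, 9632, 9408, 8428, 8256, 8232,
  7224, 6321, 6272, 5504, 5488, 4816, 4704, 4214, 4128, 4116, 3612, 3136, 2752, 2744, 2688, 2408]

theorem mem_A7 (d : ℕ) (h : d ∣ ord 7 43) : d ∈ A7 :=
  (by decide +kernel : adv (ord 7 43) 2380 = A7) ▸ mem_adv (by decide) (by decide) h

/-- the divisors of `5515776` -/
def A8 : List ℕ :=
  [1, 2, 3, 4, 6, 7, 8, 9, 12, 14, 16, 18, 19, 21, 24, 27, 28, 32, 36, 38, 42, 48, 54, 56, 57, 63,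
  64, 72, 76, 81, 84, 96, 108, 112, 114, 126, 128, 133, 144, 152, 162, 168, 171, 189, 192, 216,
  224, 228, 252, 256, 266, 288, 304, 324, 336, 342, 378, 384, 399, 432, 448, 456, 504, 512, 513,
  532, 567, 576, 608, 648, 672, 684, 756, 768, 798, 864, 896, 912, 1008, 1026, 1064, 1134, 1152,
  1197, 1216, 1296, 1344, 1368, 1512, 1536, 1539, 1596, 1728, 1792, 1824, 2016, 2052, 2128, 2268,
  2304, 5515776, 2757888, 1838592, 1378944, 919296, 787968, 689472, 612864, 459648, 393984,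
  344736, 306432, 290304, 262656, 229824, 204288, 196992, 172368, 153216, 145152, 131328, 114912,
  102144, 98496, 96768, 87552, 86184, 76608, 72576, 68096, 65664, 57456, 51072, 49248, 48384,
  43776, 43092, 41472, 38304, 36288, 34048, 32832, 32256, 29184, 28728, 25536, 24624, 24192,
  21888, 21546, 20736, 19152, 18144, 17024, 16416, 16128, 14592, 14364, 13824, 12768, 12312,
  12096, 10944, 10773, 10752, 10368, 9728, 9576, 9072, 8512, 8208, 8064, 7296, 7182, 6912, 6384,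
  6156, 6048, 5472, 5376, 5184, 4864, 4788, 4608, 4536, 4256, 4104, 4032, 3648, 3591, 3584, 3456,
  3192, 3078, 3024, 2736, 2688, 2592, 2432, 2394]

theorem mem_A8 (d : ℕ) (h : d ∣ ord 8 19) : d ∈ A8 :=
  (by decide +kernel : adv (ord 8 19) 2349 = A8) ▸ mem_adv (by decide) (by decide) h

/-- the divisors of `42573600` -/
def A9 : List ℕ :=
  [1, 2, 3, 4, 5, 6, 8, 9, 10, 12, 15, 16, 18, 20, 24, 25, 27, 30, 32, 36, 40, 45, 48, 50, 54, 60,
  72, 73, 75, 80, 81, 90, 96, 100, 108, 120, 135, 144, 146, 150, 160, 162, 180, 200, 216, 219,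
  225, 240, 243, 270, 288, 292, 300, 324, 360, 365, 400, 405, 432, 438, 450, 480, 486, 540, 584,
  600, 648, 657, 675, 720, 729, 730, 800, 810, 864, 876, 900, 972, 1080, 1095, 1168, 1200, 1215,
  1296, 1314, 1350, 1440, 1458, 1460, 1620, 1752, 1800, 1825, 1944, 1971, 2025, 2160, 2190, 2336,
  2400, 2430, 2592, 2628, 2700, 2916, 2920, 3240, 3285, 3504, 3600, 3645, 3650, 3888, 3942, 4050,
  4320, 4380, 4860, 5256, 5400, 5475, 5832, 5840, 5913, 6075, 6480, 42573600, 21286800, 14191200,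
  10643400, 8514720, 7095600, 5321700, 4730400, 4257360, 3547800, 2838240, 2660850, 2365200,
  2128680, 1773900, 1702944, 1576800, 1419120, 1330425, 1182600, 1064340, 946080, 886950, 851472,
  788400, 709560, 591300, 583200, 567648, 532170, 525600, 473040, 443475, 425736, 394200, 354780,
  315360, 295650, 291600, 283824, 266085, 262800, 236520, 212868, 197100, 194400, 189216, 177390,
  175200, 157680, 147825, 145800, 141912, 131400, 118260, 116640, 106434, 105120, 98550, 97200,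
  94608, 88695, 87600, 78840, 72900, 70956, 65700, 64800, 63072, 59130, 58400, 58320, 53217,
  52560, 49275, 48600, 47304, 43800, 39420, 38880, 36450, 35478, 35040, 32850, 32400, 31536,
  29565, 29200, 29160, 26280, 24300, 23652, 23328, 21900, 21600, 21024, 19710, 19440, 18225,
  17739, 17520, 16425, 16200, 15768, 14600, 14580, 13140, 12960, 12150, 11826, 11680, 11664,
  10950, 10800, 10512, 9855, 9720, 8760, 8100, 7884, 7776, 7300, 7290, 7200, 7008, 6570]

theorem mem_A9 (d : ℕ) (h : d ∣ ord 9 73) : d ∈ A9 :=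
  (by decide +kernel : adv (ord 9 73) 6525 = A9) ▸ mem_adv (by decide) (by decide) h

/-- only the block of `PSU₃(q)` occurs -/
def chkU (A : List ℕ) (q p m e k : ℕ) : Bool := p * e * k * m < 6000 ||
  (blkL (degsL A (p * e * k * m) p k) (p * e * k * m) p e k).all fun ks =>
    p * e * k * m == ord q p && e == 3 && k == 1 && ks == EU q p

variable [IsSimpleGroup G] (hc : commutator G = ⊤)
include hc

theorem du_of {q r d : ℕ} (hP : Par q r d p) (e : Nat.card G = ord q p) (h : P1 p x)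
    (W : WB p x K S) (V : Vx p x K) (a1 : Nat.card h.U = 3) (a2 : Nat.card (Opc p (C1 x)) = 1)
    (a3 : K.map key = EU q p) : ∃ a s h, DU G q r d p a s h := by
  have n0 : 2 < p ∧ (∀ k ∈ EU q p, k.2.2 ≠ 1 ∧ ¬ p ∣ k.2.2 ∧
      (EU q p).filter (·.2.2 = k.2.2) = [k]) ∧ sqs (EU q p) ≠ ord q p ∧
      ord q p / (q * (q - 1)) = q ^ 2 * p * (q + 1) ^ 2 ∧
      ord q p / q ^ 3 = p * ((q - 1) * (q + 1) ^ 2) ∧
      ord q p / ((q - 1) * (q + 1) ^ 2) = q ^ 3 * p := by
    simp only [Par, List.mem_cons, Prod.mk.injEq, List.not_mem_nil, or_false] at hP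
    rcases hP with ⟨rfl, -, -, rfl⟩ | ⟨rfl, -, -, rfl⟩ | ⟨rfl, -, -, rfl⟩ <;> decide +kernel
  obtain ⟨n0, n1, n2, n3, n4, n5⟩ := n0
  have hu : ∀ z ∈ K, dg z.1 ≠ 1 ∧ ¬ p ∣ dg z.1 ∧ ∀ w ∈ K, dg w.1 = dg z.1 → w.1 = z.1 :=
    fun z hz => by
      obtain ⟨m1, m2, m3⟩ := n1 _ (a3 ▸ List.mem_map_of_mem (f := key) hz)
      obtain ⟨w, -, -, hw⟩ := uniq_key (a3 ▸ m3)
      exact ⟨m1, m2, fun v hv f => by rw [hw v hv f, hw z hz rfl]⟩
  have hi : ∀ g, ¬ p ∣ orderOf g → ∀ z ∈ K, z.1.1 g = iv g z.1 := fun g hg z hz =>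
    h.int_of a2 W (hu z hz).1 (hu z hz).2.1 (hu z hz).2.2 hg
  have hm := fun g g' r r' => h.cmf a2 W (g := g) (g' := g') r r' (hi g r) (hi g' r')
  have rho := W.rho h a2 (a3 ▸ e ▸ n2)
  obtain ⟨⟨c, _, _⟩, ⟨a, _, _⟩, ⟨s, _, _⟩, rfl, k1, k2, k3⟩ :
      ∃ a b c, K = [a, b, c] ∧ key a = (1, (p - 1) / 3, (q - 1) * (q + 1) ^ 2) ∧
        key b = (-1, 1, q * (q - 1)) ∧ key c = (-1, 1, q ^ 3) := by
    rcases K with _ | ⟨a, _ | ⟨b, _ | ⟨c, _ | ⟨g, K⟩⟩⟩⟩ <;> simp [EU] at a3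
    exact ⟨a, b, c, rfl, by simp [key, a3]⟩
  simp only [Prod.mk.injEq] at k1 k2 k3
  obtain ⟨⟨rfl, rfl, d1⟩, ⟨rfl, rfl, d2⟩, rfl, rfl, d3⟩ := And.intro k1 (And.intro k2 k3)
  have hs : ∀ g g', ¬ p ∣ orderOf g → ¬ p ∣ orderOf g' →
      ((Nat.card {z : G × G // IsConj g z.1 ∧ IsConj g' z.2 ∧ z.1 * z.2 = x} *
      (Nat.card (C1 g) * Nat.card (C1 g')) : ℕ) : ℤ) = sc q p a s c g g' := fun g g' r r' => by
    rw [hm g g' r r', e]
    simp only [List.map_cons, List.map_nil, List.sum_cons, List.sum_nil, d1, d2, d3, n3, n4, n5, sc]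
    ring
  simp only [List.forall_mem_cons, List.not_mem_nil, IsEmpty.forall_iff, implies_true, and_true,
    Vx] at hi V
  refine ⟨a, s, c, hP, e, hc, ⟨d2, d3, d1⟩, fun χ hχ g hg => ?_, fun g hg => ?_, fun g hg => ?_,
    fun g g1 hg => h.not_dvd_C1 a2 g1 hg, ?_, fun g g' r r' => ⟨_, hs g g' r r'⟩, fun t ht => ?_,
    fun χ hχ g hg => ?_, rho⟩
  · simp only [List.mem_cons, List.not_mem_nil, or_false] at hχ
    rcases hχ with rfl | rfl | rfl <;> simp only [hi g hg]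
  · have := W.rel h hg
    simp only [List.map_cons, List.map_nil, List.sum_cons, List.sum_nil, hi g hg] at this
    have : 1 + (1 * iv g c + (-1 * iv g a + (-1 * iv g s + 0))) = 0 := by exact_mod_cast this
    omega
  · have o := h.order_dvd a2 hg
    obtain ⟨i, i0, hi⟩ := h.conj_pw o
    simp only [← class_isConj (Irr_class _) hi]
    simpa [o] using And.intro (V.2.1 trivial i i0) (V.2.2 trivial i i0)
  · have m1 := (h.sylow hc).2.2.2
    have m2 := (N (zpowers x)).card_mul_index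
    rw [h.nord_eq, ← e, ← m2, m1, a1, a2]
    ring
  · have r : ¬ p ∣ orderOf t := fun e => by have := Nat.le_of_dvd two_pos (ht ▸ e); omega
    have : Np t x = 0 := by
      by_contra f
      have := h.even_of_Np n0 ht f
      omega
    rw [← hs t t r r, show Nat.card _ = 0 from this]
    simp
  · obtain ⟨u1, u2, u3⟩ := hu (s, -1, 1) (by simp)
    refine W.agree u1 u3 ?_ (hχ.trans d3.symm) hg
    by_contra f
    exact u2 ((h.dvd_dg a2 W f).trans (hχ.trans d3.symm).dvd)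

theorem du_tri {q r d : ℕ} (hP : Par q r d p) {A : List ℕ} (hA : ∀ d, d ∣ ord q p → d ∈ A)
    (h1 : Nat.card G ∣ ord q p) (h2 : p ∣ Nat.card G) (h : P1 p x)
    (H : chkU A q p (N (zpowers x)).index (Nat.card h.U) (Nat.card (Opc p (C1 x))) = true) :
    ∃ a s h, DU G q r d p a s h := by
  have n0 : p < 6000 ∧ ∀ t ∈ [60, 168, 360, 504, 660, 1092, 2448, 2520, 3420, 4080, 5616],
      t ∣ ord q p → ¬ p ∣ t := by
    simp only [Par, List.mem_cons, Prod.mk.injEq, List.not_mem_nil, or_false] at hP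
    rcases hP with ⟨rfl, -, -, rfl⟩ | ⟨rfl, -, -, rfl⟩ | ⟨rfl, -, -, rfl⟩ <;> decide +kernel
  obtain ⟨K, S, W, V, hK⟩ := h.exists_blkL hc (fun χ a b =>
    h.mem_degsL hc (fun d f => hA d (f.trans h1)) a b) n0.1
  simp only [chkU, ← h.card_eq hc, Bool.or_eq_true, decide_eq_true_eq, List.all_eq_true,
    Bool.and_eq_true, beq_iff_eq] at H
  obtain ⟨⟨⟨b1, b2⟩, b3⟩, b4⟩ := H.resolve_left (fun f => n0.2 _ (card_mem hc f) h1 h2) _ hK
  exact du_of hc hP b1 h W V b2 b3 b4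

theorem du7 (h1 : Nat.card G ∣ ord 7 43) (h2 : 43 ∣ Nat.card G) :
    ∃ a s h, DU G 7 7 1 43 a s h := by
  have : Fact (Nat.Prime 43) := ⟨by norm_num⟩
  obtain ⟨x, h⟩ := exists_P1 43 h2 fun f => absurd (f.trans h1) (by decide)
  exact du_tri hc (by simp [Par]) mem_A7 h1 h2 h (h.tri hc mem_A7 h1 (by decide +kernel))

theorem du9 (h1 : Nat.card G ∣ ord 9 73) (h2 : 73 ∣ Nat.card G) :
    ∃ a s h, DU G 9 3 1 73 a s h := by
  have : Fact (Nat.Prime 73) := ⟨by norm_num⟩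
  obtain ⟨x, h⟩ := exists_P1 73 h2 fun f => absurd (f.trans h1) (by decide)
  exact du_tri hc (by simp [Par]) mem_A9 h1 h2 h (h.tri hc mem_A9 h1 (by decide +kernel))

end CfsgB0
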