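import Cfsg.Agent.H4.U3Da

/-! S3645, piece (D): minimality, the block form of the class multiplication formula, and the
orders `114912`, `172368`. -/

set_option autoImplicit false
set_option linter.unusedSectionVars false

namespace CfsgB0

open Finset Cfsg CfsgL CfsgH5 CfsgH6 CfsgFT CfsgSZ CfsgH8 CfsgU3 Subgroup
open scoped ComplexConjugate

universe u

variable {G : Type u} [Group G] [Finite G] {K : List (WC G)} {S : Finset (IrrCharacter G)}
  {p : ℕ} [hp : Fact p.Prime] {x : G}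

theorem Act.of_dvd {n d : ℕ} (h : Act n p p) (hd : d ∣ n) : Act d p p := fun r m hr e1 e2 => by
  obtain ⟨rfl, -⟩ := h r m hr (e1.trans hd) e2
  simp [pow_succ] at e2

theorem P1.nrm_of_ab (h : P1 p x) (H : Act (Nat.card G) p p)
    (e : Ab (quo (Opc p (KK G p)) (KK G p))) : Nrm ⊤ (zpowers x) := by
  have hx := zpowers_le.mpr h.mem_KK
  have e1 : Opc p (KK G p) ⊔ zpowers x = KK G p := by
    have e2 := (ab_quo_iff (nrm_Opc p _)).mp e
    refine (h.cases ⟨sup_le (Opc_le _ _) hx, nrm_iff_commutator_le.mpr ?_⟩).resolve_left fun f =>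
      not_dvd_card_Opc hp.out _ (h.ord ▸ Subgroup.orderOf_dvd_natCard _
        (f (le_sup_right (a := Opc p _) (mem_zpowers x))))
    exact (commutator_mono (sup_le (Opc_le _ _) hx) le_rfl).trans (e2.trans le_sup_left)
  rw [nrm_iff, ← frattini_arg hp.out ((h.syl (mem_top x)).of_le hx le_top) (normalIn_Ores {p}ᶜ ⊤)]
  refine sup_le (nrm_iff.mp ?_) inf_le_right
  exact e1 ▸ Nrm.sup_left (nrm_of_le_C ((h.Opc_le_C H).trans (C_anti hx))) (Nrm.self _)

/-- in a minimal situation the normaliser of `x` is the only maximal subgroup containing `x` -/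
theorem P1.star (h : P1 p x) (H : Act (Nat.card G) p p)
    (ih : ∀ (T : Type u) [Group T] [Finite T] [IsSimpleGroup T], commutator T = ⊤ →
      Nat.card T ∣ Nat.card G → p ∣ Nat.card T → Nat.card T = Nat.card G)
    {X : Subgroup G} (hx : x ∈ X) (hX : X ≠ ⊤) : X ≤ N (zpowers x) := fun g hg => by
  have d := card_subgroup_dvd_card X
  have h' : P1 p (⟨x, hx⟩ : X) := ⟨(Subgroup.orderOf_coe _).symm.trans h.ord,
    fun f => h.nsq (f.trans d)⟩
  have := h'.simple_quo
  have n := h'.nrm_of_ab (H.of_dvd d) (by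
    by_contra f
    have d2 := (card_quo_dvd (Opc p (KK X p)) (KK X p)).trans (card_subgroup_dvd_card _)
    rw [ih _ (perfect_of_nab f) (d2.trans d) h'.dvd_quo] at d2
    exact hX (eq_top_of_card_eq X (Nat.dvd_antisymm d d2)))
  refine mem_N_of_conj fun y ⟨i, hi⟩ => ?_
  obtain ⟨j, hj⟩ := n ⟨g, hg⟩ (mem_top _) _ (zpow_mem (mem_zpowers _) i)
  exact ⟨j, by simpa [← hi] using congrArg Subtype.val hj⟩

theorem P1.even_of_inv (h : P1 p x) (h2 : 2 < p) {s : G} (e : s * x * s⁻¹ = x⁻¹) :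
    2 ∣ Nat.card h.U := by
  haveI := Fact.mk h2
  have m : (-1 : (ZMod p)ˣ) ∈ h.U := ⟨s, by
    rw [e, Units.val_neg, Units.val_one, pw_neg h.pow_p, pw_one h.pow_p]⟩
  have := Subgroup.orderOf_dvd_natCard _ m
  rwa [orderOf_eq_prime (p := 2) (by simp) fun f => ZMod.neg_one_ne_one (n := p) (by
    simpa using congrArg Units.val f)] at this

/-- if no involution inverts `x`, the class multiplication sum over the block vanishes -/
theorem P1.cmf_odd (h : P1 p x) (hc : commutator G = ⊤) (h2 : 2 < p) (he : ¬ 2 ∣ Nat.card h.U)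
    (W : WB p x K S) {t : G} (ht : orderOf t = 2) :
    1 + (K.map fun z => (z.2.1 : ℂ) * (iv t z.1 * iv t z.1 / dg z.1)).sum = 0 := by
  classical
  have := Fintype.ofFinite (Opc p (C1 x))
  have := Fintype.ofFinite G
  have r : ¬ p ∣ orderOf t := fun e => by have := Nat.le_of_dvd two_pos (ht ▸ e); omega
  have c0 : (Nat.card (C1 t) : ℂ) ≠ 0 := Nat.cast_ne_zero.mpr Nat.card_pos.ne'
  have e0 : ∀ y : Opc p (C1 x), ∑ χ : IrrCharacter G,
      χ.1 (x * y) * (iv t χ * iv t χ / dg χ : ℂ) = 0 := fun y => by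
    have e1 := class_mult_formula t t (x * y)
    rw [Nat.card_eq_zero.mpr (.inl ⟨fun a => he ?_⟩), Nat.cast_zero, eq_comm, mul_eq_zero] at e1
    · rw [← e1.resolve_left (div_ne_zero card_ne_zero' (mul_ne_zero c0 c0))]
      exact sum_congr rfl fun χ _ => by rw [(iv_spec hc ht χ).1, map_intCast, dg_cast]; ring
    obtain ⟨c, hy⟩ := (h.mem_O y).mp y.2
    obtain ⟨m, -, hm⟩ := Nat.exists_mul_mod_eq_one_of_coprime
      ((hp.out.coprime_iff_not_dvd.mpr hy).symm) hp.out.one_lt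
    have e2 : (x * y) ^ (orderOf (y : G) * m) = x := by
      rw [c.mul_pow, pow_mul (y : G), pow_orderOf_eq_one, one_pow, mul_one, ← pow_mod_orderOf,
        h.ord, hm, pow_one]
    refine h.even_of_inv h2 (s := a.1.1) ?_
    have e3 := congrArg (· ^ (orderOf (y : G) * m)) (inv_of_mul ht a.2)
    simpa only [conj_pow, inv_pow, e2] using e3
  have e1 : ∑ y : Opc p (C1 x), ∑ χ : IrrCharacter G,
      χ.1 (x * y) * (iv t χ * iv t χ / dg χ : ℂ) = 0 := sum_eq_zero fun y _ => e0 y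
  have hk : x ^ p ^ 1 = 1 := by rw [pow_one, h.pow_p]
  rw [sum_comm, ← sum_subset (subset_univ (B0 p G)) fun χ _ hχ => by
    rw [← sum_mul, sum_mul_compl hk h.mem_O, if_neg hχ, zero_mul],
    sum_congr rfl fun χ hχ => by rw [← sum_mul, sum_mul_compl hk h.mem_O, if_pos hχ, mul_assoc],
    ← mul_sum, mul_eq_zero, W.sumx _ fun χ φ e => by
        simp only [show dg χ = dg φ from reg_dg id χ φ e,
          show iv t χ = iv t φ from reg_iv r r (fun a _ => a) χ φ e]] at e1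
  simpa [iv_triv, dg_triv] using e1.resolve_left card_ne_zero'

/-- the degrees in the principal `19`-block -/
def dl (e : ℕ) : List ℕ :=
  if e = 6 then [63, 18, 56, 96, 7, 189, 32, 108] else [9, 18, 56, 112, 324, 28, 36, 189, 48]

/-- the principal `7`-block -/
def chk7 (e m e' k : ℕ) : Bool := 7 * e' * k * m != 19 * e * 1 * 1008 ||
  (blkL ((degsL A8 (7 * e' * k * m) 7 k).filter fun d => d % 19 == 0 || (dl e).contains d)
    (7 * e' * k * m) 7 e' k).all fun ks =>
      e' == 3 && ks == [(1, 2, 18), (1, 1, 57), (-1, 1, 76)] || e == 9 && k == 9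

theorem c7 : ∀ e ∈ [6, 9], triL A8 (ord 8 19) 7 (chk7 e) = true := by decide +kernel

theorem c19 : ∀ e ∈ [2, 3, 6, 9], ∀ ks ∈ blkL (degsL A8 (19 * e * 1 * 1008) 19 1)
    (19 * e * 1 * 1008) 19 e 1, e ∈ [6, 9] ∧ (∀ z ∈ ks, z.2.2 ∈ dl e) ∧
      (e = 9 → ks.filter (·.2.2 = 324) = [(1, 1, 324)]) := by decide +kernel

instance fact7 : Fact (Nat.Prime 7) := ⟨by norm_num⟩
instance fact19 : Fact (Nat.Prime 19) := ⟨by norm_num⟩

variable [IsSimpleGroup G] (hc : commutator G = ⊤)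
include hc

theorem not_alpha {y : G} (h : P1 7 y) (W : WB 7 y K S) (he : Nat.card h.U = 3)
    (hK : K.map key = [(1, 2, 18), (1, 1, 57), (-1, 1, 76)]) : False := by
  obtain ⟨t, ht⟩ := exists_prime_orderOf_dvd_card' 2 (two_dvd hc)
  have e1 := h.cmf_odd hc (by norm_num) (by omega) W ht
  have e2 := W.rel_int h (g := t) (by rw [ht]; norm_num) fun χ => (iv_spec hc ht χ).1
  obtain ⟨⟨a, _, _⟩, ⟨b, _, _⟩, ⟨c, _, _⟩, rfl, k1, k2, k3⟩ :
      ∃ a b c, K = [a, b, c] ∧ key a = (1, 2, 18) ∧ key b = (1, 1, 57) ∧ key c = (-1, 1, 76) := by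
    rcases K with _ | ⟨a, _ | ⟨b, _ | ⟨c, _ | ⟨g, K⟩⟩⟩⟩ <;> simp at hK
    exact ⟨a, b, c, rfl, by simp [key, hK]⟩
  simp only [Prod.mk.injEq] at k1 k2 k3
  obtain ⟨⟨rfl, rfl, d1⟩, ⟨rfl, rfl, d2⟩, rfl, rfl, d3⟩ := And.intro k1 (And.intro k2 k3)
  have e3 := (abs_lt_dg hc (W.ne (a, 1, 2) (by simp)) (fun e => by simp [e] at ht)
    (iv_spec hc ht a).1).1
  simp only [List.map_cons, List.map_nil, List.sum_cons, List.sum_nil, d1, d2, d3] at e1 e2 e3
  have e4 : 684 + 38 * (iv t a * iv t a) + 12 * (iv t b * iv t b) - 9 * (iv t c * iv t c) = 0 := by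
    rw [← Int.cast_inj (α := ℂ)]
    push_cast at e1 ⊢
    linear_combination 684 * e1
  rw [show iv t c = 1 + iv t a + iv t b by omega] at e4
  refine e3 (sub_eq_zero.mp (mul_self_eq_zero.mp (le_antisymm ?_ (mul_self_nonneg _))))
  push_cast
  nlinarith [mul_self_nonneg (iv t b - 3 * iv t a - 3)]

theorem P1.not_1008 (h : P1 19 x) (hk : Nat.card (Opc 19 (C1 x)) = 1)
    (hm : (N (zpowers x)).index = 1008) (he : Nat.card h.U ∈ [2, 3, 6, 9]) : False := by
  have n := P1.card_eq hc h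
  rw [hk, hm] at n
  have h1 : Nat.card G ∣ CfsgU3.ord 8 19 := by
    rw [n]
    exact (by decide : ∀ e ∈ [2, 3, 6, 9], 19 * e * 1 * 1008 ∣ CfsgU3.ord 8 19) _ he
  have hA := fun d (f : d ∣ Nat.card G) => mem_A8 d (f.trans h1)
  obtain ⟨K, S, W, V, hK⟩ := h.exists_blkL hc (fun χ a b => h.mem_degsL hc hA a b) (by norm_num)
  rw [hk, n] at hK
  obtain ⟨a1, a2, a3⟩ := c19 _ he _ hK
  obtain ⟨y, h'⟩ := exists_P1 (G := G) 7 (by omega) fun f => absurd (f.trans h1) (by decide)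
  obtain ⟨K', S', W', V', hK'⟩ := h'.exists_blkL hc (D := (degsL A8 (Nat.card G) 7
      (Nat.card (Opc 7 (C1 y)))).filter fun d => d % 19 == 0 || (dl (Nat.card h.U)).contains d)
    (fun χ a b => List.mem_filter.mpr ⟨h'.mem_degsL hc hA a b, by
      simp only [Bool.or_eq_true, beq_iff_eq, List.contains_iff_mem]
      refine (em (χ ∈ S)).symm.imp (fun f => Nat.mod_eq_zero_of_dvd (h.dvd_dg hk W f)) fun f => ?_
      obtain f | ⟨k, f1, f2⟩ := W.dg_cases f
      · have := two_le_dg hc b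
        omega
      · exact f2 ▸ a2 k f1⟩) (by norm_num)
  have b1 := h'.tri hc mem_A8 h1 (c7 _ a1)
  simp only [chk7, ← P1.card_eq hc h', ← n, Bool.or_eq_true, List.all_eq_true, Bool.and_eq_true,
    beq_iff_eq, bne_self_eq_false, Bool.false_eq_true, false_or] at b1
  obtain ⟨b2, b3⟩ | ⟨b2, b3⟩ := b1 _ hK'
  · exact not_alpha hc h' W' b2 b3
  obtain ⟨z, z1, z2, z3⟩ := uniq_key (k := (1, 1, 324)) (a3 b2)
  have z4 : dg z.1 = 324 := congrArg (·.2.2) z2
  have v := h.int_of hk W (z := z) (by omega) (by omega)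
    (fun w a b => by rw [z3 w a (b.trans z4)]) (g := y) (by rw [h'.ord]; norm_num)
  have c1 := h'.card_C1
  have c2 := dvd_class z.1 v
  have c3 := int_congr (p := 7) (k := 1) (χ := z.1) h'.pow_p (Commute.one_right y)
    (a := iv y z.1) (b := 324) (by rw [mul_one, v]) (by rw [dg_cast, z4]; simp)
  have c4 := (single_le_sum (f := fun χ : IrrCharacter G => ‖χ.1 y‖ ^ 2) (fun _ _ => sq_nonneg _)
    (mem_univ z.1)).trans (second_orth_normSq y).le
  rw [v, Complex.norm_intCast, sq_abs, show Nat.card (centralizer {y}) = 63 by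
    change Nat.card (C1 y) = 63; omega] at c4
  rw [z4, n, b2, ← c1, b3] at c2
  have c5 : iv y z.1 ^ 2 ≤ 63 := by exact_mod_cast c4
  have c6 : -8 < iv y z.1 ∧ iv y z.1 < 8 := by constructor <;> nlinarith
  norm_num at c2
  omega

end CfsgB0
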