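import Cfsg.Agent.H9.Golay

set_option autoImplicit false
set_option maxRecDepth 100000
set_option exponentiation.threshold 2000

/-! The Golay code is self-dual and doubly even; recognition of `M₂₂` from the Witt design. -/

namespace CfsgWitt

open Cfsg CfsgH9 CfsgH9.Golay Finset MulAction Equiv

abbrev Wd := GolayPt → ZMod 2

variable {c d w s u : Wd} {p p' t : GolayPt} {g : Perm GolayPt}

theorem perp_span {S : Set Wd} (h : ∀ b ∈ S, b ⬝ᵥ w = 0) (hc : c ∈ Submodule.span (ZMod 2) S) :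
    c ⬝ᵥ w = 0 := by
  induction hc using Submodule.span_induction with
  | mem x hx => exact h x hx
  | zero => simp
  | add x y _ _ hx hy => simp [hx, hy]
  | smul a x _ hx => simp [hx]

theorem perp_of_basis (h : ∀ i, i < 12 → ofMask (Bm i) ⬝ᵥ w = 0) (hc : c ∈ golayCode) : c ⬝ᵥ w = 0 :=
  perp_span (by rintro _ ⟨i, hi, rfl⟩; exact h i hi) (Ck_twelve.ge hc)

theorem self_orth (hc : c ∈ golayCode) (hd : d ∈ golayCode) : c ⬝ᵥ d = 0 :=
  have : ∀ i, i < 12 → ∀ j, j < 12 → ofMask (Bm j) ⬝ᵥ ofMask (Bm i) = 0 := by decide +kernel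
  perp_of_basis (fun i hi => (dotProduct_comm _ _).trans (perp_of_basis (fun j hj =>
    (dotProduct_comm _ _).trans (this j hj i hi)) hd)) hc

theorem mem_of_perp (h : ∀ c ∈ golayCode, c ⬝ᵥ w = 0) : w ∈ golayCode := by
  have k : ∀ p r, ofMask (comb Bm ([0, 0, 0, 0, 0, 0, 0, 0, 0, 0, 0, 2047, 0, 3017, 3257, 2351, 2270,
      3692, 3413, 2996, 3866, 3554, 3719, 2675].getD (ix p) 0) 12) r = (if r = p then 1 else 0) +
      ∑ i ∈ range 12, if r = pt (piv i) then ofMask (Bm i) p else 0 := by decide +kernel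
  have : w = ∑ i ∈ range 12, w (pt (piv i)) • ofMask (Bm i) := by
    funext p
    have := h _ (funext (k p) ▸ ofMask_comb_mem Bm _ 12 Bm_mem)
    simp only [dotProduct, add_mul, sum_add_distrib, sum_mul, ite_mul, one_mul, zero_mul] at this
    rw [sum_comm] at this
    simpa [add_eq_zero_iff_eq_neg, mul_comm] using this
  rw [this]
  exact Submodule.sum_mem _ fun i hi => Submodule.smul_mem _ _ (Bm_mem i (mem_range.1 hi))

/-- the weight modulo `4`. -/
def Q (u : Wd) : ZMod 4 := ∑ p, ((u p).val : ZMod 4)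

theorem Q_eq_zero (hc : c ∈ golayCode) : Q c = 0 := by
  let δ : ZMod 2 →+ ZMod 4 := ⟨⟨fun a => 2 * a.val, rfl⟩, by decide⟩
  have k : ∀ a b : ZMod 2, ((a + b).val : ZMod 4) = a.val + b.val + δ (a * b) := by decide
  rw [← Ck_twelve] at hc
  induction hc using Submodule.span_induction with
  | mem x hx =>
    obtain ⟨i, hi, rfl⟩ := hx
    exact (by decide +kernel : ∀ i, i < 12 → Q (ofMask (Bm i)) = 0) i hi
  | zero => simp [Q]
  | add x y h1 h2 hx hy =>
    have := self_orth (Ck_twelve.le h1) (Ck_twelve.le h2)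
    simp only [Q, Pi.add_apply, k, sum_add_distrib, ← map_sum] at hx hy ⊢
    rw [hx, hy, show ∑ p, x p * y p = 0 from this, map_zero, add_zero, add_zero]
  | smul a x _ hx =>
    rcases (by decide : ∀ a : ZMod 2, a = 0 ∨ a = 1) a with rfl | rfl
    · simp [Q]
    · simpa using hx

/-- the word with support `X`. -/
noncomputable def ind (X : Set GolayPt) : Wd := X.indicator 1

theorem ind_mem {X : Set GolayPt} (h : p ∈ X) : ind X p = 1 := Set.indicator_of_mem h _
theorem ind_not {X : Set GolayPt} (h : p ∉ X) : ind X p = 0 := Set.indicator_of_notMem h _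

theorem ind_dot (X Y : Set GolayPt) : ind X ⬝ᵥ ind Y = ((X ∩ Y).ncard : ZMod 2) := by
  classical
  simp only [dotProduct, ind, Set.indicator, Pi.one_apply, mul_ite, mul_one, mul_zero, ← ite_and]
  rw [Set.ncard_eq_toFinset_card', sum_boole]
  congr 2; ext; simp [and_comm]

theorem Q_ind (X : Set GolayPt) : Q (ind X) = (X.ncard : ZMod 4) := by
  classical
  simp only [Q, ind, Set.indicator, Pi.one_apply, apply_ite ZMod.val, apply_ite Nat.cast]
  simp [Set.ncard_eq_toFinset_card', ZMod.val_one]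

theorem act_ind (g : Perm GolayPt) (X : Set GolayPt) : act g (ind X) = ind (g '' X) := by
  funext p
  by_cases h : g⁻¹ p ∈ X
  · rw [act, ind_mem h, ind_mem (X := g '' X) ⟨_, h, by simp⟩]
  · rw [act, ind_not h, ind_not (X := g '' X) fun ⟨x, h1, e⟩ => h (by simpa [← e] using h1)]

theorem perp_ker {U : Submodule (ZMod 2) Wd} (h : ∀ c ∈ U, c ⬝ᵥ s = 0 → c ⬝ᵥ w = 0) :
    (∀ c ∈ U, c ⬝ᵥ w = 0) ∨ ∀ c ∈ U, c ⬝ᵥ (w + s) = 0 :=
  or_iff_not_imp_left.2 fun n c hc => by
    push Not at n
    obtain ⟨u, hu, n⟩ := n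
    have h1 := h u hu
    have h2 := h c hc
    have h3 := h _ (add_mem hu hc)
    rw [add_dotProduct, add_dotProduct] at h3
    rw [dotProduct_add]
    revert n h1 h2 h3
    generalize u ⬝ᵥ w = a, u ⬝ᵥ s = b, c ⬝ᵥ w = x, c ⬝ᵥ s = y
    revert a b x y
    decide

/-- the word with support `{p, p'}`. -/
def two (p p' : GolayPt) : Wd := Pi.single p 1 + Pi.single p' 1

theorem dot_two : c ⬝ᵥ two p p' = 0 ↔ c p = c p' := by
  simp [two, add_eq_zero_iff_eq_neg]

theorem mem_or (h : ∀ c ∈ golayCode, c p = c p' → c ⬝ᵥ w = 0) :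
    w ∈ golayCode ∨ w + two p p' ∈ golayCode :=
  (perp_ker fun c hc e => h c hc (dot_two.1 e)).imp mem_of_perp mem_of_perp

theorem mem_M24_of_le (h : ∀ u ∈ golayCode, act g u ∈ golayCode) : g ∈ M24 := by
  let S : Submonoid (Perm GolayPt) :=
    ⟨⟨{g | ∀ u ∈ golayCode, act g u ∈ golayCode}, fun ha hb u hu => ha _ (hb u hu)⟩, fun u hu => hu⟩
  exact mem_M24_of (fun i hi => h _ (Bm_mem i hi)) fun i hi => (Submonoid.powers_le (P := S)).2 h
    (mem_powers_iff_mem_zpowers.2 (inv_mem (Subgroup.mem_zpowers g))) _ (Bm_mem i hi)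

theorem ext_pair (hp : p ≠ p') (h1 : g p = p) (h2 : g p' = p')
    (h : ∀ c ∈ golayCode, c p = c p' → act g c ∈ golayCode)
    (h' : ∀ c ∈ golayCode, c p = c p' → act g⁻¹ c ∈ golayCode) : g ∈ M24 ∨ swap p p' * g ∈ M24 := by
  refine or_iff_not_imp_left.2 fun n => mem_M24_of_le fun u hu => ?_
  have n := mt mem_M24_of_le n
  push Not at n
  obtain ⟨v, hv, n⟩ := n
  have h3 := (mem_or (p := p) (p' := p') fun c hc e => by
    rw [← self_orth (h' c hc e) hv]
    exact (Equiv.sum_comp g _).symm.trans (by simp [act, dotProduct])).resolve_left n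
  have h4 : g⁻¹ p = p := Perm.inv_eq_iff_eq.2 h1.symm
  have h5 : g⁻¹ p' = p' := Perm.inv_eq_iff_eq.2 h2.symm
  have h6 := mt (h v hv) n
  have k : ∀ a b : ZMod 2, a ≠ b → a = b + 1 := by decide
  have e1 : ∀ r, act (swap p p' * g) u r = act g u (swap p p' r) := fun r => by simp [act]
  by_cases e : u p = u p'
  · convert h u hu e using 1
    funext r
    rw [e1, swap_apply_def]
    split_ifs with a b <;> simp [act, *]
  have h7 := add_mem (h _ (add_mem hu hv) (by simp [k _ _ e, k _ _ h6]; ring_nf; simp; rfl)) h3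
  convert h7 using 1
  funext r
  rw [e1, swap_apply_def]
  change _ = act g u r + act g v r + (act g v r + _)
  rw [add_assoc, ← add_assoc (act g v r), CharTwo.add_self_eq_zero, zero_add]
  split_ifs with a b
  · simp [act, two, a, h4, h5, hp, k _ _ (Ne.symm e)]
  · simp [act, two, b, h4, h5, hp, hp.symm, k _ _ e]
  · simp [two, a, b]

/-- a block together with the two extra points. -/
noncomputable def hat {Ω : Type*} (ι : Ω → GolayPt) (p p' : GolayPt) (B : Set Ω) : Wd :=
  ind (ι '' B ∪ {p, p'})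

section
variable {Ω : Type*} {ι : Ω ↪ GolayPt} {𝔅 : Set (Set Ω)} {B B' : Set Ω} (hp : p ≠ p')
  (hι : ∀ y, ι y ≠ p ∧ ι y ≠ p')
include hp hι

theorem ncard_hat (B : Set Ω) : (ι '' B ∪ {p, p'}).ncard = B.ncard + 2 := by
  rw [Set.ncard_union_eq (Set.disjoint_left.2 (by rintro _ ⟨y, -, rfl⟩; simp [hι y])),
    Set.ncard_image_of_injective _ ι.injective, Set.ncard_pair hp]

theorem hat_dot (h : Even (B ∩ B').ncard) : hat ι p p' B ⬝ᵥ hat ι p p' B' = 0 := by
  rw [hat, hat, ind_dot, ← Set.inter_union_distrib_right, ← Set.image_inter ι.injective,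
    ncard_hat hp hι, ZMod.natCast_eq_zero_iff_even]
  exact h.add even_two

theorem hat_eq (B : Set Ω) : hat ι p p' B = ind (ι '' B) + two p p' := by
  have h2 : ∀ r, r = p ∨ r = p' → r ∉ ι '' B := by rintro r h ⟨y, -, rfl⟩; simp [hι y] at h
  funext r
  by_cases a : r = p ∨ r = p'
  · rw [Pi.add_apply, ind_not (h2 r a), hat, ind_mem (X := _ ∪ _) (.inr a)]
    rcases a with rfl | rfl <;> simp [two, hp, hp.symm]
  · classical simp [hat, ind, two, Set.indicator_apply, not_or.1 a]

theorem hat_two (h : B.ncard = 6) : hat ι p p' B + two p p' ∉ golayCode := fun e => by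
  have := Q_eq_zero e
  rw [hat_eq hp hι, add_assoc, add_self_word, add_zero, Q_ind,
    Set.ncard_image_of_injective _ ι.injective, h] at this
  exact absurd this (by decide)

theorem pair (h6 : ∀ B ∈ 𝔅, B.ncard = 6)
    (hev : ∀ B ∈ 𝔅, ∀ B' ∈ 𝔅, Even (B ∩ B').ncard)
    (hsp : ∀ c ∈ golayCode, c p = c p' → c ∈ Submodule.span (ZMod 2) (hat ι p p' '' 𝔅))
    {G : Type*} [Group G] [MulAction G Ω] (hf : ∀ g : G, (∀ x : Ω, g • x = x) → g = 1)
    (hG : ∀ g : G, ∀ B ∈ 𝔅, (g • ·) '' B ∈ 𝔅) {ρ : Perm GolayPt} (hρ : ρ ∈ M24) (h1 : ρ p = none)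
    (h2 : ρ p' = some 0) :
    ∃ H : Subgroup G, H.index ∣ 2 ∧ ∃ f : H →* Spor.M22, Function.Injective f := by
  let φ : G →* Perm GolayPt := (Perm.viaEmbeddingHom ι).comp (toPermHom G Ω)
  have a1 : ∀ g, φ g p = p := fun g => Perm.viaEmbedding_apply_of_notMem _ _ _ fun ⟨y, e⟩ => (hι y).1 e
  have a2 : ∀ g, φ g p' = p' := fun g => Perm.viaEmbedding_apply_of_notMem _ _ _ fun ⟨y, e⟩ => (hι y).2 e
  have a3 : ∀ g y, φ g (ι y) = ι (g • y) := fun g y => Perm.viaEmbedding_apply _ _ _
  have a4 : ∀ g, ∀ c ∈ golayCode, c p = c p' → act (φ g) c ∈ golayCode := fun g c hc e => by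
    have := hsp c hc e
    clear hc e
    induction this using Submodule.span_induction with
    | mem x hx =>
      obtain ⟨B, hB, rfl⟩ := hx
      have : act (φ g) (hat ι p p' B) = hat ι p p' ((g • ·) '' B) := by
        simp only [hat, act_ind, Set.image_union, Set.image_image, a1, a2, a3, Set.image_pair]
      exact this ▸ (mem_or fun c hc e => perp_span (by
        rintro _ ⟨B', hB', rfl⟩
        exact hat_dot hp hι (hev _ hB' _ (hG g B hB))) (hsp c hc e)).resolve_right
          (hat_two hp hι (h6 _ (hG g B hB)))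
    | zero => exact zero_mem _
    | add x y _ _ hx hy => exact add_mem hx hy
    | smul a x _ hx => exact Submodule.smul_mem _ a hx
  have a5 := fun g => ext_pair hp (a1 g) (a2 g) (a4 g) (map_inv φ g ▸ a4 g⁻¹)
  refine ⟨M24.comap φ, ?_, ((MulAut.conj ρ).toMonoidHom.comp (φ.comp (Subgroup.subtype _))).codRestrict _
    fun g => ⟨⟨M24.mul_mem (M24.mul_mem hρ g.2) (M24.inv_mem hρ), ?_⟩, ?_⟩, fun g h e => ?_⟩
  · by_cases e : M24.comap φ = ⊤
    · simp [e]
    obtain ⟨a, ha⟩ := SetLike.exists_not_mem_of_ne_top _ e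
    refine (Subgroup.index_eq_two_iff_exists_notMem_and'.2 ⟨a⁻¹, by simpa using ha, fun b =>
      or_iff_not_imp_right.2 fun hb => ?_⟩).dvd
    simpa [mul_assoc] using mul_mem (inv_mem ((a5 a).resolve_left ha)) ((a5 b).resolve_left hb)
  · change ρ (φ g (ρ⁻¹ none)) = none
    rw [← h1]; simp [a1]
  · change ρ (φ g (ρ⁻¹ (some 0))) = some 0
    rw [← h2]; simp [a2]
  · have : φ g = φ h := (MulAut.conj ρ).injective (congrArg Subtype.val e)
    exact Subtype.ext (inv_mul_eq_one.1 (hf _ fun x => ι.injective (by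
      rw [← a3, map_mul, ← this, map_inv, inv_mul_cancel]; rfl)))

end

/-- positions of the points of the projective plane of order `4`. -/
def lab (i : Fin 21) : GolayPt :=
  pt (![1, 2, 12, 16, 18, 3, 8, 9, 22, 15, 5, 10, 7, 19, 4, 13, 21, 20, 14, 6, 17] i)

/-- the octads containing `∞, 0, 1`. -/
def Lm (i : ℕ) : ℕ := [9996301, 12585739, 8534057, 8653017, 10570761, 8722439, 8407349, 14813317,
  8400453, 8424611, 10524993, 12904449, 8620561, 9586755, 9513345, 13638673, 11799073, 11020307,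
  9309441, 13174881, 8936065].getD i 0

theorem mem_span_Lm {U : Submodule (ZMod 2) Wd} (h : ∀ i : Fin 21, ofMask (Lm i) ∈ U)
    (hc : c ∈ golayCode) (h1 : c none = c (some 0)) (h2 : c (some 0) = c (some 1)) : c ∈ U := by
  let V : Submodule (ZMod 2) Wd := U ⊓ (LinearMap.eqLocus (.proj none) (.proj (some 0)) ⊓
    LinearMap.eqLocus (.proj (some 0)) (.proj (some 1)))
  let u : ℕ → ℕ := fun i => [15828994, 2525195].getD i 0
  have k : ∀ i, i < 12 → Bm i = comb Lm ([692, 0, 1, 692, 8329, 657, 8884, 565, 8429, 8431, 16,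
    661].getD i 0) 21 ^^^ comb u ([0, 1, 3, 3, 1, 1, 1, 3, 3, 1, 3, 2].getD i 0) 2 := by decide +kernel
  have k' : ∀ i, i < 21 → ofMask (Lm i) none = ofMask (Lm i) (some 0) ∧
    ofMask (Lm i) (some 0) = ofMask (Lm i) (some 1) := by decide +kernel
  have : golayCode ≤ V ⊔ Submodule.span _ {ofMask (u 0), ofMask (u 1)} := by
    rw [← Ck_twelve, Ck, Submodule.span_le]
    rintro _ ⟨i, hi, rfl⟩
    simp only [k i hi, ofMask_xor]
    exact Submodule.add_mem_sup (ofMask_comb_mem _ _ _ fun i hi => ⟨h ⟨i, hi⟩, k' i hi⟩)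
      (ofMask_comb_mem _ _ _ fun i hi => Submodule.subset_span (by interval_cases i <;> simp))
  obtain ⟨v, hv, w, hw, rfl⟩ := Submodule.mem_sup.1 (this hc)
  obtain ⟨a, b, rfl⟩ := Submodule.mem_span_pair.1 hw
  have e1 : v none = v (some 0) := hv.2.1
  have e2 : v (some 0) = v (some 1) := hv.2.2
  simp only [Pi.add_apply, e1, e2, add_right_inj] at h1 h2
  obtain ⟨rfl, rfl⟩ : a = 0 ∧ b = 0 := by clear * - h1 h2; revert a b; decide +kernel
  simpa using hv.1

/-- an element of order `3` permuting `∞, 0, 1`. -/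
def rho : Perm GolayPt := ptE.symm.permCongr
  ⟨![23, 22, 15, 17, 6, 8, 20, 1, 21, 2, 3, 0, 18, 19, 12, 9, 13, 10, 14, 16, 4, 5, 7, 11],
    ![11, 7, 9, 10, 20, 21, 4, 22, 5, 15, 17, 23, 14, 16, 18, 2, 19, 3, 12, 13, 6, 8, 1, 0],
    by decide +kernel, by decide +kernel⟩

theorem rho_mem : rho ∈ M24 := mem_M24_of_le fun _ => act_mem_of_basis (act_basis_mem
  [2689, 689, 1665, 3601, 2129, 3873, 1057, 2211, 561, 1173, 3257, 3760] (by decide +kernel))

theorem lab_inj : Function.Injective lab := by decide +kernel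
theorem lab_ne : ∀ j, ¬ (lab j = none ∨ lab j = some 0 ∨ lab j = some 1) := by decide +kernel
theorem lab_sur : ∀ r, (r = none ∨ r = some 0 ∨ r = some 1) ∨ ∃ j, lab j = r := by decide +kernel
theorem Lm_one : ∀ (i : Fin 21) r, r = none ∨ r = some 0 ∨ r = some 1 → ofMask (Lm i) r = 1 := by
  decide +kernel

section
variable {Ω : Type*} (e : Option (Fin 21) ≃ Ω) {𝔅 : Set (Set Ω)} {B : Set Ω}

/-- the labelling of the `22` points. -/
def emb (t : GolayPt) (ht : t = none ∨ t = some 0 ∨ t = some 1) : Ω ↪ GolayPt :=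
  e.symm.toEmbedding.trans ⟨fun o => o.elim t lab, by
    rintro (_ | i) (_ | j) h
    exacts [rfl, absurd ((show t = lab j from h) ▸ ht) (lab_ne j),
      absurd ((show lab i = t from h) ▸ ht) (lab_ne i), congrArg _ (lab_inj h)]⟩

theorem emb_none (ht) : emb e t ht (e none) = t :=
  congrArg (fun o => o.elim t lab) (e.symm_apply_apply none)
theorem emb_some (ht) (j : Fin 21) : emb e t ht (e (some j)) = lab j :=
  congrArg (fun o => o.elim t lab) (e.symm_apply_apply (some j))

variable (hL : ∀ i : Fin 21, ∃ B ∈ 𝔅, e none ∈ B ∧ ∀ j, e (some j) ∈ B ↔ ofMask (Lm i) (lab j) = 1)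
  (hT : ∀ r, r = t ∨ r = p ∨ r = p' ↔ r = none ∨ r = some 0 ∨ r = some 1)
  (ht : t = none ∨ t = some 0 ∨ t = some 1) (h1 : t ≠ p) (h2 : t ≠ p')

theorem image_emb (h : e none ∉ B) : emb e t ht '' B = lab '' {j | e (some j) ∈ B} := by
  ext r
  constructor
  · rintro ⟨y, hy, rfl⟩
    obtain ⟨_ | j, rfl⟩ := e.surjective y
    exacts [absurd hy h, ⟨j, hy, (emb_some ..).symm⟩]
  · rintro ⟨j, hj, rfl⟩
    exact ⟨_, hj, emb_some ..⟩

include hT h1 h2 in
theorem emb_ne (y : Ω) : emb e t ht y ≠ p ∧ emb e t ht y ≠ p' := by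
  obtain ⟨_ | j, rfl⟩ := e.surjective y
  · exact (emb_none e ht).symm ▸ ⟨h1, h2⟩
  · exact (emb_some e ht j).symm ▸ not_or.1 fun h => lab_ne j ((hT _).1 (.inr h))

include hL hT in
theorem Lm_mem (i : Fin 21) : ofMask (Lm i) ∈ hat (emb e t ht) p p' '' 𝔅 := by
  obtain ⟨B, hB, h3, h4⟩ := hL i
  refine ⟨B, hB, funext fun r => ?_⟩
  rcases lab_sur r with h | ⟨j, rfl⟩
  · rw [Lm_one i r h]
    exact ind_mem (((hT r).2 h).imp_left fun a => ⟨_, h3, (emb_none ..).trans a.symm⟩)
  by_cases h : e (some j) ∈ B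
  · rw [(h4 j).1 h]
    exact ind_mem (.inl ⟨_, h, emb_some ..⟩)
  rw [((by decide : ∀ a : ZMod 2, a = 0 ∨ a = 1) _).resolve_right (mt (h4 j).2 h)]
  refine ind_not ?_
  rintro (⟨y, hy, a⟩ | a)
  · exact h ((emb e t ht).injective (a.trans (emb_some ..).symm) ▸ hy)
  · exact lab_ne j ((hT _).1 (.inr a))

include hL hT h1 h2 in
theorem span_hat (hp : p ≠ p') (hB : B ∈ 𝔅) (h : e none ∉ B)
    (h0 : ind (lab '' {j | e (some j) ∈ B}) + two p p' ∈ golayCode) (hc : c ∈ golayCode)
    (h3 : c p = c p') : c ∈ Submodule.span (ZMod 2) (hat (emb e t ht) p p' '' 𝔅) := by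
  have k : ∀ c ∈ golayCode, c p = c p' → c t = c p →
      c ∈ Submodule.span (ZMod 2) (hat (emb e t ht) p p' '' 𝔅) := fun c hc a b =>
    have k : ∀ r, r = none ∨ r = some 0 ∨ r = some 1 → c r = c p := fun r hr => by
      rcases (hT r).2 hr with rfl | rfl | rfl <;> simp [a, b]
    mem_span_Lm (fun i => Submodule.subset_span (Lm_mem e hL hT ht i)) hc (by simp [k]) (by simp [k])
  by_cases h4 : c t = c p
  · exact k c hc h3 h4
  rw [← image_emb e ht h, ← hat_eq hp (emb_ne e hT ht h1 h2)] at h0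
  have a1 : hat (emb e t ht) p p' B p = 1 := ind_mem (.inr (.inl rfl))
  have a2 : hat (emb e t ht) p p' B p' = 1 := ind_mem (.inr (.inr rfl))
  have a3 : hat (emb e t ht) p p' B t = 0 := ind_not (by
    rintro (⟨y, hy, a⟩ | a | a)
    exacts [h ((emb e t ht).injective (a.trans (emb_none ..).symm) ▸ hy), h1 a, h2 a])
  exact (Submodule.add_mem_iff_left _ (Submodule.subset_span (Set.mem_image_of_mem _ hB))).1 (k _ (add_mem hc h0)
    (by simp [a1, a2, h3]) (by
      simpa [a1, a3] using (by decide : ∀ a b : ZMod 2, a ≠ b → a = b + 1) _ _ h4))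

include hL in
/-- a group of automorphisms of the Witt design on `22` points has a subgroup of index at most `2`
embedded in `M₂₂`. -/
theorem witt (h6 : ∀ B ∈ 𝔅, B.ncard = 6) (hev : ∀ B ∈ 𝔅, ∀ B' ∈ 𝔅, Even (B ∩ B').ncard)
    (hB : B ∈ 𝔅) (h : e none ∉ B) {G : Type*} [Group G] [MulAction G Ω]
    (hf : ∀ g : G, (∀ x : Ω, g • x = x) → g = 1) (hG : ∀ g : G, ∀ B ∈ 𝔅, (g • ·) '' B ∈ 𝔅) :
    ∃ H : Subgroup G, H.index ∣ 2 ∧ ∃ f : H →* Spor.M22, Function.Injective f := by
  have k : ∀ t p p' (ρ : Perm GolayPt), ρ ∈ M24 → ind (lab '' {j | e (some j) ∈ B}) + two p p' ∈ golayCode →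
      ((∀ r, r = t ∨ r = p ∨ r = p' ↔ r = none ∨ r = some 0 ∨ r = some 1) ∧ t ≠ p ∧ t ≠ p' ∧ p ≠ p' ∧
      ρ p = none ∧ ρ p' = some 0) → _ := fun t p p' ρ hρ h0 ⟨a1, a2, a3, a4, a5, a6⟩ =>
    pair a4 (emb_ne e a1 ((a1 t).1 (.inl rfl)) a2 a3) h6 hev
      (fun c => span_hat e hL a1 _ a2 a3 a4 hB h h0) hf hG hρ a5 a6
  have hT : ∀ r : GolayPt, r = some 1 ∨ r = none ∨ r = some 0 ↔ r = none ∨ r = some 0 ∨ r = some 1 := by
    tauto
  have hι := emb_ne e hT (.inr (.inr rfl)) (by decide) (by decide)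
  have h1 := perp_ker (U := golayCode ⊓ LinearMap.eqLocus (.proj none) (.proj (some 0)))
    (s := two (some 0) (some 1)) (w := hat (emb e _ (.inr (.inr rfl))) none (some 0) B) fun c hc a =>
      perp_span (by
        rintro _ ⟨B', hB', rfl⟩
        exact hat_dot (by decide) hι (hev _ hB' _ hB)) (mem_span_Lm (fun i => Submodule.subset_span
          (Lm_mem e hL hT _ i)) hc.1 hc.2 (dot_two.1 a))
  have h2 := hat_two (by decide) hι (h6 B hB)
  rw [hat_eq (by decide) hι, image_emb e _ h] at h1 h2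
  rcases h1 with h1 | h1
  · exact k (some 1) _ _ 1 (one_mem _) ((mem_or fun c a b => h1 c ⟨a, b⟩).resolve_right h2)
      (by decide +kernel)
  rcases mem_or (p := none) (p' := some 0) fun c a b => h1 c ⟨a, b⟩ with h1 | h1
  · exact k (some 0) (some 1) none rho rho_mem (by
      rwa [add_assoc, show two none _ + two _ _ = two (some 1) none by decide +kernel] at h1)
      (by decide +kernel)
  · exact k none (some 0) (some 1) (rho * rho) (mul_mem rho_mem rho_mem) (by
      rwa [add_assoc, add_assoc, show two none _ + (two _ _ + two _ _) = two (some 0) (some 1) by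
        decide +kernel] at h1) (by decide +kernel)

end

theorem card_M22_le : Nat.card Spor.M22 ≤ 443520 := by
  have hm : 281474976710655 = 2 ^ 48 - 1 := by norm_num
  have hw : 1000003 ≤ 2 ^ 48 := by norm_num
  let P : Subgroup (Perm (Fin 24)) → ℕ → Prop := fun B X =>
    ∀ φ ∈ B, φ ∈ M24.map toFin ∧ CInv 48 281474976710655 φ X
  have k1 : ∀ {B X} (v : Fin 24), P B X → P (B ⊓ stabilizer _ v) (cind 48 281474976710655 24 X v) :=
    fun v h φ hφ => ⟨(h φ hφ.1).1, CInv.ind hm hw (h φ hφ.1).2 hφ.2⟩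
  have k2 : ∀ {B X Y}, P B X → gstep X = Y → P B Y := fun h e φ hφ => ⟨(h φ hφ).1, by
    obtain ⟨⟨g, hg, rfl⟩, h⟩ := h φ hφ
    exact e ▸ CInv.gstep hg h⟩
  have h0 : P (Spor.M22.map toFin) (cind 48 281474976710655 24 (cind 48 281474976710655 24 0 23) 11) := by
    rintro _ ⟨g, hg, rfl⟩
    exact ⟨⟨g, hg.1.1, rfl⟩, CInv.ind hm hw (v := 11) (CInv.ind hm hw (v := 23) (CInv.zero _ _ _)
      (congrArg ix hg.1.2)) (congrArg ix hg.2)⟩
  have h1 := k1 0 h0
  have h2 := k1 1 h1
  have h3 := k2 (k1 2 h2) (Y := 177890599163835033282652669262826826286453595006585497769452888211235940208218017195448900304523523065072947245067397619725629827497406449004976599662912462849846548036345183041091987497483113803377519234466620747427509922569309079809370723761104393880251633703300314432007792117685521895666306575858774096989859224309637569584123872058968) (by decide +kernel)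
  have h4 := k1 3 h3
  have h5 := k2 (k2 (k1 12 h4) (Y := 204644081647520985478302147462757774501780789922945808286806362221756604318506406723813888940019109618040895992771078206319736374585460616712546063576908642386342252756837817980617715835441663117329682182857744487396715548557692417026395061543041741375922410833662122884050521630354132037505449876251306465971231502143594950799812970975684) (by decide +kernel)) (Y := 164642950614193305568822763582787222441098308361122307623644579169520315249259383252777672839825426758967117781183985272162867174390271301239714631020636044860579011315770166556677542367076895037810245917238784580888539886038593393596687239628952070315883178657430936789293880579539167269365482996180337295246666946258791101163021531941841) (by decide +kernel)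
  have b0 := card_le_of_CInv _ (fun φ h => (h0 φ h).2) 0 (k := 22) (by decide +kernel)
  have b1 := card_le_of_CInv _ (fun φ h => (h1 φ h).2) 1 (k := 21) (by decide +kernel)
  have b2 := card_le_of_CInv _ (fun φ h => (h2 φ h).2) 2 (k := 20) (by decide +kernel)
  have b3 := card_le_of_CInv _ (fun φ h => (h3 φ h).2) 3 (k := 16) (by decide +kernel)
  have b4 := card_le_of_CInv _ (fun φ h => (h4 φ h).2) 12 (k := 3) (by decide +kernel)
  rw [(Subgroup.eq_bot_iff_forall _).2 fun φ h => Equiv.ext fun i => (by decide +kernel :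
    ∀ i j : Fin 24, dg 48 281474976710655 _ i = dg 48 281474976710655 _ j → i = j) _ _
      ((h5 φ h).2 i), Subgroup.card_bot] at b4
  rw [Subgroup.card_map_of_injective ptE.permCongrHom.injective] at b0
  omega

end CfsgWitt
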